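/-
The closure of the classes.
-/
import Cfsg.Agent.Lib.Co3M12.Case.CoA.Dat

set_option autoImplicit false
set_option maxRecDepth 100000

namespace CfsgLib.Co3M12.CoA

open Eng CfsgPC

/-- Closure. -/
def clo0 : FTree := (.node (.node (.node (.node (.node (.node (.node (.leaf 0x6) (.leaf 0x2942)) (.node (.leaf 0xee1) (.leaf 0x564c))) (.node (.node (.leaf 0x604) (.leaf 0x42ae)) (.node (.leaf 0x1a24) (.leaf 0x6c2f)))) (.node (.node (.node (.leaf 0x34a) (.leaf 0x3766)) (.node (.leaf 0x1448) (.leaf 0x6146))) (.node (.node (.leaf 0xa36) (.leaf 0x4c14)) (.node (.leaf 0x2258) (.leaf 0x751c))))) (.node (.node (.node (.node (.leaf 0x224) (.leaf 0x2fb7)) (.node (.leaf 0x1122) (.leaf 0x5aab))) (.node (.node (.leaf 0x768) (.leaf 0x4759)) (.node (.leaf 0x1f16) (.leaf 0x711a)))) (.node (.node (.node (.leaf 0x42e) (.leaf 0x3cc3)) (.node (.leaf 0x1722) (.leaf 0x6696))) (.node (.node (.leaf 0xcbb) (.leaf 0x512f)) (.node (.leaf 0x24f8)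 (.leaf 0x0)))))) (.node (.node (.node (.node (.node (.leaf 0x7) (.leaf 0x2cb1)) (.node (.leaf 0xfb8) (.leaf 0x5892))) (.node (.node (.leaf 0x6ca) (.leaf 0x44b5)) (.node (.leaf 0x1c66) (.leaf 0x6f0d)))) (.node (.node (.node (.leaf 0x3a0) (.leaf 0x39cf)) (.node (.leaf 0x1578) (.leaf 0x63e1))) (.node (.node (.leaf 0xba3) (.leaf 0x4e30)) (.node (.leaf 0x232f) (.leaf 0x0))))) (.node (.node (.node (.node (.leaf 0x2a1) (.leaf 0x3568)) (.node (.leaf 0x12f5) (.leaf 0x5edd))) (.node (.node (.leaf 0x8b6) (.leaf 0x49c5)) (.node (.leaf 0x20af) (.leaf 0x7317)))) (.node (.node (.node (.leaf 0x4b9) (.leaf 0x3fc7)) (.node (.leaf 0x1885) (.leaf 0x6a0f))) (.node (.node (.leaf 0xda9) (.leaf 0x5326)) (.node (.leaf 0x268d) (.leaf 0x0))))))) (.node (.node (.node (.node (.node (.node (.leaf 0x14e) (.leaf 0x2b4e)) (.node (.leaf 0x3191) (.leaf 0x57b9))) (.node (.node (.leaf 0x889) (.leaf 0x433c)) (.node (.leaf 0x1bd2) (.leaf 0x6e13))))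 (.node (.node (.node (.leaf 0x1c83) (.leaf 0x3e81)) (.node (.leaf 0x14e8) (.leaf 0x6304))) (.node (.node (.leaf 0x1314) (.leaf 0x4dbe)) (.node (.leaf 0x22ad) (.leaf 0x7567))))) (.node (.node (.node (.node (.leaf 0x2fcd) (.leaf 0x3350)) (.node (.leaf 0x3c71) (.leaf 0x5c64))) (.node (.node (.leaf 0x4a4d) (.leaf 0x484b)) (.node (.leaf 0x1fac) (.leaf 0x72ee)))) (.node (.node (.node (.leaf 0x1198) (.leaf 0x3ed6)) (.node (.leaf 0x1809) (.leaf 0x6937))) (.node (.node (.leaf 0xd3f) (.leaf 0x5261)) (.node (.leaf 0x2531) (.leaf 0x0)))))) (.node (.node (.node (.node (.node (.leaf 0xb9f) (.leaf 0x2d92)) (.node (.leaf 0x100a) (.leaf 0x5a24))) (.node (.node (.leaf 0xd44) (.leaf 0x45d1)) (.node (.leaf 0x1e5f) (.leaf 0x6f90)))) (.node (.node (.node (.leaf 0x314f) (.leaf 0x3a4b)) (.node (.leaf 0x161b) (.leaf 0x65fb))) (.node (.node (.leaf 0xc48) (.leaf 0x4e97)) (.node (.leaf 0x2407) (.leaf 0x0))))) (.node (.node (.node (.node (.leaf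 0x420) (.leaf 0x360f)) (.node (.leaf 0x26be) (.leaf 0x5ff6))) (.node (.node (.leaf 0xe88) (.leaf 0x4a4f)) (.node (.leaf 0x2190) (.leaf 0x744e)))) (.node (.node (.node (.leaf 0x5e3) (.leaf 0x404f)) (.node (.leaf 0x2c1e) (.leaf 0x6bf7))) (.node (.node (.leaf 0x34f5) (.leaf 0x5436)) (.node (.leaf 0x5bd2) (.leaf 0x0))))))))

/-- Closure. -/
def clo1 : FTree := (.node (.node (.node (.node (.node (.node (.node (.leaf 0x9b) (.leaf 0x3b62)) (.node (.leaf 0xf41) (.leaf 0x56b2))) (.node (.node (.leaf 0x6a6) (.leaf 0x64a7)) (.node (.leaf 0x1aae) (.leaf 0x6ebe)))) (.node (.node (.node (.leaf 0x13bc) (.leaf 0x381a)) (.node (.leaf 0x1527) (.leaf 0x62e3))) (.node (.node (.leaf 0xb79) (.leaf 0x4c8e)) (.node (.leaf 0x6e3f) (.leaf 0x76ca))))) (.node (.node (.node (.node (.leaf 0x36e) (.leaf 0x31c5)) (.node (.leaf 0x272a) (.leaf 0x5bac))) (.node (.node (.leaf 0x12a5) (.leaf 0x4e67)) (.node (.leaf 0x200e) (.leaf 0x724b)))) (.node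 (.node (.node (.leaf 0x2b36) (.leaf 0x3f2c)) (.node (.leaf 0x65b3) (.leaf 0x67e5))) (.node (.node (.leaf 0xcef) (.leaf 0x528e)) (.node (.leaf 0x2595) (.leaf 0x0)))))) (.node (.node (.node (.node (.node (.leaf 0x250) (.leaf 0x39e1)) (.node (.leaf 0x1c1b) (.leaf 0x58f3))) (.node (.node (.leaf 0x1286) (.leaf 0x4625)) (.node (.leaf 0x6e0c) (.leaf 0x70e9)))) (.node (.node (.node (.leaf 0xe06) (.leaf 0x3a84)) (.node (.leaf 0x16c9) (.leaf 0x65ee))) (.node (.node (.leaf 0x29bf) (.leaf 0x50ca)) (.node (.leaf 0x24b4) (.leaf 0x0))))) (.node (.node (.node (.node (.leaf 0x1762) (.leaf 0x6646)) (.node (.leaf 0x1345) (.leaf 0x60f6))) (.node (.node (.leaf 0x96e) (.leaf 0x4b4c)) (.node (.leaf 0x212e) (.leaf 0x7361)))) (.node (.node (.node (.leaf 0x2a04) (.leaf 0x4106)) (.node (.leaf 0x193f) (.leaf 0x6bf8))) (.node (.node (.leaf 0x1427) (.leaf 0x5443)) (.node (.leaf 0x286e) (.leaf 0x0))))))) (.node (.node (.node (.node (.node (.node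 (.leaf 0x1dc) (.leaf 0x2bbd)) (.node (.leaf 0x12b9) (.leaf 0x60dd))) (.node (.node (.leaf 0x618) (.leaf 0x4388)) (.node (.leaf 0x3548) (.leaf 0x6e6f)))) (.node (.node (.node (.leaf 0x4675) (.leaf 0x384e)) (.node (.leaf 0x1557) (.leaf 0x629d))) (.node (.node (.leaf 0x45b7) (.leaf 0x4d70)) (.node (.leaf 0x30a7) (.leaf 0x756f))))) (.node (.node (.node (.node (.leaf 0x42b0) (.leaf 0x44e5)) (.node (.leaf 0x1604) (.leaf 0x5e9f))) (.node (.node (.leaf 0x89f) (.leaf 0x51d5)) (.node (.leaf 0x28fb) (.leaf 0x72ea)))) (.node (.node (.node (.leaf 0x32db) (.leaf 0x3d05)) (.node (.leaf 0x176b) (.leaf 0x67a2))) (.node (.node (.leaf 0x182f) (.leaf 0x5639)) (.node (.leaf 0x260f) (.leaf 0x0)))))) (.node (.node (.node (.node (.node (.leaf 0x26d) (.leaf 0x2d84)) (.node (.leaf 0x1081) (.leaf 0x595e))) (.node (.node (.leaf 0x9e7) (.leaf 0x454e)) (.node (.leaf 0x1d86) (.leaf 0x70c9)))) (.node (.node (.node (.leaf 0x40c) (.leaf 0x3c54))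 (.node (.leaf 0x34b4) (.leaf 0x648b))) (.node (.node (.leaf 0x4a90) (.leaf 0x500b)) (.node (.leaf 0x241a) (.leaf 0x0))))) (.node (.node (.node (.node (.leaf 0x61f0) (.leaf 0x4ffe)) (.node (.leaf 0x6920) (.leaf 0x6090))) (.node (.node (.leaf 0x977) (.leaf 0x4a10)) (.node (.leaf 0x28ea) (.leaf 0x73ae)))) (.node (.node (.node (.leaf 0x1788) (.leaf 0x42a7)) (.node (.leaf 0x39b1) (.leaf 0x6a6b))) (.node (.node (.leaf 0xde7) (.leaf 0x5568)) (.node (.leaf 0x3aa3) (.leaf 0x0))))))))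

/-- Closure. -/
def clo2 : FTree := (.node (.node (.node (.node (.node (.node (.node (.leaf 0x60) (.leaf 0x2b03)) (.node (.leaf 0xf31) (.leaf 0x5864))) (.node (.node (.leaf 0x21cc) (.leaf 0x42e3)) (.node (.leaf 0x1b54) (.leaf 0x6e92)))) (.node (.node (.node (.leaf 0x1c73) (.leaf 0x3a6b)) (.node (.leaf 0x14a8) (.leaf 0x6319))) (.node (.node (.leaf 0x1620) (.leaf 0x4c81)) (.node (.leaf 0x2ae1) (.leaf 0x7683))))) (.node (.node (.node (.node (.leaf 0x2275) (.leaf 0x3268)) (.node (.leaf 0x6c4e) (.leaf 0x6e68))) (.node (.node (.leaf 0x5d24) (.leaf 0x4786)) (.node (.leaf 0x1fa7) (.leaf 0x7157)))) (.node (.node (.node (.leaf 0x483e) (.leaf 0x58bc)) (.node (.leaf 0x17cf) (.leaf 0x676e))) (.node (.node (.leaf 0x2b63) (.leaf 0x520a)) (.node (.leaf 0x253f) (.leaf 0x0)))))) (.node (.node (.node (.node (.node (.leaf 0x259) (.leaf 0x2f15)) (.node (.leaf 0x50c9) (.leaf 0x58aa))) (.node (.node (.leaf 0x4e87) (.leaf 0x458e)) (.node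 (.leaf 0x1d3e) (.leaf 0x70a3)))) (.node (.node (.node (.leaf 0x321f) (.leaf 0x4282)) (.node (.leaf 0x1d70) (.leaf 0x6526))) (.node (.node (.leaf 0xc51) (.leaf 0x4e78)) (.node (.leaf 0x3c40) (.leaf 0x0))))) (.node (.node (.node (.node (.leaf 0x5aa) (.leaf 0x3648)) (.node (.leaf 0x26bc) (.leaf 0x5ff0))) (.node (.node (.leaf 0xf32) (.leaf 0x4bed)) (.node (.leaf 0x2214) (.leaf 0x7509)))) (.node (.node (.node (.leaf 0x5b6) (.leaf 0x3fd7)) (.node (.leaf 0x195b) (.leaf 0x6a96))) (.node (.node (.leaf 0xed7) (.leaf 0x53b2)) (.node (.leaf 0x288a) (.leaf 0x0))))))) (.node (.node (.node (.node (.node (.node (.leaf 0x135) (.leaf 0x3118)) (.node (.leaf 0x1c2e) (.leaf 0x572d))) (.node (.node (.leaf 0x1b64) (.leaf 0x447f)) (.node (.leaf 0x475d) (.leaf 0x6cd5)))) (.node (.node (.node (.leaf 0x1ca4) (.leaf 0x38ba)) (.node (.leaf 0x14cd) (.leaf 0x6205))) (.node (.node (.leaf 0x3998) (.leaf 0x4e0c)) (.node (.leaf 0x309f) (.leaf 0x767d)))))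 (.node (.node (.node (.node (.leaf 0x172c) (.leaf 0x32f5)) (.node (.leaf 0x47db) (.leaf 0x5b19))) (.node (.node (.leaf 0xea8) (.leaf 0x4853)) (.node (.leaf 0x1fad) (.leaf 0x72bf)))) (.node (.node (.node (.leaf 0xe43) (.leaf 0x3dd7)) (.node (.leaf 0x1791) (.leaf 0x67e4))) (.node (.node (.leaf 0x6da7) (.leaf 0x51d4)) (.node (.leaf 0x25d9) (.leaf 0x0)))))) (.node (.node (.node (.node (.node (.leaf 0x2fc) (.leaf 0x2db0)) (.node (.leaf 0x11d5) (.leaf 0x59eb))) (.node (.node (.leaf 0x6dd) (.leaf 0x4747)) (.node (.leaf 0x5a5d) (.leaf 0x6faa)))) (.node (.node (.node (.leaf 0x279c) (.leaf 0x3b2b)) (.node (.leaf 0x1649) (.leaf 0x6554))) (.node (.node (.leaf 0x6430) (.leaf 0x508a)) (.node (.leaf 0x239d) (.leaf 0x0))))) (.node (.node (.node (.node (.leaf 0x2d6c) (.leaf 0x35d6)) (.node (.leaf 0x2787) (.leaf 0x6031))) (.node (.node (.leaf 0x11b0) (.leaf 0x4a46)) (.node (.leaf 0x2173) (.leaf 0x74f4)))) (.node (.node (.node (.leaf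 0x270c) (.leaf 0x409f)) (.node (.leaf 0x5834) (.leaf 0x6a68))) (.node (.node (.leaf 0x1b15) (.leaf 0x61e3)) (.node (.leaf 0x2e6a) (.leaf 0x0))))))))

/-- Closure. -/
def clo3 : FTree := (.node (.node (.node (.node (.node (.node (.node (.leaf 0xf2) (.leaf 0x3abd)) (.node (.leaf 0xf4d) (.leaf 0x57f3))) (.node (.node (.leaf 0x68c) (.leaf 0x435e)) (.node (.leaf 0x48a0) (.leaf 0x6dc3)))) (.node (.node (.node (.leaf 0x388) (.leaf 0x3e9e)) (.node (.leaf 0x14fd) (.leaf 0x6ea4))) (.node (.node (.leaf 0xa42) (.leaf 0x4c20)) (.node (.leaf 0x6735) (.leaf 0x75e5))))) (.node (.node (.node (.node (.leaf 0x446) (.leaf 0x3188)) (.node (.leaf 0x11c6) (.leaf 0x5b99))) (.node (.node (.leaf 0x1d07) (.leaf 0x487f)) (.node (.leaf 0x4475) (.leaf 0x722f)))) (.node (.node (.node (.leaf 0x2b20) (.leaf 0x3df7)) (.node (.leaf 0x1774) (.leaf 0x6948))) (.node (.node (.leaf 0x3c59) (.leaf 0x51ac)) (.node (.leaf 0x2587) (.leaf 0x0)))))) (.node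 (.node (.node (.node (.node (.leaf 0x77b) (.leaf 0x3b13)) (.node (.leaf 0x341a) (.leaf 0x5902))) (.node (.node (.leaf 0x349b) (.leaf 0x464e)) (.node (.leaf 0x1f06) (.leaf 0x6fb5)))) (.node (.node (.node (.leaf 0x26ac) (.leaf 0x3b31)) (.node (.leaf 0x15bc) (.leaf 0x660d))) (.node (.node (.leaf 0xc98) (.leaf 0x5101)) (.node (.leaf 0x23bd) (.leaf 0x0))))) (.node (.node (.node (.node (.leaf 0x6cf1) (.leaf 0x3695)) (.node (.leaf 0x13a9) (.leaf 0x5f88))) (.node (.node (.leaf 0x3970) (.leaf 0x5339)) (.node (.leaf 0x3cc0) (.leaf 0x7482)))) (.node (.node (.node (.leaf 0x415c) (.leaf 0x4000)) (.node (.leaf 0x201f) (.leaf 0x6a50))) (.node (.node (.leaf 0x330f) (.leaf 0x5354)) (.node (.leaf 0x4f46) (.leaf 0x0))))))) (.node (.node (.node (.node (.node (.node (.leaf 0x1a6) (.leaf 0x53ff)) (.node (.leaf 0xf8f) (.leaf 0x5776))) (.node (.node (.leaf 0x4efb) (.leaf 0x43a8)) (.node (.leaf 0x1be2) (.leaf 0x6d78)))) (.node (.node (.node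 (.leaf 0x3d1b) (.leaf 0x38ac)) (.node (.leaf 0x329d) (.leaf 0x6342))) (.node (.node (.leaf 0x5b18) (.leaf 0x4c2f)) (.node (.leaf 0x2ae6) (.leaf 0x7694))))) (.node (.node (.node (.node (.leaf 0x43e) (.leaf 0x3308)) (.node (.leaf 0x38b1) (.leaf 0x5da9))) (.node (.node (.leaf 0x46b8) (.leaf 0x4928)) (.node (.leaf 0x5646) (.leaf 0x719a)))) (.node (.node (.node (.leaf 0x20b7) (.leaf 0x46df)) (.node (.leaf 0x185f) (.leaf 0x67eb))) (.node (.node (.leaf 0xd7d) (.leaf 0x52e8)) (.node (.leaf 0x2908) (.leaf 0x0)))))) (.node (.node (.node (.node (.node (.leaf 0x4d1) (.leaf 0x5cec)) (.node (.leaf 0x1108) (.leaf 0x59f5))) (.node (.node (.leaf 0x941) (.leaf 0x45e0)) (.node (.leaf 0x1de7) (.leaf 0x7008)))) (.node (.node (.node (.leaf 0x26f0) (.leaf 0x3bbe)) (.node (.leaf 0x167c) (.leaf 0x6628))) (.node (.node (.leaf 0xca9) (.leaf 0x4f83)) (.node (.leaf 0x2951) (.leaf 0x0))))) (.node (.node (.node (.node (.leaf 0x2fe9) (.leaf 0x36b4))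 (.node (.leaf 0x6885) (.leaf 0x5f50))) (.node (.node (.leaf 0x98b) (.leaf 0x6ccc)) (.node (.leaf 0x2109) (.leaf 0x7336)))) (.node (.node (.node (.leaf 0x298c) (.leaf 0x4184)) (.node (.leaf 0x414b) (.leaf 0x6b9f))) (.node (.node (.leaf 0x4bcb) (.leaf 0x5378)) (.node (.leaf 0x28b2) (.leaf 0x0))))))))

/-- Closure. -/
def clo4 : FTree := (.node (.node (.node (.node (.node (.node (.node (.leaf 0x25) (.leaf 0x31c9)) (.node (.leaf 0xf2f) (.leaf 0x7326))) (.node (.node (.leaf 0xd88) (.leaf 0x42ec)) (.node (.leaf 0x1c0f) (.leaf 0x6e49)))) (.node (.node (.node (.leaf 0x1c74) (.leaf 0x39a8)) (.node (.leaf 0x14a5) (.leaf 0x61d0))) (.node (.node (.leaf 0x509c) (.leaf 0x4cb6)) (.node (.leaf 0x6750) (.leaf 0x7549))))) (.node (.node (.node (.node (.leaf 0x2263) (.leaf 0x322a)) (.node (.leaf 0x1143) (.leaf 0x5bff))) (.node (.node (.leaf 0x5d23) (.leaf 0x4859)) (.node (.leaf 0x1f91) (.leaf 0x7283)))) (.node (.node (.node (.leaf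 0x4305) (.leaf 0x3d64)) (.node (.leaf 0x178f) (.leaf 0x66f7))) (.node (.node (.leaf 0x10e5) (.leaf 0x5252)) (.node (.leaf 0x2655) (.leaf 0x0)))))) (.node (.node (.node (.node (.node (.leaf 0x25c) (.leaf 0x2ef1)) (.node (.leaf 0x2ca5) (.leaf 0x58a8))) (.node (.node (.leaf 0x118a) (.leaf 0x46b0)) (.node (.leaf 0x1dc6) (.leaf 0x6f73)))) (.node (.node (.node (.leaf 0x59b) (.leaf 0x4284)) (.node (.leaf 0x19aa) (.leaf 0x6494))) (.node (.node (.leaf 0xc4d) (.leaf 0x4f3c)) (.node (.leaf 0x23d3) (.leaf 0x0))))) (.node (.node (.node (.node (.leaf 0x5bd) (.leaf 0x37fc)) (.node (.leaf 0x135e) (.leaf 0x5eea))) (.node (.node (.leaf 0x8fa) (.leaf 0x6cc5)) (.node (.leaf 0x233d) (.leaf 0x747b)))) (.node (.node (.node (.leaf 0x5b7) (.leaf 0x4091)) (.node (.leaf 0x2c22) (.leaf 0x6a91))) (.node (.node (.leaf 0xeaa) (.leaf 0x55a8)) (.node (.leaf 0x279e) (.leaf 0x0))))))) (.node (.node (.node (.node (.node (.node (.leaf 0x132) (.leaf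 0x2b72)) (.node (.leaf 0x1a08) (.leaf 0x5843))) (.node (.node (.leaf 0x1303) (.leaf 0x43bd)) (.node (.leaf 0x1bc0) (.leaf 0x6d74)))) (.node (.node (.node (.leaf 0x83f) (.leaf 0x3999)) (.node (.leaf 0x156f) (.leaf 0x62ed))) (.node (.node (.leaf 0x3653) (.leaf 0x4d9b)) (.node (.leaf 0x22f0) (.leaf 0x75d1))))) (.node (.node (.node (.node (.leaf 0x3e8) (.leaf 0x56c0)) (.node (.leaf 0x44de) (.leaf 0x5d36))) (.node (.node (.leaf 0xb68) (.leaf 0x4873)) (.node (.leaf 0x1f2d) (.leaf 0x7290)))) (.node (.node (.node (.leaf 0x2958) (.leaf 0x3d38)) (.node (.leaf 0x32be) (.leaf 0x67a5))) (.node (.node (.leaf 0xdb1) (.leaf 0x562b)) (.node (.leaf 0x49a8) (.leaf 0x0)))))) (.node (.node (.node (.node (.node (.leaf 0x4ed) (.leaf 0x53e5)) (.node (.leaf 0x1031) (.leaf 0x59b9))) (.node (.node (.leaf 0x7168) (.leaf 0x5860)) (.node (.leaf 0x1f05) (.leaf 0x709a)))) (.node (.node (.node (.leaf 0x1af9) (.leaf 0x3b61)) (.node (.leaf 0x162e)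 (.leaf 0x64d5))) (.node (.node (.leaf 0x6443) (.leaf 0x4e9b)) (.node (.leaf 0x24d5) (.leaf 0x0))))) (.node (.node (.node (.node (.leaf 0x4ed4) (.leaf 0x3761)) (.node (.leaf 0x13fc) (.leaf 0x6045))) (.node (.node (.leaf 0x3203) (.leaf 0x4b7e)) (.node (.leaf 0x21c9) (.leaf 0x740c)))) (.node (.node (.node (.leaf 0x37b9) (.leaf 0x416e)) (.node (.leaf 0x5567) (.leaf 0x6b25))) (.node (.node (.leaf 0x63cf) (.leaf 0x543b)) (.node (.leaf 0x27ce) (.leaf 0x0))))))))

/-- Closure. -/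
def clo5 : FTree := (.node (.node (.node (.node (.node (.node (.node (.leaf 0xf5) (.leaf 0x2b9a)) (.node (.leaf 0x12b5) (.leaf 0x5780))) (.node (.node (.leaf 0x6b1) (.leaf 0x43db)) (.node (.leaf 0x1efd) (.leaf 0x6cad)))) (.node (.node (.node (.leaf 0x2e0b) (.leaf 0x38a3)) (.node (.leaf 0x344c) (.leaf 0x62ca))) (.node (.node (.leaf 0xe1b) (.leaf 0x4e13)) (.node (.leaf 0x230a) (.leaf 0x75f2))))) (.node (.node (.node (.node (.leaf 0x42ab) (.leaf 0x3315)) (.node (.leaf 0x1ec8) (.leaf 0x5dd8))) (.node (.node (.leaf 0x1133) (.leaf 0x49b2)) (.node (.leaf 0x4908) (.leaf 0x7122)))) (.node (.node (.node (.leaf 0xaa4) (.leaf 0x3e21)) (.node (.leaf 0x178e) (.leaf 0x698a))) (.node (.node (.leaf 0xcfb) (.leaf 0x5152)) (.node (.leaf 0x4c5a) (.leaf 0x0)))))) (.node (.node (.node (.node (.node (.leaf 0x27b) (.leaf 0x2d9b)) (.node (.leaf 0x12e2) (.leaf 0x5a07))) (.node (.node (.leaf 0x4f44) (.leaf 0x4662)) (.node (.leaf 0x450d)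 (.leaf 0x70b1)))) (.node (.node (.node (.leaf 0x2a4d) (.leaf 0x3a44)) (.node (.leaf 0x165a) (.leaf 0x65bd))) (.node (.node (.leaf 0xc56) (.leaf 0x5084)) (.node (.leaf 0x2387) (.leaf 0x0))))) (.node (.node (.node (.node (.leaf 0x5d2e) (.leaf 0x3633)) (.node (.leaf 0x137f) (.leaf 0x60f0))) (.node (.node (.leaf 0x8d8) (.leaf 0x4b0a)) (.node (.leaf 0x3cb7) (.leaf 0x7373)))) (.node (.node (.node (.leaf 0x9ff) (.leaf 0x40bf)) (.node (.leaf 0x3c8e) (.leaf 0x6a9b))) (.node (.node (.leaf 0xdb3) (.leaf 0x560f)) (.node (.leaf 0x2727) (.leaf 0x0))))))) (.node (.node (.node (.node (.node (.node (.leaf 0x1db) (.leaf 0x2979)) (.node (.leaf 0x1c21) (.leaf 0x56a1))) (.node (.node (.leaf 0x5037) (.leaf 0x5fdb)) (.node (.leaf 0x1b71) (.leaf 0x6eb1)))) (.node (.node (.node (.leaf 0x827) (.leaf 0x670c)) (.node (.leaf 0x1aed) (.leaf 0x6b5d))) (.node (.node (.leaf 0xb99) (.leaf 0x4d7d)) (.node (.leaf 0x3099) (.leaf 0x756d))))) (.node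 (.node (.node (.node (.leaf 0x2949) (.leaf 0x6310)) (.node (.leaf 0x1e73) (.leaf 0x5da3))) (.node (.node (.leaf 0x1ba3) (.leaf 0x48b1)) (.node (.leaf 0x2198) (.leaf 0x7295)))) (.node (.node (.node (.leaf 0x2b39) (.leaf 0x3dbb)) (.node (.leaf 0x179d) (.leaf 0x67d6))) (.node (.node (.leaf 0xd48) (.leaf 0x52d1)) (.node (.leaf 0x25df) (.leaf 0x0)))))) (.node (.node (.node (.node (.node (.leaf 0x2a6) (.leaf 0x32c8)) (.node (.leaf 0x127c) (.leaf 0x5aa4))) (.node (.node (.leaf 0x6eb) (.leaf 0x4714)) (.node (.leaf 0x3fac) (.leaf 0x70f6)))) (.node (.node (.node (.leaf 0x2777) (.leaf 0x3b44)) (.node (.leaf 0x168b) (.leaf 0x64eb))) (.node (.node (.leaf 0x3067) (.leaf 0x5441)) (.node (.leaf 0x2952) (.leaf 0x0))))) (.node (.node (.node (.node (.leaf 0x1b46) (.leaf 0x35e7)) (.node (.leaf 0x1415) (.leaf 0x5f64))) (.node (.node (.leaf 0x903) (.leaf 0x4b55)) (.node (.leaf 0x40c7) (.leaf 0x74bc)))) (.node (.node (.node (.leaf 0x3a96)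 (.leaf 0x4115)) (.node (.leaf 0x1bf4) (.leaf 0x6ae6))) (.node (.node (.leaf 0xe77) (.leaf 0x5376)) (.node (.leaf 0x27a3) (.leaf 0x0))))))))

/-- Closure. -/
def clo6 : FTree := (.node (.node (.node (.node (.node (.node (.node (.leaf 0x97) (.leaf 0x29d9)) (.node (.leaf 0xf2b) (.leaf 0x581a))) (.node (.node (.leaf 0x3acf) (.leaf 0x437e)) (.node (.leaf 0x243d) (.leaf 0x6db4)))) (.node (.node (.node (.leaf 0x526) (.leaf 0x39c7)) (.node (.leaf 0x344a) (.leaf 0x631a))) (.node (.node (.leaf 0x29d4) (.leaf 0x4db7)) (.node (.leaf 0x30a6) (.leaf 0x76e1))))) (.node (.node (.node (.node (.leaf 0x42b1) (.leaf 0x3328)) (.node (.leaf 0x187e) (.leaf 0x5aff))) (.node (.node (.leaf 0x802) (.leaf 0x478b)) (.node (.leaf 0x51cb) (.leaf 0x71a9)))) (.node (.node (.node (.leaf 0x92f) (.leaf 0x3dcc)) (.node (.leaf 0x2872) (.leaf 0x682b))) (.node (.node (.leaf 0xd3b) (.leaf 0x5638)) (.node (.leaf 0x3131) (.leaf 0x0)))))) (.node (.node (.node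 (.node (.node (.leaf 0x265) (.leaf 0x3da4)) (.node (.leaf 0x5e48) (.leaf 0x5962))) (.node (.node (.leaf 0x9fb) (.leaf 0x4603)) (.node (.leaf 0x2eb9) (.leaf 0x7056)))) (.node (.node (.node (.leaf 0x2afc) (.leaf 0x3a43)) (.node (.leaf 0x1693) (.leaf 0x6611))) (.node (.node (.leaf 0xbcf) (.leaf 0x4ff6)) (.node (.leaf 0x32ce) (.leaf 0x0))))) (.node (.node (.node (.node (.leaf 0x319) (.leaf 0x3751)) (.node (.leaf 0x13b0) (.leaf 0x5f25))) (.node (.node (.leaf 0x9a9) (.leaf 0x4ab6)) (.node (.leaf 0x40c2) (.leaf 0x733e)))) (.node (.node (.node (.leaf 0x1ccf) (.leaf 0x4054)) (.node (.leaf 0x19a3) (.leaf 0x6aa2))) (.node (.node (.leaf 0x64f5) (.leaf 0x5489)) (.node (.leaf 0x28ec) (.leaf 0x0))))))) (.node (.node (.node (.node (.node (.node (.leaf 0x1c0) (.leaf 0x67ad)) (.node (.leaf 0x50e6) (.leaf 0x5753))) (.node (.node (.leaf 0x439b) (.leaf 0x658c)) (.node (.leaf 0x1a60) (.leaf 0x6c4d)))) (.node (.node (.node (.leaf 0x549)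 (.leaf 0x670f)) (.node (.leaf 0x697b) (.leaf 0x62e9))) (.node (.node (.leaf 0x1aaa) (.leaf 0x4db4)) (.node (.leaf 0x2aed) (.leaf 0x75f7))))) (.node (.node (.node (.node (.leaf 0x2fd9) (.leaf 0x31f9)) (.node (.leaf 0x3bf0) (.leaf 0x5d77))) (.node (.node (.leaf 0x5e79) (.leaf 0x4776)) (.node (.leaf 0x2193) (.leaf 0x728d)))) (.node (.node (.node (.leaf 0x48d) (.leaf 0x3e1e)) (.node (.leaf 0x17c1) (.leaf 0x6755))) (.node (.node (.leaf 0x5d1d) (.leaf 0x5290)) (.node (.leaf 0x3135) (.leaf 0x0)))))) (.node (.node (.node (.node (.node (.leaf 0x79d) (.leaf 0x5b49)) (.node (.leaf 0x3bae) (.leaf 0x5991))) (.node (.node (.leaf 0x754) (.leaf 0x4511)) (.node (.leaf 0x1d53) (.leaf 0x7039)))) (.node (.node (.node (.leaf 0x2684) (.leaf 0x66ef)) (.node (.leaf 0x1611) (.leaf 0x6488))) (.node (.node (.leaf 0x304d) (.leaf 0x5066)) (.node (.leaf 0x2487) (.leaf 0x0))))) (.node (.node (.node (.node (.leaf 0x1128) (.leaf 0x3d8c)) (.node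 (.leaf 0x1397) (.leaf 0x60cf))) (.node (.node (.leaf 0x2c71) (.leaf 0x4b35)) (.node (.leaf 0x211d) (.leaf 0x73fe)))) (.node (.node (.node (.leaf 0x4159) (.leaf 0x476e)) (.node (.leaf 0x18fb) (.leaf 0x6b38))) (.node (.node (.leaf 0x5e2f) (.leaf 0x55f4)) (.node (.leaf 0x26ec) (.leaf 0x0))))))))

/-- Closure. -/
def clo7 : FTree := (.node (.node (.node (.node (.node (.node (.node (.leaf 0xc6) (.leaf 0x37b0)) (.node (.leaf 0x50ea) (.leaf 0x56fd))) (.node (.node (.leaf 0x708) (.leaf 0x442e)) (.node (.leaf 0x1c3e) (.leaf 0x6ed5)))) (.node (.node (.node (.leaf 0x53e) (.leaf 0x393b)) (.node (.leaf 0x6d54) (.leaf 0x6eea))) (.node (.node (.leaf 0xa53) (.leaf 0x4c38)) (.node (.leaf 0x6740) (.leaf 0x7603))))) (.node (.node (.node (.node (.leaf 0x2fdc) (.leaf 0x31c7)) (.node (.leaf 0x1790) (.leaf 0x5be6))) (.node (.node (.leaf 0x5e78) (.leaf 0x47d7)) (.node (.leaf 0x446d) (.leaf 0x71ef)))) (.node (.node (.node (.leaf 0x981)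 (.leaf 0x3e26)) (.node (.leaf 0x32bb) (.leaf 0x6879))) (.node (.node (.leaf 0x3bc9) (.leaf 0x5299)) (.node (.leaf 0x2673) (.leaf 0x0)))))) (.node (.node (.node (.node (.node (.leaf 0x78d) (.leaf 0x2f0f)) (.node (.leaf 0x3498) (.leaf 0x5994))) (.node (.node (.leaf 0x10a2) (.leaf 0x471b)) (.node (.leaf 0x575c) (.leaf 0x6f8c)))) (.node (.node (.node (.leaf 0xace) (.leaf 0x3b84)) (.node (.leaf 0x15b9) (.leaf 0x64b4))) (.node (.node (.leaf 0x3043) (.leaf 0x50c8)) (.node (.leaf 0x3e2e) (.leaf 0x0))))) (.node (.node (.node (.node (.leaf 0x5d66) (.leaf 0x3845)) (.node (.leaf 0x2e39) (.leaf 0x6094))) (.node (.node (.leaf 0x1e69) (.leaf 0x4bdb)) (.node (.leaf 0x3d9a) (.leaf 0x74d9)))) (.node (.node (.node (.leaf 0x415b) (.leaf 0x401f)) (.node (.leaf 0x19da) (.leaf 0x6b29))) (.node (.node (.leaf 0xe5e) (.leaf 0x54c6)) (.node (.leaf 0x28bc) (.leaf 0x0))))))) (.node (.node (.node (.node (.node (.node (.leaf 0x1eb) (.leaf 0x5652))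 (.node (.leaf 0x2a85) (.leaf 0x580f))) (.node (.node (.leaf 0xb31) (.leaf 0x42ff)) (.node (.leaf 0x4d41) (.leaf 0x6edd)))) (.node (.node (.node (.leaf 0x13ea) (.leaf 0x394a)) (.node (.leaf 0x1e0e) (.leaf 0x6279))) (.node (.node (.leaf 0x57df) (.leaf 0x4d80)) (.node (.leaf 0x4a68) (.leaf 0x756a))))) (.node (.node (.node (.node (.leaf 0x3645) (.leaf 0x355e)) (.node (.leaf 0x1964) (.leaf 0x5ebb))) (.node (.node (.leaf 0x35d3) (.leaf 0x497f)) (.node (.leaf 0x2088) (.leaf 0x726e)))) (.node (.node (.node (.leaf 0x4e32) (.leaf 0x3d4d)) (.node (.leaf 0x2d1b) (.leaf 0x68fd))) (.node (.node (.leaf 0x23d9) (.leaf 0x5630)) (.node (.leaf 0x2680) (.leaf 0x0)))))) (.node (.node (.node (.node (.node (.leaf 0x351) (.leaf 0x54bf)) (.node (.leaf 0x1251) (.leaf 0x595a))) (.node (.node (.leaf 0x25a4) (.leaf 0x4558)) (.node (.leaf 0x2e4c) (.leaf 0x7037)))) (.node (.node (.node (.leaf 0x2a42) (.leaf 0x3b27)) (.node (.leaf 0x15cc) (.leaf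 0x645d))) (.node (.node (.leaf 0x3576) (.leaf 0x4f97)) (.node (.leaf 0x4166) (.leaf 0x0))))) (.node (.node (.node (.node (.leaf 0x2974) (.leaf 0x35f9)) (.node (.leaf 0x30cc) (.leaf 0x60a4))) (.node (.node (.leaf 0x8f1) (.leaf 0x49e5)) (.node (.leaf 0x2119) (.leaf 0x739c)))) (.node (.node (.node (.leaf 0x5ae) (.leaf 0x41e3)) (.node (.leaf 0x39aa) (.leaf 0x6b1a))) (.node (.node (.leaf 0x5ae6) (.leaf 0x561e)) (.node (.leaf 0x3724) (.leaf 0x0))))))))

/-- Closure. -/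
def clo8 : FTree := (.node (.node (.node (.node (.node (.node (.node (.leaf 0x18) (.leaf 0x2bed)) (.node (.leaf 0x10b4) (.leaf 0x5725))) (.node (.node (.leaf 0x742) (.leaf 0x42ed)) (.node (.leaf 0x333e) (.leaf 0x6e63)))) (.node (.node (.node (.leaf 0x551) (.leaf 0x3904)) (.node (.leaf 0x14d8) (.leaf 0x6220))) (.node (.node (.leaf 0xa73) (.leaf 0x4db3)) (.node (.leaf 0x22b5) (.leaf 0x761f))))) (.node (.node (.node (.node (.leaf 0xa8f) (.leaf 0x5ab0)) (.node (.leaf 0x2c86) (.leaf 0x5e6b))) (.node (.node (.leaf 0x12a8) (.leaf 0x486f)) (.node (.leaf 0x552c) (.leaf 0x72a5)))) (.node (.node (.node (.leaf 0x672) (.leaf 0x3dcd)) (.node (.leaf 0x17e5) (.leaf 0x69f0))) (.node (.node (.leaf 0x1013) (.leaf 0x5323)) (.node (.leaf 0x2667) (.leaf 0x0)))))) (.node (.node (.node (.node (.node (.leaf 0x79c) (.leaf 0x2d2f)) (.node (.leaf 0x538f) (.leaf 0x5a93))) (.node (.node (.leaf 0x967) (.leaf 0x44f7)) (.node (.leaf 0x1d7d) (.leaf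 0x6f65)))) (.node (.node (.node (.leaf 0xacf) (.leaf 0x3bc1)) (.node (.leaf 0x16cb) (.leaf 0x6515))) (.node (.node (.leaf 0x29b0) (.leaf 0x4fd3)) (.node (.leaf 0x573f) (.leaf 0x0))))) (.node (.node (.node (.node (.leaf 0x1125) (.leaf 0x35fe)) (.node (.leaf 0x1388) (.leaf 0x5ef4))) (.node (.node (.leaf 0xa28) (.leaf 0x4bd6)) (.node (.leaf 0x2504) (.leaf 0x733a)))) (.node (.node (.node (.leaf 0x1cf9) (.leaf 0x405e)) (.node (.leaf 0x1915) (.leaf 0x6b14))) (.node (.node (.leaf 0xe78) (.leaf 0x55ec)) (.node (.leaf 0x5ae8) (.leaf 0x0))))))) (.node (.node (.node (.node (.node (.node (.leaf 0x137) (.leaf 0x2c2a)) (.node (.leaf 0x1c37) (.leaf 0x56df))) (.node (.node (.leaf 0x30f3) (.leaf 0x544d)) (.node (.leaf 0x5395) (.leaf 0x6e0a)))) (.node (.node (.node (.leaf 0x1c9e) (.leaf 0x3c77)) (.node (.leaf 0x15e4) (.leaf 0x63b1))) (.node (.node (.leaf 0x66a2) (.leaf 0x4d1d)) (.node (.leaf 0x22d8) (.leaf 0x76e0))))) (.node (.node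 (.node (.node (.leaf 0x2a61) (.leaf 0x33ab)) (.node (.leaf 0x1235) (.leaf 0x5bd1))) (.node (.node (.leaf 0x3a08) (.leaf 0x746e)) (.node (.leaf 0x220a) (.leaf 0x71b9)))) (.node (.node (.node (.leaf 0x38ce) (.leaf 0x3eb3)) (.node (.leaf 0x1b22) (.leaf 0x67d7))) (.node (.node (.leaf 0x1220) (.leaf 0x520c)) (.node (.leaf 0x30e1) (.leaf 0x0)))))) (.node (.node (.node (.node (.node (.leaf 0x2c4) (.leaf 0x2d9f)) (.node (.leaf 0x2f70) (.leaf 0x59e4))) (.node (.node (.leaf 0x74d) (.leaf 0x45ed)) (.node (.leaf 0x1dc2) (.leaf 0x6fa9)))) (.node (.node (.node (.leaf 0x641) (.leaf 0x3ae6)) (.node (.leaf 0x4146) (.leaf 0x64f0))) (.node (.node (.leaf 0xc3d) (.leaf 0x5034)) (.node (.leaf 0x234f) (.leaf 0x0))))) (.node (.node (.node (.node (.leaf 0x3ce) (.leaf 0x3719)) (.node (.leaf 0x2b0d) (.leaf 0x5f0e))) (.node (.node (.leaf 0x335b) (.leaf 0x4b46)) (.node (.leaf 0x425e) (.leaf 0x73fd)))) (.node (.node (.node (.leaf 0x5dd) (.leaf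 0x41c7)) (.node (.leaf 0x1a41) (.leaf 0x6b55))) (.node (.node (.leaf 0xe32) (.leaf 0x53aa)) (.node (.leaf 0x2719) (.leaf 0x0))))))))

/-- Closure. -/
def clo9 : FTree := (.node (.node (.node (.node (.node (.node (.node (.leaf 0xa8) (.leaf 0x2be8)) (.node (.leaf 0x12bc) (.leaf 0x56c6))) (.node (.node (.leaf 0x62c) (.leaf 0x4349)) (.node (.leaf 0x1e42) (.leaf 0x6edc)))) (.node (.node (.node (.leaf 0x7e0) (.leaf 0x3f1c)) (.node (.leaf 0x14d1) (.leaf 0x624f))) (.node (.node (.leaf 0x4ab9) (.leaf 0x4c18)) (.node (.leaf 0x6746) (.leaf 0x75f6))))) (.node (.node (.node (.node (.leaf 0x2d3a) (.leaf 0x5fcd)) (.node (.leaf 0x1213) (.leaf 0x5c1b))) (.node (.node (.leaf 0x4705) (.leaf 0x48e5)) (.node (.leaf 0x2136) (.leaf 0x729a)))) (.node (.node (.node (.leaf 0x100d) (.leaf 0x3e33)) (.node (.leaf 0x173c) (.leaf 0x66e7))) (.node (.node (.leaf 0x1e57) (.leaf 0x51e1)) (.node (.leaf 0x2612) (.leaf 0x0)))))) (.node (.node (.node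 (.node (.node (.leaf 0x27e) (.leaf 0x4e48)) (.node (.leaf 0x5d3e) (.leaf 0x594f))) (.node (.node (.leaf 0xa0e) (.leaf 0x450e)) (.node (.leaf 0x1dcc) (.leaf 0x7022)))) (.node (.node (.node (.leaf 0x1cd5) (.leaf 0x3a63)) (.node (.leaf 0x1ad9) (.leaf 0x6546))) (.node (.node (.leaf 0x6181) (.leaf 0x50f3)) (.node (.leaf 0x2477) (.leaf 0x0))))) (.node (.node (.node (.node (.leaf 0x4a37) (.leaf 0x361d)) (.node (.leaf 0x139e) (.leaf 0x60a7))) (.node (.node (.leaf 0x127f) (.leaf 0x4a21)) (.node (.leaf 0x2236) (.leaf 0x738f)))) (.node (.node (.node (.leaf 0x1deb) (.leaf 0x40a3)) (.node (.leaf 0x19fc) (.leaf 0x6b0c))) (.node (.node (.leaf 0x1bed) (.leaf 0x5458)) (.node (.leaf 0x28b8) (.leaf 0x0))))))) (.node (.node (.node (.node (.node (.node (.leaf 0x1aa) (.leaf 0x2abf)) (.node (.leaf 0x57c6) (.leaf 0x69d5))) (.node (.node (.leaf 0x2eab) (.leaf 0x434e)) (.node (.leaf 0x3518) (.leaf 0x6d6c)))) (.node (.node (.node (.leaf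 0x4663) (.leaf 0x387f)) (.node (.leaf 0x150b) (.leaf 0x6266))) (.node (.node (.leaf 0x2f82) (.leaf 0x4d0f)) (.node (.leaf 0x2ae3) (.leaf 0x7566))))) (.node (.node (.node (.node (.leaf 0x3e0) (.leaf 0x3543)) (.node (.leaf 0x11b2) (.leaf 0x5d2b))) (.node (.node (.leaf 0x2913) (.leaf 0x4969)) (.node (.leaf 0x1f34) (.leaf 0x7313)))) (.node (.node (.node (.leaf 0x6f1) (.leaf 0x3e22)) (.node (.leaf 0x549f) (.leaf 0x6944))) (.node (.node (.leaf 0xd1d) (.leaf 0x524c)) (.node (.leaf 0x429f) (.leaf 0x0)))))) (.node (.node (.node (.node (.node (.leaf 0x501) (.leaf 0x39e0)) (.node (.leaf 0xfdf) (.leaf 0x59b8))) (.node (.node (.leaf 0x1ff7) (.leaf 0x4719)) (.node (.leaf 0x3c42) (.leaf 0x6f81)))) (.node (.node (.node (.leaf 0x3824) (.leaf 0x3ad2)) (.node (.leaf 0x158a) (.leaf 0x6562))) (.node (.node (.leaf 0x3594) (.leaf 0x655b)) (.node (.leaf 0x28d7) (.leaf 0x0))))) (.node (.node (.node (.node (.leaf 0x1b45) (.leaf 0x374d))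 (.node (.leaf 0x1387) (.leaf 0x5f02))) (.node (.node (.leaf 0x3372) (.leaf 0x4b45)) (.node (.leaf 0x211e) (.leaf 0x7432)))) (.node (.node (.node (.leaf 0x68e2) (.leaf 0x4264)) (.node (.leaf 0x195c) (.leaf 0x6b30))) (.node (.node (.leaf 0xdeb) (.leaf 0x5600)) (.node (.leaf 0x2776) (.leaf 0x0))))))))

/-- Closure. -/
def clo10 : FTree := (.node (.node (.node (.node (.node (.node (.node (.leaf 0x5a) (.leaf 0x5af4)) (.node (.leaf 0x19fe) (.leaf 0x5737))) (.node (.node (.leaf 0x94f) (.leaf 0x44aa)) (.node (.leaf 0x33ca) (.leaf 0x6ec7)))) (.node (.node (.node (.leaf 0x3d1a) (.leaf 0x3816)) (.node (.leaf 0x154b) (.leaf 0x61ef))) (.node (.node (.leaf 0x1dc8) (.leaf 0x4e10)) (.node (.leaf 0x41d0) (.leaf 0x769d))))) (.node (.node (.node (.node (.leaf 0x43f) (.leaf 0x3235)) (.node (.leaf 0x11bb) (.leaf 0x5d85))) (.node (.node (.leaf 0x12d7) (.leaf 0x4e6b)) (.node (.leaf 0x2f59) (.leaf 0x72ef)))) (.node (.node (.node (.leaf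 0x68f) (.leaf 0x3dcf)) (.node (.leaf 0x2d1d) (.leaf 0x68f0))) (.node (.node (.leaf 0xd82) (.leaf 0x52b1)) (.node (.leaf 0x4e35) (.leaf 0x0)))))) (.node (.node (.node (.node (.node (.leaf 0x4ba) (.leaf 0x2e7a)) (.node (.leaf 0x20ce) (.leaf 0x59ff))) (.node (.node (.leaf 0x104d) (.leaf 0x4582)) (.node (.leaf 0x4030) (.leaf 0x6f92)))) (.node (.node (.node (.leaf 0x2da2) (.leaf 0x3bbf)) (.node (.leaf 0x1624) (.leaf 0x65af))) (.node (.node (.leaf 0xcab) (.leaf 0x53fb)) (.node (.leaf 0x2aaa) (.leaf 0x0))))) (.node (.node (.node (.node (.leaf 0x542b) (.leaf 0x4fff)) (.node (.leaf 0x66aa) (.leaf 0x6008))) (.node (.node (.leaf 0x3309) (.leaf 0x4bf1)) (.node (.leaf 0x3415) (.leaf 0x74b9)))) (.node (.node (.node (.leaf 0x2d59) (.leaf 0x403c)) (.node (.leaf 0x1bfa) (.leaf 0x6ba4))) (.node (.node (.leaf 0x33a6) (.leaf 0x5c50)) (.node (.leaf 0x275b) (.leaf 0x0))))))) (.node (.node (.node (.node (.node (.node (.leaf 0x120) (.leaf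 0x2cd9)) (.node (.leaf 0x5faa) (.leaf 0x56d7))) (.node (.node (.leaf 0x30da) (.leaf 0x44b0)) (.node (.leaf 0x1b89) (.leaf 0x6d26)))) (.node (.node (.node (.leaf 0x13e7) (.leaf 0x3952)) (.node (.leaf 0x4bea) (.leaf 0x62c2))) (.node (.node (.leaf 0x1de1) (.leaf 0x4d7c)) (.node (.leaf 0x2315) (.leaf 0x76e8))))) (.node (.node (.node (.node (.leaf 0x43b) (.leaf 0x33db)) (.node (.leaf 0x1299) (.leaf 0x5b89))) (.node (.node (.leaf 0x4c06) (.leaf 0x4e6a)) (.node (.leaf 0x1f7f) (.leaf 0x7236)))) (.node (.node (.node (.leaf 0x17d8) (.leaf 0x3e34)) (.node (.leaf 0x55fc) (.leaf 0x6972))) (.node (.node (.leaf 0x2f26) (.leaf 0x521c)) (.node (.leaf 0x4476) (.leaf 0x0)))))) (.node (.node (.node (.node (.node (.leaf 0x2e0) (.leaf 0x2d01)) (.node (.leaf 0x4766) (.leaf 0x5a38))) (.node (.node (.leaf 0x2e62) (.leaf 0x45f1)) (.node (.leaf 0x1ebf) (.leaf 0x7106)))) (.node (.node (.node (.leaf 0xa81) (.leaf 0x3a6e)) (.node (.leaf 0x16df)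 (.leaf 0x6478))) (.node (.node (.leaf 0x4a9b) (.leaf 0x4ea1)) (.node (.leaf 0x2443) (.leaf 0x0))))) (.node (.node (.node (.node (.leaf 0x2978) (.leaf 0x362f)) (.node (.leaf 0x2e24) (.leaf 0x6106))) (.node (.node (.leaf 0x96f) (.leaf 0x4a35)) (.node (.leaf 0x20f6) (.leaf 0x734b)))) (.node (.node (.node (.leaf 0x5e0) (.leaf 0x4192)) (.node (.leaf 0x3c92) (.leaf 0x6a6d))) (.node (.node (.leaf 0xe0f) (.leaf 0x547e)) (.node (.leaf 0x2775) (.leaf 0x0))))))))

/-- Closure. -/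
def clo11 : FTree := (.node (.node (.node (.node (.node (.node (.node (.leaf 0xda) (.leaf 0x2bc4)) (.node (.leaf 0xefd) (.leaf 0x5850))) (.node (.node (.leaf 0x8c3) (.leaf 0x42fc)) (.node (.leaf 0x1bdd) (.leaf 0x6d5b)))) (.node (.node (.node (.leaf 0x816) (.leaf 0x382f)) (.node (.leaf 0x146e) (.leaf 0x61e0))) (.node (.node (.leaf 0x5499) (.leaf 0x4e2c)) (.node (.leaf 0x2297) (.leaf 0x75e4))))) (.node (.node (.node (.node (.leaf 0x28c) (.leaf 0x2fdf)) (.node (.leaf 0x1264) (.leaf 0x5ab6))) (.node (.node (.leaf 0xef4) (.leaf 0x48c2)) (.node (.leaf 0x33fa) (.leaf 0x711d)))) (.node (.node (.node (.leaf 0x131d) (.leaf 0x3ea8)) (.node (.leaf 0x2351) (.leaf 0x672a))) (.node (.node (.leaf 0xd01) (.leaf 0x514f)) (.node (.leaf 0x4976) (.leaf 0x0)))))) (.node (.node (.node (.node (.node (.leaf 0x20c) (.leaf 0x2d07)) (.node (.leaf 0x126e) (.leaf 0x58c0))) (.node (.node (.leaf 0x1476) (.leaf 0x4559)) (.node (.leaf 0x1cc4) (.leaf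 0x70aa)))) (.node (.node (.node (.leaf 0x41b) (.leaf 0x3a2b)) (.node (.leaf 0x16ab) (.leaf 0x654f))) (.node (.node (.leaf 0xc22) (.leaf 0x4fca)) (.node (.leaf 0x247d) (.leaf 0x0))))) (.node (.node (.node (.node (.leaf 0x2cb9) (.leaf 0x36d1)) (.node (.leaf 0x133c) (.leaf 0x6123))) (.node (.node (.leaf 0x8bc) (.leaf 0x4a6b)) (.node (.leaf 0x34cc) (.leaf 0x73d7)))) (.node (.node (.node (.leaf 0x7cb) (.leaf 0x4006)) (.node (.leaf 0x198f) (.leaf 0x6a23))) (.node (.node (.leaf 0xdaf) (.leaf 0x55c4)) (.node (.leaf 0x26dd) (.leaf 0x0))))))) (.node (.node (.node (.node (.node (.node (.leaf 0x150) (.leaf 0x2bc5)) (.node (.leaf 0x2a7b) (.leaf 0x5e3b))) (.node (.node (.leaf 0x1a4c) (.leaf 0x447e)) (.node (.leaf 0x3408) (.leaf 0x6ed0)))) (.node (.node (.node (.leaf 0x398) (.leaf 0x383c)) (.node (.leaf 0x1a86) (.leaf 0x6185))) (.node (.node (.leaf 0x6ddf) (.leaf 0x6eb6)) (.node (.leaf 0x6756) (.leaf 0x7585))))) (.node (.node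 (.node (.node (.leaf 0x3d82) (.leaf 0x32c2)) (.node (.leaf 0x121c) (.leaf 0x5fdf))) (.node (.node (.leaf 0x3e75) (.leaf 0x48ee)) (.node (.leaf 0x1ff3) (.leaf 0x7232)))) (.node (.node (.node (.leaf 0x54e9) (.leaf 0x3f97)) (.node (.leaf 0x1753) (.leaf 0x694c))) (.node (.node (.leaf 0x2a12) (.leaf 0x52da)) (.node (.leaf 0x353b) (.leaf 0x0)))))) (.node (.node (.node (.node (.node (.leaf 0x355) (.leaf 0x3125)) (.node (.leaf 0x56ea) (.leaf 0x58f2))) (.node (.node (.leaf 0xe53) (.leaf 0x44cf)) (.node (.leaf 0x2de0) (.leaf 0x70f5)))) (.node (.node (.node (.leaf 0x2ace) (.leaf 0x3b22)) (.node (.leaf 0x16b1) (.leaf 0x64ff))) (.node (.node (.leaf 0x29a1) (.leaf 0x50bb)) (.node (.leaf 0x23c2) (.leaf 0x0))))) (.node (.node (.node (.node (.leaf 0x4869) (.leaf 0x641b)) (.node (.leaf 0x13b7) (.leaf 0x6226))) (.node (.node (.leaf 0x1ef6) (.leaf 0x6899)) (.node (.leaf 0x4f64) (.leaf 0x742e)))) (.node (.node (.node (.leaf 0x3e87)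 (.leaf 0x4194)) (.node (.leaf 0x2c39) (.leaf 0x6a26))) (.node (.node (.leaf 0xe89) (.leaf 0x5461)) (.node (.leaf 0x3262) (.leaf 0x0))))))))

/-- Closure. -/
def clo12 : FTree := (.node (.node (.node (.node (.node (.node (.node (.leaf 0x4e) (.leaf 0x2be7)) (.node (.leaf 0xf33) (.leaf 0x57bb))) (.node (.node (.leaf 0x698) (.leaf 0x5126)) (.node (.leaf 0x1a73) (.leaf 0x6e20)))) (.node (.node (.node (.leaf 0x3cdc) (.leaf 0x3820)) (.node (.leaf 0x3fe3) (.leaf 0x633c))) (.node (.node (.leaf 0x2829) (.leaf 0x4cfa)) (.node (.leaf 0x41da) (.leaf 0x7560))))) (.node (.node (.node (.node (.leaf 0xbc5) (.leaf 0x65c5)) (.node (.leaf 0x1191) (.leaf 0x5c57))) (.node (.node (.leaf 0x9f3) (.leaf 0x478d)) (.node (.leaf 0x667d) (.leaf 0x7195)))) (.node (.node (.node (.leaf 0x1a45) (.leaf 0x3e93)) (.node (.leaf 0x331e) (.leaf 0x67fc))) (.node (.node (.leaf 0x259c) (.leaf 0x52cf)) (.node (.leaf 0x267d) (.leaf 0x0)))))) (.node (.node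 (.node (.node (.node (.leaf 0x232) (.leaf 0x2f4a)) (.node (.leaf 0x24d8) (.leaf 0x58c3))) (.node (.node (.leaf 0xa2b) (.leaf 0x46ee)) (.node (.leaf 0x1d9e) (.leaf 0x6fcf)))) (.node (.node (.node (.leaf 0x3ea) (.leaf 0x70ed)) (.node (.leaf 0x1977) (.leaf 0x6650))) (.node (.node (.leaf 0x3042) (.leaf 0x4e5a)) (.node (.leaf 0x515f) (.leaf 0x0))))) (.node (.node (.node (.node (.leaf 0x3103) (.leaf 0x6420)) (.node (.leaf 0x6916) (.leaf 0x5fd7))) (.node (.node (.leaf 0x101b) (.leaf 0x4b62)) (.node (.leaf 0x553c) (.leaf 0x7494)))) (.node (.node (.node (.leaf 0x596) (.leaf 0x4025)) (.node (.leaf 0x192c) (.leaf 0x6bc1))) (.node (.node (.leaf 0x11a0) (.leaf 0x63e9)) (.node (.leaf 0x26de) (.leaf 0x0))))))) (.node (.node (.node (.node (.node (.node (.leaf 0x128) (.leaf 0x2bc3)) (.node (.leaf 0xf77) (.leaf 0x581e))) (.node (.node (.leaf 0x638) (.leaf 0x440b)) (.node (.leaf 0x5052) (.leaf 0x6dab)))) (.node (.node (.node (.leaf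 0x1712) (.leaf 0x3a9a)) (.node (.leaf 0x14af) (.leaf 0x623f))) (.node (.node (.leaf 0xae3) (.leaf 0x4d99)) (.node (.leaf 0x6333) (.leaf 0x76d6))))) (.node (.node (.node (.node (.leaf 0x12f8) (.leaf 0x67e0)) (.node (.leaf 0x11a5) (.leaf 0x5c1c))) (.node (.node (.leaf 0x8ad) (.leaf 0x4817)) (.node (.leaf 0x2012) (.leaf 0x7267)))) (.node (.node (.node (.leaf 0x15ab) (.leaf 0x3fc0)) (.node (.leaf 0x2071) (.leaf 0x6d96))) (.node (.node (.leaf 0xe4b) (.leaf 0x5228)) (.node (.leaf 0x2544) (.leaf 0x0)))))) (.node (.node (.node (.node (.node (.leaf 0x2ea) (.leaf 0x2f51)) (.node (.leaf 0x1079) (.leaf 0x5a65))) (.node (.node (.leaf 0x41b8) (.leaf 0x4644)) (.node (.leaf 0x1df1) (.leaf 0x70b8)))) (.node (.node (.node (.leaf 0x423) (.leaf 0x3cb6)) (.node (.leaf 0x44a6) (.leaf 0x6549))) (.node (.node (.leaf 0x6172) (.leaf 0x4fa1)) (.node (.leaf 0x237a) (.leaf 0x0))))) (.node (.node (.node (.node (.leaf 0x2d70) (.leaf 0x37fd))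 (.node (.leaf 0x30d1) (.leaf 0x601b))) (.node (.node (.leaf 0x1026) (.leaf 0x4be1)) (.node (.leaf 0x4258) (.leaf 0x7454)))) (.node (.node (.node (.leaf 0x2869) (.leaf 0x4b16)) (.node (.leaf 0x19a7) (.leaf 0x6ae7))) (.node (.node (.leaf 0x1baf) (.leaf 0x555b)) (.node (.leaf 0x2725) (.leaf 0x0))))))))

/-- Closure. -/
def clo13 : FTree := (.node (.node (.node (.node (.node (.node (.node (.leaf 0xf9) (.leaf 0x2ca7)) (.node (.leaf 0x12c7) (.leaf 0x5727))) (.node (.node (.leaf 0x1ab8) (.leaf 0x438e)) (.node (.leaf 0x1bb8) (.leaf 0x6ebf)))) (.node (.node (.node (.leaf 0x1c88) (.leaf 0x3919)) (.node (.leaf 0x153d) (.leaf 0x62d9))) (.node (.node (.leaf 0x2d98) (.leaf 0x4dd1)) (.node (.leaf 0x76ee) (.leaf 0x7601))))) (.node (.node (.node (.node (.leaf 0x2d46) (.leaf 0x323b)) (.node (.leaf 0x126c) (.leaf 0x5ccd))) (.node (.node (.leaf 0xa01) (.leaf 0x48c6)) (.node (.leaf 0x554e) (.leaf 0x720e)))) (.node (.node (.node (.leaf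 0x2ec0) (.leaf 0x3e13)) (.node (.leaf 0x1c05) (.leaf 0x676c))) (.node (.node (.leaf 0xce4) (.leaf 0x517b)) (.node (.leaf 0x25c1) (.leaf 0x0)))))) (.node (.node (.node (.node (.node (.leaf 0x26e) (.leaf 0x34eb)) (.node (.leaf 0x1e8f) (.leaf 0x5a48))) (.node (.node (.leaf 0x11c9) (.leaf 0x4539)) (.node (.leaf 0x1d7c) (.leaf 0x6ff0)))) (.node (.node (.node (.leaf 0x3665) (.leaf 0x3bb2)) (.node (.leaf 0x1ad6) (.leaf 0x6454))) (.node (.node (.leaf 0xc77) (.leaf 0x50c7)) (.node (.leaf 0x5117) (.leaf 0x0))))) (.node (.node (.node (.node (.leaf 0x5ac) (.leaf 0x368c)) (.node (.leaf 0x1360) (.leaf 0x6002))) (.node (.node (.leaf 0x6503) (.leaf 0x6cc2)) (.node (.leaf 0x4957) (.leaf 0x750b)))) (.node (.node (.node (.leaf 0x9fe) (.leaf 0x409b)) (.node (.leaf 0x3bd1) (.leaf 0x6b8f))) (.node (.node (.leaf 0x351f) (.leaf 0x5547)) (.node (.leaf 0x6dbe) (.leaf 0x0))))))) (.node (.node (.node (.node (.node (.node (.leaf 0x19a) (.leaf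 0x3eed)) (.node (.leaf 0xf88) (.leaf 0x56dd))) (.node (.node (.leaf 0x5c82) (.leaf 0x4422)) (.node (.leaf 0x1a6e) (.leaf 0x7651)))) (.node (.node (.node (.leaf 0x13e9) (.leaf 0x37a0)) (.node (.leaf 0x152a) (.leaf 0x620e))) (.node (.node (.leaf 0x1109) (.leaf 0x4d7e)) (.node (.leaf 0x22e8) (.leaf 0x7551))))) (.node (.node (.node (.node (.leaf 0x3d78) (.leaf 0x3153)) (.node (.leaf 0x11e1) (.leaf 0x5d60))) (.node (.node (.leaf 0x3c07) (.leaf 0x47f7)) (.node (.leaf 0x2039) (.leaf 0x7126)))) (.node (.node (.node (.leaf 0x970) (.leaf 0x3fa3)) (.node (.leaf 0x185e) (.leaf 0x67c4))) (.node (.node (.leaf 0xd25) (.leaf 0x52b2)) (.node (.leaf 0x39b5) (.leaf 0x0)))))) (.node (.node (.node (.node (.node (.leaf 0x4c3) (.leaf 0x2e5a)) (.node (.leaf 0x52ea) (.leaf 0x5a43))) (.node (.node (.leaf 0x9e2) (.leaf 0x4562)) (.node (.leaf 0x4199) (.leaf 0x70fe)))) (.node (.node (.node (.leaf 0x6698) (.leaf 0x3bd3)) (.node (.leaf 0x15cf)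 (.leaf 0x6505))) (.node (.node (.leaf 0xcaa) (.leaf 0x5036)) (.node (.leaf 0x23ad) (.leaf 0x0))))) (.node (.node (.node (.node (.leaf 0x310d) (.leaf 0x6418)) (.node (.leaf 0x1382) (.leaf 0x5f90))) (.node (.node (.leaf 0x9d3) (.leaf 0x4ac6)) (.node (.leaf 0x215c) (.leaf 0x73a1)))) (.node (.node (.node (.leaf 0x2eea) (.leaf 0x448c)) (.node (.leaf 0x2c8b) (.leaf 0x6bde))) (.node (.node (.leaf 0x1f02) (.leaf 0x53ec)) (.node (.leaf 0x40b4) (.leaf 0x0))))))))

/-- Closure. -/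
def clo14 : FTree := (.node (.node (.node (.node (.node (.node (.node (.leaf 0x72) (.leaf 0x2a8f)) (.node (.leaf 0x2d5e) (.leaf 0x585d))) (.node (.node (.leaf 0xdab) (.leaf 0x4352)) (.node (.leaf 0x1bc1) (.leaf 0x6ef1)))) (.node (.node (.node (.leaf 0x13db) (.leaf 0x394b)) (.node (.leaf 0x1462) (.leaf 0x628a))) (.node (.node (.leaf 0x29c3) (.leaf 0x4d82)) (.node (.leaf 0x2325) (.leaf 0x75fb))))) (.node (.node (.node (.node (.leaf 0x334) (.leaf 0x3124)) (.node (.leaf 0x113d) (.leaf 0x5cf2))) (.node (.node (.leaf 0x6052) (.leaf 0x4941)) (.node (.leaf 0x5dd1) (.leaf 0x7209)))) (.node (.node (.node (.leaf 0x1acf) (.leaf 0x41ca)) (.node (.leaf 0x181f) (.leaf 0x6872))) (.node (.node (.leaf 0x1e58) (.leaf 0x5276)) (.node (.leaf 0x2672) (.leaf 0x0)))))) (.node (.node (.node (.node (.node (.leaf 0x358) (.leaf 0x2f20)) (.node (.leaf 0x1042) (.leaf 0x5a19))) (.node (.node (.leaf 0x484a) (.leaf 0x469a)) (.node (.leaf 0x2c5b)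 (.leaf 0x6fad)))) (.node (.node (.node (.leaf 0x64ef) (.leaf 0x3b9a)) (.node (.leaf 0x197c) (.leaf 0x6615))) (.node (.node (.leaf 0xc28) (.leaf 0x4fea)) (.node (.leaf 0x23a8) (.leaf 0x0))))) (.node (.node (.node (.node (.leaf 0xae9) (.leaf 0x36aa)) (.node (.leaf 0x1354) (.leaf 0x5fce))) (.node (.node (.leaf 0x912) (.leaf 0x68c8)) (.node (.leaf 0x21e3) (.leaf 0x735c)))) (.node (.node (.node (.leaf 0x3e86) (.leaf 0x4053)) (.node (.leaf 0x346a) (.leaf 0x6a1b))) (.node (.node (.leaf 0xde3) (.leaf 0x55c6)) (.node (.leaf 0x38e8) (.leaf 0x0))))))) (.node (.node (.node (.node (.node (.node (.leaf 0x12f) (.leaf 0x2ac8)) (.node (.leaf 0x19e3) (.leaf 0x5790))) (.node (.node (.leaf 0x5543) (.leaf 0x442f)) (.node (.leaf 0x1a5e) (.leaf 0x6e19)))) (.node (.node (.node (.leaf 0x3d19) (.leaf 0x3f24)) (.node (.leaf 0x6d53) (.leaf 0x61f7))) (.node (.node (.leaf 0xb20) (.leaf 0x4cd5)) (.node (.leaf 0x231a) (.leaf 0x76ea))))) (.node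 (.node (.node (.node (.leaf 0x2d48) (.leaf 0x331b)) (.node (.leaf 0x3c67) (.leaf 0x6256))) (.node (.node (.leaf 0x420b) (.leaf 0x49a4)) (.node (.leaf 0x24eb) (.leaf 0x72c9)))) (.node (.node (.node (.leaf 0x11ec) (.leaf 0x3f1f)) (.node (.leaf 0x331d) (.leaf 0x68b6))) (.node (.node (.leaf 0x10d6) (.leaf 0x5216)) (.node (.leaf 0x3907) (.leaf 0x0)))))) (.node (.node (.node (.node (.node (.leaf 0x4d7) (.leaf 0x6705)) (.node (.leaf 0xfc5) (.leaf 0x5a16))) (.node (.node (.leaf 0x1e4a) (.leaf 0x5e1a)) (.node (.leaf 0x26e5) (.leaf 0x707a)))) (.node (.node (.node (.leaf 0x3a49) (.leaf 0x3e62)) (.node (.leaf 0x168e) (.leaf 0x640b))) (.node (.node (.leaf 0xc70) (.leaf 0x4e7e)) (.node (.leaf 0x49ad) (.leaf 0x0))))) (.node (.node (.node (.node (.leaf 0x2fe3) (.leaf 0x368d)) (.node (.leaf 0x1386) (.leaf 0x60ee))) (.node (.node (.leaf 0xf85) (.leaf 0x6cd2)) (.node (.leaf 0x5538) (.leaf 0x7364)))) (.node (.node (.node (.leaf 0xb26)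 (.leaf 0x47cf)) (.node (.leaf 0x348a) (.leaf 0x6c2c))) (.node (.node (.leaf 0xe10) (.leaf 0x5401)) (.node (.leaf 0x4507) (.leaf 0x0))))))))

/-- Closure. -/
def clo15 : FTree := (.node (.node (.node (.node (.node (.node (.node (.leaf 0xf8) (.leaf 0x3865)) (.node (.leaf 0x1c30) (.leaf 0x5859))) (.node (.node (.leaf 0xfe6) (.leaf 0x441f)) (.node (.leaf 0x33e2) (.leaf 0x6d60)))) (.node (.node (.node (.leaf 0x1c81) (.leaf 0x38b0)) (.node (.leaf 0x1455) (.leaf 0x61c4))) (.node (.node (.leaf 0x3106) (.leaf 0x4d8b)) (.node (.leaf 0x228b) (.leaf 0x75ae))))) (.node (.node (.node (.node (.leaf 0x611) (.leaf 0x3481)) (.node (.leaf 0x3fd3) (.leaf 0x5be4))) (.node (.node (.leaf 0x1160) (.leaf 0x49b7)) (.node (.leaf 0x2001) (.leaf 0x7149)))) (.node (.node (.node (.leaf 0x959) (.leaf 0x3efb)) (.node (.leaf 0x1866) (.leaf 0x6770))) (.node (.node (.leaf 0x1b91) (.leaf 0x521d)) (.node (.leaf 0x3284) (.leaf 0x0)))))) (.node (.node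 (.node (.node (.node (.leaf 0x2ce) (.leaf 0x2dbd)) (.node (.leaf 0x109e) (.leaf 0x5944))) (.node (.node (.leaf 0x75a) (.leaf 0x4600)) (.node (.leaf 0x1e44) (.leaf 0x7076)))) (.node (.node (.node (.leaf 0x6f2) (.leaf 0x4578)) (.node (.leaf 0x16ae) (.leaf 0x6529))) (.node (.node (.leaf 0x6162) (.leaf 0x4f6b)) (.node (.leaf 0x27d3) (.leaf 0x0))))) (.node (.node (.node (.node (.leaf 0x5ba4) (.leaf 0x3678)) (.node (.leaf 0x1437) (.leaf 0x660c))) (.node (.node (.leaf 0x47f8) (.leaf 0x4df9)) (.node (.leaf 0x21cd) (.leaf 0x73e9)))) (.node (.node (.node (.leaf 0xa67) (.leaf 0x45db)) (.node (.leaf 0x3c8b) (.leaf 0x6a4c))) (.node (.node (.leaf 0x5b6b) (.leaf 0x5408)) (.node (.leaf 0x277a) (.leaf 0x0))))))) (.node (.node (.node (.node (.node (.node (.leaf 0x0) (.leaf 0x0)) (.node (.leaf 0x0) (.leaf 0x0))) (.node (.node (.leaf 0x0) (.leaf 0x0)) (.node (.leaf 0x0) (.leaf 0x0)))) (.node (.node (.node (.leaf 0x0) (.leaf 0x0))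 (.node (.leaf 0x0) (.leaf 0x0))) (.node (.node (.leaf 0x0) (.leaf 0x0)) (.node (.leaf 0x0) (.leaf 0x0))))) (.node (.node (.node (.node (.leaf 0x0) (.leaf 0x0)) (.node (.leaf 0x0) (.leaf 0x0))) (.node (.node (.leaf 0x0) (.leaf 0x0)) (.node (.leaf 0x0) (.leaf 0x0)))) (.node (.node (.node (.leaf 0x0) (.leaf 0x0)) (.node (.leaf 0x0) (.leaf 0x0))) (.node (.node (.leaf 0x0) (.leaf 0x0)) (.node (.leaf 0x0) (.leaf 0x0)))))) (.node (.node (.node (.node (.node (.leaf 0x0) (.leaf 0x0)) (.node (.leaf 0x0) (.leaf 0x0))) (.node (.node (.leaf 0x0) (.leaf 0x0)) (.node (.leaf 0x0) (.leaf 0x0)))) (.node (.node (.node (.leaf 0x0) (.leaf 0x0)) (.node (.leaf 0x0) (.leaf 0x0))) (.node (.node (.leaf 0x0) (.leaf 0x0)) (.node (.leaf 0x0) (.leaf 0x0))))) (.node (.node (.node (.node (.leaf 0x0) (.leaf 0x0)) (.node (.leaf 0x0) (.leaf 0x0))) (.node (.node (.leaf 0x0) (.leaf 0x0)) (.node (.leaf 0x0) (.leaf 0x0)))) (.node (.node (.node (.leaf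 0x0) (.leaf 0x0)) (.node (.leaf 0x0) (.leaf 0x0))) (.node (.node (.leaf 0x0) (.leaf 0x0)) (.node (.leaf 0x0) (.leaf 0x0))))))))

/-- Closure. -/
def clo16 : FTree := (.node (.node (.node (.node (.node (.node (.node (.leaf 0x11) (.leaf 0x3acb)) (.node (.leaf 0x3169) (.leaf 0x5e8a))) (.node (.node (.leaf 0x1d2f) (.leaf 0x43e2)) (.node (.leaf 0x328e) (.leaf 0x6eaa)))) (.node (.node (.node (.leaf 0x3cf8) (.leaf 0x6e29)) (.node (.leaf 0x14c2) (.leaf 0x6396))) (.node (.node (.leaf 0x30b9) (.leaf 0x4d4c)) (.node (.leaf 0x5884) (.leaf 0x75a4))))) (.node (.node (.node (.node (.leaf 0x436) (.leaf 0x33f5)) (.node (.leaf 0x334e) (.leaf 0x5d08))) (.node (.node (.leaf 0x824) (.leaf 0x4834)) (.node (.leaf 0x1f6d) (.leaf 0x71f2)))) (.node (.node (.node (.leaf 0x33d1) (.leaf 0x3e11)) (.node (.leaf 0x5b36) (.leaf 0x686e))) (.node (.node (.leaf 0x10d5) (.leaf 0x5637)) (.node (.leaf 0x3538) (.leaf 0x0)))))) (.node (.node (.node (.node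 (.node (.leaf 0x2db) (.leaf 0x2ecc)) (.node (.leaf 0x2be2) (.leaf 0x5a40))) (.node (.node (.leaf 0x4913) (.leaf 0x44f4)) (.node (.leaf 0x1e88) (.leaf 0x6fd2)))) (.node (.node (.node (.leaf 0x6759) (.leaf 0x3b40)) (.node (.leaf 0x1705) (.leaf 0x648d))) (.node (.node (.leaf 0xbe1) (.leaf 0x4ea9)) (.node (.leaf 0x5c2c) (.leaf 0x0))))) (.node (.node (.node (.node (.leaf 0x32d) (.leaf 0x36b5)) (.node (.leaf 0x137e) (.leaf 0x5f0c))) (.node (.node (.leaf 0x918) (.leaf 0x4a91)) (.node (.leaf 0x215b) (.leaf 0x73b0)))) (.node (.node (.node (.leaf 0x623) (.leaf 0x40b7)) (.node (.leaf 0x2c4a) (.leaf 0x6aeb))) (.node (.node (.leaf 0xded) (.leaf 0x5495)) (.node (.leaf 0x2743) (.leaf 0x0))))))) (.node (.node (.node (.node (.node (.node (.leaf 0x106) (.leaf 0x2c0d)) (.node (.leaf 0xf3a) (.leaf 0x56cf))) (.node (.node (.leaf 0x720) (.leaf 0x431f)) (.node (.leaf 0x1ba2) (.leaf 0x6e24)))) (.node (.node (.node (.leaf 0x3cdf) (.leaf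 0x38d7)) (.node (.leaf 0x2bf6) (.leaf 0x6278))) (.node (.node (.leaf 0x56cd) (.leaf 0x4d4e)) (.node (.leaf 0x2cdc) (.leaf 0x75c5))))) (.node (.node (.node (.node (.leaf 0x3c2) (.leaf 0x3039)) (.node (.leaf 0x129d) (.leaf 0x5dba))) (.node (.node (.leaf 0x3dec) (.leaf 0x48f8)) (.node (.leaf 0x2061) (.leaf 0x7307)))) (.node (.node (.node (.leaf 0x6a7) (.leaf 0x3d5d)) (.node (.leaf 0x2d34) (.leaf 0x6702))) (.node (.node (.leaf 0x10d4) (.leaf 0x5298)) (.node (.leaf 0x265e) (.leaf 0x0)))))) (.node (.node (.node (.node (.node (.leaf 0x23b) (.leaf 0x53e6)) (.node (.leaf 0xfef) (.leaf 0x590a))) (.node (.node (.leaf 0x401d) (.leaf 0x46cf)) (.node (.leaf 0x1cfd) (.leaf 0x704d)))) (.node (.node (.node (.leaf 0x3d34) (.leaf 0x3b1d)) (.node (.leaf 0x16c7) (.leaf 0x65ca))) (.node (.node (.leaf 0x29b5) (.leaf 0x5136)) (.node (.leaf 0x2442) (.leaf 0x0))))) (.node (.node (.node (.node (.leaf 0x30e) (.leaf 0x3738)) (.node (.leaf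 0x131f) (.leaf 0x6000))) (.node (.node (.leaf 0xa4d) (.leaf 0x4b2b)) (.node (.leaf 0x3412) (.leaf 0x736a)))) (.node (.node (.node (.leaf 0x2e0e) (.leaf 0x4273)) (.node (.leaf 0x1e84) (.leaf 0x6c0c))) (.node (.node (.leaf 0xfc0) (.leaf 0x53bb)) (.node (.leaf 0x2772) (.leaf 0x0))))))))

/-- Closure. -/
def clo17 : FTree := (.node (.node (.node (.node (.node (.node (.node (.leaf 0x6f) (.leaf 0x2cd5)) (.node (.leaf 0x1a02) (.leaf 0x56a8))) (.node (.node (.leaf 0x5708) (.leaf 0x4486)) (.node (.leaf 0x561d) (.leaf 0x6de9)))) (.node (.node (.node (.leaf 0x3d14) (.leaf 0x38c5)) (.node (.leaf 0x1466) (.leaf 0x61cb))) (.node (.node (.leaf 0x3144) (.leaf 0x4c8b)) (.node (.leaf 0x674d) (.leaf 0x75fd))))) (.node (.node (.node (.node (.leaf 0x2d47) (.leaf 0x32fc)) (.node (.leaf 0x6f38) (.leaf 0x5b3d))) (.node (.node (.leaf 0x6e5b) (.leaf 0x492c)) (.node (.leaf 0x2003) (.leaf 0x7125)))) (.node (.node (.node (.leaf 0x11f4) (.leaf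 0x3efc)) (.node (.leaf 0x1c14) (.leaf 0x682f))) (.node (.node (.leaf 0x6da8) (.leaf 0x5205)) (.node (.leaf 0x2561) (.leaf 0x0)))))) (.node (.node (.node (.node (.node (.leaf 0x509) (.leaf 0x2e7e)) (.node (.leaf 0x1eef) (.leaf 0x5a06))) (.node (.node (.leaf 0x8aa) (.leaf 0x46f4)) (.node (.leaf 0x4cf4) (.leaf 0x704c)))) (.node (.node (.node (.leaf 0x328c) (.leaf 0x3fbf)) (.node (.leaf 0x161d) (.leaf 0x67f0))) (.node (.node (.leaf 0xc8c) (.leaf 0x620b)) (.node (.leaf 0x241c) (.leaf 0x0))))) (.node (.node (.node (.node (.leaf 0x3101) (.leaf 0x370f)) (.node (.leaf 0x3b0f) (.leaf 0x602d))) (.node (.node (.leaf 0x2b4d) (.leaf 0x4b1a)) (.node (.leaf 0x224f) (.leaf 0x749f)))) (.node (.node (.node (.leaf 0xa45) (.leaf 0x41f4)) (.node (.leaf 0x18f5) (.leaf 0x6ad2))) (.node (.node (.leaf 0x62bd) (.leaf 0x5344)) (.node (.leaf 0x26fb) (.leaf 0x0))))))) (.node (.node (.node (.node (.node (.node (.leaf 0x177) (.leaf 0x2b98)) (.node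 (.leaf 0xf5f) (.leaf 0x56a4))) (.node (.node (.leaf 0x407e) (.leaf 0x4334)) (.node (.leaf 0x1bb1) (.leaf 0x6c5f)))) (.node (.node (.node (.leaf 0x836) (.leaf 0x38e7)) (.node (.leaf 0x1a93) (.leaf 0x6b1b))) (.node (.node (.leaf 0xa5b) (.leaf 0x4d2e)) (.node (.leaf 0x2af2) (.leaf 0x7540))))) (.node (.node (.node (.node (.leaf 0x3df) (.leaf 0x6456)) (.node (.leaf 0x4b9a) (.leaf 0x5e81))) (.node (.node (.leaf 0x881) (.leaf 0x49b6)) (.node (.leaf 0x204b) (.leaf 0x7285)))) (.node (.node (.node (.leaf 0x11b7) (.leaf 0x3fb3)) (.node (.leaf 0x179e) (.leaf 0x67cd))) (.node (.node (.leaf 0xda7) (.leaf 0x5297)) (.node (.leaf 0x2540) (.leaf 0x0)))))) (.node (.node (.node (.node (.node (.leaf 0x799) (.leaf 0x2d1a)) (.node (.leaf 0x107d) (.leaf 0x5a9b))) (.node (.node (.leaf 0x4499) (.leaf 0x4541)) (.node (.leaf 0x4764) (.leaf 0x70f9)))) (.node (.node (.node (.leaf 0x534a) (.leaf 0x3b5d)) (.node (.leaf 0x34ad) (.leaf 0x6524)))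 (.node (.node (.leaf 0x3079) (.leaf 0x4f54)) (.node (.leaf 0x27d7) (.leaf 0x0))))) (.node (.node (.node (.node (.leaf 0x4f53) (.leaf 0x363a)) (.node (.leaf 0x1326) (.leaf 0x5f0a))) (.node (.node (.leaf 0x5cf6) (.leaf 0x4ad0)) (.node (.leaf 0x24a3) (.leaf 0x736c)))) (.node (.node (.node (.leaf 0x5c9) (.leaf 0x41a7)) (.node (.leaf 0x195e) (.leaf 0x6bff))) (.node (.node (.leaf 0xe80) (.leaf 0x55d4)) (.node (.leaf 0x28c6) (.leaf 0x0))))))))

/-- Closure. -/
def clo18 : FTree := (.node (.node (.node (.node (.node (.node (.node (.leaf 0x78) (.leaf 0x38a5)) (.node (.leaf 0xf20) (.leaf 0x581b))) (.node (.node (.leaf 0x17bc) (.leaf 0x43dd)) (.node (.leaf 0x1af4) (.leaf 0x6df4)))) (.node (.node (.node (.leaf 0x2e0c) (.leaf 0x38f1)) (.node (.leaf 0x4be5) (.leaf 0x6337))) (.node (.node (.leaf 0x11d2) (.leaf 0x4d12)) (.node (.leaf 0x227d) (.leaf 0x76f4))))) (.node (.node (.node (.node (.leaf 0x2d3c) (.leaf 0x68fb)) (.node (.leaf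 0x12e3) (.leaf 0x5aaf))) (.node (.node (.leaf 0x5d27) (.leaf 0x4964)) (.node (.leaf 0x1f8b) (.leaf 0x7154)))) (.node (.node (.node (.leaf 0x1ced) (.leaf 0x3d2d)) (.node (.leaf 0x1c4f) (.leaf 0x68be))) (.node (.node (.leaf 0x34ff) (.leaf 0x5155)) (.node (.leaf 0x25cf) (.leaf 0x0)))))) (.node (.node (.node (.node (.node (.leaf 0x26a) (.leaf 0x2e5c)) (.node (.leaf 0x19f3) (.leaf 0x5a42))) (.node (.node (.leaf 0x6d3) (.leaf 0x4746)) (.node (.leaf 0x4016) (.leaf 0x7057)))) (.node (.node (.node (.leaf 0x269a) (.leaf 0x6d28)) (.node (.leaf 0x1d73) (.leaf 0x6509))) (.node (.node (.leaf 0xc4c) (.leaf 0x5055)) (.node (.leaf 0x2448) (.leaf 0x0))))) (.node (.node (.node (.node (.leaf 0x5be) (.leaf 0x3802)) (.node (.leaf 0x2792) (.leaf 0x60d5))) (.node (.node (.leaf 0x3317) (.leaf 0x4b0c)) (.node (.leaf 0x396a) (.leaf 0x7477)))) (.node (.node (.node (.leaf 0x5b25) (.leaf 0x413e)) (.node (.leaf 0x1a06) (.leaf 0x6a99))) (.node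 (.node (.leaf 0xdba) (.leaf 0x5492)) (.node (.leaf 0x2892) (.leaf 0x0))))))) (.node (.node (.node (.node (.node (.node (.leaf 0x13b) (.leaf 0x2a39)) (.node (.leaf 0xf8a) (.leaf 0x573a))) (.node (.node (.leaf 0x6b7) (.leaf 0x449a)) (.node (.leaf 0x2853) (.leaf 0x6df3)))) (.node (.node (.node (.leaf 0x13ec) (.leaf 0x3987)) (.node (.leaf 0x1539) (.leaf 0x633f))) (.node (.node (.leaf 0xa6e) (.leaf 0x4c32)) (.node (.leaf 0x2302) (.leaf 0x7620))))) (.node (.node (.node (.node (.leaf 0x3d7c) (.leaf 0x32e8)) (.node (.leaf 0x11ae) (.leaf 0x5c43))) (.node (.node (.leaf 0x3c0c) (.leaf 0x48f7)) (.node (.leaf 0x2087) (.leaf 0x712f)))) (.node (.node (.node (.leaf 0x18a1) (.leaf 0x3d93)) (.node (.leaf 0x284d) (.leaf 0x6952))) (.node (.node (.leaf 0xd07) (.leaf 0x52b8)) (.node (.leaf 0x2c00) (.leaf 0x0)))))) (.node (.node (.node (.node (.node (.leaf 0x4c6) (.leaf 0x2f22)) (.node (.leaf 0x1b26) (.leaf 0x5a3e))) (.node (.node (.leaf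 0x9e5) (.leaf 0x45ca)) (.node (.leaf 0x1f0a) (.leaf 0x6f24)))) (.node (.node (.node (.leaf 0x5e7) (.leaf 0x3a9d)) (.node (.leaf 0x1595) (.leaf 0x64f9))) (.node (.node (.leaf 0xca8) (.leaf 0x4ec4)) (.node (.leaf 0x23ce) (.leaf 0x0))))) (.node (.node (.node (.node (.leaf 0x3769) (.leaf 0x4695)) (.node (.leaf 0x30d2) (.leaf 0x609d))) (.node (.node (.leaf 0x123f) (.leaf 0x4b69)) (.node (.leaf 0x2248) (.leaf 0x73a8)))) (.node (.node (.node (.leaf 0x2ee9) (.leaf 0x54c1)) (.node (.leaf 0x18a4) (.leaf 0x6ac1))) (.node (.node (.leaf 0x34f8) (.leaf 0x547a)) (.node (.leaf 0x6150) (.leaf 0x0))))))))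

/-- Closure. -/
def clo19 : FTree := (.node (.node (.node (.node (.node (.node (.node (.leaf 0x118) (.leaf 0x2bf0)) (.node (.leaf 0x2602) (.leaf 0x5d78))) (.node (.node (.leaf 0x30db) (.leaf 0x4360)) (.node (.leaf 0x4898) (.leaf 0x6d21)))) (.node (.node (.node (.leaf 0x1ca1) (.leaf 0x386e)) (.node (.leaf 0x1520) (.leaf 0x6338))) (.node (.node (.leaf 0x45bc) (.leaf 0x4d15)) (.node (.leaf 0x22ed) (.leaf 0x768b))))) (.node (.node (.node (.node (.leaf 0x8e8) (.leaf 0x5770)) (.node (.leaf 0x127e) (.leaf 0x5b88))) (.node (.node (.leaf 0x1baa) (.leaf 0x4829)) (.node (.leaf 0x4474) (.leaf 0x72c7)))) (.node (.node (.node (.leaf 0x64cf) (.leaf 0x3f11)) (.node (.leaf 0x1b20) (.leaf 0x68c0))) (.node (.node (.leaf 0xd7e) (.leaf 0x51f8)) (.node (.leaf 0x5722) (.leaf 0x0)))))) (.node (.node (.node (.node (.node (.leaf 0xee2) (.leaf 0x458d)) (.node (.leaf 0x33f7) (.leaf 0x595b))) (.node (.node (.leaf 0x9ab) (.leaf 0x4729)) (.node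 (.leaf 0x1f13) (.leaf 0x6fd3)))) (.node (.node (.node (.leaf 0x2e9e) (.leaf 0x3beb)) (.node (.leaf 0x166c) (.leaf 0x65b9))) (.node (.node (.leaf 0x3078) (.leaf 0x503a)) (.node (.leaf 0x23b1) (.leaf 0x0))))) (.node (.node (.node (.node (.leaf 0x5ba1) (.leaf 0x35b4)) (.node (.leaf 0x6881) (.leaf 0x6064))) (.node (.node (.leaf 0x261c) (.leaf 0x4ba7)) (.node (.leaf 0x21f8) (.leaf 0x7516)))) (.node (.node (.node (.leaf 0x5832) (.leaf 0x40a1)) (.node (.leaf 0x195d) (.leaf 0x6bca))) (.node (.node (.leaf 0x3330) (.leaf 0x54d7)) (.node (.leaf 0x27f5) (.leaf 0x0))))))) (.node (.node (.node (.node (.node (.node (.leaf 0x1d4) (.leaf 0x2bdd)) (.node (.leaf 0x5fb5) (.leaf 0x5818))) (.node (.node (.leaf 0x3d4f) (.leaf 0x4371)) (.node (.leaf 0x1b24) (.leaf 0x6cb9)))) (.node (.node (.node (.leaf 0x2e02) (.leaf 0x3789)) (.node (.leaf 0x1e1b) (.leaf 0x6297))) (.node (.node (.leaf 0x5031) (.leaf 0x4cd7)) (.node (.leaf 0x2af1) (.leaf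 0x76c7))))) (.node (.node (.node (.node (.leaf 0x56c) (.leaf 0x317f)) (.node (.leaf 0x3fbb) (.leaf 0x5afa))) (.node (.node (.leaf 0x6057) (.leaf 0x489a)) (.node (.leaf 0x1f58) (.leaf 0x71a6)))) (.node (.node (.node (.leaf 0x494) (.leaf 0x3f7a)) (.node (.leaf 0x1d97) (.leaf 0x6d52))) (.node (.node (.leaf 0x338f) (.leaf 0x5215)) (.node (.leaf 0x25ee) (.leaf 0x0)))))) (.node (.node (.node (.node (.node (.leaf 0x2a9) (.leaf 0x2d4f)) (.node (.leaf 0x108d) (.leaf 0x594c))) (.node (.node (.leaf 0x756) (.leaf 0x73f4)) (.node (.leaf 0x1e6e) (.leaf 0x6f60)))) (.node (.node (.node (.leaf 0x11d0) (.leaf 0x3c4c)) (.node (.leaf 0x1974) (.leaf 0x6669))) (.node (.node (.leaf 0xc36) (.leaf 0x502c)) (.node (.leaf 0x23ea) (.leaf 0x0))))) (.node (.node (.node (.node (.leaf 0x5c4) (.leaf 0x360e)) (.node (.leaf 0x143f) (.leaf 0x5fb4))) (.node (.node (.leaf 0x6c2e) (.leaf 0x4a81)) (.node (.leaf 0x5173) (.leaf 0x7500)))) (.node (.node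 (.node (.leaf 0x2a9d) (.leaf 0x40ba)) (.node (.leaf 0x196c) (.leaf 0x6b85))) (.node (.node (.leaf 0xe8a) (.leaf 0x5d10)) (.node (.leaf 0x3b39) (.leaf 0x0))))))))

/-- Closure. -/
def clo20 : FTree := (.node (.node (.node (.node (.node (.node (.node (.leaf 0x2c) (.leaf 0x2962)) (.node (.leaf 0x2a83) (.leaf 0x56bf))) (.node (.node (.leaf 0x5c4d) (.leaf 0x4448)) (.node (.leaf 0x1e92) (.leaf 0x6d8d)))) (.node (.node (.node (.leaf 0x397) (.leaf 0x3963)) (.node (.leaf 0x6d55) (.leaf 0x61ec))) (.node (.node (.leaf 0xb88) (.leaf 0x4def)) (.node (.leaf 0x232b) (.leaf 0x768f))))) (.node (.node (.node (.node (.leaf 0x3d83) (.leaf 0x33b5)) (.node (.leaf 0x5cdf) (.leaf 0x5e3a))) (.node (.node (.leaf 0x3df0) (.leaf 0x4787)) (.node (.leaf 0x205e) (.leaf 0x72f1)))) (.node (.node (.node (.leaf 0x333a) (.leaf 0x3d54)) (.node (.leaf 0x173f) (.leaf 0x67a0))) (.node (.node (.leaf 0x4f01) (.leaf 0x5198)) (.node (.leaf 0x3903) (.leaf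 0x0)))))) (.node (.node (.node (.node (.node (.leaf 0x34b) (.leaf 0x5c11)) (.node (.leaf 0x3463) (.leaf 0x58f0))) (.node (.node (.leaf 0x3319) (.leaf 0x5e19)) (.node (.leaf 0x5d03) (.leaf 0x703e)))) (.node (.node (.node (.leaf 0x3666) (.leaf 0x3be4)) (.node (.leaf 0x163a) (.leaf 0x65f4))) (.node (.node (.leaf 0x29a7) (.leaf 0x4f5d)) (.node (.leaf 0x23fb) (.leaf 0x0))))) (.node (.node (.node (.node (.leaf 0x42ca) (.leaf 0x36ba)) (.node (.leaf 0x13f8) (.leaf 0x6230))) (.node (.node (.leaf 0x3bd9) (.leaf 0x4abb)) (.node (.leaf 0x20d0) (.leaf 0x7457)))) (.node (.node (.node (.leaf 0x140f) (.leaf 0x56fa)) (.node (.leaf 0x3994) (.leaf 0x6be1))) (.node (.node (.leaf 0x19cc) (.leaf 0x5577)) (.node (.leaf 0x285a) (.leaf 0x0))))))) (.node (.node (.node (.node (.node (.node (.leaf 0x14c) (.leaf 0x61db)) (.node (.leaf 0x5d9f) (.leaf 0x5809))) (.node (.node (.leaf 0x72e) (.leaf 0x439e)) (.node (.leaf 0x1c12) (.leaf 0x6c75))))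 (.node (.node (.node (.leaf 0x3ce8) (.leaf 0x5952)) (.node (.leaf 0x50f2) (.leaf 0x61e4))) (.node (.node (.leaf 0xb74) (.leaf 0x4dcf)) (.node (.leaf 0x227f) (.leaf 0x76b6))))) (.node (.node (.node (.node (.leaf 0x3b3) (.leaf 0x326e)) (.node (.leaf 0x11b5) (.leaf 0x658a))) (.node (.node (.leaf 0x114f) (.leaf 0x4858)) (.node (.leaf 0x1f5a) (.leaf 0x72ba)))) (.node (.node (.node (.leaf 0xae4) (.leaf 0x3e01)) (.node (.leaf 0x1860) (.leaf 0x6963))) (.node (.node (.leaf 0x3303) (.leaf 0x516c)) (.node (.leaf 0x5c36) (.leaf 0x0)))))) (.node (.node (.node (.node (.node (.leaf 0x24c) (.leaf 0x6d1f)) (.node (.leaf 0xfeb) (.leaf 0x593e))) (.node (.node (.leaf 0x6dc) (.leaf 0x45a3)) (.node (.leaf 0x37ed) (.leaf 0x707d)))) (.node (.node (.node (.leaf 0x5d1) (.leaf 0x3a28)) (.node (.leaf 0x15e0) (.leaf 0x64fd))) (.node (.node (.leaf 0x29bd) (.leaf 0x5047)) (.node (.leaf 0x2404) (.leaf 0x0))))) (.node (.node (.node (.node (.leaf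 0x3002) (.leaf 0x3650)) (.node (.leaf 0x2b14) (.leaf 0x5f85))) (.node (.node (.leaf 0x4eb6) (.leaf 0x4b5d)) (.node (.leaf 0x2f60) (.leaf 0x7417)))) (.node (.node (.node (.leaf 0xb04) (.leaf 0x3ff9)) (.node (.leaf 0x1898) (.leaf 0x6bbc))) (.node (.node (.leaf 0xe17) (.leaf 0x5446)) (.node (.leaf 0x28d0) (.leaf 0x0))))))))

/-- Closure. -/
def clo21 : FTree := (.node (.node (.node (.node (.node (.node (.node (.leaf 0xb7) (.leaf 0x2a6f)) (.node (.leaf 0xf45) (.leaf 0x57f4))) (.node (.node (.leaf 0xab0) (.leaf 0x436b)) (.node (.leaf 0x5732) (.leaf 0x6c86)))) (.node (.node (.node (.leaf 0x4677) (.leaf 0x6280)) (.node (.leaf 0x1e15) (.leaf 0x6267))) (.node (.node (.leaf 0xa7f) (.leaf 0x4d03)) (.node (.leaf 0x22ac) (.leaf 0x76fb))))) (.node (.node (.node (.node (.leaf 0x571) (.leaf 0x31b9)) (.node (.leaf 0x1edc) (.leaf 0x5d46))) (.node (.node (.leaf 0x1855) (.leaf 0x4950)) (.node (.leaf 0x6c89) (.leaf 0x7256)))) (.node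 (.node (.node (.leaf 0x96a) (.leaf 0x3e80)) (.node (.leaf 0x32bc) (.leaf 0x69c6))) (.node (.node (.leaf 0x2b60) (.leaf 0x5240)) (.node (.leaf 0x2582) (.leaf 0x0)))))) (.node (.node (.node (.node (.node (.leaf 0x231) (.leaf 0x2ce1)) (.node (.leaf 0x5554) (.leaf 0x58b8))) (.node (.node (.leaf 0x72c) (.leaf 0x585f)) (.node (.leaf 0x1d0f) (.leaf 0x6f64)))) (.node (.node (.node (.leaf 0x42fa) (.leaf 0x3b73)) (.node (.leaf 0x1607) (.leaf 0x65a2))) (.node (.node (.leaf 0xc19) (.leaf 0x5030)) (.node (.leaf 0x24bb) (.leaf 0x0))))) (.node (.node (.node (.node (.leaf 0x408) (.leaf 0x35d4)) (.node (.leaf 0x278e) (.leaf 0x604e))) (.node (.node (.leaf 0xe13) (.leaf 0x49fa)) (.node (.leaf 0x2224) (.leaf 0x74e0)))) (.node (.node (.node (.leaf 0x29ce) (.leaf 0x420f)) (.node (.leaf 0x194f) (.leaf 0x6c0d))) (.node (.node (.leaf 0x31b1) (.leaf 0x550a)) (.node (.leaf 0x2f94) (.leaf 0x0))))))) (.node (.node (.node (.node (.node (.node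 (.leaf 0x192) (.leaf 0x4fc1)) (.node (.leaf 0x19e1) (.leaf 0x56c8))) (.node (.node (.leaf 0x1d8d) (.leaf 0x4443)) (.node (.leaf 0x1bb7) (.leaf 0x6c68)))) (.node (.node (.node (.leaf 0x3d12) (.leaf 0x3854)) (.node (.leaf 0x156e) (.leaf 0x61b2))) (.node (.node (.leaf 0xa43) (.leaf 0x4cd4)) (.node (.leaf 0x53d5) (.leaf 0x761d))))) (.node (.node (.node (.node (.leaf 0xa88) (.leaf 0x326b)) (.node (.leaf 0x17af) (.leaf 0x5bbf))) (.node (.node (.leaf 0x12d2) (.leaf 0x489d)) (.node (.leaf 0x2c63) (.leaf 0x72f4)))) (.node (.node (.node (.leaf 0x73d) (.leaf 0x3d98)) (.node (.leaf 0x1851) (.leaf 0x68fc))) (.node (.node (.leaf 0x1891) (.leaf 0x5294)) (.node (.leaf 0x2541) (.leaf 0x0)))))) (.node (.node (.node (.node (.node (.leaf 0x50a) (.leaf 0x2d14)) (.node (.leaf 0x107f) (.leaf 0x59f1))) (.node (.node (.leaf 0x74a) (.leaf 0x470f)) (.node (.leaf 0x1ed9) (.leaf 0x6f5b)))) (.node (.node (.node (.leaf 0x3660) (.leaf 0x3ba9))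 (.node (.leaf 0x5eec) (.leaf 0x6512))) (.node (.node (.leaf 0xcb1) (.leaf 0x4fd2)) (.node (.leaf 0x23fc) (.leaf 0x0))))) (.node (.node (.node (.node (.leaf 0x542c) (.leaf 0x3754)) (.node (.leaf 0x66a7) (.leaf 0x600e))) (.node (.node (.leaf 0x352d) (.leaf 0x4b0e)) (.node (.leaf 0x223f) (.leaf 0x744b)))) (.node (.node (.node (.leaf 0x2d50) (.leaf 0x4290)) (.node (.leaf 0x19d9) (.leaf 0x6be4))) (.node (.node (.leaf 0x55e7) (.leaf 0x555d)) (.node (.leaf 0x274c) (.leaf 0x0))))))))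

/-- Closure. -/
def clo22 : FTree := (.node (.node (.node (.node (.node (.node (.node (.leaf 0x83) (.leaf 0x2b6e)) (.node (.leaf 0x5d9c) (.leaf 0x57a5))) (.node (.node (.leaf 0x2ea2) (.leaf 0x4361)) (.node (.leaf 0x5f72) (.leaf 0x6ced)))) (.node (.node (.node (.leaf 0x814) (.leaf 0x377e)) (.node (.leaf 0x1500) (.leaf 0x6eeb))) (.node (.node (.leaf 0xa82) (.leaf 0x4ccb)) (.node (.leaf 0x22aa) (.leaf 0x7564))))) (.node (.node (.node (.node (.leaf 0x29a) (.leaf 0x5d14)) (.node (.leaf 0x2ed6) (.leaf 0x5bdd))) (.node (.node (.leaf 0x130b) (.leaf 0x4842)) (.node (.leaf 0x1f26) (.leaf 0x72a9)))) (.node (.node (.node (.leaf 0x175f) (.leaf 0x3ecf)) (.node (.leaf 0x5ab5) (.leaf 0x69c3))) (.node (.node (.leaf 0xd10) (.leaf 0x5211)) (.node (.leaf 0x25ad) (.leaf 0x0)))))) (.node (.node (.node (.node (.node (.leaf 0x21f) (.leaf 0x2e89)) (.node (.leaf 0x2c7b) (.leaf 0x73d3))) (.node (.node (.leaf 0x718) (.leaf 0x4988)) (.node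 (.leaf 0x2c74) (.leaf 0x6fb7)))) (.node (.node (.node (.leaf 0xebd) (.leaf 0x3ab5)) (.node (.leaf 0x15ed) (.leaf 0x646b))) (.node (.node (.leaf 0x4a8c) (.leaf 0x4e93)) (.node (.leaf 0x24db) (.leaf 0x0))))) (.node (.node (.node (.node (.leaf 0x4f4d) (.leaf 0x3749)) (.node (.leaf 0x1367) (.leaf 0x5f07))) (.node (.node (.leaf 0xd54) (.leaf 0x4a86)) (.node (.leaf 0x2151) (.leaf 0x7389)))) (.node (.node (.node (.leaf 0x598) (.leaf 0x41bf)) (.node (.leaf 0x18cb) (.leaf 0x6b03))) (.node (.node (.leaf 0x6087) (.leaf 0x54bd)) (.node (.leaf 0x5b3b) (.leaf 0x0))))))) (.node (.node (.node (.node (.node (.node (.leaf 0x1b0) (.leaf 0x2dd1)) (.node (.leaf 0x1c25) (.leaf 0x6673))) (.node (.node (.leaf 0x694) (.leaf 0x4f89)) (.node (.leaf 0x1b4f) (.leaf 0x6d97)))) (.node (.node (.node (.leaf 0x3cfd) (.leaf 0x62cb)) (.node (.leaf 0x1e18) (.leaf 0x62e7))) (.node (.node (.leaf 0xaf1) (.leaf 0x4dce)) (.node (.leaf 0x22ff) (.leaf 0x76be)))))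 (.node (.node (.node (.node (.leaf 0x607) (.leaf 0x3524)) (.node (.leaf 0x2628) (.leaf 0x5bfb))) (.node (.node (.leaf 0x80f) (.leaf 0x4811)) (.node (.leaf 0x1fc0) (.leaf 0x7296)))) (.node (.node (.node (.leaf 0x1a6f) (.leaf 0x3dda)) (.node (.leaf 0x1b2d) (.leaf 0x686b))) (.node (.node (.leaf 0xd06) (.leaf 0x5202)) (.node (.leaf 0x2610) (.leaf 0x0)))))) (.node (.node (.node (.node (.node (.leaf 0x2c0) (.leaf 0x5793)) (.node (.leaf 0x10ed) (.leaf 0x596d))) (.node (.node (.leaf 0x4498) (.leaf 0x4500)) (.node (.leaf 0x2a8a) (.leaf 0x6ffc)))) (.node (.node (.node (.leaf 0x1450) (.leaf 0x3b5f)) (.node (.leaf 0x161a) (.leaf 0x6589))) (.node (.node (.leaf 0xbe6) (.leaf 0x4f1b)) (.node (.leaf 0x668e) (.leaf 0x0))))) (.node (.node (.node (.node (.leaf 0x315) (.leaf 0x4697)) (.node (.leaf 0x2701) (.leaf 0x604a))) (.node (.node (.leaf 0xb0c) (.leaf 0x4a8f)) (.node (.leaf 0x2f66) (.leaf 0x7369)))) (.node (.node (.node (.leaf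 0x8d5) (.leaf 0x452a)) (.node (.leaf 0x1934) (.leaf 0x6b31))) (.node (.node (.leaf 0x352b) (.leaf 0x5482)) (.node (.leaf 0x2b27) (.leaf 0x0))))))))

/-- Closure. -/
def clo23 : FTree := (.node (.node (.node (.node (.node (.node (.node (.leaf 0xef) (.leaf 0x2b58)) (.node (.leaf 0x1c20) (.leaf 0x5784))) (.node (.node (.leaf 0xddf) (.leaf 0x42d4)) (.node (.leaf 0x1ad1) (.leaf 0x6d43)))) (.node (.node (.node (.leaf 0x82f) (.leaf 0x45ec)) (.node (.leaf 0x329a) (.leaf 0x634f))) (.node (.node (.leaf 0x37c3) (.leaf 0x4dd4)) (.node (.leaf 0x308d) (.leaf 0x7692))))) (.node (.node (.node (.node (.leaf 0x2947) (.leaf 0x3215)) (.node (.leaf 0x2cd0) (.leaf 0x62e1))) (.node (.node (.leaf 0x1ba4) (.leaf 0x4826)) (.node (.leaf 0x201b) (.leaf 0x7224)))) (.node (.node (.node (.leaf 0x29df) (.leaf 0x3f8c)) (.node (.leaf 0x5518) (.leaf 0x699b))) (.node (.node (.leaf 0x2833) (.leaf 0x52d3)) (.node (.leaf 0x2600) (.leaf 0x0)))))) (.node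 (.node (.node (.node (.node (.leaf 0x2a5) (.leaf 0x2e7b)) (.node (.leaf 0x1104) (.leaf 0x5aa2))) (.node (.node (.leaf 0x744) (.leaf 0x4545)) (.node (.leaf 0x1cfa) (.leaf 0x6fb0)))) (.node (.node (.node (.leaf 0x474) (.leaf 0x3aa8)) (.node (.leaf 0x3e69) (.leaf 0x64e3))) (.node (.node (.leaf 0x3062) (.leaf 0x4e8b)) (.node (.leaf 0x3bbc) (.leaf 0x0))))) (.node (.node (.node (.node (.leaf 0xdfa) (.leaf 0x6803)) (.node (.leaf 0x5bfa) (.leaf 0x5feb))) (.node (.node (.leaf 0x96b) (.leaf 0x68a0)) (.node (.leaf 0x21b7) (.leaf 0x7394)))) (.node (.node (.node (.leaf 0x3a94) (.leaf 0x3ffa)) (.node (.leaf 0x191d) (.leaf 0x6aad))) (.node (.node (.leaf 0x5ce5) (.leaf 0x5584)) (.node (.leaf 0x2720) (.leaf 0x0))))))) (.node (.node (.node (.node (.node (.node (.leaf 0x1e1) (.leaf 0x2a46)) (.node (.leaf 0xf96) (.leaf 0x5690))) (.node (.node (.leaf 0x28aa) (.leaf 0x43bc)) (.node (.leaf 0x3483) (.leaf 0x6c54)))) (.node (.node (.node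 (.leaf 0x3d24) (.leaf 0x37b8)) (.node (.leaf 0x156a) (.leaf 0x6276))) (.node (.node (.leaf 0x2501) (.leaf 0x4e05)) (.node (.leaf 0x674f) (.leaf 0x7586))))) (.node (.node (.node (.node (.leaf 0x3dd) (.leaf 0x349d)) (.node (.leaf 0x1206) (.leaf 0x5c9e))) (.node (.node (.leaf 0x12d8) (.leaf 0x47a7)) (.node (.leaf 0x558a) (.leaf 0x729e)))) (.node (.node (.node (.leaf 0x1dbe) (.leaf 0x3da6)) (.node (.leaf 0x186d) (.leaf 0x682c))) (.node (.node (.leaf 0x1016) (.leaf 0x526e)) (.node (.leaf 0x255a) (.leaf 0x0)))))) (.node (.node (.node (.node (.node (.leaf 0x4cc) (.leaf 0x2f92)) (.node (.leaf 0x1ffd) (.leaf 0x5a8d))) (.node (.node (.leaf 0x5095) (.leaf 0x4579)) (.node (.leaf 0x4761) (.leaf 0x6fe0)))) (.node (.node (.node (.leaf 0x402) (.leaf 0x3ad3)) (.node (.leaf 0x15c6) (.leaf 0x6675))) (.node (.node (.leaf 0xcac) (.leaf 0x4ecf)) (.node (.leaf 0x2452) (.leaf 0x0))))) (.node (.node (.node (.node (.leaf 0x5430) (.leaf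 0x365b)) (.node (.leaf 0x2f04) (.leaf 0x5f15))) (.node (.node (.leaf 0xdbb) (.leaf 0x4bf5)) (.node (.leaf 0x212d) (.leaf 0x746c)))) (.node (.node (.node (.leaf 0x232a) (.leaf 0x4427)) (.node (.leaf 0x193c) (.leaf 0x6b2b))) (.node (.node (.leaf 0xe81) (.leaf 0x55b7)) (.node (.leaf 0x27cb) (.leaf 0x0))))))))

/-- Closure. -/
def clo24 : FTree := (.node (.node (.node (.node (.node (.node (.node (.leaf 0x27) (.leaf 0x2a07)) (.node (.leaf 0xf6c) (.leaf 0x576e))) (.node (.node (.leaf 0x20b4) (.leaf 0x6905)) (.node (.leaf 0x1b19) (.leaf 0x6d2a)))) (.node (.node (.node (.leaf 0x4683) (.leaf 0x3887)) (.node (.leaf 0x18b1) (.leaf 0x6372))) (.node (.node (.leaf 0x1b35) (.leaf 0x4ca9)) (.node (.leaf 0x2300) (.leaf 0x75c8))))) (.node (.node (.node (.node (.leaf 0x2fb2) (.leaf 0x60fc)) (.node (.leaf 0x11b4) (.leaf 0x5d88))) (.node (.node (.leaf 0x10cd) (.leaf 0x488d)) (.node (.leaf 0x1fb3) (.leaf 0x717b)))) (.node (.node (.node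 (.leaf 0x5bb9) (.leaf 0x3e46)) (.node (.leaf 0x410d) (.leaf 0x693c))) (.node (.node (.leaf 0x5472) (.leaf 0x51c6)) (.node (.leaf 0x43aa) (.leaf 0x0)))))) (.node (.node (.node (.node (.node (.leaf 0x2c9) (.leaf 0x2cd4)) (.node (.leaf 0x10fd) (.leaf 0x58c6))) (.node (.node (.leaf 0xa59) (.leaf 0x599a)) (.node (.leaf 0x1cb3) (.leaf 0x709c)))) (.node (.node (.node (.leaf 0x4379) (.leaf 0x3b49)) (.node (.leaf 0x33ee) (.leaf 0x65ab))) (.node (.node (.leaf 0x3077) (.leaf 0x4f5b)) (.node (.leaf 0x511d) (.leaf 0x0))))) (.node (.node (.node (.node (.leaf 0x5c96) (.leaf 0x5487)) (.node (.leaf 0x138d) (.leaf 0x5fd5))) (.node (.node (.leaf 0x21a8) (.leaf 0x4b60)) (.node (.leaf 0x2509) (.leaf 0x749a)))) (.node (.node (.node (.leaf 0x38f7) (.leaf 0x406e)) (.node (.leaf 0x3c1d) (.leaf 0x6a79))) (.node (.node (.leaf 0xe50) (.leaf 0x5545)) (.node (.leaf 0x291c) (.leaf 0x0))))))) (.node (.node (.node (.node (.node (.node (.leaf 0xfc)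 (.leaf 0x6204)) (.node (.leaf 0x57d4) (.leaf 0x69d0))) (.node (.node (.leaf 0x6bd) (.leaf 0x4485)) (.node (.leaf 0x1abd) (.leaf 0x6d0d)))) (.node (.node (.node (.leaf 0x467d) (.leaf 0x45f2)) (.node (.leaf 0x2bf7) (.leaf 0x61a3))) (.node (.node (.leaf 0xb71) (.leaf 0x4dcc)) (.node (.leaf 0x22b4) (.leaf 0x75af))))) (.node (.node (.node (.node (.leaf 0x268e) (.leaf 0x3557)) (.node (.leaf 0x1254) (.leaf 0x5c8c))) (.node (.node (.leaf 0x2c98) (.leaf 0x48fb)) (.node (.leaf 0x1f7c) (.leaf 0x72d5)))) (.node (.node (.node (.leaf 0x2da7) (.leaf 0x3dbd)) (.node (.leaf 0x1845) (.leaf 0x6927))) (.node (.node (.leaf 0x32ff) (.leaf 0x522e)) (.node (.leaf 0x311f) (.leaf 0x0)))))) (.node (.node (.node (.node (.node (.leaf 0x4e9) (.leaf 0x2ec4)) (.node (.leaf 0x2614) (.leaf 0x5993))) (.node (.node (.leaf 0x1064) (.leaf 0x4802)) (.node (.leaf 0x1d2d) (.leaf 0x707e)))) (.node (.node (.node (.leaf 0x11cf) (.leaf 0x3b21)) (.node (.leaf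 0x15de) (.leaf 0x6574))) (.node (.node (.leaf 0xc06) (.leaf 0x4fc2)) (.node (.leaf 0x5115) (.leaf 0x0))))) (.node (.node (.node (.node (.leaf 0x35d8) (.leaf 0x39eb)) (.node (.leaf 0x1370) (.leaf 0x5f99))) (.node (.node (.leaf 0x1bdb) (.leaf 0x4bff)) (.node (.leaf 0x20e7) (.leaf 0x744c)))) (.node (.node (.node (.leaf 0x2d55) (.leaf 0x40a8)) (.node (.leaf 0x194e) (.leaf 0x6bba))) (.node (.node (.leaf 0xe0c) (.leaf 0x5de2)) (.node (.leaf 0x4aca) (.leaf 0x0))))))))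

/-- Closure. -/
def clo25 : FTree := (.node (.node (.node (.node (.node (.node (.node (.leaf 0xf1) (.leaf 0x39d8)) (.node (.leaf 0xf54) (.leaf 0x5856))) (.node (.node (.leaf 0x2edf) (.leaf 0x4410)) (.node (.leaf 0x1bf2) (.leaf 0x6e94)))) (.node (.node (.node (.leaf 0x394) (.leaf 0x6e2b)) (.node (.leaf 0x4d58) (.leaf 0x6232))) (.node (.node (.leaf 0xb09) (.leaf 0x4dc1)) (.node (.leaf 0x2cf0) (.leaf 0x7653))))) (.node (.node (.node (.node (.leaf 0x610) (.leaf 0x34e7)) (.node (.leaf 0x2629) (.leaf 0x5db8))) (.node (.node (.leaf 0x890) (.leaf 0x4821)) (.node (.leaf 0x490c) (.leaf 0x725d)))) (.node (.node (.node (.leaf 0x1a70) (.leaf 0x3cd3)) (.node (.leaf 0x295f) (.leaf 0x66d2))) (.node (.node (.leaf 0x5d1e) (.leaf 0x514d)) (.node (.leaf 0x2627) (.leaf 0x0)))))) (.node (.node (.node (.node (.node (.leaf 0x7b3) (.leaf 0x2dad)) (.node (.leaf 0x122f) (.leaf 0x59cf))) (.node (.node (.leaf 0x4f62) (.leaf 0x472a)) (.node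 (.leaf 0x1d91) (.leaf 0x6fdf)))) (.node (.node (.node (.leaf 0x66f6) (.leaf 0x3b6c)) (.node (.leaf 0x1617) (.leaf 0x6694))) (.node (.node (.leaf 0x6a3d) (.leaf 0x4eba)) (.node (.leaf 0x2379) (.leaf 0x0))))) (.node (.node (.node (.node (.leaf 0x3026) (.leaf 0x35a2)) (.node (.leaf 0x3e59) (.leaf 0x6027))) (.node (.node (.leaf 0xb78) (.leaf 0x4af0)) (.node (.leaf 0x2161) (.leaf 0x7352)))) (.node (.node (.node (.leaf 0x669f) (.leaf 0x4195)) (.node (.leaf 0x2c8c) (.leaf 0x6bfe))) (.node (.node (.leaf 0xdc2) (.leaf 0x55e8)) (.node (.leaf 0x289b) (.leaf 0x0))))))) (.node (.node (.node (.node (.node (.node (.leaf 0x151) (.leaf 0x2a10)) (.node (.leaf 0x57cb) (.leaf 0x5874))) (.node (.node (.leaf 0x30bf) (.leaf 0x43fd)) (.node (.leaf 0x2b6d) (.leaf 0x6db0)))) (.node (.node (.node (.leaf 0x4669) (.leaf 0x3961)) (.node (.leaf 0x1460) (.leaf 0x636c))) (.node (.node (.leaf 0x321a) (.leaf 0x4daa)) (.node (.leaf 0x6638) (.leaf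 0x7616))))) (.node (.node (.node (.node (.leaf 0x1720) (.leaf 0x3349)) (.node (.leaf 0x2634) (.leaf 0x5d73))) (.node (.node (.leaf 0x1cc6) (.leaf 0x4924)) (.node (.leaf 0x2211) (.leaf 0x71a0)))) (.node (.node (.node (.leaf 0xcf2) (.leaf 0x3f7b)) (.node (.leaf 0x2355) (.leaf 0x686a))) (.node (.node (.leaf 0x4090) (.leaf 0x5316)) (.node (.leaf 0x2611) (.leaf 0x0)))))) (.node (.node (.node (.node (.node (.leaf 0x4da) (.leaf 0x2eff)) (.node (.leaf 0x288f) (.leaf 0x5946))) (.node (.node (.leaf 0x4c88) (.leaf 0x470a)) (.node (.leaf 0x3c43) (.leaf 0x6fd0)))) (.node (.node (.node (.leaf 0x6821) (.leaf 0x3b9b)) (.node (.leaf 0x3caa) (.leaf 0x67b0))) (.node (.node (.leaf 0x6176) (.leaf 0x4f95)) (.node (.leaf 0x23ec) (.leaf 0x0))))) (.node (.node (.node (.node (.leaf 0x3f9) (.leaf 0x36e9)) (.node (.leaf 0x26ba) (.leaf 0x5ef9))) (.node (.node (.leaf 0x97c) (.leaf 0x63f3)) (.node (.leaf 0x21a5) (.leaf 0x7382)))) (.node (.node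 (.node (.leaf 0x2856) (.leaf 0x4114)) (.node (.leaf 0x39b0) (.leaf 0x6abc))) (.node (.node (.leaf 0x34c7) (.leaf 0x5d0e)) (.node (.leaf 0x2858) (.leaf 0x0))))))))

/-- Closure. -/
def clo26 : FTree := (.node (.node (.node (.node (.node (.node (.node (.leaf 0x7a) (.leaf 0x2c5e)) (.node (.leaf 0xf3c) (.leaf 0x5664))) (.node (.node (.leaf 0x633) (.leaf 0x4340)) (.node (.leaf 0x355c) (.leaf 0x6e95)))) (.node (.node (.node (.leaf 0x7f7) (.leaf 0x3935)) (.node (.leaf 0x147d) (.leaf 0x623c))) (.node (.node (.leaf 0x67bc) (.leaf 0x4d20)) (.node (.leaf 0x53c8) (.leaf 0x770b))))) (.node (.node (.node (.node (.leaf 0x2d1f) (.leaf 0x5e45)) (.node (.leaf 0x46a6) (.leaf 0x5ed5))) (.node (.node (.leaf 0x4702) (.leaf 0x493e)) (.node (.leaf 0x2052) (.leaf 0x72aa)))) (.node (.node (.node (.leaf 0x902) (.leaf 0x3f9f)) (.node (.leaf 0x173b) (.leaf 0x66ce))) (.node (.node (.leaf 0x5cf1) (.leaf 0x51a2)) (.node (.leaf 0x311b) (.leaf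 0x0)))))) (.node (.node (.node (.node (.node (.leaf 0x235) (.leaf 0x54be)) (.node (.leaf 0x6d00) (.leaf 0x59c4))) (.node (.node (.leaf 0x4878) (.leaf 0x451c)) (.node (.leaf 0x1d9d) (.leaf 0x708d)))) (.node (.node (.node (.leaf 0x42d) (.leaf 0x3aee)) (.node (.leaf 0x15b4) (.leaf 0x654a))) (.node (.node (.leaf 0x618d) (.leaf 0x4f71)) (.node (.leaf 0x2369) (.leaf 0x0))))) (.node (.node (.node (.node (.leaf 0x49e0) (.leaf 0x35db)) (.node (.leaf 0x135a) (.leaf 0x5f2c))) (.node (.node (.leaf 0x98a) (.leaf 0x49eb)) (.node (.leaf 0x20fa) (.leaf 0x737b)))) (.node (.node (.node (.leaf 0x3b76) (.leaf 0x40d3)) (.node (.leaf 0x1916) (.leaf 0x6b0d))) (.node (.node (.leaf 0x332b) (.leaf 0x54ec)) (.node (.leaf 0x28a1) (.leaf 0x0))))))) (.node (.node (.node (.node (.node (.node (.leaf 0x178) (.leaf 0x29fe)) (.node (.leaf 0x5fb0) (.leaf 0x5719))) (.node (.node (.leaf 0x24fb) (.leaf 0x43e3)) (.node (.leaf 0x3347) (.leaf 0x6d84))))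 (.node (.node (.node (.leaf 0x4686) (.leaf 0x38a9)) (.node (.leaf 0x3450) (.leaf 0x62c6))) (.node (.node (.leaf 0x323f) (.leaf 0x4e14)) (.node (.leaf 0x2326) (.leaf 0x769a))))) (.node (.node (.node (.node (.leaf 0x2fb8) (.leaf 0x3490)) (.node (.leaf 0x1190) (.leaf 0x60ab))) (.node (.node (.leaf 0x1ba7) (.leaf 0x4820)) (.node (.leaf 0x1fdc) (.leaf 0x720d)))) (.node (.node (.node (.leaf 0x1a46) (.leaf 0x3db5)) (.node (.leaf 0x339f) (.leaf 0x68ef))) (.node (.node (.leaf 0x23d8) (.leaf 0x51f2)) (.node (.leaf 0x2668) (.leaf 0x0)))))) (.node (.node (.node (.node (.node (.leaf 0x2ab) (.leaf 0x2cda)) (.node (.leaf 0x17c5) (.leaf 0x58c4))) (.node (.node (.leaf 0x64a0) (.leaf 0x45f6)) (.node (.leaf 0x1ce8) (.leaf 0x6f9b)))) (.node (.node (.node (.leaf 0x400) (.leaf 0x3a8f)) (.node (.leaf 0x1978) (.leaf 0x6507))) (.node (.node (.leaf 0x3076) (.leaf 0x4ee7)) (.node (.leaf 0x248f) (.leaf 0x0))))) (.node (.node (.node (.node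 (.leaf 0x1b49) (.leaf 0x36f3)) (.node (.leaf 0x138b) (.leaf 0x5fd8))) (.node (.node (.leaf 0x9f9) (.leaf 0x4bae)) (.node (.leaf 0x2c10) (.leaf 0x7430)))) (.node (.node (.node (.leaf 0x66be) (.leaf 0x421d)) (.node (.leaf 0x1975) (.leaf 0x6b6d))) (.node (.node (.leaf 0x1fda) (.leaf 0x5504)) (.node (.leaf 0x27ed) (.leaf 0x0))))))))

/-- Closure. -/
def clo27 : FTree := (.node (.node (.node (.node (.node (.node (.node (.leaf 0xc0) (.leaf 0x2c35)) (.node (.leaf 0x19ea) (.leaf 0x69dd))) (.node (.node (.leaf 0x93c) (.leaf 0x4411)) (.node (.leaf 0x1b69) (.leaf 0x6c9a)))) (.node (.node (.node (.leaf 0x3d26) (.leaf 0x37a7)) (.node (.leaf 0x14b5) (.leaf 0x6370))) (.node (.node (.leaf 0x5ac9) (.leaf 0x69f5)) (.node (.leaf 0x619c) (.leaf 0x75de))))) (.node (.node (.node (.node (.leaf 0x3c8) (.leaf 0x3765)) (.node (.leaf 0x12ae) (.leaf 0x5e28))) (.node (.node (.leaf 0x3c0b) (.leaf 0x5e66)) (.node (.leaf 0x1fff) (.leaf 0x712c))))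 (.node (.node (.node (.leaf 0x1cf2) (.leaf 0x3e72)) (.node (.leaf 0x6dbc) (.leaf 0x67a9))) (.node (.node (.leaf 0x5eff) (.leaf 0x5306)) (.node (.leaf 0x2623) (.leaf 0x0)))))) (.node (.node (.node (.node (.node (.leaf 0x4b7) (.leaf 0x2d05)) (.node (.leaf 0x1028) (.leaf 0x5a8f))) (.node (.node (.leaf 0x6ce9) (.leaf 0x468c)) (.node (.leaf 0x1ec6) (.leaf 0x702b)))) (.node (.node (.node (.leaf 0x5b5a) (.leaf 0x3ac8)) (.node (.leaf 0x6f15) (.leaf 0x66de))) (.node (.node (.leaf 0xcb4) (.leaf 0x62b0)) (.node (.leaf 0x3c3f) (.leaf 0x0))))) (.node (.node (.node (.node (.leaf 0x376a) (.leaf 0x4b7b)) (.node (.leaf 0x4723) (.leaf 0x613d))) (.node (.node (.leaf 0x5681) (.leaf 0x5337)) (.node (.leaf 0x25c5) (.leaf 0x73db)))) (.node (.node (.node (.leaf 0x37ba) (.leaf 0x4136)) (.node (.leaf 0x2c4c) (.leaf 0x6ad5))) (.node (.node (.leaf 0x6a07) (.leaf 0x55a4)) (.node (.leaf 0x2731) (.leaf 0x0))))))) (.node (.node (.node (.node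 (.node (.node (.leaf 0x1be) (.leaf 0x2c49)) (.node (.leaf 0x2a7c) (.leaf 0x57ea))) (.node (.node (.leaf 0x5c3c) (.leaf 0x4301)) (.node (.leaf 0x28dc) (.leaf 0x6cbe)))) (.node (.node (.node (.leaf 0x13f7) (.leaf 0x38d8)) (.node (.leaf 0x151d) (.leaf 0x63d6))) (.node (.node (.leaf 0x4383) (.leaf 0x4d3e)) (.node (.leaf 0x2295) (.leaf 0x7718))))) (.node (.node (.node (.node (.leaf 0x12fc) (.leaf 0x340c)) (.node (.leaf 0x1238) (.leaf 0x5c7f))) (.node (.node (.leaf 0x6058) (.leaf 0x47e1)) (.node (.leaf 0x1fea) (.leaf 0x71c6)))) (.node (.node (.node (.leaf 0x1ddf) (.leaf 0x3f49)) (.node (.leaf 0x1824) (.leaf 0x67e7))) (.node (.node (.leaf 0x1952) (.leaf 0x5627)) (.node (.leaf 0x25ab) (.leaf 0x0)))))) (.node (.node (.node (.node (.node (.leaf 0x360) (.leaf 0x6718)) (.node (.leaf 0xfd2) (.leaf 0x58cc))) (.node (.node (.leaf 0x6d2) (.leaf 0x678f)) (.node (.leaf 0x1e2f) (.leaf 0x6fe3)))) (.node (.node (.node (.leaf 0x27f1)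 (.leaf 0x3b72)) (.node (.leaf 0x33ec) (.leaf 0x63f8))) (.node (.node (.leaf 0xc2c) (.leaf 0x4e6f)) (.node (.leaf 0x2479) (.leaf 0x0))))) (.node (.node (.node (.node (.leaf 0xaea) (.leaf 0x36ac)) (.node (.leaf 0x1406) (.leaf 0x608e))) (.node (.node (.leaf 0x3460) (.leaf 0x4a02)) (.node (.leaf 0x5537) (.leaf 0x74dc)))) (.node (.node (.node (.leaf 0x5a3) (.leaf 0x4071)) (.node (.leaf 0x1986) (.leaf 0x6b46))) (.node (.node (.leaf 0xdcc) (.leaf 0x5abf)) (.node (.leaf 0x28fd) (.leaf 0x0))))))))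

/-- Closure. -/
def clo28 : FTree := (.node (.node (.node (.node (.node (.node (.node (.leaf 0x6b) (.leaf 0x6d0c)) (.node (.leaf 0x10ae) (.leaf 0x5870))) (.node (.node (.leaf 0x5c72) (.leaf 0x4495)) (.node (.leaf 0x3506) (.leaf 0x6d4e)))) (.node (.node (.node (.leaf 0x1719) (.leaf 0x37b3)) (.node (.leaf 0x1a91) (.leaf 0x6254))) (.node (.node (.leaf 0x2c7f) (.leaf 0x4d39)) (.node (.leaf 0x6e46) (.leaf 0x752f))))) (.node (.node (.node (.node (.leaf 0x3da) (.leaf 0x3405)) (.node (.leaf 0x1968) (.leaf 0x5cb9))) (.node (.node (.leaf 0x876) (.leaf 0x482b)) (.node (.leaf 0x1f8e) (.leaf 0x7304)))) (.node (.node (.node (.leaf 0x4e31) (.leaf 0x3d48)) (.node (.leaf 0x4fec) (.leaf 0x676a))) (.node (.node (.leaf 0x65db) (.leaf 0x517a)) (.node (.leaf 0x267c) (.leaf 0x0)))))) (.node (.node (.node (.node (.node (.leaf 0x7c4) (.leaf 0x2dae)) (.node (.leaf 0x3859) (.leaf 0x5968))) (.node (.node (.leaf 0x108e) (.leaf 0x4c76)) (.node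 (.leaf 0x392e) (.leaf 0x7036)))) (.node (.node (.node (.leaf 0x3825) (.leaf 0x3b5e)) (.node (.leaf 0x1f9d) (.leaf 0x646c))) (.node (.node (.leaf 0x6441) (.leaf 0x503d)) (.node (.leaf 0x2f9a) (.leaf 0x0))))) (.node (.node (.node (.node (.leaf 0x3140) (.leaf 0x36ab)) (.node (.leaf 0x141a) (.leaf 0x6007))) (.node (.node (.leaf 0x9b5) (.leaf 0x4a0b)) (.node (.leaf 0x210a) (.leaf 0x74ac)))) (.node (.node (.node (.leaf 0x669e) (.leaf 0x448e)) (.node (.leaf 0x1e87) (.leaf 0x6bfd))) (.node (.node (.leaf 0x69f1) (.leaf 0x55ac)) (.node (.leaf 0x27a8) (.leaf 0x0))))))) (.node (.node (.node (.node (.node (.node (.leaf 0x131) (.leaf 0x322c)) (.node (.leaf 0x2607) (.leaf 0x57b8))) (.node (.node (.leaf 0x9be) (.leaf 0x43a4)) (.node (.leaf 0x1da1) (.leaf 0x6ed4)))) (.node (.node (.node (.leaf 0x1caf) (.leaf 0x37ad)) (.node (.leaf 0x50f4) (.leaf 0x63b7))) (.node (.node (.leaf 0xb37) (.leaf 0x4c9f)) (.node (.leaf 0x674c) (.leaf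 0x7716))))) (.node (.node (.node (.node (.leaf 0x8e7) (.leaf 0x3253)) (.node (.leaf 0x11d8) (.leaf 0x663a))) (.node (.node (.leaf 0x324a) (.leaf 0x47d6)) (.node (.leaf 0x1f62) (.leaf 0x718f)))) (.node (.node (.node (.leaf 0x3147) (.leaf 0x3d92)) (.node (.leaf 0x1797) (.leaf 0x6845))) (.node (.node (.leaf 0xd53) (.leaf 0x52ef)) (.node (.leaf 0x25a9) (.leaf 0x0)))))) (.node (.node (.node (.node (.node (.leaf 0xef0) (.leaf 0x3916)) (.node (.leaf 0x1116) (.leaf 0x5961))) (.node (.node (.leaf 0x16a6) (.leaf 0x4538)) (.node (.leaf 0x5c5a) (.leaf 0x706d)))) (.node (.node (.node (.leaf 0x27c9) (.leaf 0x3a82)) (.node (.leaf 0x3e67) (.leaf 0x6407))) (.node (.node (.leaf 0x306d) (.leaf 0x5127)) (.node (.leaf 0x242e) (.leaf 0x0))))) (.node (.node (.node (.node (.leaf 0x64a) (.leaf 0x641c)) (.node (.leaf 0x1d5c) (.leaf 0x6233))) (.node (.node (.leaf 0x1ea7) (.leaf 0x4b5a)) (.node (.leaf 0x20f1) (.leaf 0x74ad)))) (.node (.node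 (.node (.leaf 0x1894) (.leaf 0x421b)) (.node (.leaf 0x5079) (.leaf 0x6abe))) (.node (.node (.leaf 0xeb0) (.leaf 0x5555)) (.node (.leaf 0x283d) (.leaf 0x0))))))))

/-- Closure. -/
def clo29 : FTree := (.node (.node (.node (.node (.node (.node (.node (.leaf 0xa7) (.leaf 0x2b59)) (.node (.leaf 0x1c35) (.leaf 0x5882))) (.node (.node (.leaf 0x62c7) (.leaf 0x611b)) (.node (.leaf 0x66fd) (.leaf 0x6e1e)))) (.node (.node (.node (.leaf 0x1c97) (.leaf 0x385b)) (.node (.leaf 0x155f) (.leaf 0x62d3))) (.node (.node (.leaf 0xac8) (.leaf 0x4c84)) (.node (.leaf 0x230b) (.leaf 0x75ba))))) (.node (.node (.node (.node (.leaf 0x2a68) (.leaf 0x338c)) (.node (.leaf 0x28bb) (.leaf 0x5dcd))) (.node (.node (.leaf 0x3a0a) (.leaf 0x48d1)) (.node (.leaf 0x1fd6) (.leaf 0x72c6)))) (.node (.node (.node (.leaf 0xadf) (.leaf 0x3d63)) (.node (.leaf 0x1c51) (.leaf 0x678a))) (.node (.node (.leaf 0x312c) (.leaf 0x5209)) (.node (.leaf 0x2681) (.leaf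 0x0)))))) (.node (.node (.node (.node (.node (.leaf 0x2d8) (.leaf 0x2e81)) (.node (.leaf 0x40e5) (.leaf 0x59f2))) (.node (.node (.leaf 0x4483) (.leaf 0x45ce)) (.node (.leaf 0x2808) (.leaf 0x6f9f)))) (.node (.node (.node (.leaf 0x6cc) (.leaf 0x3b4a)) (.node (.leaf 0x1679) (.leaf 0x661d))) (.node (.node (.leaf 0xc3b) (.leaf 0x5094)) (.node (.leaf 0x235e) (.leaf 0x0))))) (.node (.node (.node (.node (.leaf 0x3d4) (.leaf 0x368e)) (.node (.leaf 0x6888) (.leaf 0x6066))) (.node (.node (.leaf 0x2a3a) (.leaf 0x63fd)) (.node (.leaf 0x210b) (.leaf 0x7463)))) (.node (.node (.node (.leaf 0x5dc) (.leaf 0x4529)) (.node (.leaf 0x5073) (.leaf 0x6bc3))) (.node (.node (.leaf 0x1d84) (.leaf 0x53c2)) (.node (.leaf 0x2911) (.leaf 0x0))))))) (.node (.node (.node (.node (.node (.node (.leaf 0x1a0) (.leaf 0x3234)) (.node (.leaf 0x1c2c) (.leaf 0x5772))) (.node (.node (.leaf 0xb32) (.leaf 0x42f3)) (.node (.leaf 0x1bbd) (.leaf 0x6c6a)))) (.node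 (.node (.node (.leaf 0x1c91) (.leaf 0x382a)) (.node (.leaf 0x3fe4) (.leaf 0x6ee7))) (.node (.node (.leaf 0x3add) (.leaf 0x4cdf)) (.node (.leaf 0x22e3) (.leaf 0x767f))))) (.node (.node (.node (.node (.leaf 0x373c) (.leaf 0x6033)) (.node (.leaf 0x35a4) (.leaf 0x5ebc))) (.node (.node (.leaf 0x1165) (.leaf 0x482a)) (.node (.leaf 0x208c) (.leaf 0x730f)))) (.node (.node (.node (.leaf 0x1e2d) (.leaf 0x3faa)) (.node (.leaf 0x17fb) (.leaf 0x6932))) (.node (.node (.leaf 0x4f05) (.leaf 0x52e4)) (.node (.leaf 0x2646) (.leaf 0x0)))))) (.node (.node (.node (.node (.node (.leaf 0x2fa) (.leaf 0x2d8e)) (.node (.leaf 0x1996) (.leaf 0x5931))) (.node (.node (.leaf 0x9b4) (.leaf 0x461a)) (.node (.leaf 0x1dff) (.leaf 0x6f75)))) (.node (.node (.node (.leaf 0xfcc) (.leaf 0x3b6d)) (.node (.leaf 0x162d) (.leaf 0x6662))) (.node (.node (.leaf 0x6161) (.leaf 0x4f2f)) (.node (.leaf 0x3e3f) (.leaf 0x0))))) (.node (.node (.node (.node (.leaf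 0x5ba7) (.leaf 0x35d2)) (.node (.leaf 0x1426) (.leaf 0x6077))) (.node (.node (.leaf 0xd23) (.leaf 0x4a26)) (.node (.leaf 0x210f) (.leaf 0x7372)))) (.node (.node (.node (.leaf 0x5410) (.leaf 0x40a9)) (.node (.leaf 0x1902) (.leaf 0x6b3a))) (.node (.node (.leaf 0x68ac) (.leaf 0x53a0)) (.node (.leaf 0x44c2) (.leaf 0x0))))))))

/-- Closure. -/
def clo30 : FTree := (.node (.node (.node (.node (.node (.node (.node (.leaf 0x7b) (.leaf 0x2b83)) (.node (.leaf 0xf46) (.leaf 0x576a))) (.node (.node (.leaf 0x33bc) (.leaf 0x4359)) (.node (.leaf 0x4d40) (.leaf 0x6d1c)))) (.node (.node (.node (.leaf 0x7fa) (.leaf 0x627d)) (.node (.leaf 0x14e2) (.leaf 0x620c))) (.node (.node (.leaf 0x6846) (.leaf 0x6ec1)) (.node (.leaf 0x2cdd) (.leaf 0x7576))))) (.node (.node (.node (.node (.leaf 0x299) (.leaf 0x30f2)) (.node (.leaf 0x2ed5) (.leaf 0x5db1))) (.node (.node (.leaf 0x1eb1) (.leaf 0x4945)) (.node (.leaf 0x24f6) (.leaf 0x7201)))) (.node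 (.node (.node (.leaf 0x1761) (.leaf 0x3d94)) (.node (.leaf 0x26a2) (.leaf 0x6995))) (.node (.node (.leaf 0x312e) (.leaf 0x51b4)) (.node (.leaf 0x2660) (.leaf 0x0)))))) (.node (.node (.node (.node (.node (.leaf 0x23e) (.leaf 0x2cd1)) (.node (.leaf 0xfbe) (.leaf 0x58d0))) (.node (.node (.leaf 0x4b20) (.leaf 0x45cd)) (.node (.leaf 0x1cfe) (.leaf 0x6fd9)))) (.node (.node (.node (.leaf 0x2826) (.leaf 0x3af3)) (.node (.leaf 0x1676) (.leaf 0x63fe))) (.node (.node (.leaf 0xbfb) (.leaf 0x508b)) (.node (.leaf 0x23a7) (.leaf 0x0))))) (.node (.node (.node (.node (.leaf 0x1cb6) (.leaf 0x6802)) (.node (.leaf 0x1585) (.leaf 0x6b3f))) (.node (.node (.leaf 0x1e06) (.leaf 0x4a70)) (.node (.leaf 0x2167) (.leaf 0x7436)))) (.node (.node (.node (.leaf 0x5a8) (.leaf 0x4193)) (.node (.leaf 0x3c23) (.leaf 0x6ad1))) (.node (.node (.leaf 0x57b1) (.leaf 0x672b)) (.node (.leaf 0x2732) (.leaf 0x0))))))) (.node (.node (.node (.node (.node (.node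 (.leaf 0x165) (.leaf 0x2a31)) (.node (.leaf 0xf14) (.leaf 0x5692))) (.node (.node (.leaf 0xdd2) (.leaf 0x42b9)) (.node (.leaf 0x1a4b) (.leaf 0x6d1a)))) (.node (.node (.node (.leaf 0x812) (.leaf 0x3817)) (.node (.leaf 0x1531) (.leaf 0x626a))) (.node (.node (.leaf 0x1a72) (.leaf 0x4d9f)) (.node (.leaf 0x2289) (.leaf 0x75ed))))) (.node (.node (.node (.node (.leaf 0x580) (.leaf 0x2ff2)) (.node (.leaf 0x11c0) (.leaf 0x5b65))) (.node (.node (.leaf 0x852) (.leaf 0x492b)) (.node (.leaf 0x20a6) (.leaf 0x72a0)))) (.node (.node (.node (.leaf 0x273f) (.leaf 0x3fb1)) (.node (.leaf 0x1777) (.leaf 0x67fa))) (.node (.node (.leaf 0x312d) (.leaf 0x5179)) (.node (.leaf 0x2658) (.leaf 0x0)))))) (.node (.node (.node (.node (.node (.leaf 0x203) (.leaf 0x2f5e)) (.node (.leaf 0x40e4) (.leaf 0x58c1))) (.node (.node (.leaf 0x123a) (.leaf 0x4522)) (.node (.leaf 0x1ce7) (.leaf 0x70b0)))) (.node (.node (.node (.leaf 0x42c) (.leaf 0x39de))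 (.node (.leaf 0x16f0) (.leaf 0x64a2))) (.node (.node (.leaf 0xc21) (.leaf 0x5087)) (.node (.leaf 0x2330) (.leaf 0x0))))) (.node (.node (.node (.node (.leaf 0x558) (.leaf 0x3701)) (.node (.leaf 0x4a29) (.leaf 0x6082))) (.node (.node (.leaf 0x3480) (.leaf 0x49ce)) (.node (.leaf 0x2c17) (.leaf 0x7408)))) (.node (.node (.node (.leaf 0x578) (.leaf 0x4205)) (.node (.leaf 0x18ba) (.leaf 0x6ad9))) (.node (.node (.leaf 0xfed) (.leaf 0x5327)) (.node (.leaf 0x300b) (.leaf 0x0))))))))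

/-- Closure. -/
def clo31 : FTree := (.node (.node (.node (.node (.node (.node (.node (.leaf 0x176) (.leaf 0x2abb)) (.node (.leaf 0x5d8c) (.leaf 0x57d5))) (.node (.node (.leaf 0x95d) (.leaf 0x510c)) (.node (.leaf 0x1b37) (.leaf 0x6d05)))) (.node (.node (.node (.leaf 0x387) (.leaf 0x39a7)) (.node (.leaf 0x14b2) (.leaf 0x636d))) (.node (.node (.leaf 0xa6d) (.leaf 0x5ec2)) (.node (.leaf 0x309d) (.leaf 0x7577))))) (.node (.node (.node (.node (.leaf 0x410) (.leaf 0x3136)) (.node (.leaf 0x1792) (.leaf 0x5ae2))) (.node (.node (.leaf 0x1eb2) (.leaf 0x5711)) (.node (.leaf 0x1f38) (.leaf 0x7188)))) (.node (.node (.node (.leaf 0x982) (.leaf 0x3e91)) (.node (.leaf 0x1776) (.leaf 0x69a0))) (.node (.node (.leaf 0xd42) (.leaf 0x74e9)) (.node (.leaf 0x25dd) (.leaf 0x0)))))) (.node (.node (.node (.node (.node (.leaf 0x24f) (.leaf 0x2ee4)) (.node (.leaf 0x335e) (.leaf 0x59bc))) (.node (.node (.leaf 0xe2c) (.leaf 0x468f)) (.node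 (.leaf 0x5896) (.leaf 0x6fbb)))) (.node (.node (.node (.leaf 0x8ef) (.leaf 0x3b52)) (.node (.leaf 0x46e0) (.leaf 0x6568))) (.node (.node (.leaf 0xbf7) (.leaf 0x4f29)) (.node (.leaf 0x23e3) (.leaf 0x0))))) (.node (.node (.node (.node (.leaf 0x1cbb) (.leaf 0x367d)) (.node (.leaf 0x26ff) (.leaf 0x60ce))) (.node (.node (.leaf 0x2f13) (.leaf 0x4b82)) (.node (.leaf 0x2203) (.leaf 0x745d)))) (.node (.node (.node (.leaf 0x27b3) (.leaf 0x4165)) (.node (.leaf 0x18d2) (.leaf 0x6abb))) (.node (.node (.leaf 0x1b14) (.leaf 0x5abc)) (.node (.leaf 0x614f) (.leaf 0x0))))))) (.node (.node (.node (.node (.node (.node (.leaf 0x0) (.leaf 0x0)) (.node (.leaf 0x0) (.leaf 0x0))) (.node (.node (.leaf 0x0) (.leaf 0x0)) (.node (.leaf 0x0) (.leaf 0x0)))) (.node (.node (.node (.leaf 0x0) (.leaf 0x0)) (.node (.leaf 0x0) (.leaf 0x0))) (.node (.node (.leaf 0x0) (.leaf 0x0)) (.node (.leaf 0x0) (.leaf 0x0))))) (.node (.node (.node (.node (.leaf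 0x0) (.leaf 0x0)) (.node (.leaf 0x0) (.leaf 0x0))) (.node (.node (.leaf 0x0) (.leaf 0x0)) (.node (.leaf 0x0) (.leaf 0x0)))) (.node (.node (.node (.leaf 0x0) (.leaf 0x0)) (.node (.leaf 0x0) (.leaf 0x0))) (.node (.node (.leaf 0x0) (.leaf 0x0)) (.node (.leaf 0x0) (.leaf 0x0)))))) (.node (.node (.node (.node (.node (.leaf 0x0) (.leaf 0x0)) (.node (.leaf 0x0) (.leaf 0x0))) (.node (.node (.leaf 0x0) (.leaf 0x0)) (.node (.leaf 0x0) (.leaf 0x0)))) (.node (.node (.node (.leaf 0x0) (.leaf 0x0)) (.node (.leaf 0x0) (.leaf 0x0))) (.node (.node (.leaf 0x0) (.leaf 0x0)) (.node (.leaf 0x0) (.leaf 0x0))))) (.node (.node (.node (.node (.leaf 0x0) (.leaf 0x0)) (.node (.leaf 0x0) (.leaf 0x0))) (.node (.node (.leaf 0x0) (.leaf 0x0)) (.node (.leaf 0x0) (.leaf 0x0)))) (.node (.node (.node (.leaf 0x0) (.leaf 0x0)) (.node (.leaf 0x0) (.leaf 0x0))) (.node (.node (.leaf 0x0) (.leaf 0x0)) (.node (.leaf 0x0) (.leaf 0x0))))))))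

/-- Closure. -/
def clo32 : FTree := (.node (.node (.node (.node (.node (.node (.node (.leaf 0xc) (.leaf 0x2aa3)) (.node (.leaf 0x50e5) (.leaf 0x5705))) (.node (.node (.leaf 0x4212) (.leaf 0x5e70)) (.node (.leaf 0x1b31) (.leaf 0x6d02)))) (.node (.node (.node (.leaf 0x38d) (.leaf 0x5c9c)) (.node (.leaf 0x1458) (.leaf 0x636f))) (.node (.node (.leaf 0x269e) (.leaf 0x4e07)) (.node (.leaf 0x53d0) (.leaf 0x7646))))) (.node (.node (.node (.node (.leaf 0x614) (.leaf 0x3114)) (.node (.leaf 0x12e5) (.leaf 0x5b8a))) (.node (.node (.leaf 0x4204) (.leaf 0x4993)) (.node (.leaf 0x1ff9) (.leaf 0x7216)))) (.node (.node (.node (.leaf 0x8f3) (.leaf 0x3e45)) (.node (.leaf 0x236e) (.leaf 0x69f6))) (.node (.node (.leaf 0x5d53) (.leaf 0x52dd)) (.node (.leaf 0x43ac) (.leaf 0x0)))))) (.node (.node (.node (.node (.node (.leaf 0x764) (.leaf 0x2d09)) (.node (.leaf 0x1051) (.leaf 0x59d5))) (.node (.node (.leaf 0x2f89) (.leaf 0x5998)) (.node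 (.leaf 0x1e37) (.leaf 0x700f)))) (.node (.node (.node (.leaf 0x3109) (.leaf 0x39f4)) (.node (.leaf 0x3cac) (.leaf 0x65b8))) (.node (.node (.leaf 0xc81) (.leaf 0x4fc0)) (.node (.leaf 0x2441) (.leaf 0x0))))) (.node (.node (.node (.node (.leaf 0xb94) (.leaf 0x6805)) (.node (.leaf 0x278b) (.leaf 0x6107))) (.node (.node (.leaf 0x28c8) (.leaf 0x4ab2)) (.node (.leaf 0x2208) (.leaf 0x7345)))) (.node (.node (.node (.leaf 0x3213) (.leaf 0x423e)) (.node (.leaf 0x1982) (.leaf 0x6a87))) (.node (.node (.leaf 0x5b67) (.leaf 0x54bb)) (.node (.leaf 0x3871) (.leaf 0x0))))))) (.node (.node (.node (.node (.node (.node (.leaf 0x17a) (.leaf 0x2c88)) (.node (.leaf 0x3166) (.leaf 0x5675))) (.node (.node (.leaf 0x2afd) (.leaf 0x4424)) (.node (.leaf 0x1ae6) (.leaf 0x6ecf)))) (.node (.node (.node (.leaf 0x2df8) (.leaf 0x400e)) (.node (.leaf 0x14f5) (.leaf 0x63cc))) (.node (.node (.leaf 0xb52) (.leaf 0x4cad)) (.node (.leaf 0x30a1) (.leaf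 0x75b0))))) (.node (.node (.node (.node (.leaf 0x1300) (.leaf 0x34f7)) (.node (.leaf 0x11cd) (.leaf 0x5ac2))) (.node (.node (.leaf 0x29e7) (.leaf 0x486e)) (.node (.leaf 0x203e) (.leaf 0x71cf)))) (.node (.node (.node (.leaf 0x9a2) (.leaf 0x3f14)) (.node (.leaf 0x1fd3) (.leaf 0x67e8))) (.node (.node (.leaf 0x1017) (.leaf 0x51da)) (.node (.leaf 0x2760) (.leaf 0x0)))))) (.node (.node (.node (.node (.node (.leaf 0x2c1) (.leaf 0x2daf)) (.node (.leaf 0x221f) (.leaf 0x5a61))) (.node (.node (.leaf 0x3fd0) (.leaf 0x4594)) (.node (.leaf 0x3c81) (.leaf 0x70d7)))) (.node (.node (.node (.leaf 0x603) (.leaf 0x3ab9)) (.node (.leaf 0x15dd) (.leaf 0x6561))) (.node (.node (.leaf 0x3589) (.leaf 0x4f0a)) (.node (.leaf 0x23bc) (.leaf 0x0))))) (.node (.node (.node (.node (.leaf 0x5c2) (.leaf 0x3687)) (.node (.leaf 0x137a) (.leaf 0x5f9b))) (.node (.node (.leaf 0xb75) (.leaf 0x4bc9)) (.node (.leaf 0x20be) (.leaf 0x7356)))) (.node (.node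 (.node (.leaf 0xa63) (.leaf 0x41c0)) (.node (.leaf 0x5dfe) (.leaf 0x6b44))) (.node (.node (.leaf 0x271a) (.leaf 0x53c0)) (.node (.leaf 0x325b) (.leaf 0x0))))))))

/-- Closure. -/
def clo33 : FTree := (.node (.node (.node (.node (.node (.node (.node (.leaf 0x55) (.leaf 0x2bd0)) (.node (.leaf 0x16fc) (.leaf 0x57b7))) (.node (.node (.leaf 0x69a) (.leaf 0x448f)) (.node (.leaf 0x1c53) (.leaf 0x6dad)))) (.node (.node (.node (.leaf 0x171b) (.leaf 0x3885)) (.node (.leaf 0x1533) (.leaf 0x62d6))) (.node (.node (.leaf 0x282a) (.leaf 0x4e23)) (.node (.leaf 0x41d9) (.leaf 0x76a3))))) (.node (.node (.node (.node (.leaf 0x1c70) (.leaf 0x3561)) (.node (.leaf 0x1233) (.leaf 0x5e21))) (.node (.node (.leaf 0x4a4a) (.leaf 0x4902)) (.node (.leaf 0x2046) (.leaf 0x72f6)))) (.node (.node (.node (.leaf 0x2dcc) (.leaf 0x3f4d)) (.node (.leaf 0x180b) (.leaf 0x69a4))) (.node (.node (.leaf 0xcbf) (.leaf 0x513d)) (.node (.leaf 0x2bff) (.leaf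 0x0)))))) (.node (.node (.node (.node (.node (.leaf 0xbb2) (.leaf 0x2d66)) (.node (.leaf 0x1011) (.leaf 0x58e5))) (.node (.node (.leaf 0x401c) (.leaf 0x474a)) (.node (.leaf 0x4200) (.leaf 0x6f1a)))) (.node (.node (.node (.leaf 0x668) (.leaf 0x6d29)) (.node (.leaf 0x1629) (.leaf 0x65cf))) (.node (.node (.leaf 0xc4a) (.leaf 0x4fad)) (.node (.leaf 0x2f99) (.leaf 0x0))))) (.node (.node (.node (.node (.leaf 0x6a0d) (.leaf 0x35f4)) (.node (.leaf 0x5bec) (.leaf 0x607b))) (.node (.node (.leaf 0x100c) (.leaf 0x49fb)) (.node (.leaf 0x425c) (.leaf 0x7474)))) (.node (.node (.node (.leaf 0x5db) (.leaf 0x5f5f)) (.node (.leaf 0x1a3b) (.leaf 0x6bd2))) (.node (.node (.leaf 0x69be) (.leaf 0x553f)) (.node (.leaf 0x6939) (.leaf 0x0))))))) (.node (.node (.node (.node (.node (.node (.leaf 0x196) (.leaf 0x31d0)) (.node (.leaf 0xf08) (.leaf 0x567e))) (.node (.node (.leaf 0xdb6) (.leaf 0x42f1)) (.node (.leaf 0x1a56) (.leaf 0x6cfd)))) (.node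 (.node (.node (.leaf 0x51a) (.leaf 0x38ca)) (.node (.leaf 0x1547) (.leaf 0x629f))) (.node (.node (.leaf 0x1534) (.leaf 0x4dad)) (.node (.leaf 0x2cf5) (.leaf 0x76ce))))) (.node (.node (.node (.node (.leaf 0x30f) (.leaf 0x2fe2)) (.node (.leaf 0x2a26) (.leaf 0x5e98))) (.node (.node (.leaf 0x7fc) (.leaf 0x48e1)) (.node (.leaf 0x2064) (.leaf 0x7176)))) (.node (.node (.node (.leaf 0x2773) (.leaf 0x3d96)) (.node (.leaf 0x2d8b) (.leaf 0x689c))) (.node (.node (.leaf 0x1d41) (.leaf 0x5164)) (.node (.leaf 0x2671) (.leaf 0x0)))))) (.node (.node (.node (.node (.node (.leaf 0x216) (.leaf 0x2f68)) (.node (.leaf 0x3365) (.leaf 0x5899))) (.node (.node (.leaf 0x11e7) (.leaf 0x44c9)) (.node (.leaf 0x301b) (.leaf 0x6fb3)))) (.node (.node (.node (.leaf 0x300d) (.leaf 0x49d8)) (.node (.leaf 0x163c) (.leaf 0x6575))) (.node (.node (.leaf 0xbec) (.leaf 0x501d)) (.node (.leaf 0x3a19) (.leaf 0x0))))) (.node (.node (.node (.node (.leaf 0x316)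 (.leaf 0x389b)) (.node (.leaf 0x1738) (.leaf 0x6075))) (.node (.node (.leaf 0x1a7e) (.leaf 0x4a1d)) (.node (.leaf 0x2124) (.leaf 0x7414)))) (.node (.node (.node (.leaf 0x80b) (.leaf 0x40bb)) (.node (.leaf 0x1e39) (.leaf 0x6b9c))) (.node (.node (.leaf 0xe7e) (.leaf 0x5342)) (.node (.leaf 0x26eb) (.leaf 0x0))))))))

/-- Closure. -/
def clo34 : FTree := (.node (.node (.node (.node (.node (.node (.node (.leaf 0x7e) (.leaf 0x2f47)) (.node (.leaf 0x10b9) (.leaf 0x57af))) (.node (.node (.leaf 0x54ae) (.leaf 0x442c)) (.node (.leaf 0x1a7a) (.leaf 0x6de4)))) (.node (.node (.node (.leaf 0x552) (.leaf 0x3913)) (.node (.leaf 0x1548) (.leaf 0x626c))) (.node (.node (.leaf 0x1780) (.leaf 0x4d85)) (.node (.leaf 0x2391) (.leaf 0x7690))))) (.node (.node (.node (.node (.leaf 0x857) (.leaf 0x31c3)) (.node (.leaf 0x388d) (.leaf 0x5cc3))) (.node (.node (.leaf 0x10cc) (.leaf 0x49ba)) (.node (.leaf 0x24e6) (.leaf 0x7246)))) (.node (.node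 (.node (.leaf 0x490) (.leaf 0x3e79)) (.node (.leaf 0x1770) (.leaf 0x6822))) (.node (.node (.leaf 0x4f04) (.leaf 0x528c)) (.node (.leaf 0x262a) (.leaf 0x0)))))) (.node (.node (.node (.node (.node (.leaf 0x7b7) (.leaf 0x6081)) (.node (.leaf 0x122e) (.leaf 0x59a5))) (.node (.node (.leaf 0x41b9) (.leaf 0x46d0)) (.node (.leaf 0x1db6) (.leaf 0x7078)))) (.node (.node (.node (.leaf 0x1196) (.leaf 0x3b05)) (.node (.leaf 0x1630) (.leaf 0x6475))) (.node (.node (.leaf 0x3075) (.leaf 0x4f39)) (.node (.leaf 0x4505) (.leaf 0x0))))) (.node (.node (.node (.node (.leaf 0x93a) (.leaf 0x3699)) (.node (.leaf 0x1429) (.leaf 0x5fe7))) (.node (.node (.leaf 0x10da) (.leaf 0x4ae0)) (.node (.leaf 0x2c15) (.leaf 0x7423)))) (.node (.node (.node (.leaf 0x627) (.leaf 0x731c)) (.node (.leaf 0x191c) (.leaf 0x6c08))) (.node (.node (.leaf 0x1cfb) (.leaf 0x6658)) (.node (.leaf 0x280a) (.leaf 0x0))))))) (.node (.node (.node (.node (.node (.node (.leaf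 0x198) (.leaf 0x29e1)) (.node (.leaf 0xf01) (.leaf 0x5710))) (.node (.node (.leaf 0x3a85) (.leaf 0x42f6)) (.node (.leaf 0x1a3d) (.leaf 0x6cbf)))) (.node (.node (.node (.leaf 0x36a) (.leaf 0x3779)) (.node (.leaf 0x1478) (.leaf 0x614e))) (.node (.node (.leaf 0xb5c) (.leaf 0x4cf5)) (.node (.leaf 0x4a56) (.leaf 0x7663))))) (.node (.node (.node (.node (.leaf 0x285) (.leaf 0x30af)) (.node (.leaf 0x112f) (.leaf 0x5e63))) (.node (.node (.leaf 0x800) (.leaf 0x475a)) (.node (.leaf 0x1fb1) (.leaf 0x7169)))) (.node (.node (.node (.leaf 0x2fff) (.leaf 0x3ec0)) (.node (.leaf 0x295d) (.leaf 0x6722))) (.node (.node (.leaf 0xcce) (.leaf 0x5140)) (.node (.leaf 0x2510) (.leaf 0x0)))))) (.node (.node (.node (.node (.node (.leaf 0x218) (.leaf 0x2cce)) (.node (.leaf 0xfe2) (.leaf 0x58a2))) (.node (.node (.leaf 0x6fa) (.leaf 0x461e)) (.node (.leaf 0x1cd6) (.leaf 0x708b)))) (.node (.node (.node (.leaf 0x407) (.leaf 0x39d9)) (.node (.leaf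 0x1972) (.leaf 0x65e6))) (.node (.node (.leaf 0xbc8) (.leaf 0x4f81)) (.node (.leaf 0x2456) (.leaf 0x0))))) (.node (.node (.node (.node (.leaf 0x326) (.leaf 0x35b0)) (.node (.leaf 0x2efb) (.leaf 0x5f21))) (.node (.node (.leaf 0x8ce) (.leaf 0x49f8)) (.node (.leaf 0x2205) (.leaf 0x7488)))) (.node (.node (.node (.leaf 0x555) (.leaf 0x40e6)) (.node (.leaf 0x1948) (.leaf 0x6aa0))) (.node (.node (.leaf 0xe20) (.leaf 0x5556)) (.node (.leaf 0x269c) (.leaf 0x0))))))))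

/-- Closure. -/
def clo35 : FTree := (.node (.node (.node (.node (.node (.node (.node (.leaf 0xa4) (.leaf 0x2a40)) (.node (.leaf 0xf43) (.leaf 0x57c2))) (.node (.node (.leaf 0x34b8) (.leaf 0x433f)) (.node (.leaf 0x1ac7) (.leaf 0x6c3a)))) (.node (.node (.node (.leaf 0x7f8) (.leaf 0x37bf)) (.node (.leaf 0x15f8) (.leaf 0x63a3))) (.node (.node (.leaf 0x3158) (.leaf 0x4dd5)) (.node (.leaf 0x2ce7) (.leaf 0x7661))))) (.node (.node (.node (.node (.leaf 0x29b) (.leaf 0x30ee)) (.node (.leaf 0x1182) (.leaf 0x5c18))) (.node (.node (.leaf 0x1eb0) (.leaf 0x4c3f)) (.node (.leaf 0x1fcc) (.leaf 0x71cc)))) (.node (.node (.node (.leaf 0x479) (.leaf 0x3e08)) (.node (.leaf 0x17eb) (.leaf 0x683e))) (.node (.node (.leaf 0x1da9) (.leaf 0x51a9)) (.node (.leaf 0x5c35) (.leaf 0x0)))))) (.node (.node (.node (.node (.node (.leaf 0x24a) (.leaf 0x2d32)) (.node (.leaf 0x2797) (.leaf 0x58d3))) (.node (.node (.leaf 0x27f7) (.leaf 0x4645)) (.node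 (.leaf 0x1cdb) (.leaf 0x6fe4)))) (.node (.node (.node (.leaf 0x5aac) (.leaf 0x3ab6)) (.node (.leaf 0x15e7) (.leaf 0x6da2))) (.node (.node (.leaf 0xbfe) (.leaf 0x4fb3)) (.node (.leaf 0x24dd) (.leaf 0x0))))) (.node (.node (.node (.node (.leaf 0x3025) (.leaf 0x3681)) (.node (.leaf 0x1422) (.leaf 0x5f17))) (.node (.node (.leaf 0x232e) (.leaf 0x49f7)) (.node (.leaf 0x21d6) (.leaf 0x732f)))) (.node (.node (.node (.leaf 0x5a9) (.leaf 0x4173)) (.node (.leaf 0x1a0e) (.leaf 0x6af9))) (.node (.node (.leaf 0x1bbf) (.leaf 0x5d0f)) (.node (.leaf 0x2862) (.leaf 0x0))))))) (.node (.node (.node (.node (.node (.node (.leaf 0x1e3) (.leaf 0x2bbe)) (.node (.leaf 0xfa9) (.leaf 0x5846))) (.node (.node (.leaf 0x1ece) (.leaf 0x4337)) (.node (.leaf 0x5cb5) (.leaf 0x6df6)))) (.node (.node (.node (.leaf 0x13e6) (.leaf 0x5c98)) (.node (.leaf 0x1a8d) (.leaf 0x61bd))) (.node (.node (.leaf 0xa6a) (.leaf 0x6eb7)) (.node (.leaf 0x2317) (.leaf 0x75f9)))))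 (.node (.node (.node (.node (.leaf 0x3e2) (.leaf 0x5ca7)) (.node (.leaf 0x2910) (.leaf 0x6062))) (.node (.node (.leaf 0xa08) (.leaf 0x6e15)) (.node (.leaf 0x2002) (.leaf 0x7162)))) (.node (.node (.node (.leaf 0x8d0) (.leaf 0x3ee2)) (.node (.leaf 0x2ca0) (.leaf 0x6996))) (.node (.node (.leaf 0x5604) (.leaf 0x523f)) (.node (.leaf 0x2559) (.leaf 0x0)))))) (.node (.node (.node (.node (.node (.leaf 0x4f6) (.leaf 0x2d11)) (.node (.leaf 0x100b) (.leaf 0x5a7b))) (.node (.node (.leaf 0x733) (.leaf 0x450b)) (.node (.leaf 0x26e6) (.leaf 0x70f2)))) (.node (.node (.node (.leaf 0x1a52) (.leaf 0x3c45)) (.node (.leaf 0x16a9) (.leaf 0x6528))) (.node (.node (.leaf 0xc8e) (.leaf 0x4f55)) (.node (.leaf 0x2ba6) (.leaf 0x0))))) (.node (.node (.node (.node (.leaf 0x113c) (.leaf 0x35c3)) (.node (.leaf 0x13bb) (.leaf 0x5fdd))) (.node (.node (.leaf 0xe37) (.leaf 0x4ac9)) (.node (.leaf 0x222e) (.leaf 0x746d)))) (.node (.node (.node (.leaf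 0x5a01) (.leaf 0x4145)) (.node (.leaf 0x190c) (.leaf 0x6a94))) (.node (.node (.leaf 0x2298) (.leaf 0x5598)) (.node (.leaf 0x275f) (.leaf 0x0))))))))

/-- Closure. -/
def clo36 : FTree := (.node (.node (.node (.node (.node (.node (.node (.leaf 0x28) (.leaf 0x6ed3)) (.node (.leaf 0xf25) (.leaf 0x56e7))) (.node (.node (.leaf 0x2afe) (.leaf 0x437a)) (.node (.leaf 0x4126) (.leaf 0x6c94)))) (.node (.node (.node (.leaf 0x2e06) (.leaf 0x37c1)) (.node (.leaf 0x1491) (.leaf 0x623d))) (.node (.node (.leaf 0xd3c) (.leaf 0x4cdb)) (.node (.leaf 0x227a) (.leaf 0x755e))))) (.node (.node (.node (.node (.leaf 0x2d40) (.leaf 0x3232)) (.node (.leaf 0x3b68) (.leaf 0x5ad7))) (.node (.node (.leaf 0x5d25) (.leaf 0x4865)) (.node (.leaf 0x1f56) (.leaf 0x7297)))) (.node (.node (.node (.leaf 0x3de2) (.leaf 0x3f2b)) (.node (.leaf 0x203a) (.leaf 0x69a1))) (.node (.node (.leaf 0x2200) (.leaf 0x514c)) (.node (.leaf 0x355a) (.leaf 0x0)))))) (.node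 (.node (.node (.node (.node (.leaf 0x263) (.leaf 0x2e12)) (.node (.leaf 0x5301) (.leaf 0x5a47))) (.node (.node (.leaf 0x3b0c) (.leaf 0x456e)) (.node (.leaf 0x4198) (.leaf 0x6f20)))) (.node (.node (.node (.leaf 0x3d57) (.leaf 0x3a65)) (.node (.leaf 0x34b0) (.leaf 0x64e5))) (.node (.node (.leaf 0xc4b) (.leaf 0x4ed9)) (.node (.leaf 0x2455) (.leaf 0x0))))) (.node (.node (.node (.node (.leaf 0x5af) (.leaf 0x3b91)) (.node (.leaf 0x143e) (.leaf 0x5fbc))) (.node (.node (.leaf 0x8f7) (.leaf 0x4bef)) (.node (.leaf 0x20b3) (.leaf 0x7342)))) (.node (.node (.node (.leaf 0x5b24) (.leaf 0x4eda)) (.node (.leaf 0x1b5f) (.leaf 0x6b11))) (.node (.node (.leaf 0x38b3) (.leaf 0x55cf)) (.node (.leaf 0x2824) (.leaf 0x0))))))) (.node (.node (.node (.node (.node (.node (.leaf 0x13a) (.leaf 0x2cd6)) (.node (.leaf 0xf1d) (.leaf 0x574f))) (.node (.node (.leaf 0x2c76) (.leaf 0x437d)) (.node (.leaf 0x1b84) (.leaf 0x6d63)))) (.node (.node (.node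 (.leaf 0x51c) (.leaf 0x37db)) (.node (.leaf 0x14d4) (.leaf 0x63a5))) (.node (.node (.leaf 0x269d) (.leaf 0x4d4a)) (.node (.leaf 0x5386) (.leaf 0x75b5))))) (.node (.node (.node (.node (.leaf 0x85b) (.leaf 0x3221)) (.node (.leaf 0x3c6d) (.leaf 0x5c79))) (.node (.node (.leaf 0x2e41) (.leaf 0x48a6)) (.node (.leaf 0x1f90) (.leaf 0x7143)))) (.node (.node (.node (.leaf 0x3a27) (.leaf 0x3ddc)) (.node (.leaf 0x3343) (.leaf 0x694b))) (.node (.node (.leaf 0xd2d) (.leaf 0x5640)) (.node (.leaf 0x256b) (.leaf 0x0)))))) (.node (.node (.node (.node (.node (.leaf 0x277) (.leaf 0x2e80)) (.node (.leaf 0x1277) (.leaf 0x73d4))) (.node (.node (.leaf 0x4bb3) (.leaf 0x45d4)) (.node (.leaf 0x1e33) (.leaf 0x7061)))) (.node (.node (.node (.leaf 0x3a1f) (.leaf 0x3ac2)) (.node (.leaf 0x1d71) (.leaf 0x6583))) (.node (.node (.leaf 0x4a96) (.leaf 0x4e8f)) (.node (.leaf 0x2485) (.leaf 0x0))))) (.node (.node (.node (.node (.leaf 0x356f) (.leaf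 0x59de)) (.node (.leaf 0x26f2) (.leaf 0x5ff4))) (.node (.node (.leaf 0xe5f) (.leaf 0x4c0c)) (.node (.leaf 0x2187) (.leaf 0x74e6)))) (.node (.node (.node (.leaf 0x2ff0) (.leaf 0x4296)) (.node (.leaf 0x1913) (.leaf 0x6ad3))) (.node (.node (.leaf 0x30ec) (.leaf 0x54a7)) (.node (.leaf 0x27df) (.leaf 0x0))))))))

/-- Closure. -/
def clo37 : FTree := (.node (.node (.node (.node (.node (.node (.node (.leaf 0xb4) (.leaf 0x323a)) (.node (.leaf 0x318d) (.leaf 0x5811))) (.node (.node (.leaf 0x63f) (.leaf 0x43ad)) (.node (.leaf 0x55c5) (.leaf 0x6c3f)))) (.node (.node (.node (.leaf 0x1c7a) (.leaf 0x38ad)) (.node (.leaf 0x1480) (.leaf 0x62d8))) (.node (.node (.leaf 0xb28) (.leaf 0x4d72)) (.node (.leaf 0x229d) (.leaf 0x7643))))) (.node (.node (.node (.node (.leaf 0x2fce) (.leaf 0x33e6)) (.node (.leaf 0x214f) (.leaf 0x5b9d))) (.node (.node (.leaf 0x4a4b) (.leaf 0x47be)) (.node (.leaf 0x1f70) (.leaf 0x7136)))) (.node (.node (.node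 (.leaf 0x1054) (.leaf 0x3f9a)) (.node (.leaf 0x1c58) (.leaf 0x6844))) (.node (.node (.leaf 0x182b) (.leaf 0x520b)) (.node (.leaf 0x259f) (.leaf 0x0)))))) (.node (.node (.node (.node (.node (.leaf 0xbad) (.leaf 0x2f3b)) (.node (.leaf 0x4948) (.leaf 0x5a2a))) (.node (.node (.leaf 0x40aa) (.leaf 0x46a7)) (.node (.leaf 0x1d33) (.leaf 0x7005)))) (.node (.node (.node (.leaf 0xa75) (.leaf 0x4574)) (.node (.leaf 0x44a8) (.leaf 0x65c9))) (.node (.node (.leaf 0xc47) (.leaf 0x4fc7)) (.node (.leaf 0x23ba) (.leaf 0x0))))) (.node (.node (.node (.node (.leaf 0x6a0c) (.leaf 0x35ef)) (.node (.leaf 0x6910) (.leaf 0x5f39))) (.node (.node (.leaf 0x98f) (.leaf 0x4a51)) (.node (.leaf 0x20e6) (.leaf 0x73b7)))) (.node (.node (.node (.leaf 0x5e2) (.leaf 0x4190)) (.node (.leaf 0x1a12) (.leaf 0x6aba))) (.node (.node (.leaf 0xeac) (.leaf 0x54f2)) (.node (.leaf 0x2799) (.leaf 0x0))))))) (.node (.node (.node (.node (.node (.node (.leaf 0x190)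 (.leaf 0x2ac0)) (.node (.leaf 0x318a) (.leaf 0x579e))) (.node (.node (.leaf 0x9cf) (.leaf 0x6532)) (.node (.leaf 0x1af7) (.leaf 0x6ce1)))) (.node (.node (.node (.leaf 0x523) (.leaf 0x38b9)) (.node (.leaf 0x1554) (.leaf 0x637d))) (.node (.node (.leaf 0xb4c) (.leaf 0x4da8)) (.node (.leaf 0x2305) (.leaf 0x7590))))) (.node (.node (.node (.node (.leaf 0x1c69) (.leaf 0x34e0)) (.node (.leaf 0x1272) (.leaf 0x5e87))) (.node (.node (.leaf 0x44d6) (.leaf 0x48c7)) (.node (.leaf 0x2062) (.leaf 0x7273)))) (.node (.node (.node (.leaf 0x6be) (.leaf 0x3f22)) (.node (.leaf 0x17e1) (.leaf 0x69c1))) (.node (.node (.leaf 0x4f07) (.leaf 0x519e)) (.node (.leaf 0x24fd) (.leaf 0x0)))))) (.node (.node (.node (.node (.node (.leaf 0xbb7) (.leaf 0x2ee0)) (.node (.leaf 0x36fb) (.leaf 0x5934))) (.node (.node (.leaf 0x16d6) (.leaf 0x454b)) (.node (.leaf 0x1cd9) (.leaf 0x70e8)))) (.node (.node (.node (.leaf 0x2d96) (.leaf 0x3bac)) (.node (.leaf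 0x3c28) (.leaf 0x65f6))) (.node (.node (.leaf 0xc9d) (.leaf 0x5e41)) (.node (.leaf 0x23f5) (.leaf 0x0))))) (.node (.node (.node (.node (.leaf 0x5b10) (.leaf 0x35cc)) (.node (.leaf 0x1734) (.leaf 0x607a))) (.node (.node (.leaf 0x26c2) (.leaf 0x4ab5)) (.node (.leaf 0x2152) (.leaf 0x7387)))) (.node (.node (.node (.leaf 0x2363) (.leaf 0x4228)) (.node (.leaf 0x18dc) (.leaf 0x6b89))) (.node (.node (.leaf 0x5e2d) (.leaf 0x54c5)) (.node (.leaf 0x27d5) (.leaf 0x0))))))))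

/-- Closure. -/
def clo38 : FTree := (.node (.node (.node (.node (.node (.node (.node (.leaf 0x67) (.leaf 0x2aa0)) (.node (.leaf 0xf67) (.leaf 0x5e38))) (.node (.node (.leaf 0x6925) (.leaf 0x42f4)) (.node (.leaf 0x2c4f) (.leaf 0x6e17)))) (.node (.node (.node (.leaf 0x1c99) (.leaf 0x399c)) (.node (.leaf 0x1543) (.leaf 0x639d))) (.node (.node (.leaf 0x3adb) (.leaf 0x4cf8)) (.node (.leaf 0x2392) (.leaf 0x759e))))) (.node (.node (.node (.node (.leaf 0x2a6d) (.leaf 0x4329)) (.node (.leaf 0x2810) (.leaf 0x5b5c))) (.node (.node (.leaf 0x1511) (.leaf 0x48ab)) (.node (.leaf 0x6c91) (.leaf 0x71b5)))) (.node (.node (.node (.leaf 0x2aa2) (.leaf 0x3ee8)) (.node (.leaf 0x654c) (.leaf 0x66ee))) (.node (.node (.leaf 0x2852) (.leaf 0x52eb)) (.node (.leaf 0x263a) (.leaf 0x0)))))) (.node (.node (.node (.node (.node (.leaf 0x2dc) (.leaf 0x2edb)) (.node (.leaf 0x126d) (.leaf 0x59f9))) (.node (.node (.leaf 0x124a) (.leaf 0x46d1)) (.node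 (.leaf 0x1dde) (.leaf 0x6f2d)))) (.node (.node (.node (.leaf 0x6d81) (.leaf 0x3c5d)) (.node (.leaf 0x16f9) (.leaf 0x65a6))) (.node (.node (.leaf 0x6437) (.leaf 0x4e57)) (.node (.leaf 0x47c3) (.leaf 0x0))))) (.node (.node (.node (.node (.leaf 0x5bbc) (.leaf 0x3663)) (.node (.leaf 0x143c) (.leaf 0x600f))) (.node (.node (.leaf 0x99d) (.leaf 0x4a15)) (.node (.leaf 0x20e3) (.leaf 0x73ac)))) (.node (.node (.node (.leaf 0x626) (.leaf 0x4104)) (.node (.leaf 0x198d) (.leaf 0x6c15))) (.node (.node (.leaf 0x287b) (.leaf 0x5527)) (.node (.leaf 0x2923) (.leaf 0x0))))))) (.node (.node (.node (.node (.node (.node (.leaf 0x14b) (.leaf 0x322b)) (.node (.leaf 0x5d96) (.leaf 0x6a01))) (.node (.node (.leaf 0x66c) (.leaf 0x5bae)) (.node (.leaf 0x5b57) (.leaf 0x6e81)))) (.node (.node (.node (.leaf 0x81a) (.leaf 0x395e)) (.node (.leaf 0x443d) (.leaf 0x631c))) (.node (.node (.leaf 0xa9d) (.leaf 0x4caf)) (.node (.leaf 0x41dd) (.leaf 0x75ab)))))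 (.node (.node (.node (.node (.leaf 0x3af) (.leaf 0x34de)) (.node (.leaf 0x5ce0) (.leaf 0x5d13))) (.node (.node (.leaf 0x7d9) (.leaf 0x47b6)) (.node (.leaf 0x1f3a) (.leaf 0x71a5)))) (.node (.node (.node (.leaf 0x3339) (.leaf 0x3e09)) (.node (.leaf 0x2871) (.leaf 0x691a))) (.node (.node (.leaf 0x1a2e) (.leaf 0x5239)) (.node (.leaf 0x25bd) (.leaf 0x0)))))) (.node (.node (.node (.node (.node (.leaf 0x22a) (.leaf 0x2eb6)) (.node (.leaf 0x2f71) (.leaf 0x59a4))) (.node (.node (.leaf 0x4832) (.leaf 0x450c)) (.node (.leaf 0x1d27) (.leaf 0x7059)))) (.node (.node (.node (.leaf 0x5100) (.leaf 0x3aba)) (.node (.leaf 0x197d) (.leaf 0x65d4))) (.node (.node (.leaf 0xc15) (.leaf 0x4ef6)) (.node (.leaf 0x63b6) (.leaf 0x0))))) (.node (.node (.node (.node (.leaf 0x55a) (.leaf 0x36ad)) (.node (.leaf 0x136e) (.leaf 0x5fd1))) (.node (.node (.leaf 0x986) (.leaf 0x4a87)) (.node (.leaf 0x2c30) (.leaf 0x73ad)))) (.node (.node (.node (.leaf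 0x3d6c) (.leaf 0x40ee)) (.node (.leaf 0x1930) (.leaf 0x6a2e))) (.node (.node (.leaf 0x4214) (.leaf 0x555f)) (.node (.leaf 0x26ce) (.leaf 0x0))))))))

/-- Closure. -/
def clo39 : FTree := (.node (.node (.node (.node (.node (.node (.node (.leaf 0xec) (.leaf 0x31ca)) (.node (.leaf 0x565c) (.leaf 0x569e))) (.node (.node (.leaf 0x32f1) (.leaf 0x447b)) (.node (.leaf 0x1bcc) (.leaf 0x6d1b)))) (.node (.node (.node (.leaf 0x539) (.leaf 0x398d)) (.node (.leaf 0x1513) (.leaf 0x61c7))) (.node (.node (.leaf 0x245a) (.leaf 0x4cc2)) (.node (.leaf 0x6635) (.leaf 0x75e1))))) (.node (.node (.node (.node (.leaf 0x1726) (.leaf 0x33cf)) (.node (.leaf 0x4819) (.leaf 0x5b8e))) (.node (.node (.leaf 0x69e4) (.leaf 0x483f)) (.node (.leaf 0x3511) (.leaf 0x729c)))) (.node (.node (.node (.leaf 0x6551) (.leaf 0x3f48)) (.node (.leaf 0x410c) (.leaf 0x66d7))) (.node (.node (.leaf 0x10e8) (.leaf 0x5263)) (.node (.leaf 0x259b) (.leaf 0x0)))))) (.node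 (.node (.node (.node (.node (.leaf 0x4fd) (.leaf 0x2e9a)) (.node (.leaf 0x11e4) (.leaf 0x5945))) (.node (.node (.leaf 0x27c6) (.leaf 0x45c0)) (.node (.leaf 0x3c11) (.leaf 0x70d9)))) (.node (.node (.node (.leaf 0x2825) (.leaf 0x3f3e)) (.node (.leaf 0x4eec) (.leaf 0x6473))) (.node (.node (.leaf 0x6448) (.leaf 0x50ad)) (.node (.leaf 0x53b8) (.leaf 0x0))))) (.node (.node (.node (.node (.leaf 0x4faa) (.leaf 0x3718)) (.node (.leaf 0x13b2) (.leaf 0x5f2e))) (.node (.node (.leaf 0x215f) (.leaf 0x4b87)) (.node (.leaf 0x21b5) (.leaf 0x74b2)))) (.node (.node (.node (.leaf 0x2750) (.leaf 0x5367)) (.node (.leaf 0x18e9) (.leaf 0x6c1e))) (.node (.node (.leaf 0x273d) (.leaf 0x553e)) (.node (.leaf 0x3ef5) (.leaf 0x0))))))) (.node (.node (.node (.node (.node (.node (.leaf 0x1d8) (.leaf 0x5400)) (.node (.leaf 0x2a77) (.leaf 0x5693))) (.node (.node (.leaf 0x30f4) (.leaf 0x5e54)) (.node (.leaf 0x31d8) (.leaf 0x6eb0)))) (.node (.node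 (.node (.leaf 0x39b) (.leaf 0x38ff)) (.node (.leaf 0x1489) (.leaf 0x6259))) (.node (.node (.leaf 0x2e96) (.leaf 0x4d79)) (.node (.leaf 0x2ae2) (.leaf 0x75e7))))) (.node (.node (.node (.node (.leaf 0x3d85) (.leaf 0x5add)) (.node (.leaf 0x28ab) (.leaf 0x5bd0))) (.node (.node (.leaf 0x3e74) (.leaf 0x4885)) (.node (.leaf 0x6c8b) (.leaf 0x7253)))) (.node (.node (.node (.leaf 0x91e) (.leaf 0x3ed2)) (.node (.leaf 0x1752) (.leaf 0x66c1))) (.node (.node (.leaf 0x5827) (.leaf 0x52d4)) (.node (.leaf 0x5c37) (.leaf 0x0)))))) (.node (.node (.node (.node (.node (.leaf 0x35c) (.leaf 0x2cfe)) (.node (.leaf 0xfea) (.leaf 0x58ee))) (.node (.node (.leaf 0x27c5) (.leaf 0x451e)) (.node (.leaf 0x1d09) (.leaf 0x6f5c)))) (.node (.node (.node (.leaf 0x2967) (.leaf 0x3b1e)) (.node (.leaf 0x1706) (.leaf 0x6626))) (.node (.node (.leaf 0x299e) (.leaf 0x4f9b)) (.node (.leaf 0x53b9) (.leaf 0x0))))) (.node (.node (.node (.node (.leaf 0x486d)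 (.leaf 0x35e1)) (.node (.leaf 0x1414) (.leaf 0x5f2f))) (.node (.node (.leaf 0xb24) (.leaf 0x4b49)) (.node (.leaf 0x20e2) (.leaf 0x73b2)))) (.node (.node (.node (.leaf 0x3e89) (.leaf 0x4121)) (.node (.leaf 0x1a0b) (.leaf 0x6b62))) (.node (.node (.leaf 0x101e) (.leaf 0x5509)) (.node (.leaf 0x5af0) (.leaf 0x0))))))))

/-- Closure. -/
def clo40 : FTree := (.node (.node (.node (.node (.node (.node (.node (.leaf 0x16) (.leaf 0x2bad)) (.node (.leaf 0x31ed) (.leaf 0x5799))) (.node (.node (.leaf 0x2ecf) (.leaf 0x4407)) (.node (.leaf 0x1ab4) (.leaf 0x6c6b)))) (.node (.node (.node (.leaf 0x464d) (.leaf 0x3927)) (.node (.leaf 0x14c8) (.leaf 0x63df))) (.node (.node (.leaf 0x1de2) (.leaf 0x5ed7)) (.node (.leaf 0x22a9) (.leaf 0x7676))))) (.node (.node (.node (.node (.leaf 0x615) (.leaf 0x6988)) (.node (.leaf 0x12e8) (.leaf 0x5be1))) (.node (.node (.leaf 0x885) (.leaf 0x4782)) (.node (.leaf 0x490b) (.leaf 0x72a2)))) (.node (.node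 (.node (.leaf 0x714) (.leaf 0x3f3b)) (.node (.leaf 0x177a) (.leaf 0x6818))) (.node (.node (.leaf 0x5f00) (.leaf 0x531a)) (.node (.leaf 0x252d) (.leaf 0x0)))))) (.node (.node (.node (.node (.node (.leaf 0x771) (.leaf 0x2eb5)) (.node (.leaf 0x10e2) (.leaf 0x599f))) (.node (.node (.leaf 0x924) (.leaf 0x460b)) (.node (.leaf 0x1e4f) (.leaf 0x7040)))) (.node (.node (.node (.leaf 0x8c1) (.leaf 0x39f5)) (.node (.leaf 0x1708) (.leaf 0x65ba))) (.node (.node (.leaf 0x306b) (.leaf 0x56bb)) (.node (.leaf 0x3e28) (.leaf 0x0))))) (.node (.node (.node (.node (.leaf 0x406) (.leaf 0x3639)) (.node (.leaf 0x4728) (.leaf 0x6071))) (.node (.node (.leaf 0xe93) (.leaf 0x4bbc)) (.node (.leaf 0x2189) (.leaf 0x74c5)))) (.node (.node (.node (.leaf 0x2cbd) (.leaf 0x4144)) (.node (.leaf 0x5e04) (.leaf 0x6a56))) (.node (.node (.leaf 0x34f4) (.leaf 0x534f)) (.node (.leaf 0x3438) (.leaf 0x0))))))) (.node (.node (.node (.node (.node (.node (.leaf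 0x13c) (.leaf 0x29d1)) (.node (.leaf 0x12bd) (.leaf 0x569c))) (.node (.node (.leaf 0x3e0a) (.leaf 0x4381)) (.node (.leaf 0x1aef) (.leaf 0x6d6a)))) (.node (.node (.node (.leaf 0x4680) (.leaf 0x3e9b)) (.node (.leaf 0x1ae3) (.leaf 0x626b))) (.node (.node (.leaf 0x27a2) (.leaf 0x4cd9)) (.node (.leaf 0x3097) (.leaf 0x7637))))) (.node (.node (.node (.node (.leaf 0x42ac) (.leaf 0x6de5)) (.node (.leaf 0x6f0b) (.leaf 0x5c23))) (.node (.node (.leaf 0x89e) (.leaf 0x4909)) (.node (.leaf 0x200b) (.leaf 0x730a)))) (.node (.node (.node (.leaf 0x11f3) (.leaf 0x3da5)) (.node (.leaf 0x1778) (.leaf 0x66d8))) (.node (.node (.leaf 0x33ac) (.leaf 0x5636)) (.node (.leaf 0x256f) (.leaf 0x0)))))) (.node (.node (.node (.node (.node (.leaf 0x279) (.leaf 0x2dc7)) (.node (.leaf 0xfc6) (.leaf 0x5957))) (.node (.node (.leaf 0x109a) (.leaf 0x4606)) (.node (.leaf 0x1df8) (.leaf 0x7080)))) (.node (.node (.node (.leaf 0x35a8) (.leaf 0x39f6)) (.node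 (.leaf 0x16ed) (.leaf 0x6613))) (.node (.node (.leaf 0x4a92) (.leaf 0x4f99)) (.node (.leaf 0x2496) (.leaf 0x0))))) (.node (.node (.node (.node (.leaf 0x61ee) (.leaf 0x35e4)) (.node (.leaf 0x687f) (.leaf 0x6042))) (.node (.node (.leaf 0x5d39) (.leaf 0x4a08)) (.node (.leaf 0x480b) (.leaf 0x7366)))) (.node (.node (.node (.leaf 0x178a) (.leaf 0x4edc)) (.node (.leaf 0x3469) (.leaf 0x6b4c))) (.node (.node (.leaf 0x65f8) (.leaf 0x54f3)) (.node (.leaf 0x2e8f) (.leaf 0x0))))))))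

/-- Closure. -/
def clo41 : FTree := (.node (.node (.node (.node (.node (.node (.node (.leaf 0xca) (.leaf 0x2959)) (.node (.leaf 0xf48) (.leaf 0x57a9))) (.node (.node (.leaf 0xae1) (.leaf 0x508e)) (.node (.leaf 0x1b08) (.leaf 0x6e26)))) (.node (.node (.node (.leaf 0x7f6) (.leaf 0x3997)) (.node (.leaf 0x1e17) (.leaf 0x61eb))) (.node (.node (.leaf 0x285b) (.leaf 0x4d9a)) (.node (.leaf 0x228a) (.leaf 0x7599))))) (.node (.node (.node (.node (.leaf 0x40f) (.leaf 0x5dc6)) (.node (.leaf 0x118d) (.leaf 0x5b62))) (.node (.node (.leaf 0x1cc0) (.leaf 0x47ed)) (.node (.leaf 0x34a1) (.leaf 0x7226)))) (.node (.node (.node (.leaf 0x5c42) (.leaf 0x3d66)) (.node (.leaf 0x17ff) (.leaf 0x6725))) (.node (.node (.leaf 0x336c) (.leaf 0x514e)) (.node (.leaf 0x2677) (.leaf 0x0)))))) (.node (.node (.node (.node (.node (.leaf 0x22c) (.leaf 0x69e7)) (.node (.leaf 0x3c00) (.leaf 0x59c3))) (.node (.node (.leaf 0xf4c) (.leaf 0x46ce)) (.node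 (.leaf 0x1ddb) (.leaf 0x70c3)))) (.node (.node (.node (.leaf 0xcc1) (.leaf 0x3c08)) (.node (.leaf 0x1699) (.leaf 0x64d4))) (.node (.node (.leaf 0x617e) (.leaf 0x4e4a)) (.node (.leaf 0x2453) (.leaf 0x0))))) (.node (.node (.node (.node (.leaf 0x1cb8) (.leaf 0x36c2)) (.node (.leaf 0x30ce) (.leaf 0x5f45))) (.node (.node (.leaf 0x9a4) (.leaf 0x4a0d)) (.node (.leaf 0x21e9) (.leaf 0x740a)))) (.node (.node (.node (.leaf 0x283b) (.leaf 0x41b2)) (.node (.leaf 0x19d1) (.leaf 0x6b6c))) (.node (.node (.leaf 0x3204) (.leaf 0x5576)) (.node (.leaf 0x2ad4) (.leaf 0x0))))))) (.node (.node (.node (.node (.node (.node (.leaf 0x1af) (.leaf 0x2bec)) (.node (.leaf 0x2a7e) (.leaf 0x5808))) (.node (.node (.leaf 0x61c) (.leaf 0x4433)) (.node (.leaf 0x30fb) (.leaf 0x6e96)))) (.node (.node (.node (.leaf 0x3d0c) (.leaf 0x400f)) (.node (.leaf 0x1463) (.leaf 0x622d))) (.node (.node (.leaf 0x102f) (.leaf 0x4dae)) (.node (.leaf 0x308c) (.leaf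 0x7681))))) (.node (.node (.node (.node (.leaf 0x31d) (.leaf 0x4ad5)) (.node (.leaf 0x1287) (.leaf 0x5cfb))) (.node (.node (.leaf 0x35d0) (.leaf 0x4920)) (.node (.leaf 0x6c90) (.leaf 0x7258)))) (.node (.node (.node (.leaf 0x6a1) (.leaf 0x3f31)) (.node (.leaf 0x2d36) (.leaf 0x67de))) (.node (.node (.leaf 0x2201) (.leaf 0x52ed)) (.node (.leaf 0x2d89) (.leaf 0x0)))))) (.node (.node (.node (.node (.node (.leaf 0x348) (.leaf 0x4e49)) (.node (.leaf 0x12df) (.leaf 0x5a0a))) (.node (.node (.leaf 0xa22) (.leaf 0x45ea)) (.node (.leaf 0x3b25) (.leaf 0x7025)))) (.node (.node (.node (.leaf 0x61d7) (.leaf 0x3c7e)) (.node (.leaf 0x16c4) (.leaf 0x64b9))) (.node (.node (.leaf 0x357b) (.leaf 0x5068)) (.node (.leaf 0x541e) (.leaf 0x0))))) (.node (.node (.node (.node (.leaf 0x6070) (.leaf 0x42d5)) (.node (.leaf 0x691e) (.leaf 0x6102))) (.node (.node (.leaf 0x554b) (.leaf 0x49e8)) (.node (.leaf 0x2147) (.leaf 0x7339)))) (.node (.node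 (.node (.leaf 0x5c7) (.leaf 0x5519)) (.node (.leaf 0x2c4b) (.leaf 0x6b1e))) (.node (.node (.leaf 0x27ef) (.leaf 0x6388)) (.node (.leaf 0x3dab) (.leaf 0x0))))))))

/-- Closure. -/
def clo42 : FTree := (.node (.node (.node (.node (.node (.node (.node (.leaf 0x5d) (.leaf 0x2b37)) (.node (.leaf 0x12b3) (.leaf 0x5814))) (.node (.node (.leaf 0x669b) (.leaf 0x43d2)) (.node (.leaf 0x1a28) (.leaf 0x6c55)))) (.node (.node (.node (.leaf 0x1c79) (.leaf 0x37ee)) (.node (.leaf 0x39b9) (.leaf 0x6347))) (.node (.node (.leaf 0xb43) (.leaf 0x4cb0)) (.node (.leaf 0x30a8) (.leaf 0x763b))))) (.node (.node (.node (.node (.leaf 0x2a4) (.leaf 0x321e)) (.node (.leaf 0x12cf) (.leaf 0x5b51))) (.node (.node (.leaf 0x1132) (.leaf 0x477a)) (.node (.leaf 0x4229) (.leaf 0x7243)))) (.node (.node (.node (.leaf 0x491) (.leaf 0x3dca)) (.node (.leaf 0x1c52) (.leaf 0x6784))) (.node (.node (.leaf 0xd03) (.leaf 0x52f8)) (.node (.leaf 0x262e) (.leaf 0x0))))))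 (.node (.node (.node (.node (.node (.leaf 0x283) (.leaf 0x2e90)) (.node (.leaf 0x440a) (.leaf 0x58ac))) (.node (.node (.leaf 0xa0f) (.leaf 0x4708)) (.node (.leaf 0x1de4) (.leaf 0x705f)))) (.node (.node (.node (.leaf 0x29f4) (.leaf 0x39fa)) (.node (.leaf 0x3ca0) (.leaf 0x64b1))) (.node (.node (.leaf 0xc52) (.leaf 0x4fee)) (.node (.leaf 0x47c2) (.leaf 0x0))))) (.node (.node (.node (.node (.leaf 0x5d2f) (.leaf 0x369a)) (.node (.leaf 0x66b4) (.leaf 0x60e2))) (.node (.node (.leaf 0x56d3) (.leaf 0x4b06)) (.node (.leaf 0x5175) (.leaf 0x74fe)))) (.node (.node (.node (.leaf 0x2fec) (.leaf 0x48cb)) (.node (.leaf 0x19f1) (.leaf 0x6c27))) (.node (.node (.leaf 0xde8) (.leaf 0x559c)) (.node (.leaf 0x2728) (.leaf 0x0))))))) (.node (.node (.node (.node (.node (.node (.leaf 0x154) (.leaf 0x2c18)) (.node (.leaf 0x12bb) (.leaf 0x5738))) (.node (.node (.leaf 0x62da) (.leaf 0x42d1)) (.node (.leaf 0x20f8) (.leaf 0x6ca2)))) (.node (.node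 (.node (.leaf 0x2dfe) (.leaf 0x38fb)) (.node (.leaf 0x451b) (.leaf 0x62f4))) (.node (.node (.leaf 0x1d10) (.leaf 0x4c89)) (.node (.leaf 0x6191) (.leaf 0x76e9))))) (.node (.node (.node (.node (.leaf 0x2a64) (.leaf 0x3020)) (.node (.leaf 0x1215) (.leaf 0x5dfb))) (.node (.node (.leaf 0x3011) (.leaf 0x4794)) (.node (.leaf 0x1f75) (.leaf 0x7138)))) (.node (.node (.node (.leaf 0x5df) (.leaf 0x3f94)) (.node (.leaf 0x1c57) (.leaf 0x68e3))) (.node (.node (.leaf 0x5475) (.leaf 0x5313)) (.node (.leaf 0x48bd) (.leaf 0x0)))))) (.node (.node (.node (.node (.node (.leaf 0x260) (.leaf 0x5b22)) (.node (.leaf 0x1c1a) (.leaf 0x5a49))) (.node (.node (.leaf 0x6db) (.leaf 0x6e37)) (.node (.leaf 0x324e) (.leaf 0x7031)))) (.node (.node (.node (.leaf 0x3dc8) (.leaf 0x3c37)) (.node (.leaf 0x44a2) (.leaf 0x6573))) (.node (.node (.leaf 0xc5c) (.leaf 0x5120)) (.node (.leaf 0x2423) (.leaf 0x0))))) (.node (.node (.node (.node (.leaf 0x575) (.leaf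 0x3ec7)) (.node (.leaf 0x132a) (.leaf 0x6017))) (.node (.node (.leaf 0xe87) (.leaf 0x5333)) (.node (.leaf 0x2174) (.leaf 0x7473)))) (.node (.node (.node (.leaf 0x1cd2) (.leaf 0x4055)) (.node (.leaf 0x1988) (.leaf 0x6bb2))) (.node (.node (.leaf 0xff8) (.leaf 0x5580)) (.node (.leaf 0x4f45) (.leaf 0x0))))))))

/-- Closure. -/
def clo43 : FTree := (.node (.node (.node (.node (.node (.node (.node (.leaf 0x9f) (.leaf 0x29f8)) (.node (.leaf 0xfac) (.leaf 0x5763))) (.node (.node (.leaf 0x653) (.leaf 0x4436)) (.node (.leaf 0x1c18) (.leaf 0x6d72)))) (.node (.node (.node (.leaf 0x465e) (.leaf 0x3795)) (.node (.leaf 0x156d) (.leaf 0x62a3))) (.node (.node (.leaf 0xab4) (.leaf 0x4cf0)) (.node (.leaf 0x23ca) (.leaf 0x7596))))) (.node (.node (.node (.node (.leaf 0x3ca) (.leaf 0x33cc)) (.node (.leaf 0x390c) (.leaf 0x5cf4))) (.node (.node (.leaf 0x2dc3) (.leaf 0x4e64)) (.node (.leaf 0x422c) (.leaf 0x7255)))) (.node (.node (.node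 (.leaf 0x23db) (.leaf 0x678d)) (.node (.leaf 0x1843) (.leaf 0x6d94))) (.node (.node (.leaf 0x1b04) (.leaf 0x5321)) (.node (.leaf 0x42a1) (.leaf 0x0)))))) (.node (.node (.node (.node (.node (.leaf 0x4cd) (.leaf 0x3918)) (.node (.leaf 0x1070) (.leaf 0x59b6))) (.node (.node (.leaf 0x15a2) (.leaf 0x73f5)) (.node (.leaf 0x1dcd) (.leaf 0x7050)))) (.node (.node (.node (.leaf 0x1117) (.leaf 0x3c6e)) (.node (.leaf 0x15a8) (.leaf 0x6651))) (.node (.node (.leaf 0x358a) (.leaf 0x4ebf)) (.node (.leaf 0x5423) (.leaf 0x0))))) (.node (.node (.node (.node (.leaf 0x342) (.leaf 0x41e1)) (.node (.leaf 0x66b2) (.leaf 0x5f16))) (.node (.node (.leaf 0x3443) (.leaf 0x4bfc)) (.node (.leaf 0x40c8) (.leaf 0x7483)))) (.node (.node (.node (.leaf 0x5f6) (.leaf 0x4007)) (.node (.leaf 0x18a3) (.leaf 0x6b95))) (.node (.node (.leaf 0xe12) (.leaf 0x6858)) (.node (.leaf 0x27fd) (.leaf 0x0))))))) (.node (.node (.node (.node (.node (.node (.leaf 0x183)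 (.leaf 0x2b6a)) (.node (.leaf 0xfa8) (.leaf 0x57b6))) (.node (.node (.leaf 0x1eb6) (.leaf 0x43fe)) (.node (.leaf 0x1a9f) (.leaf 0x6c40)))) (.node (.node (.node (.leaf 0x4668) (.leaf 0x37a4)) (.node (.leaf 0x1e11) (.leaf 0x62b6))) (.node (.node (.leaf 0xb3d) (.leaf 0x4dc6)) (.node (.leaf 0x6633) (.leaf 0x770d))))) (.node (.node (.node (.node (.leaf 0x3c5) (.leaf 0x3142)) (.node (.leaf 0x180d) (.leaf 0x69a5))) (.node (.node (.leaf 0x2dc2) (.leaf 0x47ca)) (.node (.leaf 0x1f2a) (.leaf 0x7140)))) (.node (.node (.node (.leaf 0x323d) (.leaf 0x3dc0)) (.node (.leaf 0x2287) (.leaf 0x6814))) (.node (.node (.leaf 0x16a2) (.leaf 0x5324)) (.node (.leaf 0x3287) (.leaf 0x0)))))) (.node (.node (.node (.node (.node (.leaf 0x4c0) (.leaf 0x3684)) (.node (.leaf 0x17ee) (.leaf 0x59af))) (.node (.node (.leaf 0x1f36) (.leaf 0x457d)) (.node (.leaf 0x267b) (.leaf 0x7042)))) (.node (.node (.node (.leaf 0xde5) (.leaf 0x3aca)) (.node (.leaf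 0x15e3) (.leaf 0x6587))) (.node (.node (.leaf 0x3588) (.leaf 0x6141)) (.node (.leaf 0x23d2) (.leaf 0x0))))) (.node (.node (.node (.node (.leaf 0x356e) (.leaf 0x36c4)) (.node (.leaf 0x46a1) (.leaf 0x6116))) (.node (.node (.leaf 0x56ff) (.leaf 0x4b27)) (.node (.leaf 0x2186) (.leaf 0x7501)))) (.node (.node (.node (.leaf 0x5f7) (.leaf 0x4253)) (.node (.leaf 0x5072) (.leaf 0x6acd))) (.node (.node (.leaf 0x5dae) (.leaf 0x53a7)) (.node (.leaf 0x2771) (.leaf 0x0))))))))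

/-- Closure. -/
def clo44 : FTree := (.node (.node (.node (.node (.node (.node (.node (.leaf 0x40) (.leaf 0x2c20)) (.node (.leaf 0x5fa5) (.leaf 0x579f))) (.node (.node (.leaf 0x185b) (.leaf 0x42cd)) (.node (.leaf 0x1b25) (.leaf 0x6e25)))) (.node (.node (.node (.leaf 0x2df9) (.leaf 0x3f27)) (.node (.leaf 0x154c) (.leaf 0x62b4))) (.node (.node (.leaf 0x44e1) (.leaf 0x4dca)) (.node (.leaf 0x22db) (.leaf 0x76a9))))) (.node (.node (.node (.node (.leaf 0x294a) (.leaf 0x4882)) (.node (.leaf 0x2a27) (.leaf 0x6323))) (.node (.node (.leaf 0x4d88) (.leaf 0x48c8)) (.node (.leaf 0x1fbe) (.leaf 0x720c)))) (.node (.node (.node (.leaf 0x2774) (.leaf 0x3f5b)) (.node (.leaf 0x1818) (.leaf 0x683b))) (.node (.node (.leaf 0x3ebc) (.leaf 0x5265)) (.node (.leaf 0x25aa) (.leaf 0x0)))))) (.node (.node (.node (.node (.node (.leaf 0x2f6) (.leaf 0x3b12)) (.node (.leaf 0x5e23) (.leaf 0x5a68))) (.node (.node (.leaf 0x746) (.leaf 0x4b75)) (.node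 (.leaf 0x1e38) (.leaf 0x6fb8)))) (.node (.node (.node (.leaf 0x676) (.leaf 0x3b2f)) (.node (.leaf 0x1638) (.leaf 0x6584))) (.node (.node (.leaf 0x3599) (.leaf 0x4e6c)) (.node (.leaf 0x2413) (.leaf 0x0))))) (.node (.node (.node (.node (.leaf 0x5bbb) (.leaf 0x6801)) (.node (.leaf 0x1424) (.leaf 0x5f80))) (.node (.node (.leaf 0x33d6) (.leaf 0x4b89)) (.node (.leaf 0x2213) (.leaf 0x7445)))) (.node (.node (.node (.leaf 0x8d7) (.leaf 0x4036)) (.node (.leaf 0x1e86) (.leaf 0x6be3))) (.node (.node (.leaf 0x332f) (.leaf 0x5595)) (.node (.leaf 0x27e0) (.leaf 0x0))))))) (.node (.node (.node (.node (.node (.node (.leaf 0x15a) (.leaf 0x2a19)) (.node (.leaf 0x2a72) (.leaf 0x5680))) (.node (.node (.leaf 0x6a0) (.leaf 0x4463)) (.node (.leaf 0x6eb2) (.leaf 0x6e7c)))) (.node (.node (.node (.leaf 0x13ed) (.leaf 0x3ba2)) (.node (.leaf 0x1503) (.leaf 0x6352))) (.node (.node (.leaf 0xa41) (.leaf 0x4cce)) (.node (.leaf 0x6757) (.leaf 0x75da)))))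 (.node (.node (.node (.node (.leaf 0x298) (.leaf 0x319e)) (.node (.leaf 0x2ccf) (.leaf 0x63ee))) (.node (.node (.leaf 0x29ed) (.leaf 0x4927)) (.node (.leaf 0x202b) (.leaf 0x7180)))) (.node (.node (.node (.leaf 0x29de) (.leaf 0x41c9)) (.node (.leaf 0x284b) (.leaf 0x6965))) (.node (.node (.leaf 0xcf5) (.leaf 0x516b)) (.node (.leaf 0x5e84) (.leaf 0x0)))))) (.node (.node (.node (.node (.node (.leaf 0x349) (.leaf 0x2f9c)) (.node (.leaf 0x2887) (.leaf 0x5960))) (.node (.node (.leaf 0x4c15) (.leaf 0x4704)) (.node (.leaf 0x2caf) (.leaf 0x6fc7)))) (.node (.node (.node (.leaf 0x5af7) (.leaf 0x3b4f)) (.node (.leaf 0x15bd) (.leaf 0x664f))) (.node (.node (.leaf 0x357d) (.leaf 0x679b)) (.node (.leaf 0x41fa) (.leaf 0x0))))) (.node (.node (.node (.node (.leaf 0xae8) (.leaf 0x368b)) (.node (.leaf 0x1352) (.leaf 0x5f8b))) (.node (.node (.leaf 0x342f) (.leaf 0x4a72)) (.node (.leaf 0x223e) (.leaf 0x7472)))) (.node (.node (.node (.leaf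 0x3ddb) (.leaf 0x3ff3)) (.node (.leaf 0x1955) (.leaf 0x6b7a))) (.node (.node (.leaf 0xe38) (.leaf 0x5453)) (.node (.leaf 0x5bd9) (.leaf 0x0))))))))

/-- Closure. -/
def clo45 : FTree := (.node (.node (.node (.node (.node (.node (.node (.leaf 0x8a) (.leaf 0x4ff7)) (.node (.leaf 0x10b8) (.leaf 0x56f7))) (.node (.node (.leaf 0x5dac) (.leaf 0x50c1)) (.node (.leaf 0x1bec) (.leaf 0x6ece)))) (.node (.node (.node (.leaf 0x171a) (.leaf 0x5414)) (.node (.leaf 0x14b4) (.leaf 0x62b9))) (.node (.node (.leaf 0xb16) (.leaf 0x4c94)) (.node (.leaf 0x6e43) (.leaf 0x76e2))))) (.node (.node (.node (.node (.leaf 0x2d28) (.leaf 0x32b6)) (.node (.leaf 0x1164) (.leaf 0x5cde))) (.node (.node (.leaf 0x2592) (.leaf 0x48e0)) (.node (.leaf 0x206d) (.leaf 0x7189)))) (.node (.node (.node (.leaf 0x1094) (.leaf 0x3dff)) (.node (.leaf 0x1b21) (.leaf 0x6716))) (.node (.node (.leaf 0xd47) (.leaf 0x530c)) (.node (.leaf 0x2553) (.leaf 0x0)))))) (.node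 (.node (.node (.node (.node (.leaf 0x78f) (.leaf 0x2ee7)) (.node (.leaf 0x500f) (.leaf 0x58a9))) (.node (.node (.leaf 0x11e8) (.leaf 0x4711)) (.node (.leaf 0x1ed8) (.leaf 0x6f8e)))) (.node (.node (.node (.leaf 0x6422) (.leaf 0x3c86)) (.node (.leaf 0x196e) (.leaf 0x67ef))) (.node (.node (.leaf 0xc39) (.leaf 0x501f)) (.node (.leaf 0x5425) (.leaf 0x0))))) (.node (.node (.node (.node (.leaf 0x2982) (.leaf 0x372c)) (.node (.leaf 0x5002) (.leaf 0x5f3a))) (.node (.node (.leaf 0x6522) (.leaf 0x49f5)) (.node (.leaf 0x5174) (.leaf 0x74fd)))) (.node (.node (.node (.leaf 0x29c6) (.leaf 0x568b)) (.node (.leaf 0x191f) (.leaf 0x6a1e))) (.node (.node (.leaf 0x5dcb) (.leaf 0x6856)) (.node (.leaf 0x2ec5) (.leaf 0x0))))))) (.node (.node (.node (.node (.node (.node (.leaf 0x1c7) (.leaf 0x2a48)) (.node (.leaf 0x3187) (.leaf 0x57e7))) (.node (.node (.leaf 0x955) (.leaf 0x4497)) (.node (.leaf 0x25fd) (.leaf 0x6ca1)))) (.node (.node (.node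 (.leaf 0x51e) (.leaf 0x38c4)) (.node (.leaf 0x14d5) (.leaf 0x6377))) (.node (.node (.leaf 0x1b00) (.leaf 0x5ebe)) (.node (.leaf 0x2303) (.leaf 0x770f))))) (.node (.node (.node (.node (.leaf 0x1c6f) (.leaf 0x3122)) (.node (.leaf 0x1267) (.leaf 0x5e2a))) (.node (.node (.leaf 0x44db) (.leaf 0x48f9)) (.node (.leaf 0x2077) (.leaf 0x7127)))) (.node (.node (.node (.leaf 0x5eb) (.leaf 0x3d75)) (.node (.leaf 0x17f3) (.leaf 0x6959))) (.node (.node (.leaf 0xd43) (.leaf 0x51a4)) (.node (.leaf 0x5cd8) (.leaf 0x0)))))) (.node (.node (.node (.node (.node (.leaf 0xbaf) (.leaf 0x2f85)) (.node (.leaf 0x4767) (.leaf 0x5917))) (.node (.node (.leaf 0x730) (.leaf 0x46d5)) (.node (.leaf 0x1d69) (.leaf 0x6f18)))) (.node (.node (.node (.leaf 0x17b9) (.leaf 0x3a37)) (.node (.leaf 0x21ef) (.leaf 0x6539))) (.node (.node (.leaf 0xc9c) (.leaf 0x4eb0)) (.node (.leaf 0x244a) (.leaf 0x0))))) (.node (.node (.node (.node (.leaf 0xb10) (.leaf 0x58b5))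 (.node (.leaf 0x26b1) (.leaf 0x60af))) (.node (.node (.leaf 0x28ce) (.leaf 0x4c10)) (.node (.leaf 0x39dd) (.leaf 0x73e0)))) (.node (.node (.node (.leaf 0x2361) (.leaf 0x4299)) (.node (.leaf 0x1a20) (.leaf 0x6acb))) (.node (.node (.leaf 0x6567) (.leaf 0x557c)) (.node (.leaf 0x6b6e) (.leaf 0x0))))))))

/-- Closure. -/
def clo46 : FTree := (.node (.node (.node (.node (.node (.node (.node (.leaf 0x77) (.leaf 0x2c6d)) (.node (.leaf 0xf8b) (.leaf 0x5745))) (.node (.node (.leaf 0xe71) (.leaf 0x4470)) (.node (.leaf 0x699e) (.leaf 0x6de8)))) (.node (.node (.node (.leaf 0x530) (.leaf 0x3858)) (.node (.leaf 0x6d5c) (.leaf 0x61b4))) (.node (.node (.leaf 0xa6f) (.leaf 0x4ca4)) (.node (.leaf 0x41cf) (.leaf 0x7650))))) (.node (.node (.node (.node (.leaf 0x2d44) (.leaf 0x3329)) (.node (.leaf 0x1dd8) (.leaf 0x5ada))) (.node (.node (.leaf 0xb6c) (.leaf 0x6e16)) (.node (.leaf 0x5648) (.leaf 0x7299)))) (.node (.node (.node (.leaf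 0x94d) (.leaf 0x3f26)) (.node (.leaf 0x21c1) (.leaf 0x6762))) (.node (.node (.leaf 0xe4a) (.leaf 0x51ad)) (.node (.leaf 0x2682) (.leaf 0x0)))))) (.node (.node (.node (.node (.node (.leaf 0x4ff) (.leaf 0x5c14)) (.node (.leaf 0x421e) (.leaf 0x5950))) (.node (.node (.leaf 0x4879) (.leaf 0x5e1b)) (.node (.leaf 0x1f01) (.leaf 0x706c)))) (.node (.node (.node (.leaf 0x6d8) (.leaf 0x3e64)) (.node (.leaf 0x165d) (.leaf 0x6414))) (.node (.node (.leaf 0x644c) (.leaf 0x506c)) (.node (.leaf 0x4028) (.leaf 0x0))))) (.node (.node (.node (.node (.leaf 0x30e3) (.leaf 0x383f)) (.node (.leaf 0x13aa) (.leaf 0x5f27))) (.node (.node (.leaf 0x9ae) (.leaf 0x4b8a)) (.node (.leaf 0x2220) (.leaf 0x733b)))) (.node (.node (.node (.leaf 0x37e0) (.leaf 0x4295)) (.node (.leaf 0x346e) (.leaf 0x6c29))) (.node (.node (.leaf 0x2d71) (.leaf 0x5589)) (.node (.leaf 0x2925) (.leaf 0x0))))))) (.node (.node (.node (.node (.node (.node (.leaf 0x161) (.leaf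 0x2b8d)) (.node (.leaf 0xfa5) (.leaf 0x5762))) (.node (.node (.leaf 0x2eac) (.leaf 0x437b)) (.node (.leaf 0x1a9c) (.leaf 0x6d76)))) (.node (.node (.node (.leaf 0x13f1) (.leaf 0x3b8e)) (.node (.leaf 0x15e6) (.leaf 0x63bb))) (.node (.node (.leaf 0x4380) (.leaf 0x4d3d)) (.node (.leaf 0x22d1) (.leaf 0x761e))))) (.node (.node (.node (.node (.leaf 0x3e7) (.leaf 0x34be)) (.node (.leaf 0x1193) (.leaf 0x5d2c))) (.node (.node (.leaf 0xa07) (.leaf 0x481c)) (.node (.leaf 0x1f95) (.leaf 0x726b)))) (.node (.node (.node (.leaf 0x1192) (.leaf 0x3d49)) (.node (.leaf 0x55fa) (.leaf 0x6962))) (.node (.node (.leaf 0xda2) (.leaf 0x51ff)) (.node (.leaf 0x5106) (.leaf 0x0)))))) (.node (.node (.node (.node (.node (.leaf 0x4e7) (.leaf 0x2fb0)) (.node (.leaf 0x2888) (.leaf 0x5a8a))) (.node (.node (.leaf 0x6ff) (.leaf 0x4520)) (.node (.leaf 0x26dc) (.leaf 0x7033)))) (.node (.node (.node (.leaf 0xa69) (.leaf 0x3b63)) (.node (.leaf 0x44a7)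 (.leaf 0x6da3))) (.node (.node (.leaf 0xc89) (.leaf 0x509f)) (.node (.leaf 0x24d6) (.leaf 0x0))))) (.node (.node (.node (.node (.leaf 0xaeb) (.leaf 0x370a)) (.node (.leaf 0x136b) (.leaf 0x5f35))) (.node (.node (.leaf 0x1f74) (.leaf 0x4aec)) (.node (.leaf 0x5d48) (.leaf 0x7348)))) (.node (.node (.node (.leaf 0x5a00) (.leaf 0x406d)) (.node (.leaf 0x3995) (.leaf 0x6b24))) (.node (.node (.leaf 0x352a) (.leaf 0x6023)) (.node (.leaf 0x28b0) (.leaf 0x0))))))))

/-- Closure. -/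
def clo47 : FTree := (.node (.node (.node (.node (.node (.node (.node (.leaf 0x10a) (.leaf 0x2b84)) (.node (.leaf 0x1700) (.leaf 0x5674))) (.node (.node (.leaf 0x8c4) (.leaf 0x4429)) (.node (.leaf 0x1b58) (.leaf 0x6e34)))) (.node (.node (.node (.leaf 0x4649) (.leaf 0x3868)) (.node (.leaf 0x1541) (.leaf 0x627b))) (.node (.node (.leaf 0x3732) (.leaf 0x4c4b)) (.node (.leaf 0x6f07) (.leaf 0x75c6))))) (.node (.node (.node (.node (.leaf 0x86c) (.leaf 0x337d)) (.node (.leaf 0x11f2) (.leaf 0x5ad4))) (.node (.node (.leaf 0x16ef) (.leaf 0x48ad)) (.node (.leaf 0x2f56) (.leaf 0x72af)))) (.node (.node (.node (.leaf 0x26c4) (.leaf 0x3ea0)) (.node (.leaf 0x1748) (.leaf 0x66a0))) (.node (.node (.leaf 0xccb) (.leaf 0x5282)) (.node (.leaf 0x2636) (.leaf 0x0)))))) (.node (.node (.node (.node (.node (.leaf 0xba5) (.leaf 0x2e78)) (.node (.leaf 0x3493) (.leaf 0x59d6))) (.node (.node (.leaf 0x1581) (.leaf 0x4565)) (.node (.leaf 0x1f04)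 (.leaf 0x6f29)))) (.node (.node (.node (.leaf 0x3ec) (.leaf 0x3a90)) (.node (.leaf 0x1fa4) (.leaf 0x64cd))) (.node (.node (.leaf 0x6a3a) (.leaf 0x50b4)) (.node (.leaf 0x49af) (.leaf 0x0))))) (.node (.node (.node (.node (.leaf 0x2269) (.leaf 0x6647)) (.node (.leaf 0x66ab) (.leaf 0x6122))) (.node (.node (.leaf 0xa2d) (.leaf 0x532f)) (.node (.leaf 0x4459) (.leaf 0x743a)))) (.node (.node (.node (.leaf 0x2360) (.leaf 0x4024)) (.node (.leaf 0x19d6) (.leaf 0x6bb3))) (.node (.node (.leaf 0x2e71) (.leaf 0x53fa)) (.node (.leaf 0x2917) (.leaf 0x0))))))) (.node (.node (.node (.node (.node (.node (.leaf 0x0) (.leaf 0x0)) (.node (.leaf 0x0) (.leaf 0x0))) (.node (.node (.leaf 0x0) (.leaf 0x0)) (.node (.leaf 0x0) (.leaf 0x0)))) (.node (.node (.node (.leaf 0x0) (.leaf 0x0)) (.node (.leaf 0x0) (.leaf 0x0))) (.node (.node (.leaf 0x0) (.leaf 0x0)) (.node (.leaf 0x0) (.leaf 0x0))))) (.node (.node (.node (.node (.leaf 0x0) (.leaf 0x0))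 (.node (.leaf 0x0) (.leaf 0x0))) (.node (.node (.leaf 0x0) (.leaf 0x0)) (.node (.leaf 0x0) (.leaf 0x0)))) (.node (.node (.node (.leaf 0x0) (.leaf 0x0)) (.node (.leaf 0x0) (.leaf 0x0))) (.node (.node (.leaf 0x0) (.leaf 0x0)) (.node (.leaf 0x0) (.leaf 0x0)))))) (.node (.node (.node (.node (.node (.leaf 0x0) (.leaf 0x0)) (.node (.leaf 0x0) (.leaf 0x0))) (.node (.node (.leaf 0x0) (.leaf 0x0)) (.node (.leaf 0x0) (.leaf 0x0)))) (.node (.node (.node (.leaf 0x0) (.leaf 0x0)) (.node (.leaf 0x0) (.leaf 0x0))) (.node (.node (.leaf 0x0) (.leaf 0x0)) (.node (.leaf 0x0) (.leaf 0x0))))) (.node (.node (.node (.node (.leaf 0x0) (.leaf 0x0)) (.node (.leaf 0x0) (.leaf 0x0))) (.node (.node (.leaf 0x0) (.leaf 0x0)) (.node (.leaf 0x0) (.leaf 0x0)))) (.node (.node (.node (.leaf 0x0) (.leaf 0x0)) (.node (.leaf 0x0) (.leaf 0x0))) (.node (.node (.leaf 0x0) (.leaf 0x0)) (.node (.leaf 0x0) (.leaf 0x0))))))))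

/-- Closure. -/
def clo48 : FTree := (.node (.node (.node (.node (.node (.node (.node (.leaf 0x19) (.leaf 0x2b68)) (.node (.leaf 0x2a7d) (.leaf 0x5df7))) (.node (.node (.leaf 0xdb5) (.leaf 0x4354)) (.node (.leaf 0x1a77) (.leaf 0x6ea3)))) (.node (.node (.node (.leaf 0x13d9) (.leaf 0x38fd)) (.node (.leaf 0x3fe6) (.leaf 0x61ed))) (.node (.node (.leaf 0x105a) (.leaf 0x4de5)) (.node (.leaf 0x22c5) (.leaf 0x76aa))))) (.node (.node (.node (.node (.leaf 0x294) (.leaf 0x3105)) (.node (.leaf 0x116c) (.leaf 0x5e9c))) (.node (.node (.leaf 0x2c9c) (.leaf 0x4814)) (.node (.leaf 0x5551) (.leaf 0x7121)))) (.node (.node (.node (.leaf 0x2865) (.leaf 0x3eb9)) (.node (.leaf 0x2d38) (.leaf 0x66e4))) (.node (.node (.leaf 0xd77) (.leaf 0x5244)) (.node (.leaf 0x32b1) (.leaf 0x0)))))) (.node (.node (.node (.node (.node (.leaf 0x362) (.leaf 0x2e83)) (.node (.leaf 0x207c) (.leaf 0x5964))) (.node (.node (.leaf 0x2022) (.leaf 0x46c9)) (.node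 (.leaf 0x438a) (.leaf 0x6fc4)))) (.node (.node (.node (.leaf 0xe0e) (.leaf 0x3ac7)) (.node (.leaf 0x15a9) (.leaf 0x6457))) (.node (.node (.leaf 0xbfd) (.leaf 0x62af)) (.node (.leaf 0x23af) (.leaf 0x0))))) (.node (.node (.node (.node (.leaf 0x2990) (.leaf 0x36c8)) (.node (.leaf 0x1334) (.leaf 0x5f78))) (.node (.node (.leaf 0x2583) (.leaf 0x4bdc)) (.node (.leaf 0x2f62) (.leaf 0x7371)))) (.node (.node (.node (.leaf 0x1320) (.leaf 0x52b0)) (.node (.leaf 0x3487) (.leaf 0x6b80))) (.node (.node (.leaf 0x1bb3) (.leaf 0x5de1)) (.node (.leaf 0x2864) (.leaf 0x0))))))) (.node (.node (.node (.node (.node (.node (.leaf 0x12b) (.leaf 0x2a69)) (.node (.leaf 0x19ff) (.leaf 0x69fb))) (.node (.node (.leaf 0x5c3b) (.leaf 0x4431)) (.node (.leaf 0x1b57) (.leaf 0x6c5c)))) (.node (.node (.node (.leaf 0x3d0a) (.leaf 0x38d4)) (.node (.leaf 0x3fe7) (.leaf 0x6248))) (.node (.node (.leaf 0x2a2b) (.leaf 0x4dbf)) (.node (.leaf 0x2af8) (.leaf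 0x768c))))) (.node (.node (.node (.node (.leaf 0x2d4b) (.leaf 0x3301)) (.node (.leaf 0x11a3) (.leaf 0x5c80))) (.node (.node (.leaf 0x6e5a) (.leaf 0x47b7)) (.node (.leaf 0x2f5a) (.leaf 0x7279)))) (.node (.node (.node (.leaf 0x9b0) (.leaf 0x3e23)) (.node (.leaf 0x20a9) (.leaf 0x6921))) (.node (.node (.leaf 0xd68) (.leaf 0x522b)) (.node (.leaf 0x2643) (.leaf 0x0)))))) (.node (.node (.node (.node (.node (.leaf 0x504) (.leaf 0x2f12)) (.node (.leaf 0x109c) (.leaf 0x5a13))) (.node (.node (.leaf 0x4084) (.leaf 0x469b)) (.node (.leaf 0x2c5c) (.leaf 0x6f26)))) (.node (.node (.node (.leaf 0x49cb) (.leaf 0x3b7a)) (.node (.leaf 0x16f1) (.leaf 0x64e8))) (.node (.node (.leaf 0xc7d) (.leaf 0x4ed8)) (.node (.leaf 0x4506) (.leaf 0x0))))) (.node (.node (.node (.node (.leaf 0x3009) (.leaf 0x3841)) (.node (.leaf 0x6889) (.leaf 0x6085))) (.node (.node (.leaf 0xb63) (.leaf 0x4af2)) (.node (.leaf 0x21e4) (.leaf 0x7375)))) (.node (.node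 (.node (.leaf 0xa44) (.leaf 0x499e)) (.node (.leaf 0x199e) (.leaf 0x6c03))) (.node (.node (.leaf 0x3962) (.leaf 0x551e)) (.node (.leaf 0x3895) (.leaf 0x0))))))))

/-- Closure. -/
def clo49 : FTree := (.node (.node (.node (.node (.node (.node (.node (.leaf 0x87) (.leaf 0x3db7)) (.node (.leaf 0xf3e) (.leaf 0x56bc))) (.node (.node (.leaf 0x439c) (.leaf 0x430b)) (.node (.leaf 0x1f8d) (.leaf 0x6d3f)))) (.node (.node (.node (.leaf 0x3ce3) (.leaf 0x4e4d)) (.node (.leaf 0x18b4) (.leaf 0x622b))) (.node (.node (.leaf 0xf1c) (.leaf 0x4dc4)) (.node (.leaf 0x2ce4) (.leaf 0x7686))))) (.node (.node (.node (.node (.leaf 0x3bf) (.leaf 0x30b3)) (.node (.leaf 0x3398) (.leaf 0x5d76))) (.node (.node (.leaf 0x3def) (.leaf 0x4818)) (.node (.leaf 0x1f63) (.leaf 0x71d4)))) (.node (.node (.node (.leaf 0x6ab) (.leaf 0x3ef3)) (.node (.leaf 0x2d19) (.leaf 0x66f8))) (.node (.node (.leaf 0xff4) (.leaf 0x5285)) (.node (.leaf 0x2520) (.leaf 0x0))))))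 (.node (.node (.node (.node (.node (.leaf 0x233) (.leaf 0x2f28)) (.node (.leaf 0x2840) (.leaf 0x5925))) (.node (.node (.leaf 0x4270) (.leaf 0x45ff)) (.node (.leaf 0x1ccb) (.leaf 0x6ff3)))) (.node (.node (.node (.leaf 0x8b9) (.leaf 0x3ada)) (.node (.leaf 0x15c1) (.leaf 0x657e))) (.node (.node (.leaf 0x29af) (.leaf 0x5088)) (.node (.leaf 0x5c2b) (.leaf 0x0))))) (.node (.node (.node (.node (.leaf 0x32a) (.leaf 0x36f9)) (.node (.leaf 0x2b12) (.leaf 0x5f8e))) (.node (.node (.leaf 0xa27) (.leaf 0x4ad6)) (.node (.leaf 0x21fe) (.leaf 0x74f1)))) (.node (.node (.node (.leaf 0x2e0d) (.leaf 0x4234)) (.node (.leaf 0x2c40) (.leaf 0x6ae2))) (.node (.node (.leaf 0x1bbe) (.leaf 0x6857)) (.node (.leaf 0x2920) (.leaf 0x0))))))) (.node (.node (.node (.node (.node (.node (.leaf 0x1bd) (.leaf 0x31cf)) (.node (.leaf 0x5f9d) (.leaf 0x5788))) (.node (.node (.leaf 0x34b9) (.leaf 0x544b)) (.node (.leaf 0x1abc) (.leaf 0x6c3d)))) (.node (.node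 (.node (.leaf 0x1c9d) (.leaf 0x37da)) (.node (.leaf 0x4518) (.leaf 0x6393))) (.node (.node (.leaf 0xaa1) (.leaf 0x5ec0)) (.node (.leaf 0x5878) (.leaf 0x7595))))) (.node (.node (.node (.node (.leaf 0x30d) (.leaf 0x31c4)) (.node (.leaf 0x2bd4) (.leaf 0x5c17))) (.node (.node (.leaf 0x291a) (.leaf 0x4984)) (.node (.leaf 0x1f1f) (.leaf 0x7281)))) (.node (.node (.node (.leaf 0x483) (.leaf 0x3dcb)) (.node (.leaf 0x1ac1) (.leaf 0x67d4))) (.node (.node (.leaf 0xcfd) (.leaf 0x5222)) (.node (.leaf 0x3121) (.leaf 0x0)))))) (.node (.node (.node (.node (.node (.leaf 0x2d3) (.leaf 0x32c5)) (.node (.leaf 0x3420) (.leaf 0x5a53))) (.node (.node (.leaf 0xe03) (.leaf 0x4632)) (.node (.leaf 0x4019) (.leaf 0x6fc3)))) (.node (.node (.node (.leaf 0x30f1) (.leaf 0x3a83)) (.node (.leaf 0x1703) (.leaf 0x6572))) (.node (.node (.leaf 0x3593) (.leaf 0x506b)) (.node (.leaf 0x2492) (.leaf 0x0))))) (.node (.node (.node (.node (.leaf 0x45d) (.leaf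 0x3d8b)) (.node (.leaf 0x1371) (.leaf 0x5fa9))) (.node (.node (.leaf 0x5744) (.leaf 0x4dfb)) (.node (.leaf 0x20d5) (.leaf 0x73ee)))) (.node (.node (.node (.leaf 0x64c0) (.leaf 0x4259)) (.node (.leaf 0x1951) (.leaf 0x6c18))) (.node (.node (.leaf 0xe6f) (.leaf 0x55a5)) (.node (.leaf 0x6b75) (.leaf 0x0))))))))

/-- Closure. -/
def clo50 : FTree := (.node (.node (.node (.node (.node (.node (.node (.leaf 0x45) (.leaf 0x2a56)) (.node (.leaf 0xf17) (.leaf 0x583e))) (.node (.node (.leaf 0x6b9) (.leaf 0x42c0)) (.node (.leaf 0x1a30) (.leaf 0x6d8b)))) (.node (.node (.node (.leaf 0x813) (.leaf 0x3800)) (.node (.leaf 0x3296) (.leaf 0x627a))) (.node (.node (.leaf 0x11ff) (.leaf 0x4c6f)) (.node (.leaf 0x2261) (.leaf 0x7665))))) (.node (.node (.node (.node (.leaf 0x293) (.leaf 0x301f)) (.node (.leaf 0x1123) (.leaf 0x5d06))) (.node (.node (.leaf 0x85e) (.leaf 0x4765)) (.node (.leaf 0x1f17) (.leaf 0x71f8)))) (.node (.node (.node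 (.leaf 0x455) (.leaf 0x41b3)) (.node (.leaf 0x26d5) (.leaf 0x67fd))) (.node (.node (.leaf 0xcdb) (.leaf 0x5163)) (.node (.leaf 0x354d) (.leaf 0x0)))))) (.node (.node (.node (.node (.node (.leaf 0x206) (.leaf 0x2f88)) (.node (.leaf 0x697c) (.leaf 0x58d4))) (.node (.node (.leaf 0x712) (.leaf 0x45c8)) (.node (.leaf 0x2a89) (.leaf 0x6f6a)))) (.node (.node (.node (.leaf 0xc5b) (.leaf 0x5161)) (.node (.leaf 0x15fe) (.leaf 0x64c4))) (.node (.node (.leaf 0xbf2) (.leaf 0x4eb9)) (.node (.leaf 0x2417) (.leaf 0x0))))) (.node (.node (.node (.node (.leaf 0x2cb5) (.leaf 0x35ad)) (.node (.leaf 0x1353) (.leaf 0x5ede))) (.node (.node (.leaf 0x92e) (.leaf 0x4a6c)) (.node (.leaf 0x21a9) (.leaf 0x74d0)))) (.node (.node (.node (.leaf 0x561) (.leaf 0x3fd6)) (.node (.leaf 0x1a3c) (.leaf 0x6a54))) (.node (.node (.leaf 0xecf) (.leaf 0x561c)) (.node (.leaf 0x2e7f) (.leaf 0x0))))))) (.node (.node (.node (.node (.node (.node (.leaf 0x13e)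 (.leaf 0x2b6f)) (.node (.leaf 0x1c24) (.leaf 0x5735))) (.node (.node (.leaf 0x695b) (.leaf 0x445f)) (.node (.leaf 0x1a6a) (.leaf 0x6cc9)))) (.node (.node (.node (.leaf 0x1c9f) (.leaf 0x3822)) (.node (.leaf 0x1560) (.leaf 0x6211))) (.node (.node (.leaf 0xb4b) (.leaf 0x4ca5)) (.node (.leaf 0x2327) (.leaf 0x75ef))))) (.node (.node (.node (.node (.leaf 0x448) (.leaf 0x337e)) (.node (.leaf 0x12d9) (.leaf 0x6947))) (.node (.node (.leaf 0x4d91) (.leaf 0x48e8)) (.node (.leaf 0x6ec8) (.leaf 0x7194)))) (.node (.node (.node (.leaf 0x3337) (.leaf 0x3f83)) (.node (.leaf 0x1819) (.leaf 0x67a3))) (.node (.node (.leaf 0xd4e) (.leaf 0x529e)) (.node (.leaf 0x2615) (.leaf 0x0)))))) (.node (.node (.node (.node (.node (.leaf 0x2dd) (.leaf 0x3d9f)) (.node (.leaf 0x288e) (.leaf 0x5a20))) (.node (.node (.leaf 0x6f10) (.leaf 0x45d7)) (.node (.leaf 0x1eeb) (.leaf 0x6f9d)))) (.node (.node (.node (.leaf 0x4afa) (.leaf 0x4e18)) (.node (.leaf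 0x1640) (.leaf 0x640d))) (.node (.node (.leaf 0x359a) (.leaf 0x6a13)) (.node (.leaf 0x41f7) (.leaf 0x0))))) (.node (.node (.node (.node (.leaf 0x5bc0) (.leaf 0x5485)) (.node (.leaf 0x2247) (.leaf 0x622f))) (.node (.node (.leaf 0x983) (.leaf 0x4a48)) (.node (.leaf 0x20ec) (.leaf 0x7383)))) (.node (.node (.node (.leaf 0x1a2b) (.leaf 0x6648)) (.node (.leaf 0x3990) (.leaf 0x6ab8))) (.node (.node (.leaf 0x5b30) (.leaf 0x5345)) (.node (.leaf 0x27b8) (.leaf 0x0))))))))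

/-- Closure. -/
def clo51 : FTree := (.node (.node (.node (.node (.node (.node (.node (.leaf 0xd5) (.leaf 0x416f)) (.node (.leaf 0x2a75) (.leaf 0x5880))) (.node (.node (.leaf 0x62c4) (.leaf 0x4315)) (.node (.leaf 0x24b7) (.leaf 0x6caa)))) (.node (.node (.node (.leaf 0x13c7) (.leaf 0x38eb)) (.node (.leaf 0x3456) (.leaf 0x61f6))) (.node (.node (.leaf 0xcc3) (.leaf 0x4d27)) (.node (.leaf 0x6330) (.leaf 0x7629))))) (.node (.node (.node (.node (.leaf 0x3d80) (.leaf 0x33a2)) (.node (.leaf 0x12cb) (.leaf 0x5dcc))) (.node (.node (.leaf 0x29ec) (.leaf 0x478c)) (.node (.leaf 0x2051) (.leaf 0x71fe)))) (.node (.node (.node (.leaf 0x27a5) (.leaf 0x3fa4)) (.node (.leaf 0x6db5) (.leaf 0x67ee))) (.node (.node (.leaf 0xeb6) (.leaf 0x52e7)) (.node (.leaf 0x261f) (.leaf 0x0)))))) (.node (.node (.node (.node (.node (.leaf 0x357) (.leaf 0x5c03)) (.node (.leaf 0x415f) (.leaf 0x5a32))) (.node (.node (.leaf 0x6f9) (.leaf 0x6e38)) (.node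 (.leaf 0x1dc1) (.leaf 0x70c4)))) (.node (.node (.node (.leaf 0x5b9) (.leaf 0x3be2)) (.node (.leaf 0x50d0) (.leaf 0x65e3))) (.node (.node (.leaf 0x357f) (.leaf 0x5086)) (.node (.leaf 0x2415) (.leaf 0x0))))) (.node (.node (.node (.node (.leaf 0xaed) (.leaf 0x41e5)) (.node (.leaf 0x136a) (.leaf 0x60f3))) (.node (.node (.leaf 0x5cf7) (.leaf 0x4b97)) (.node (.leaf 0x3413) (.leaf 0x7351)))) (.node (.node (.node (.leaf 0x3616) (.leaf 0x408e)) (.node (.leaf 0x1a1d) (.leaf 0x6be0))) (.node (.node (.leaf 0xe29) (.leaf 0x5619)) (.node (.leaf 0x43d7) (.leaf 0x0))))))) (.node (.node (.node (.node (.node (.node (.leaf 0x1d6) (.leaf 0x29c9)) (.node (.leaf 0x565b) (.leaf 0x5746))) (.node (.node (.leaf 0x4e81) (.leaf 0x4333)) (.node (.leaf 0x1c0a) (.leaf 0x6ed9)))) (.node (.node (.node (.leaf 0x13e5) (.leaf 0x37de)) (.node (.leaf 0x3448) (.leaf 0x633d))) (.node (.node (.leaf 0x1039) (.leaf 0x4c6d)) (.node (.leaf 0x6743) (.leaf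 0x75e8))))) (.node (.node (.node (.node (.leaf 0x39d0) (.leaf 0x33f4)) (.node (.leaf 0x1e74) (.leaf 0x68f1))) (.node (.node (.leaf 0x46b9) (.leaf 0x4e68)) (.node (.leaf 0x1f89) (.leaf 0x7234)))) (.node (.node (.node (.leaf 0x2b3a) (.leaf 0x3e82)) (.node (.leaf 0x1814) (.leaf 0x68b2))) (.node (.node (.leaf 0x1223) (.leaf 0x5275)) (.node (.leaf 0x251a) (.leaf 0x0)))))) (.node (.node (.node (.node (.node (.leaf 0x4d2) (.leaf 0x2eec)) (.node (.leaf 0x108a) (.leaf 0x5a4e))) (.node (.node (.leaf 0x2f87) (.leaf 0x4598)) (.node (.leaf 0x1e34) (.leaf 0x70ec)))) (.node (.node (.node (.leaf 0x27bf) (.leaf 0x3a38)) (.node (.leaf 0x15a6) (.leaf 0x6496))) (.node (.node (.leaf 0xca7) (.leaf 0x50bf)) (.node (.leaf 0x53b4) (.leaf 0x0))))) (.node (.node (.node (.node (.leaf 0x2fe6) (.leaf 0x3697)) (.node (.leaf 0x1417) (.leaf 0x60f9))) (.node (.node (.leaf 0xa13) (.leaf 0x4b71)) (.node (.leaf 0x25c6) (.leaf 0x748c)))) (.node (.node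 (.node (.leaf 0xa48) (.leaf 0x5363)) (.node (.leaf 0x1906) (.leaf 0x6a85))) (.node (.node (.leaf 0xe66) (.leaf 0x550b)) (.node (.leaf 0x394e) (.leaf 0x0))))))))

/-- Closure. -/
def clo52 : FTree := (.node (.node (.node (.node (.node (.node (.node (.leaf 0x3b) (.leaf 0x302e)) (.node (.leaf 0x5fbf) (.leaf 0x576f))) (.node (.node (.leaf 0x3313) (.leaf 0x43d3)) (.node (.leaf 0x3522) (.leaf 0x6e74)))) (.node (.node (.node (.leaf 0x4671) (.leaf 0x3e7e)) (.node (.leaf 0x39ba) (.leaf 0x62ec))) (.node (.node (.leaf 0x1253) (.leaf 0x4e0a)) (.node (.leaf 0x5388) (.leaf 0x7655))))) (.node (.node (.node (.node (.leaf 0x2943) (.leaf 0x3310)) (.node (.leaf 0x2a3c) (.leaf 0x5e4a))) (.node (.node (.leaf 0x1d24) (.leaf 0x47a4)) (.node (.leaf 0x205f) (.leaf 0x729b)))) (.node (.node (.node (.leaf 0x1cea) (.leaf 0x3e41)) (.node (.leaf 0x5ab2) (.leaf 0x6804))) (.node (.node (.leaf 0x1d44) (.leaf 0x5172)) (.node (.leaf 0x32b3) (.leaf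 0x0)))))) (.node (.node (.node (.node (.node (.leaf 0x2f3) (.leaf 0x30c2)) (.node (.leaf 0x5767) (.leaf 0x5aa8))) (.node (.node (.leaf 0xd75) (.leaf 0x6622)) (.node (.leaf 0x3258) (.leaf 0x6fb9)))) (.node (.node (.node (.leaf 0x481) (.leaf 0x3c18)) (.node (.leaf 0x3c29) (.leaf 0x65cb))) (.node (.node (.leaf 0x299d) (.leaf 0x4e46)) (.node (.leaf 0x3e3e) (.leaf 0x0))))) (.node (.node (.node (.node (.leaf 0x5c94) (.leaf 0x4696)) (.node (.leaf 0x1d5d) (.leaf 0x6138))) (.node (.node (.leaf 0xde9) (.leaf 0x4bd8)) (.node (.leaf 0x28e7) (.leaf 0x7410)))) (.node (.node (.node (.leaf 0x1102) (.leaf 0x406b)) (.node (.leaf 0x5074) (.leaf 0x6c04))) (.node (.node (.leaf 0xe73) (.leaf 0x5364)) (.node (.leaf 0x28c5) (.leaf 0x0))))))) (.node (.node (.node (.node (.node (.node (.leaf 0x179) (.leaf 0x43c5)) (.node (.leaf 0x5657) (.leaf 0x5755))) (.node (.node (.leaf 0x669) (.leaf 0x43e8)) (.node (.leaf 0x25ef) (.leaf 0x6e97)))) (.node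 (.node (.node (.leaf 0x13e8) (.leaf 0x3836)) (.node (.leaf 0x14bf) (.leaf 0x651b))) (.node (.node (.leaf 0x2f76) (.leaf 0x4d97)) (.node (.leaf 0x53d7) (.leaf 0x7626))))) (.node (.node (.node (.node (.leaf 0x43d) (.leaf 0x351a)) (.node (.leaf 0x1e31) (.leaf 0x677c))) (.node (.node (.leaf 0x5d2a) (.leaf 0x47de)) (.node (.leaf 0x1fd8) (.leaf 0x7210)))) (.node (.node (.node (.leaf 0x1ac2) (.leaf 0x3dc6)) (.node (.leaf 0x5cdd) (.leaf 0x67f2))) (.node (.node (.leaf 0x336a) (.leaf 0x527f)) (.node (.leaf 0x2575) (.leaf 0x0)))))) (.node (.node (.node (.node (.node (.leaf 0x4d4) (.leaf 0x69e6)) (.node (.leaf 0x246f) (.leaf 0x59fb))) (.node (.node (.leaf 0xa20) (.leaf 0x44ff)) (.node (.leaf 0x3986) (.leaf 0x70c1)))) (.node (.node (.node (.leaf 0x272f) (.leaf 0x3b14)) (.node (.leaf 0x15d5) (.leaf 0x65e0))) (.node (.node (.leaf 0xc59) (.leaf 0x4e8a)) (.node (.leaf 0x248a) (.leaf 0x0))))) (.node (.node (.node (.node (.leaf 0x1140)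 (.leaf 0x36f4)) (.node (.leaf 0x1365) (.leaf 0x6089))) (.node (.node (.leaf 0x966) (.leaf 0x4aed)) (.node (.leaf 0x5539) (.leaf 0x7448)))) (.node (.node (.node (.leaf 0x3f32) (.leaf 0x40e9)) (.node (.leaf 0x18d0) (.leaf 0x6b96))) (.node (.node (.leaf 0x2669) (.leaf 0x6656)) (.node (.leaf 0x300c) (.leaf 0x0))))))))

/-- Closure. -/
def clo53 : FTree := (.node (.node (.node (.node (.node (.node (.node (.leaf 0xdb) (.leaf 0x2bf2)) (.node (.leaf 0x5129) (.leaf 0x574d))) (.node (.node (.leaf 0x704) (.leaf 0x5bb4)) (.node (.leaf 0x1b3d) (.leaf 0x6e83)))) (.node (.node (.node (.leaf 0x2de7) (.leaf 0x37f0)) (.node (.leaf 0x443c) (.leaf 0x635b))) (.node (.node (.leaf 0x2aa6) (.leaf 0x4ce4)) (.node (.leaf 0x2af6) (.leaf 0x7570))))) (.node (.node (.node (.node (.leaf 0x8eb) (.leaf 0x3356)) (.node (.leaf 0x3bef) (.leaf 0x5c4e))) (.node (.node (.leaf 0x3248) (.leaf 0x48f4)) (.node (.leaf 0x2099) (.leaf 0x71a1)))) (.node (.node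 (.node (.leaf 0x48e) (.leaf 0x3eac)) (.node (.leaf 0x1807) (.leaf 0x6d4d))) (.node (.node (.leaf 0x32fe) (.leaf 0x5213)) (.node (.leaf 0x276e) (.leaf 0x0)))))) (.node (.node (.node (.node (.node (.leaf 0xeeb) (.leaf 0x2e1e)) (.node (.leaf 0x6dff) (.leaf 0x5a86))) (.node (.node (.leaf 0x1832) (.leaf 0x4737)) (.node (.leaf 0x1df3) (.leaf 0x705d)))) (.node (.node (.node (.leaf 0x2734) (.leaf 0x3bea)) (.node (.leaf 0x197a) (.leaf 0x6593))) (.node (.node (.leaf 0x306f) (.leaf 0x4ef5)) (.node (.leaf 0x239a) (.leaf 0x0))))) (.node (.node (.node (.node (.leaf 0x64b) (.leaf 0x3682)) (.node (.leaf 0x2b06) (.leaf 0x60ff))) (.node (.node (.leaf 0xb60) (.leaf 0x4aa8)) (.node (.leaf 0x21bd) (.leaf 0x73ab)))) (.node (.node (.node (.leaf 0x9b9) (.leaf 0x4039)) (.node (.leaf 0x18d5) (.leaf 0x6bc7))) (.node (.node (.leaf 0x330e) (.leaf 0x53e3)) (.node (.leaf 0x280d) (.leaf 0x0))))))) (.node (.node (.node (.node (.node (.node (.leaf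 0x1c2) (.leaf 0x2a3e)) (.node (.leaf 0xf06) (.leaf 0x564f))) (.node (.node (.leaf 0x8ba) (.leaf 0x42f5)) (.node (.leaf 0x1ad2) (.leaf 0x6d24)))) (.node (.node (.node (.leaf 0x36b) (.leaf 0x3783)) (.node (.leaf 0x14ef) (.leaf 0x61d1))) (.node (.node (.leaf 0xa4e) (.leaf 0x4d54)) (.node (.leaf 0x226e) (.leaf 0x7600))))) (.node (.node (.node (.node (.leaf 0xbc3) (.leaf 0x2fcc)) (.node (.leaf 0x12b1) (.leaf 0x5d3b))) (.node (.node (.leaf 0x7e5) (.leaf 0x487a)) (.node (.leaf 0x2074) (.leaf 0x71fd)))) (.node (.node (.node (.leaf 0x469) (.leaf 0x3f7e)) (.node (.leaf 0x2d79) (.leaf 0x6783))) (.node (.node (.leaf 0xcd2) (.leaf 0x5141)) (.node (.leaf 0x2586) (.leaf 0x0)))))) (.node (.node (.node (.node (.node (.leaf 0x21b) (.leaf 0x2f39)) (.node (.leaf 0x1024) (.leaf 0x58ce))) (.node (.node (.leaf 0x3a89) (.leaf 0x44d7)) (.node (.leaf 0x1cda) (.leaf 0x6f98)))) (.node (.node (.node (.leaf 0x3a5) (.leaf 0x3a11)) (.node (.leaf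 0x16d8) (.leaf 0x655c))) (.node (.node (.leaf 0xbc9) (.leaf 0x511f)) (.node (.leaf 0x2341) (.leaf 0x0))))) (.node (.node (.node (.node (.leaf 0x2aa) (.leaf 0x364b)) (.node (.leaf 0x1306) (.leaf 0x6034))) (.node (.node (.leaf 0x8c5) (.leaf 0x4a53)) (.node (.leaf 0x21d4) (.leaf 0x7329)))) (.node (.node (.node (.leaf 0x7c6) (.leaf 0x40d6)) (.node (.leaf 0x1888) (.leaf 0x6a7e))) (.node (.node (.leaf 0xe16) (.leaf 0x5331)) (.node (.leaf 0x26c1) (.leaf 0x0))))))))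

/-- Closure. -/
def clo54 : FTree := (.node (.node (.node (.node (.node (.node (.node (.leaf 0x44) (.leaf 0x377c)) (.node (.leaf 0x2605) (.leaf 0x56e5))) (.node (.node (.leaf 0x3261) (.leaf 0x4466)) (.node (.leaf 0x1a5b) (.leaf 0x6f00)))) (.node (.node (.node (.leaf 0x1ca3) (.leaf 0x3798)) (.node (.leaf 0x14da) (.leaf 0x62bc))) (.node (.node (.leaf 0x2768) (.leaf 0x4e09)) (.node (.leaf 0x673e) (.leaf 0x753e))))) (.node (.node (.node (.node (.leaf 0x659) (.leaf 0x32ec)) (.node (.leaf 0x1288) (.leaf 0x5e44))) (.node (.node (.leaf 0x165f) (.leaf 0x47aa)) (.node (.leaf 0x5588) (.leaf 0x7237)))) (.node (.node (.node (.leaf 0x6a2) (.leaf 0x3f93)) (.node (.leaf 0x1bca) (.leaf 0x6719))) (.node (.node (.leaf 0xd56) (.leaf 0x52fe)) (.node (.leaf 0x2679) (.leaf 0x0)))))) (.node (.node (.node (.node (.node (.leaf 0xeec) (.leaf 0x2e3a)) (.node (.leaf 0x555e) (.leaf 0x5a8c))) (.node (.node (.leaf 0x55a1) (.leaf 0x452f)) (.node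 (.leaf 0x33a1) (.leaf 0x7030)))) (.node (.node (.node (.leaf 0x5a5) (.leaf 0x4069)) (.node (.leaf 0x1698) (.leaf 0x6674))) (.node (.node (.leaf 0x6130) (.leaf 0x4f02)) (.node (.leaf 0x2435) (.leaf 0x0))))) (.node (.node (.node (.node (.leaf 0x461) (.leaf 0x36c1)) (.node (.leaf 0x138e) (.leaf 0x5f46))) (.node (.node (.leaf 0x998) (.leaf 0x4bb6)) (.node (.leaf 0x21cf) (.leaf 0x732e)))) (.node (.node (.node (.leaf 0x5868) (.leaf 0x43eb)) (.node (.leaf 0x19bd) (.leaf 0x6b72))) (.node (.node (.leaf 0x17e2) (.leaf 0x5571)) (.node (.leaf 0x32aa) (.leaf 0x0))))))) (.node (.node (.node (.node (.node (.node (.leaf 0x126) (.leaf 0x2c68)) (.node (.leaf 0x50e4) (.leaf 0x57ac))) (.node (.node (.leaf 0x691) (.leaf 0x5bb2)) (.node (.leaf 0x2513) (.leaf 0x6db6)))) (.node (.node (.node (.leaf 0x544) (.leaf 0x379b)) (.node (.leaf 0x15f2) (.leaf 0x61a7))) (.node (.node (.leaf 0xadb) (.leaf 0x4d10)) (.node (.leaf 0x2cea) (.leaf 0x7584)))))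 (.node (.node (.node (.node (.leaf 0x44c) (.leaf 0x31da)) (.node (.leaf 0x1270) (.leaf 0x5c2f))) (.node (.node (.leaf 0x1d1e) (.leaf 0x47a9)) (.node (.leaf 0x6692) (.leaf 0x71af)))) (.node (.node (.node (.leaf 0x49c) (.leaf 0x3e9f)) (.node (.leaf 0x54a0) (.leaf 0x69c2))) (.node (.node (.leaf 0x1fc8) (.leaf 0x5232)) (.node (.leaf 0x5ea3) (.leaf 0x0)))))) (.node (.node (.node (.node (.node (.leaf 0x7a8) (.leaf 0x2de4)) (.node (.leaf 0x555c) (.leaf 0x5a97))) (.node (.node (.leaf 0x74e) (.leaf 0x4622)) (.node (.leaf 0x1d8f) (.leaf 0x6f3b)))) (.node (.node (.node (.leaf 0x2ea0) (.leaf 0x3b33)) (.node (.leaf 0x16c6) (.leaf 0x6610))) (.node (.node (.leaf 0x29a4) (.leaf 0x6558)) (.node (.leaf 0x23a0) (.leaf 0x0))))) (.node (.node (.node (.node (.leaf 0x938) (.leaf 0x36a3)) (.node (.leaf 0x1369) (.leaf 0x5f32))) (.node (.node (.leaf 0x1009) (.leaf 0x4bb9)) (.node (.leaf 0x33c8) (.leaf 0x74c6)))) (.node (.node (.node (.leaf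 0x5c0f) (.leaf 0x6404)) (.node (.leaf 0x18c6) (.leaf 0x6a7d))) (.node (.node (.leaf 0xebe) (.leaf 0x5490)) (.node (.leaf 0x2828) (.leaf 0x0))))))))

/-- Closure. -/
def clo55 : FTree := (.node (.node (.node (.node (.node (.node (.node (.leaf 0xf3) (.leaf 0x295b)) (.node (.leaf 0xf4a) (.leaf 0x5829))) (.node (.node (.leaf 0x3276) (.leaf 0x508f)) (.node (.leaf 0x3505) (.leaf 0x6dde)))) (.node (.node (.node (.leaf 0x7f9) (.leaf 0x37a6)) (.node (.leaf 0x1518) (.leaf 0x6287))) (.node (.node (.leaf 0xb65) (.leaf 0x4e1a)) (.node (.leaf 0x228f) (.leaf 0x7526))))) (.node (.node (.node (.node (.leaf 0x40e) (.leaf 0x505f)) (.node (.leaf 0x3156) (.leaf 0x5dc4))) (.node (.node (.leaf 0x1cc1) (.leaf 0x47a5)) (.node (.leaf 0x2075) (.leaf 0x72e7)))) (.node (.node (.node (.leaf 0x3254) (.leaf 0x3d30)) (.node (.leaf 0x236d) (.leaf 0x6781))) (.node (.node (.leaf 0x4f06) (.leaf 0x5154)) (.node (.leaf 0x265c) (.leaf 0x0)))))) (.node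 (.node (.node (.node (.node (.leaf 0x240) (.leaf 0x2ef0)) (.node (.leaf 0x199a) (.leaf 0x59bf))) (.node (.node (.leaf 0x331a) (.leaf 0x45c4)) (.node (.leaf 0x34ef) (.leaf 0x6f9a)))) (.node (.node (.node (.leaf 0x8fe) (.leaf 0x3c4a)) (.node (.leaf 0x16e1) (.leaf 0x665c))) (.node (.node (.leaf 0x618c) (.leaf 0x4e42)) (.node (.leaf 0x236f) (.leaf 0x0))))) (.node (.node (.node (.node (.leaf 0x3023) (.leaf 0x36a9)) (.node (.leaf 0x1402) (.leaf 0x6231))) (.node (.node (.leaf 0x19ce) (.leaf 0x4a75)) (.node (.leaf 0x2111) (.leaf 0x73d9)))) (.node (.node (.node (.leaf 0x2839) (.leaf 0x4171)) (.node (.leaf 0x5075) (.leaf 0x6bd0))) (.node (.node (.leaf 0x2b42) (.leaf 0x53c1)) (.node (.leaf 0x3ea7) (.leaf 0x0))))))) (.node (.node (.node (.node (.node (.node (.leaf 0x1fd) (.leaf 0x2964)) (.node (.leaf 0xf0c) (.leaf 0x56e1))) (.node (.node (.leaf 0x71f) (.leaf 0x5112)) (.node (.leaf 0x31ff) (.leaf 0x6eb4)))) (.node (.node (.node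 (.leaf 0x385) (.leaf 0x3981)) (.node (.leaf 0x1474) (.leaf 0x6258))) (.node (.node (.leaf 0x2883) (.leaf 0x4de8)) (.node (.leaf 0x4a5b) (.leaf 0x7582))))) (.node (.node (.node (.node (.leaf 0x57d) (.leaf 0x4ee8)) (.node (.leaf 0x1af1) (.leaf 0x5ae4))) (.node (.node (.leaf 0x80d) (.leaf 0x48be)) (.node (.leaf 0x1fbc) (.leaf 0x71d6)))) (.node (.node (.node (.leaf 0x91b) (.leaf 0x3d36)) (.node (.leaf 0x175c) (.leaf 0x699f))) (.node (.node (.leaf 0xd18) (.leaf 0x5156)) (.node (.leaf 0x25e4) (.leaf 0x0)))))) (.node (.node (.node (.node (.node (.leaf 0x214) (.leaf 0x584a)) (.node (.leaf 0x2618) (.leaf 0x58ed))) (.node (.node (.leaf 0x5c1f) (.leaf 0x46bf)) (.node (.leaf 0x1cf8) (.leaf 0x70fb)))) (.node (.node (.node (.leaf 0x116a) (.leaf 0x39df)) (.node (.leaf 0x4147) (.leaf 0x6563))) (.node (.node (.leaf 0xbd6) (.leaf 0x4e3b)) (.node (.leaf 0x23be) (.leaf 0x0))))) (.node (.node (.node (.node (.leaf 0x42c1) (.leaf 0x5484))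 (.node (.leaf 0x1323) (.leaf 0x6091))) (.node (.node (.leaf 0x3f86) (.leaf 0x4a2c)) (.node (.leaf 0x2122) (.leaf 0x73f6)))) (.node (.node (.node (.leaf 0x565) (.leaf 0x4274)) (.node (.leaf 0x3489) (.leaf 0x6ad8))) (.node (.node (.leaf 0xdd5) (.leaf 0x543c)) (.node (.leaf 0x26ed) (.leaf 0x0))))))))

/-- Closure. -/
def clo56 : FTree := (.node (.node (.node (.node (.node (.node (.node (.leaf 0x34) (.leaf 0x2b89)) (.node (.leaf 0xf27) (.leaf 0x580a))) (.node (.node (.leaf 0x45cb) (.leaf 0x43d9)) (.node (.leaf 0x340e) (.leaf 0x6c78)))) (.node (.node (.node (.leaf 0x1c80) (.leaf 0x3937)) (.node (.leaf 0x14b9) (.leaf 0x63b0))) (.node (.node (.leaf 0xb36) (.leaf 0x4ca0)) (.node (.leaf 0x4a5c) (.leaf 0x7593))))) (.node (.node (.node (.node (.leaf 0x42ad) (.leaf 0x533a)) (.node (.leaf 0x1612) (.leaf 0x5acb))) (.node (.node (.leaf 0x112b) (.leaf 0x47fa)) (.node (.leaf 0x1fb8) (.leaf 0x72f2)))) (.node (.node (.node (.leaf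 0x6bb) (.leaf 0x3d70)) (.node (.leaf 0x1bcd) (.leaf 0x69ae))) (.node (.node (.leaf 0xeb7) (.leaf 0x517e)) (.node (.leaf 0x43ab) (.leaf 0x0)))))) (.node (.node (.node (.node (.node (.leaf 0x261) (.leaf 0x3b1c)) (.node (.leaf 0xfca) (.leaf 0x5a14))) (.node (.node (.leaf 0x70c) (.leaf 0x4607)) (.node (.leaf 0x1e99) (.leaf 0x70d0)))) (.node (.node (.node (.leaf 0x36d7) (.leaf 0x39f8)) (.node (.leaf 0x4148) (.leaf 0x6598))) (.node (.node (.leaf 0xc5f) (.leaf 0x4eae)) (.node (.leaf 0x2428) (.leaf 0x0))))) (.node (.node (.node (.node (.leaf 0x5d2d) (.leaf 0x36bd)) (.node (.leaf 0x133b) (.leaf 0x6092))) (.node (.node (.leaf 0x25d8) (.leaf 0x4af7)) (.node (.leaf 0x20bf) (.leaf 0x731f)))) (.node (.node (.node (.leaf 0x5b26) (.leaf 0x4150)) (.node (.leaf 0x3485) (.leaf 0x6b49))) (.node (.node (.leaf 0xdb8) (.leaf 0x5557)) (.node (.leaf 0x3aa1) (.leaf 0x0))))))) (.node (.node (.node (.node (.node (.node (.leaf 0x15c) (.leaf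 0x4f78)) (.node (.leaf 0xf87) (.leaf 0x574b))) (.node (.node (.leaf 0x5c75) (.leaf 0x440f)) (.node (.leaf 0x3354) (.leaf 0x6da9)))) (.node (.node (.node (.leaf 0x845) (.leaf 0x38bd)) (.node (.leaf 0x4d5a) (.leaf 0x631e))) (.node (.node (.leaf 0x2f75) (.leaf 0x4dd7)) (.node (.leaf 0x2393) (.leaf 0x75bc))))) (.node (.node (.node (.node (.leaf 0x3c0) (.leaf 0x34ec)) (.node (.leaf 0x1275) (.leaf 0x5eae))) (.node (.node (.leaf 0xea4) (.leaf 0x481f)) (.node (.leaf 0x1fa8) (.leaf 0x7300)))) (.node (.node (.node (.leaf 0x8b4) (.leaf 0x3ebb)) (.node (.leaf 0x17ba) (.leaf 0x67c5))) (.node (.node (.leaf 0xd20) (.leaf 0x51e9)) (.node (.leaf 0x545b) (.leaf 0x0)))))) (.node (.node (.node (.node (.node (.leaf 0x505) (.leaf 0x2db1)) (.node (.leaf 0x128a) (.leaf 0x59b7))) (.node (.node (.leaf 0x9f8) (.leaf 0x4c1d)) (.node (.leaf 0x3c30) (.leaf 0x6fba)))) (.node (.node (.node (.leaf 0xed2) (.leaf 0x3a74)) (.node (.leaf 0x19ac) (.leaf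 0x649d))) (.node (.node (.leaf 0x643c) (.leaf 0x639f)) (.node (.leaf 0x24e1) (.leaf 0x0))))) (.node (.node (.node (.node (.leaf 0x264c) (.leaf 0x3741)) (.node (.leaf 0x136d) (.leaf 0x5fc6))) (.node (.node (.leaf 0x3528) (.leaf 0x68ca)) (.node (.leaf 0x2c2e) (.leaf 0x7440)))) (.node (.node (.node (.leaf 0x5ff) (.leaf 0x4107)) (.node (.leaf 0x1944) (.leaf 0x6bd8))) (.node (.node (.leaf 0x5daf) (.leaf 0x61ea)) (.node (.leaf 0x287e) (.leaf 0x0))))))))

/-- Closure. -/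
def clo57 : FTree := (.node (.node (.node (.node (.node (.node (.node (.leaf 0xc2) (.leaf 0x53a8)) (.node (.leaf 0x10aa) (.leaf 0x568a))) (.node (.node (.leaf 0x95c) (.leaf 0x439f)) (.node (.leaf 0x1c4c) (.leaf 0x6e7b)))) (.node (.node (.node (.leaf 0x392) (.leaf 0x388c)) (.node (.leaf 0x15e8) (.leaf 0x62f9))) (.node (.node (.leaf 0x5497) (.leaf 0x4cc9)) (.node (.leaf 0x5889) (.leaf 0x7534))))) (.node (.node (.node (.node (.leaf 0x21e1) (.leaf 0x352e)) (.node (.leaf 0x3b4b) (.leaf 0x5ae3))) (.node (.node (.leaf 0x2345) (.leaf 0x4995)) (.node (.leaf 0x2098) (.leaf 0x71b1)))) (.node (.node (.node (.leaf 0x3ad7) (.leaf 0x41cb)) (.node (.leaf 0x17f7) (.leaf 0x6841))) (.node (.node (.leaf 0xff6) (.leaf 0x51a8)) (.node (.leaf 0x5c3a) (.leaf 0x0)))))) (.node (.node (.node (.node (.node (.leaf 0x789) (.leaf 0x2d4c)) (.node (.leaf 0x4617) (.leaf 0x58dd))) (.node (.node (.leaf 0x3eb5) (.leaf 0x46ab)) (.node (.leaf 0x37cd)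 (.leaf 0x7041)))) (.node (.node (.node (.leaf 0x47b) (.leaf 0x3ae5)) (.node (.leaf 0x168a) (.leaf 0x64bb))) (.node (.node (.leaf 0xc91) (.leaf 0x4ea4)) (.node (.leaf 0x2430) (.leaf 0x0))))) (.node (.node (.node (.node (.leaf 0x302a) (.leaf 0x36db)) (.node (.leaf 0x1351) (.leaf 0x6101))) (.node (.node (.leaf 0xd2a) (.leaf 0x4b12)) (.node (.leaf 0x2106) (.leaf 0x7358)))) (.node (.node (.node (.leaf 0xaf3) (.leaf 0x41af)) (.node (.leaf 0x5836) (.leaf 0x6abd))) (.node (.node (.leaf 0xe90) (.leaf 0x539d)) (.node (.leaf 0x693a) (.leaf 0x0))))))) (.node (.node (.node (.node (.node (.node (.leaf 0x186) (.leaf 0x58e9)) (.node (.leaf 0x16fd) (.leaf 0x581f))) (.node (.node (.leaf 0x2c77) (.leaf 0x42bd)) (.node (.leaf 0x1a84) (.leaf 0x6e2c)))) (.node (.node (.node (.leaf 0x4653) (.leaf 0x40d7)) (.node (.leaf 0x152b) (.leaf 0x61ce))) (.node (.node (.leaf 0x387c) (.leaf 0x4d50)) (.node (.leaf 0x22b1) (.leaf 0x753c))))) (.node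 (.node (.node (.node (.leaf 0x583) (.leaf 0x3117)) (.node (.leaf 0x4e56) (.leaf 0x5c7a))) (.node (.node (.leaf 0x44d9) (.leaf 0x48a1)) (.node (.leaf 0x1ffa) (.leaf 0x7123)))) (.node (.node (.node (.leaf 0x5437) (.leaf 0x3d37)) (.node (.leaf 0x17b0) (.leaf 0x6780))) (.node (.node (.leaf 0x3300) (.leaf 0x5183)) (.node (.leaf 0x2626) (.leaf 0x0)))))) (.node (.node (.node (.node (.node (.leaf 0xba6) (.leaf 0x458b)) (.node (.leaf 0x1e8e) (.leaf 0x5a85))) (.node (.node (.leaf 0x192f) (.leaf 0x4738)) (.node (.leaf 0x1dd1) (.leaf 0x705c)))) (.node (.node (.node (.leaf 0xe69) (.leaf 0x3c2c)) (.node (.leaf 0x15ae) (.leaf 0x65eb))) (.node (.node (.leaf 0xc97) (.leaf 0x4e5f)) (.node (.leaf 0x4f7d) (.leaf 0x0))))) (.node (.node (.node (.node (.leaf 0x5b0f) (.leaf 0x641a)) (.node (.leaf 0x691d) (.leaf 0x5f1d))) (.node (.node (.leaf 0x24f7) (.leaf 0x4b04)) (.node (.leaf 0x33c7) (.leaf 0x7320)))) (.node (.node (.node (.leaf 0x58e)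 (.leaf 0x402f)) (.node (.leaf 0x2c46) (.leaf 0x6bda))) (.node (.node (.leaf 0xed0) (.leaf 0x5409)) (.node (.leaf 0x6dbf) (.leaf 0x0))))))))

/-- Closure. -/
def clo58 : FTree := (.node (.node (.node (.node (.node (.node (.node (.leaf 0x70) (.leaf 0x3af1)) (.node (.leaf 0xf6b) (.leaf 0x582d))) (.node (.node (.leaf 0x1b87) (.leaf 0x4449)) (.node (.leaf 0x3a7b) (.leaf 0x6e2e)))) (.node (.node (.node (.leaf 0x4684) (.leaf 0x3869)) (.node (.leaf 0x14f1) (.leaf 0x6263))) (.node (.node (.leaf 0x31f7) (.leaf 0x4cfe)) (.node (.leaf 0x537a) (.leaf 0x7648))))) (.node (.node (.node (.node (.leaf 0x12ff) (.leaf 0x5e5f)) (.node (.leaf 0x12e4) (.leaf 0x5d6b))) (.node (.node (.leaf 0x3e76) (.leaf 0x48ff)) (.node (.leaf 0x2194) (.leaf 0x730b)))) (.node (.node (.node (.leaf 0x1cee) (.leaf 0x3d2c)) (.node (.leaf 0x30b1) (.leaf 0x66c7))) (.node (.node (.leaf 0x4094) (.leaf 0x51f7)) (.node (.leaf 0x2622) (.leaf 0x0)))))) (.node (.node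 (.node (.node (.node (.leaf 0x2ae) (.leaf 0x2e8a)) (.node (.leaf 0x1025) (.leaf 0x5aa7))) (.node (.node (.leaf 0x1099) (.leaf 0x4593)) (.node (.leaf 0x1d96) (.leaf 0x707f)))) (.node (.node (.node (.leaf 0x8b8) (.leaf 0x3ab7)) (.node (.leaf 0x21f2) (.leaf 0x649b))) (.node (.node (.leaf 0x299b) (.leaf 0x50af)) (.node (.leaf 0x24f4) (.leaf 0x0))))) (.node (.node (.node (.node (.leaf 0x333) (.leaf 0x4b40)) (.node (.leaf 0x278d) (.leaf 0x60b2))) (.node (.node (.leaf 0x4fdf) (.leaf 0x4b2d)) (.node (.leaf 0x33c2) (.leaf 0x741d)))) (.node (.node (.node (.leaf 0x10f3) (.leaf 0x40ec)) (.node (.leaf 0x19cd) (.leaf 0x6b47))) (.node (.node (.leaf 0x27de) (.leaf 0x53f1)) (.node (.leaf 0x28d1) (.leaf 0x0))))))) (.node (.node (.node (.node (.node (.node (.leaf 0x191) (.leaf 0x6c39)) (.node (.leaf 0x1c31) (.leaf 0x571b))) (.node (.node (.leaf 0x4aaf) (.leaf 0x4317)) (.node (.leaf 0x1b1a) (.leaf 0x6cba)))) (.node (.node (.node (.leaf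 0x1ca8) (.leaf 0x4647)) (.node (.leaf 0x14aa) (.leaf 0x63ad))) (.node (.node (.leaf 0xae2) (.leaf 0x4d6e)) (.node (.leaf 0x3098) (.leaf 0x76c9))))) (.node (.node (.node (.node (.leaf 0x1727) (.leaf 0x3401)) (.node (.leaf 0x41ad) (.leaf 0x5ace))) (.node (.node (.leaf 0xea7) (.leaf 0x4886)) (.node (.leaf 0x209e) (.leaf 0x71ee)))) (.node (.node (.node (.leaf 0x1226) (.leaf 0x3e63)) (.node (.leaf 0x203f) (.leaf 0x6819))) (.node (.node (.leaf 0x2f24) (.leaf 0x51d8)) (.node (.leaf 0x25da) (.leaf 0x0)))))) (.node (.node (.node (.node (.node (.leaf 0x2e8) (.leaf 0x2e93)) (.node (.leaf 0x10e1) (.leaf 0x59f8))) (.node (.node (.leaf 0x1e78) (.leaf 0x4643)) (.node (.leaf 0x3f06) (.leaf 0x6f2a)))) (.node (.node (.node (.leaf 0x1cb5) (.leaf 0x3a5a)) (.node (.leaf 0x1d6a) (.leaf 0x65c2))) (.node (.node (.leaf 0x642f) (.leaf 0x4eb2)) (.node (.leaf 0x3bb9) (.leaf 0x0))))) (.node (.node (.node (.node (.leaf 0x2d6a) (.leaf 0x36df))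 (.node (.leaf 0x278c) (.leaf 0x5ffc))) (.node (.node (.leaf 0xb54) (.leaf 0x4a28)) (.node (.leaf 0x213d) (.leaf 0x73ca)))) (.node (.node (.node (.leaf 0x270d) (.leaf 0x4151)) (.node (.leaf 0x18c8) (.leaf 0x6b50))) (.node (.node (.leaf 0xec8) (.leaf 0x5390)) (.node (.leaf 0x5b64) (.leaf 0x0))))))))

/-- Closure. -/
def clo59 : FTree := (.node (.node (.node (.node (.node (.node (.node (.leaf 0xe0) (.leaf 0x2c6f)) (.node (.leaf 0xeff) (.leaf 0x565a))) (.node (.node (.leaf 0x605) (.leaf 0x42e0)) (.node (.leaf 0x1c1d) (.leaf 0x6de1)))) (.node (.node (.node (.leaf 0x7ec) (.leaf 0x3940)) (.node (.leaf 0x14c4) (.leaf 0x61d2))) (.node (.node (.leaf 0x2e65) (.leaf 0x4c69)) (.node (.leaf 0x308a) (.leaf 0x7607))))) (.node (.node (.node (.node (.leaf 0x31a) (.leaf 0x2ff5)) (.node (.leaf 0x1635) (.leaf 0x5d5b))) (.node (.node (.leaf 0x875) (.leaf 0x491d)) (.node (.leaf 0x2015) (.leaf 0x72ae)))) (.node (.node (.node (.leaf 0x70e)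 (.leaf 0x3fa6)) (.node (.leaf 0x2d7a) (.leaf 0x66fb))) (.node (.node (.leaf 0x2f21) (.leaf 0x5139)) (.node (.leaf 0x2567) (.leaf 0x0)))))) (.node (.node (.node (.node (.node (.leaf 0x213) (.leaf 0x2d8a)) (.node (.leaf 0xffc) (.leaf 0x58db))) (.node (.node (.leaf 0x1e49) (.leaf 0x44df)) (.node (.leaf 0x3a2d) (.leaf 0x6fe1)))) (.node (.node (.node (.leaf 0x3b6) (.leaf 0x3a0f)) (.node (.leaf 0x16ce) (.leaf 0x65c8))) (.node (.node (.leaf 0xc42) (.leaf 0x4fb5)) (.node (.leaf 0x24e7) (.leaf 0x0))))) (.node (.node (.node (.node (.leaf 0xbcb) (.leaf 0x35d5)) (.node (.leaf 0x2e14) (.leaf 0x60d4))) (.node (.node (.leaf 0x991) (.leaf 0x49e3)) (.node (.leaf 0x20fc) (.leaf 0x7327)))) (.node (.node (.node (.leaf 0x579) (.leaf 0x6403)) (.node (.leaf 0x1889) (.leaf 0x6a8f))) (.node (.node (.leaf 0xeae) (.leaf 0x6ce0)) (.node (.leaf 0x2699) (.leaf 0x0))))))) (.node (.node (.node (.node (.node (.node (.leaf 0x1e6) (.leaf 0x2a2d))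 (.node (.leaf 0x316a) (.leaf 0x57e4))) (.node (.node (.leaf 0x1b6c) (.leaf 0x42e6)) (.node (.leaf 0x498e) (.leaf 0x6dd1)))) (.node (.node (.node (.leaf 0x532) (.leaf 0x3946)) (.node (.leaf 0x14c3) (.leaf 0x6238))) (.node (.node (.leaf 0x40ea) (.leaf 0x5ec8)) (.node (.leaf 0x537c) (.leaf 0x76fa))))) (.node (.node (.node (.node (.leaf 0x172b) (.leaf 0x33d5)) (.node (.leaf 0x12b2) (.leaf 0x5e40))) (.node (.node (.leaf 0x2ffc) (.leaf 0x505c)) (.node (.leaf 0x2549) (.leaf 0x71bb)))) (.node (.node (.node (.leaf 0x46a) (.leaf 0x3e60)) (.node (.leaf 0x1876) (.leaf 0x68ce))) (.node (.node (.leaf 0x141f) (.leaf 0x526d)) (.node (.leaf 0x50a8) (.leaf 0x0)))))) (.node (.node (.node (.node (.node (.leaf 0x2e1) (.leaf 0x2e5e)) (.node (.leaf 0x21f6) (.leaf 0x5a57))) (.node (.node (.leaf 0xb82) (.leaf 0x453b)) (.node (.leaf 0x1e25) (.leaf 0x6f85)))) (.node (.node (.node (.leaf 0x5369) (.leaf 0x3a5c)) (.node (.leaf 0x6f32) (.leaf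 0x654e))) (.node (.node (.leaf 0x3054) (.leaf 0x4eb3)) (.node (.leaf 0x3c3d) (.leaf 0x0))))) (.node (.node (.node (.node (.leaf 0x2cc3) (.leaf 0x36e2)) (.node (.leaf 0x472b) (.leaf 0x613c))) (.node (.node (.leaf 0x1b2a) (.leaf 0x5ea8)) (.node (.leaf 0x21ae) (.leaf 0x7431)))) (.node (.node (.node (.leaf 0x1d64) (.leaf 0x4043)) (.node (.leaf 0x2c3c) (.leaf 0x6b07))) (.node (.node (.leaf 0x43f5) (.leaf 0x5593)) (.node (.leaf 0x5b3a) (.leaf 0x0))))))))

/-- Closure. -/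
def clo60 : FTree := (.node (.node (.node (.node (.node (.node (.node (.leaf 0x48) (.leaf 0x2a1f)) (.node (.leaf 0x10ba) (.leaf 0x5702))) (.node (.node (.leaf 0x964) (.leaf 0x43a7)) (.node (.leaf 0x1a67) (.leaf 0x6dda)))) (.node (.node (.node (.leaf 0x4655) (.leaf 0x396f)) (.node (.leaf 0x32a2) (.leaf 0x6398))) (.node (.node (.leaf 0x31a0) (.leaf 0x4cfd)) (.node (.leaf 0x230f) (.leaf 0x7628))))) (.node (.node (.node (.node (.leaf 0x28d) (.leaf 0x32d2)) (.node (.leaf 0x11a8) (.leaf 0x5c3e))) (.node (.node (.leaf 0x1154) (.leaf 0x487b)) (.node (.leaf 0x6c8f) (.leaf 0x71b8)))) (.node (.node (.node (.leaf 0x159c) (.leaf 0x3d91)) (.node (.leaf 0x34a8) (.leaf 0x6861))) (.node (.node (.leaf 0xd87) (.leaf 0x5307)) (.node (.leaf 0x2564) (.leaf 0x0)))))) (.node (.node (.node (.node (.node (.leaf 0x76a) (.leaf 0x2f10)) (.node (.leaf 0x2bb5) (.leaf 0x5916))) (.node (.node (.leaf 0x16b5) (.leaf 0x4570)) (.node (.leaf 0x1df2)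 (.leaf 0x6f52)))) (.node (.node (.node (.leaf 0xc99) (.leaf 0x3cc1)) (.node (.leaf 0x15f7) (.leaf 0x6627))) (.node (.node (.leaf 0x29aa) (.leaf 0x5d6e)) (.node (.leaf 0x5421) (.leaf 0x0))))) (.node (.node (.node (.node (.leaf 0x5b0d) (.leaf 0x36b0)) (.node (.leaf 0x1438) (.leaf 0x5f6e))) (.node (.node (.leaf 0x381f) (.leaf 0x4ad9)) (.node (.leaf 0x4134) (.leaf 0x7498)))) (.node (.node (.node (.leaf 0x3231) (.leaf 0x41ce)) (.node (.leaf 0x18ef) (.leaf 0x6b65))) (.node (.node (.leaf 0x5064) (.leaf 0x6e89)) (.node (.leaf 0x26d2) (.leaf 0x0))))))) (.node (.node (.node (.node (.node (.node (.leaf 0x189) (.leaf 0x2c5a)) (.node (.leaf 0x50e8) (.leaf 0x5743))) (.node (.node (.leaf 0x68d8) (.leaf 0x4369)) (.node (.leaf 0x28f1) (.leaf 0x6e1c)))) (.node (.node (.node (.leaf 0x384) (.leaf 0x38a6)) (.node (.leaf 0x14fe) (.leaf 0x61cc))) (.node (.node (.leaf 0x4ebc) (.leaf 0x4cb3)) (.node (.leaf 0x6737) (.leaf 0x755d))))) (.node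 (.node (.node (.node (.leaf 0x658) (.leaf 0x341f)) (.node (.leaf 0x1e23) (.leaf 0x5db5))) (.node (.node (.leaf 0x20cb) (.leaf 0x47e0)) (.node (.leaf 0x20a1) (.leaf 0x72c1)))) (.node (.node (.node (.leaf 0x14a3) (.leaf 0x3d6e)) (.node (.leaf 0x2d7b) (.leaf 0x680e))) (.node (.node (.leaf 0x31a3) (.leaf 0x51b1)) (.node (.leaf 0x2770) (.leaf 0x0)))))) (.node (.node (.node (.node (.node (.leaf 0x7a5) (.leaf 0x5c5d)) (.node (.leaf 0x106d) (.leaf 0x59c8))) (.node (.node (.leaf 0x5c7c) (.leaf 0x4b74)) (.node (.leaf 0x4e0d) (.leaf 0x70b4)))) (.node (.node (.node (.leaf 0x424) (.leaf 0x3c69)) (.node (.leaf 0x16d1) (.leaf 0x6465))) (.node (.node (.leaf 0xc8d) (.leaf 0x4fdd)) (.node (.leaf 0x47bb) (.leaf 0x0))))) (.node (.node (.node (.node (.leaf 0x39f) (.leaf 0x364f)) (.node (.leaf 0x3e53) (.leaf 0x602c))) (.node (.node (.leaf 0x2c53) (.leaf 0x4ab1)) (.node (.leaf 0x2209) (.leaf 0x7455)))) (.node (.node (.node (.leaf 0x5cc)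 (.leaf 0x4246)) (.node (.leaf 0x18dd) (.leaf 0x6b94))) (.node (.node (.leaf 0x1bc6) (.leaf 0x5620)) (.node (.leaf 0x2816) (.leaf 0x0))))))))

/-- Closure. -/
def clo61 : FTree := (.node (.node (.node (.node (.node (.node (.node (.leaf 0xee) (.leaf 0x2a70)) (.node (.leaf 0xf63) (.leaf 0x574c))) (.node (.node (.leaf 0x3275) (.leaf 0x43d0)) (.node (.leaf 0x39bf) (.leaf 0x6dc7)))) (.node (.node (.node (.leaf 0x39a) (.leaf 0x394f)) (.node (.leaf 0x2bf5) (.leaf 0x620a))) (.node (.node (.leaf 0x2ad0) (.leaf 0x4dab)) (.node (.leaf 0x674b) (.leaf 0x7673))))) (.node (.node (.node (.node (.leaf 0x21e6) (.leaf 0x3494)) (.node (.leaf 0x122b) (.leaf 0x5dc5))) (.node (.node (.leaf 0x4209) (.leaf 0x48e4)) (.node (.leaf 0x205c) (.leaf 0x7191)))) (.node (.node (.node (.leaf 0x5481) (.leaf 0x3f84)) (.node (.leaf 0x1ce1) (.leaf 0x6867))) (.node (.node (.leaf 0xd6b) (.leaf 0x52be)) (.node (.leaf 0x2639) (.leaf 0x0)))))) (.node (.node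 (.node (.node (.node (.leaf 0x765) (.leaf 0x5ceb)) (.node (.leaf 0x10f4) (.leaf 0x58df))) (.node (.node (.leaf 0xd80) (.leaf 0x4534)) (.node (.leaf 0x628c) (.leaf 0x6fef)))) (.node (.node (.node (.leaf 0x3dfe) (.leaf 0x3c7a)) (.node (.leaf 0x166f) (.leaf 0x6570))) (.node (.node (.leaf 0xc7b) (.leaf 0x50d4)) (.node (.leaf 0x2467) (.leaf 0x0))))) (.node (.node (.node (.node (.leaf 0xb90) (.leaf 0x365f)) (.node (.leaf 0x46a0) (.leaf 0x6127))) (.node (.node (.leaf 0x1256) (.leaf 0x4b01)) (.node (.leaf 0x20fb) (.leaf 0x738e)))) (.node (.node (.node (.leaf 0xd67) (.leaf 0x4248)) (.node (.leaf 0x1923) (.leaf 0x6ba3))) (.node (.node (.leaf 0x102a) (.leaf 0x546d)) (.node (.leaf 0x2ef4) (.leaf 0x0))))))) (.node (.node (.node (.node (.node (.node (.leaf 0x1dd) (.leaf 0x2988)) (.node (.leaf 0x318f) (.leaf 0x5785))) (.node (.node (.leaf 0x1003) (.leaf 0x42bc)) (.node (.leaf 0x4364) (.leaf 0x6d73)))) (.node (.node (.node (.leaf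 0x533) (.leaf 0x3a6d)) (.node (.leaf 0x144d) (.leaf 0x638e))) (.node (.node (.leaf 0x117a) (.leaf 0x4c53)) (.node (.leaf 0x41d7) (.leaf 0x76b8))))) (.node (.node (.node (.node (.leaf 0x2359) (.leaf 0x312b)) (.node (.leaf 0x115e) (.leaf 0x5b11))) (.node (.node (.leaf 0x6e54) (.leaf 0x48c4)) (.node (.leaf 0x1f5e) (.leaf 0x725e)))) (.node (.node (.node (.leaf 0x1088) (.leaf 0x3f37)) (.node (.leaf 0x54f4) (.leaf 0x6991))) (.node (.node (.leaf 0xd6c) (.leaf 0x52dc)) (.node (.leaf 0x25ce) (.leaf 0x0)))))) (.node (.node (.node (.node (.node (.leaf 0xbb0) (.leaf 0x2f0e)) (.node (.leaf 0x1c0d) (.leaf 0x59ca))) (.node (.node (.leaf 0x6cb8) (.leaf 0x45fb)) (.node (.leaf 0x1ea6) (.leaf 0x70bd)))) (.node (.node (.node (.leaf 0xfe9) (.leaf 0x3b87)) (.node (.leaf 0x16ec) (.leaf 0x65d5))) (.node (.node (.leaf 0xc6f) (.leaf 0x4e74)) (.node (.leaf 0x2437) (.leaf 0x0))))) (.node (.node (.node (.node (.leaf 0x5b0e) (.leaf 0x35cb))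 (.node (.leaf 0x687b) (.leaf 0x6040))) (.node (.node (.leaf 0x10db) (.leaf 0x4c0f)) (.node (.leaf 0x21af) (.leaf 0x742d)))) (.node (.node (.node (.leaf 0x592) (.leaf 0x4045)) (.node (.leaf 0x18cf) (.leaf 0x6afc))) (.node (.node (.leaf 0xeb4) (.leaf 0x5573)) (.node (.leaf 0x37e5) (.leaf 0x0))))))))

/-- Closure. -/
def clo62 : FTree := (.node (.node (.node (.node (.node (.node (.node (.leaf 0xb2) (.leaf 0x4b53)) (.node (.leaf 0x1c2b) (.leaf 0x5806))) (.node (.node (.leaf 0x63e) (.leaf 0x64b5)) (.node (.leaf 0x4f96) (.leaf 0x6c74)))) (.node (.node (.node (.leaf 0x81e) (.leaf 0x380a)) (.node (.leaf 0x152c) (.leaf 0x63a6))) (.node (.node (.leaf 0xb77) (.leaf 0x4da0)) (.node (.leaf 0x2313) (.leaf 0x7660))))) (.node (.node (.node (.node (.leaf 0x3cc9) (.leaf 0x580c)) (.node (.leaf 0x1d56) (.leaf 0x5e9e))) (.node (.node (.leaf 0x1662) (.leaf 0x48c1)) (.node (.leaf 0x4907) (.leaf 0x72b5)))) (.node (.node (.node (.leaf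 0x98d) (.leaf 0x4609)) (.node (.leaf 0x3273) (.leaf 0x6a00))) (.node (.node (.leaf 0x5f4b) (.leaf 0x51be)) (.node (.leaf 0x2511) (.leaf 0x0)))))) (.node (.node (.node (.node (.node (.leaf 0x2c8) (.leaf 0x2f2f)) (.node (.leaf 0x1075) (.leaf 0x594a))) (.node (.node (.leaf 0xf69) (.leaf 0x460c)) (.node (.leaf 0x3942) (.leaf 0x710f)))) (.node (.node (.node (.leaf 0x4a5) (.leaf 0x3c3a)) (.node (.leaf 0x166a) (.leaf 0x6693))) (.node (.node (.leaf 0x612e) (.leaf 0x5d0c)) (.node (.leaf 0x23f3) (.leaf 0x0))))) (.node (.node (.node (.node (.leaf 0xdf6) (.leaf 0x3584)) (.node (.leaf 0x4a2a) (.leaf 0x6084))) (.node (.node (.leaf 0x303a) (.leaf 0x4b4f)) (.node (.leaf 0x2188) (.leaf 0x74d7)))) (.node (.node (.node (.leaf 0x2973) (.leaf 0x4225)) (.node (.leaf 0x1e3e) (.leaf 0x6bd9))) (.node (.node (.leaf 0x5d59) (.leaf 0x54c7)) (.node (.leaf 0x47c5) (.leaf 0x0))))))) (.node (.node (.node (.node (.node (.node (.leaf 0x169) (.leaf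 0x2b32)) (.node (.leaf 0x31e6) (.leaf 0x5d79))) (.node (.node (.leaf 0x2c08) (.leaf 0x43ca)) (.node (.leaf 0x3523) (.leaf 0x6d87)))) (.node (.node (.node (.leaf 0x465b) (.leaf 0x3806)) (.node (.leaf 0x2bf4) (.leaf 0x61fa))) (.node (.node (.leaf 0xb62) (.leaf 0x4ce1)) (.node (.leaf 0x2279) (.leaf 0x7597))))) (.node (.node (.node (.node (.leaf 0x5043) (.leaf 0x4118)) (.node (.leaf 0x148d) (.leaf 0x5b1b))) (.node (.node (.leaf 0x9ed) (.leaf 0x47ae)) (.node (.leaf 0x1f61) (.leaf 0x72ce)))) (.node (.node (.node (.leaf 0x4ab) (.leaf 0x3df4)) (.node (.leaf 0x1840) (.leaf 0x6958))) (.node (.node (.leaf 0x3393) (.leaf 0x52b6)) (.node (.leaf 0x266a) (.leaf 0x0)))))) (.node (.node (.node (.node (.node (.leaf 0x7a7) (.leaf 0x2f3f)) (.node (.leaf 0x1021) (.leaf 0x597e))) (.node (.node (.leaf 0x33a3) (.leaf 0x4585)) (.node (.leaf 0x1e9b) (.leaf 0x702e)))) (.node (.node (.node (.leaf 0x58d8) (.leaf 0x3a2e)) (.node (.leaf 0x1696)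 (.leaf 0x656e))) (.node (.node (.leaf 0x3052) (.leaf 0x4f1c)) (.node (.leaf 0x246a) (.leaf 0x0))))) (.node (.node (.node (.node (.leaf 0xb0d) (.leaf 0x3ec3)) (.node (.leaf 0x1443) (.leaf 0x6014))) (.node (.node (.leaf 0xfa2) (.leaf 0x4add)) (.node (.leaf 0x2c13) (.leaf 0x7381)))) (.node (.node (.node (.leaf 0x5c0d) (.leaf 0x4101)) (.node (.leaf 0x18ec) (.leaf 0x6bb6))) (.node (.node (.leaf 0xfe1) (.leaf 0x5618)) (.node (.leaf 0x27b6) (.leaf 0x0))))))))

/-- Closure. -/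
def clo63 : FTree := (.node (.node (.node (.node (.node (.node (.node (.leaf 0x149) (.leaf 0x2c02)) (.node (.leaf 0xfa0) (.leaf 0x5815))) (.node (.node (.leaf 0xb07) (.leaf 0x43f1)) (.node (.leaf 0x6cb1) (.leaf 0x6da0)))) (.node (.node (.node (.leaf 0x3d0f) (.leaf 0x39bc)) (.node (.leaf 0x1ae5) (.leaf 0x6376))) (.node (.node (.leaf 0x391f) (.leaf 0x4d51)) (.node (.leaf 0x2adf) (.leaf 0x7698))))) (.node (.node (.node (.node (.leaf 0xa91) (.leaf 0x33c4)) (.node (.leaf 0x11a2) (.leaf 0x5baa))) (.node (.node (.leaf 0x44d4) (.leaf 0x4854)) (.node (.leaf 0x28fc) (.leaf 0x7151)))) (.node (.node (.node (.leaf 0x9b1) (.leaf 0x3f88)) (.node (.leaf 0x65b4) (.leaf 0x679f))) (.node (.node (.leaf 0x3302) (.leaf 0x52f5)) (.node (.leaf 0x6d64) (.leaf 0x0)))))) (.node (.node (.node (.node (.node (.leaf 0x4f9) (.leaf 0x2f2e)) (.node (.leaf 0x1092) (.leaf 0x59fe))) (.node (.node (.leaf 0x9a5) (.leaf 0x69b3)) (.node (.leaf 0x3c49)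 (.leaf 0x6f23)))) (.node (.node (.node (.leaf 0x6836) (.leaf 0x3c66)) (.node (.leaf 0x1589) (.leaf 0x6413))) (.node (.node (.leaf 0xca2) (.leaf 0x4e7d)) (.node (.leaf 0x27d1) (.leaf 0x0))))) (.node (.node (.node (.node (.leaf 0x30fd) (.leaf 0x423a)) (.node (.leaf 0x6912) (.leaf 0x5f6b))) (.node (.node (.leaf 0x9a0) (.leaf 0x4af5)) (.node (.leaf 0x2f61) (.leaf 0x739b)))) (.node (.node (.node (.leaf 0x67d5) (.leaf 0x429e)) (.node (.leaf 0x1a1f) (.leaf 0x6b8d))) (.node (.node (.leaf 0xeab) (.leaf 0x55d7)) (.node (.leaf 0x6309) (.leaf 0x0))))))) (.node (.node (.node (.node (.node (.node (.leaf 0x0) (.leaf 0x0)) (.node (.leaf 0x0) (.leaf 0x0))) (.node (.node (.leaf 0x0) (.leaf 0x0)) (.node (.leaf 0x0) (.leaf 0x0)))) (.node (.node (.node (.leaf 0x0) (.leaf 0x0)) (.node (.leaf 0x0) (.leaf 0x0))) (.node (.node (.leaf 0x0) (.leaf 0x0)) (.node (.leaf 0x0) (.leaf 0x0))))) (.node (.node (.node (.node (.leaf 0x0) (.leaf 0x0))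 (.node (.leaf 0x0) (.leaf 0x0))) (.node (.node (.leaf 0x0) (.leaf 0x0)) (.node (.leaf 0x0) (.leaf 0x0)))) (.node (.node (.node (.leaf 0x0) (.leaf 0x0)) (.node (.leaf 0x0) (.leaf 0x0))) (.node (.node (.leaf 0x0) (.leaf 0x0)) (.node (.leaf 0x0) (.leaf 0x0)))))) (.node (.node (.node (.node (.node (.leaf 0x0) (.leaf 0x0)) (.node (.leaf 0x0) (.leaf 0x0))) (.node (.node (.leaf 0x0) (.leaf 0x0)) (.node (.leaf 0x0) (.leaf 0x0)))) (.node (.node (.node (.leaf 0x0) (.leaf 0x0)) (.node (.leaf 0x0) (.leaf 0x0))) (.node (.node (.leaf 0x0) (.leaf 0x0)) (.node (.leaf 0x0) (.leaf 0x0))))) (.node (.node (.node (.node (.leaf 0x0) (.leaf 0x0)) (.node (.leaf 0x0) (.leaf 0x0))) (.node (.node (.leaf 0x0) (.leaf 0x0)) (.node (.leaf 0x0) (.leaf 0x0)))) (.node (.node (.node (.leaf 0x0) (.leaf 0x0)) (.node (.leaf 0x0) (.leaf 0x0))) (.node (.node (.leaf 0x0) (.leaf 0x0)) (.node (.leaf 0x0) (.leaf 0x0))))))))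

/-- Closure. -/
def clo64 : FTree := (.node (.node (.node (.node (.node (.node (.node (.leaf 0x5) (.leaf 0x2ad7)) (.node (.leaf 0x5d90) (.leaf 0x56d8))) (.node (.node (.leaf 0x31c2) (.leaf 0x5090)) (.node (.leaf 0x1a47) (.leaf 0x6dc1)))) (.node (.node (.node (.leaf 0x3ce4) (.leaf 0x3971)) (.node (.leaf 0x1e1d) (.leaf 0x6363))) (.node (.node (.leaf 0x1aff) (.leaf 0x5eda)) (.node (.leaf 0x229b) (.leaf 0x75fc))))) (.node (.node (.node (.node (.leaf 0x414) (.leaf 0x30c1)) (.node (.leaf 0x127d) (.leaf 0x5b40))) (.node (.node (.leaf 0x3deb) (.leaf 0x497d)) (.node (.leaf 0x1f43) (.leaf 0x7181)))) (.node (.node (.node (.leaf 0x64ce) (.leaf 0x3ec1)) (.node (.leaf 0x1873) (.leaf 0x6893))) (.node (.node (.leaf 0x4095) (.leaf 0x52c6)) (.node (.leaf 0x571a) (.leaf 0x0)))))) (.node (.node (.node (.node (.node (.leaf 0x228) (.leaf 0x2fa4)) (.node (.leaf 0x10ec) (.leaf 0x5a7d))) (.node (.node (.leaf 0x1084) (.leaf 0x457b)) (.node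 (.leaf 0x4018) (.leaf 0x6fce)))) (.node (.node (.node (.leaf 0x2ff3) (.leaf 0x3b50)) (.node (.leaf 0x46e3) (.leaf 0x6534))) (.node (.node (.leaf 0x29b6) (.leaf 0x4f93)) (.node (.leaf 0x2340) (.leaf 0x0))))) (.node (.node (.node (.node (.leaf 0x312) (.leaf 0x3659)) (.node (.leaf 0x26b7) (.leaf 0x6032))) (.node (.node (.leaf 0x6005) (.leaf 0x4ad7)) (.node (.leaf 0x2138) (.leaf 0x743f)))) (.node (.node (.node (.leaf 0x17a7) (.leaf 0x41c4)) (.node (.leaf 0x1947) (.leaf 0x6ab1))) (.node (.node (.leaf 0x55af) (.leaf 0x6729)) (.node (.leaf 0x2db4) (.leaf 0x0))))))) (.node (.node (.node (.node (.node (.node (.leaf 0x17b) (.leaf 0x2a1d)) (.node (.leaf 0x315f) (.leaf 0x57a0))) (.node (.node (.leaf 0x20b5) (.leaf 0x4442)) (.node (.leaf 0x3388) (.leaf 0x6c43)))) (.node (.node (.node (.leaf 0x3cea) (.leaf 0x380d)) (.node (.leaf 0x6d58) (.leaf 0x6353))) (.node (.node (.leaf 0x2aa5) (.leaf 0x4c55)) (.node (.leaf 0x2395) (.leaf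 0x759b))))) (.node (.node (.node (.node (.leaf 0x2fbe) (.leaf 0x3464)) (.node (.leaf 0x418c) (.leaf 0x5d87))) (.node (.node (.leaf 0x1750) (.leaf 0x4892)) (.node (.leaf 0x1f6e) (.leaf 0x72c8)))) (.node (.node (.node (.leaf 0x6f6) (.leaf 0x3e8a)) (.node (.leaf 0x2b7c) (.leaf 0x69c8))) (.node (.node (.leaf 0xce6) (.leaf 0x523c)) (.node (.leaf 0x25d5) (.leaf 0x0)))))) (.node (.node (.node (.node (.node (.leaf 0x2ee) (.leaf 0x2e77)) (.node (.leaf 0x4bf6) (.leaf 0x5a2e))) (.node (.node (.leaf 0x6c4a) (.leaf 0x46f7)) (.node (.leaf 0x1e45) (.leaf 0x70ad)))) (.node (.node (.node (.leaf 0x37be) (.leaf 0x3a8e)) (.node (.leaf 0x1973) (.leaf 0x655e))) (.node (.node (.leaf 0x4a9d) (.leaf 0x4f38)) (.node (.leaf 0x2486) (.leaf 0x0))))) (.node (.node (.node (.node (.leaf 0x5432) (.leaf 0x372e)) (.node (.leaf 0x2b0a) (.leaf 0x5f24))) (.node (.node (.leaf 0x1029) (.leaf 0x4c0d)) (.node (.leaf 0x2f63) (.leaf 0x7437)))) (.node (.node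 (.node (.leaf 0x64bf) (.leaf 0x48ce)) (.node (.leaf 0x1a3e) (.leaf 0x6b73))) (.node (.node (.leaf 0x1bd0) (.leaf 0x54b7)) (.node (.leaf 0x27cf) (.leaf 0x0))))))))

/-- Closure. -/
def clo65 : FTree := (.node (.node (.node (.node (.node (.node (.node (.leaf 0xba) (.leaf 0x2a5a)) (.node (.leaf 0x316f) (.leaf 0x580d))) (.node (.node (.leaf 0x2ea6) (.leaf 0x42c8)) (.node (.leaf 0x1b29) (.leaf 0x6d2e)))) (.node (.node (.node (.leaf 0x2dfa) (.leaf 0x3805)) (.node (.leaf 0x148e) (.leaf 0x631d))) (.node (.node (.leaf 0x2997) (.leaf 0x4d0b)) (.node (.leaf 0x5883) (.leaf 0x768d))))) (.node (.node (.node (.node (.leaf 0x373e) (.leaf 0x3447)) (.node (.leaf 0x1146) (.leaf 0x5b04))) (.node (.node (.leaf 0x258a) (.leaf 0x496c)) (.node (.leaf 0x1f96) (.leaf 0x72f0)))) (.node (.node (.node (.leaf 0x120f) (.leaf 0x3d65)) (.node (.leaf 0x1795) (.leaf 0x683d))) (.node (.node (.leaf 0x2a15) (.leaf 0x5241)) (.node (.leaf 0x25ec) (.leaf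 0x0)))))) (.node (.node (.node (.node (.node (.leaf 0x305) (.leaf 0x2fa2)) (.node (.leaf 0x10d3) (.leaf 0x591c))) (.node (.node (.leaf 0x65aa) (.leaf 0x45dd)) (.node (.leaf 0x3977) (.leaf 0x6f7d)))) (.node (.node (.node (.leaf 0x6e8) (.leaf 0x3ba1)) (.node (.leaf 0x16cd) (.leaf 0x65a8))) (.node (.node (.leaf 0xc3f) (.leaf 0x4f1d)) (.node (.leaf 0x4029) (.leaf 0x0))))) (.node (.node (.node (.node (.leaf 0x297c) (.leaf 0x360c)) (.node (.leaf 0x2794) (.leaf 0x60d3))) (.node (.node (.leaf 0x5325) (.leaf 0x4b8b)) (.node (.leaf 0x233c) (.leaf 0x73eb)))) (.node (.node (.node (.leaf 0x3635) (.leaf 0x418b)) (.node (.leaf 0x1e3d) (.leaf 0x6bab))) (.node (.node (.leaf 0x31cd) (.leaf 0x602e)) (.node (.leaf 0x3950) (.leaf 0x0))))))) (.node (.node (.node (.node (.node (.node (.leaf 0x1a1) (.leaf 0x2ad9)) (.node (.leaf 0xf2c) (.leaf 0x582e))) (.node (.node (.leaf 0x66f) (.leaf 0x4327)) (.node (.leaf 0x1b1e) (.leaf 0x6d19))))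 (.node (.node (.node (.leaf 0x7db) (.leaf 0x4c4c)) (.node (.leaf 0x14d3) (.leaf 0x629e))) (.node (.node (.leaf 0xb58) (.leaf 0x4cea)) (.node (.leaf 0x2add) (.leaf 0x757c))))) (.node (.node (.node (.node (.leaf 0x2d3f) (.leaf 0x55dc)) (.node (.leaf 0x2bf1) (.leaf 0x5adc))) (.node (.node (.leaf 0x853) (.leaf 0x48a2)) (.node (.leaf 0x2017) (.leaf 0x727a)))) (.node (.node (.node (.leaf 0x3b09) (.leaf 0x3f3a)) (.node (.leaf 0x6f7b) (.leaf 0x697e))) (.node (.node (.leaf 0x5471) (.leaf 0x51e0)) (.node (.leaf 0x2543) (.leaf 0x0)))))) (.node (.node (.node (.node (.node (.leaf 0x25d) (.leaf 0x2d56)) (.node (.leaf 0x1037) (.leaf 0x5907))) (.node (.node (.leaf 0x1e9f) (.leaf 0x452b)) (.node (.leaf 0x1df5) (.leaf 0x7074)))) (.node (.node (.node (.leaf 0x418d) (.leaf 0x3bb1)) (.node (.leaf 0x34ac) (.leaf 0x6616))) (.node (.node (.leaf 0xc29) (.leaf 0x5070)) (.node (.leaf 0x239f) (.leaf 0x0))))) (.node (.node (.node (.node (.leaf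 0x325) (.leaf 0x3b92)) (.node (.leaf 0x137b) (.leaf 0x5fbb))) (.node (.node (.leaf 0xb48) (.leaf 0x4a7f)) (.node (.leaf 0x216e) (.leaf 0x73c2)))) (.node (.node (.node (.leaf 0x132b) (.leaf 0x40c0)) (.node (.leaf 0x1993) (.leaf 0x6b83))) (.node (.node (.leaf 0x1dcb) (.leaf 0x55d5)) (.node (.leaf 0x6cf5) (.leaf 0x0))))))))

/-- Closure. -/
def clo66 : FTree := (.node (.node (.node (.node (.node (.node (.node (.leaf 0x62) (.leaf 0x2bb1)) (.node (.leaf 0x2a79) (.leaf 0x5742))) (.node (.node (.leaf 0x69d) (.leaf 0x436f)) (.node (.leaf 0x282e) (.leaf 0x6dfa)))) (.node (.node (.node (.leaf 0x13d0) (.leaf 0x394c)) (.node (.leaf 0x1572) (.leaf 0x62a7))) (.node (.node (.leaf 0xaf7) (.leaf 0x4cb7)) (.node (.leaf 0x231f) (.leaf 0x757e))))) (.node (.node (.node (.node (.leaf 0x295) (.leaf 0x32c7)) (.node (.leaf 0x2c1a) (.leaf 0x5de3))) (.node (.node (.leaf 0x2c9b) (.leaf 0x4910)) (.node (.leaf 0x446b) (.leaf 0x727e)))) (.node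 (.node (.node (.leaf 0x4ae) (.leaf 0x3d55)) (.node (.leaf 0x17a4) (.leaf 0x69ab))) (.node (.node (.leaf 0xce1) (.leaf 0x526f)) (.node (.leaf 0x2641) (.leaf 0x0)))))) (.node (.node (.node (.node (.node (.leaf 0x365) (.leaf 0x2e4e)) (.node (.leaf 0x101d) (.leaf 0x597c))) (.node (.node (.leaf 0x14fa) (.leaf 0x46ec)) (.node (.leaf 0x6289) (.leaf 0x7049)))) (.node (.node (.node (.leaf 0x279b) (.leaf 0x3b4e)) (.node (.leaf 0x1623) (.leaf 0x64ae))) (.node (.node (.leaf 0xc01) (.leaf 0x50ae)) (.node (.leaf 0x24f2) (.leaf 0x0))))) (.node (.node (.node (.node (.leaf 0x29fb) (.leaf 0x36cd)) (.node (.leaf 0x134d) (.leaf 0x6605))) (.node (.node (.leaf 0x9c9) (.leaf 0x4b95)) (.node (.leaf 0x2229) (.leaf 0x7508)))) (.node (.node (.node (.leaf 0x1321) (.leaf 0x3ff2)) (.node (.leaf 0x2c1d) (.leaf 0x6b86))) (.node (.node (.leaf 0x2b2f) (.leaf 0x53bc)) (.node (.leaf 0x2b8f) (.leaf 0x0))))))) (.node (.node (.node (.node (.node (.node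 (.leaf 0x166) (.leaf 0x2b40)) (.node (.leaf 0x12c0) (.leaf 0x5667))) (.node (.node (.leaf 0x4318) (.leaf 0x5cb0)) (.node (.leaf 0x25d3) (.leaf 0x6cda)))) (.node (.node (.node (.leaf 0x7e2) (.leaf 0x3976)) (.node (.leaf 0x4be8) (.leaf 0x618a))) (.node (.node (.leaf 0x27e5) (.leaf 0x4c37)) (.node (.leaf 0x2adb) (.leaf 0x76d8))))) (.node (.node (.node (.node (.leaf 0x2d39) (.leaf 0x311a)) (.node (.leaf 0x3fb8) (.leaf 0x5eb7))) (.node (.node (.leaf 0x4703) (.leaf 0x485e)) (.node (.leaf 0x2048) (.leaf 0x72ca)))) (.node (.node (.node (.leaf 0x493) (.leaf 0x3ed9)) (.node (.leaf 0x39e6) (.leaf 0x6e2f))) (.node (.node (.leaf 0x3429) (.leaf 0x51d9)) (.node (.leaf 0x2662) (.leaf 0x0)))))) (.node (.node (.node (.node (.node (.leaf 0x278) (.leaf 0x2d67)) (.node (.leaf 0xfe4) (.leaf 0x593f))) (.node (.node (.leaf 0x3495) (.leaf 0x44ea)) (.node (.leaf 0x1dd0) (.leaf 0x6f4b)))) (.node (.node (.node (.leaf 0x300e) (.leaf 0x6d27))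 (.node (.leaf 0x197b) (.leaf 0x6681))) (.node (.node (.leaf 0x617a) (.leaf 0x4ec9)) (.node (.leaf 0x53b6) (.leaf 0x0))))) (.node (.node (.node (.node (.leaf 0x4a38) (.leaf 0x3614)) (.node (.leaf 0x1389) (.leaf 0x5fbd))) (.node (.node (.leaf 0xb7b) (.leaf 0x4a1f)) (.node (.leaf 0x216d) (.leaf 0x7399)))) (.node (.node (.node (.leaf 0x1ded) (.leaf 0x4032)) (.node (.leaf 0x1b62) (.leaf 0x6a93))) (.node (.node (.leaf 0x5dbb) (.leaf 0x5540)) (.node (.leaf 0x32f6) (.leaf 0x0))))))))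

/-- Closure. -/
def clo67 : FTree := (.node (.node (.node (.node (.node (.node (.node (.leaf 0xcf) (.leaf 0x2a62)) (.node (.leaf 0x16fa) (.leaf 0x5826))) (.node (.node (.leaf 0x5c76) (.leaf 0x4378)) (.node (.leaf 0x33cb) (.leaf 0x6c99)))) (.node (.node (.node (.leaf 0x4658) (.leaf 0x38b5)) (.node (.leaf 0x1494) (.leaf 0x635d))) (.node (.node (.leaf 0xb11) (.leaf 0x5ebf)) (.node (.leaf 0x2310) (.leaf 0x76bb))))) (.node (.node (.node (.node (.leaf 0x2fd8) (.leaf 0x334c)) (.node (.leaf 0x32fa) (.leaf 0x5eaf))) (.node (.node (.leaf 0x2343) (.leaf 0x496d)) (.node (.leaf 0x1f29) (.leaf 0x7130)))) (.node (.node (.node (.leaf 0x3291) (.leaf 0x3e10)) (.node (.leaf 0x179a) (.leaf 0x6873))) (.node (.node (.leaf 0x2b62) (.leaf 0x51a7)) (.node (.leaf 0x4e38) (.leaf 0x0)))))) (.node (.node (.node (.node (.node (.leaf 0xbbd) (.leaf 0x5c02)) (.node (.leaf 0x111b) (.leaf 0x589f))) (.node (.node (.leaf 0x43c7) (.leaf 0x4550)) (.node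 (.leaf 0x1c8b) (.leaf 0x7032)))) (.node (.node (.node (.leaf 0x47e) (.leaf 0x3b8a)) (.node (.leaf 0x1d75) (.leaf 0x6453))) (.node (.node (.leaf 0xc84) (.leaf 0x5e50)) (.node (.leaf 0x24bc) (.leaf 0x0))))) (.node (.node (.node (.node (.leaf 0x3ff) (.leaf 0x367a)) (.node (.leaf 0x26b2) (.leaf 0x604f))) (.node (.node (.leaf 0x1731) (.leaf 0x4af8)) (.node (.leaf 0x21ca) (.leaf 0x74c2)))) (.node (.node (.node (.leaf 0x44bd) (.leaf 0x41aa)) (.node (.leaf 0x3c26) (.leaf 0x6ba8))) (.node (.node (.leaf 0x2670) (.leaf 0x550e)) (.node (.leaf 0x286d) (.leaf 0x0))))))) (.node (.node (.node (.node (.node (.node (.leaf 0x184) (.leaf 0x3325)) (.node (.leaf 0x1c2d) (.leaf 0x5862))) (.node (.node (.leaf 0x695) (.leaf 0x4363)) (.node (.leaf 0x2652) (.leaf 0x6dc9)))) (.node (.node (.node (.leaf 0x1c92) (.leaf 0x37fb)) (.node (.leaf 0x153e) (.leaf 0x628f))) (.node (.node (.leaf 0x430e) (.leaf 0x4dbb)) (.node (.leaf 0x5381) (.leaf 0x75cc)))))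 (.node (.node (.node (.node (.leaf 0x336) (.leaf 0x317c)) (.node (.leaf 0x1173) (.leaf 0x5e83))) (.node (.node (.leaf 0x29ea) (.leaf 0x486c)) (.node (.leaf 0x1fcb) (.leaf 0x717d)))) (.node (.node (.node (.leaf 0x45a) (.leaf 0x3e94)) (.node (.leaf 0x1882) (.leaf 0x67cc))) (.node (.node (.leaf 0x33ad) (.leaf 0x52a0)) (.node (.leaf 0x261b) (.leaf 0x0)))))) (.node (.node (.node (.node (.node (.leaf 0x2ed) (.leaf 0x2d5c)) (.node (.leaf 0x1006) (.leaf 0x5a55))) (.node (.node (.leaf 0x735) (.leaf 0x4568)) (.node (.leaf 0x1d95) (.leaf 0x6f61)))) (.node (.node (.node (.leaf 0x301e) (.leaf 0x3bd2)) (.node (.leaf 0x167b) (.leaf 0x64cb))) (.node (.node (.leaf 0x358f) (.leaf 0x4e9e)) (.node (.leaf 0x247e) (.leaf 0x0))))) (.node (.node (.node (.node (.leaf 0x5b2) (.leaf 0x3b94)) (.node (.leaf 0x46a3) (.leaf 0x72e8))) (.node (.node (.leaf 0x31b6) (.leaf 0x4bfb)) (.node (.leaf 0x21a1) (.leaf 0x7468)))) (.node (.node (.node (.leaf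 0x38f4) (.leaf 0x4074)) (.node (.leaf 0x6ca5) (.leaf 0x6a78))) (.node (.node (.leaf 0x6689) (.leaf 0x5abd)) (.node (.leaf 0x6bdf) (.leaf 0x0))))))))

/-- Closure. -/
def clo68 : FTree := (.node (.node (.node (.node (.node (.node (.node (.leaf 0x30) (.leaf 0x38a7)) (.node (.leaf 0x10bc) (.leaf 0x5698))) (.node (.node (.leaf 0x71e) (.leaf 0x658b)) (.node (.leaf 0x1c5a) (.leaf 0x6d65)))) (.node (.node (.node (.leaf 0x54a) (.leaf 0x3953)) (.node (.leaf 0x18ad) (.leaf 0x6264))) (.node (.node (.leaf 0xb3f) (.leaf 0x4c86)) (.node (.leaf 0x662b) (.leaf 0x7602))))) (.node (.node (.node (.node (.leaf 0x859) (.leaf 0x3207)) (.node (.leaf 0x1260) (.leaf 0x5ae5))) (.node (.node (.leaf 0x10ca) (.leaf 0x51d1)) (.node (.leaf 0x51c2) (.leaf 0x7284)))) (.node (.node (.node (.leaf 0x1e47) (.leaf 0x3e7a)) (.node (.leaf 0x17c7) (.leaf 0x688b))) (.node (.node (.leaf 0xd39) (.leaf 0x529b)) (.node (.leaf 0x60b3) (.leaf 0x0)))))) (.node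 (.node (.node (.node (.node (.leaf 0x7b5) (.leaf 0x3a42)) (.node (.leaf 0x2eed) (.leaf 0x59b0))) (.node (.node (.leaf 0x4629) (.leaf 0x46fa)) (.node (.leaf 0x3562) (.leaf 0x7053)))) (.node (.node (.node (.leaf 0x5b8c) (.leaf 0x3aea)) (.node (.leaf 0x4eef) (.leaf 0x65b6))) (.node (.node (.leaf 0x3084) (.leaf 0x4f79)) (.node (.leaf 0x2494) (.leaf 0x0))))) (.node (.node (.node (.node (.leaf 0x5c93) (.leaf 0x36d0)) (.node (.leaf 0x2b11) (.leaf 0x6088))) (.node (.node (.leaf 0x93d) (.leaf 0x4bb7)) (.node (.leaf 0x24a1) (.leaf 0x7346)))) (.node (.node (.node (.leaf 0x628) (.leaf 0x4015)) (.node (.leaf 0x1992) (.leaf 0x6b06))) (.node (.node (.leaf 0xe6a) (.leaf 0x541b)) (.node (.leaf 0x2820) (.leaf 0x0))))))) (.node (.node (.node (.node (.node (.node (.leaf 0x175) (.leaf 0x2b34)) (.node (.leaf 0xf13) (.leaf 0x5650))) (.node (.node (.leaf 0x625) (.leaf 0x42e9)) (.node (.leaf 0x21b2) (.leaf 0x6d95)))) (.node (.node (.node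 (.leaf 0x380) (.leaf 0x39c6)) (.node (.leaf 0x1523) (.leaf 0x6165))) (.node (.node (.leaf 0x1b3b) (.leaf 0x4c21)) (.node (.leaf 0x2260) (.leaf 0x75b8))))) (.node (.node (.node (.node (.leaf 0x28a) (.leaf 0x3019)) (.node (.leaf 0x5ef1) (.leaf 0x5ad5))) (.node (.node (.leaf 0x7e6) (.leaf 0x477d)) (.node (.leaf 0x2083) (.leaf 0x7213)))) (.node (.node (.node (.leaf 0x6d0) (.leaf 0x3de6)) (.node (.leaf 0x1737) (.leaf 0x679d))) (.node (.node (.leaf 0x2b61) (.leaf 0x5189)) (.node (.leaf 0x2522) (.leaf 0x0)))))) (.node (.node (.node (.node (.node (.leaf 0x212) (.leaf 0x2e68)) (.node (.leaf 0xfda) (.leaf 0x58ec))) (.node (.node (.leaf 0x1ec0) (.leaf 0x4509)) (.node (.leaf 0x26db) (.leaf 0x7109)))) (.node (.node (.node (.leaf 0x3d6) (.leaf 0x3a2a)) (.node (.leaf 0x16cf) (.leaf 0x64db))) (.node (.node (.leaf 0xbd1) (.leaf 0x509e)) (.node (.leaf 0x23ed) (.leaf 0x0))))) (.node (.node (.node (.node (.leaf 0x309) (.leaf 0x3607))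 (.node (.leaf 0x13b4) (.leaf 0x610e))) (.node (.node (.leaf 0x943) (.leaf 0x4a39)) (.node (.leaf 0x2108) (.leaf 0x73b6)))) (.node (.node (.node (.leaf 0x518) (.leaf 0x40a5)) (.node (.leaf 0x189c) (.leaf 0x6a24))) (.node (.node (.leaf 0xfe0) (.leaf 0x5526)) (.node (.leaf 0x269f) (.leaf 0x0))))))))

/-- Closure. -/
def clo69 : FTree := (.node (.node (.node (.node (.node (.node (.node (.leaf 0xf7) (.leaf 0x2a11)) (.node (.leaf 0x5fad) (.leaf 0x56a0))) (.node (.node (.leaf 0x1158) (.leaf 0x4446)) (.node (.leaf 0x23e4) (.leaf 0x6ee3)))) (.node (.node (.node (.leaf 0x4678) (.leaf 0x379a)) (.node (.leaf 0x1e20) (.leaf 0x6244))) (.node (.node (.leaf 0xa4b) (.leaf 0x4cd2)) (.node (.leaf 0x6744) (.leaf 0x760c))))) (.node (.node (.node (.node (.leaf 0x172a) (.leaf 0x32ba)) (.node (.leaf 0x47dc) (.leaf 0x5c0b))) (.node (.node (.leaf 0x1400) (.leaf 0x483a)) (.node (.leaf 0x1f59) (.leaf 0x72a7)))) (.node (.node (.node (.leaf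 0xe42) (.leaf 0x3e7d)) (.node (.leaf 0x1758) (.leaf 0x66a9))) (.node (.node (.leaf 0x1546) (.leaf 0x51bd)) (.node (.leaf 0x25a6) (.leaf 0x0)))))) (.node (.node (.node (.node (.node (.leaf 0x2bb) (.leaf 0x2e64)) (.node (.leaf 0x283f) (.leaf 0x5a58))) (.node (.node (.leaf 0x11c2) (.leaf 0x4616)) (.node (.leaf 0x2c75) (.leaf 0x6fbe)))) (.node (.node (.node (.leaf 0x3d35) (.leaf 0x3a59)) (.node (.leaf 0x413c) (.leaf 0x64c7))) (.node (.node (.leaf 0x612a) (.leaf 0x50d1)) (.node (.leaf 0x243f) (.leaf 0x0))))) (.node (.node (.node (.node (.leaf 0x338) (.leaf 0x361f)) (.node (.leaf 0x1440) (.leaf 0x6016))) (.node (.node (.leaf 0x16c3) (.leaf 0x4ad8)) (.node (.leaf 0x4454) (.leaf 0x74de)))) (.node (.node (.node (.leaf 0x1a29) (.leaf 0x4089)) (.node (.leaf 0x1bf3) (.leaf 0x6b54))) (.node (.node (.leaf 0x101f) (.leaf 0x54b9)) (.node (.leaf 0x3ee5) (.leaf 0x0))))))) (.node (.node (.node (.node (.node (.node (.leaf 0x18e) (.leaf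 0x2a29)) (.node (.leaf 0xf51) (.leaf 0x566f))) (.node (.node (.leaf 0x6a9) (.leaf 0x4494)) (.node (.leaf 0x2caa) (.leaf 0x6e12)))) (.node (.node (.node (.leaf 0x54c) (.leaf 0x3f82)) (.node (.leaf 0x1a8c) (.leaf 0x6328))) (.node (.node (.leaf 0x2884) (.leaf 0x4d48)) (.node (.leaf 0x6736) (.leaf 0x75c7))))) (.node (.node (.node (.node (.leaf 0x856) (.leaf 0x33df)) (.node (.leaf 0x3ba5) (.leaf 0x5e26))) (.node (.node (.leaf 0x8a8) (.leaf 0x4933)) (.node (.leaf 0x490e) (.leaf 0x71c4)))) (.node (.node (.node (.leaf 0x1179) (.leaf 0x3efa)) (.node (.leaf 0x17d3) (.leaf 0x6929))) (.node (.node (.leaf 0xd40) (.leaf 0x524f)) (.node (.leaf 0x258e) (.leaf 0x0)))))) (.node (.node (.node (.node (.node (.leaf 0x76b) (.leaf 0x2da8)) (.node (.leaf 0x5d3c) (.leaf 0x59a2))) (.node (.node (.leaf 0x6ce6) (.leaf 0x4620)) (.node (.leaf 0x281a) (.leaf 0x700b)))) (.node (.node (.node (.leaf 0x2778) (.leaf 0x3ae8)) (.node (.leaf 0x1647)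 (.leaf 0x6592))) (.node (.node (.leaf 0x3060) (.leaf 0x50bd)) (.node (.leaf 0x242a) (.leaf 0x0))))) (.node (.node (.node (.node (.leaf 0x30eb) (.leaf 0x3689)) (.node (.leaf 0x3e50) (.leaf 0x622a))) (.node (.node (.leaf 0x1eba) (.leaf 0x4baf)) (.node (.leaf 0x480e) (.leaf 0x74cd)))) (.node (.node (.node (.leaf 0xad8) (.leaf 0x412b)) (.node (.leaf 0x18a2) (.leaf 0x6b09))) (.node (.node (.leaf 0xde0) (.leaf 0x539b)) (.node (.leaf 0x2721) (.leaf 0x0))))))))

/-- Closure. -/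
def clo70 : FTree := (.node (.node (.node (.node (.node (.node (.node (.leaf 0x50) (.leaf 0x2bfd)) (.node (.leaf 0xf62) (.leaf 0x5871))) (.node (.node (.leaf 0x64d8) (.leaf 0x4368)) (.node (.leaf 0x25d7) (.leaf 0x6e8c)))) (.node (.node (.node (.leaf 0x1c9a) (.leaf 0x3890)) (.node (.leaf 0x15f0) (.leaf 0x61ca))) (.node (.node (.leaf 0x1dc9) (.leaf 0x4cc5)) (.node (.leaf 0x22a8) (.leaf 0x7697))))) (.node (.node (.node (.node (.leaf 0x2d22) (.leaf 0x31f5)) (.node (.leaf 0x46f0) (.leaf 0x5b91))) (.node (.node (.leaf 0x292c) (.leaf 0x485b)) (.node (.leaf 0x1f87) (.leaf 0x726c)))) (.node (.node (.node (.leaf 0x67c6) (.leaf 0x3f1a)) (.node (.leaf 0x2054) (.leaf 0x6778))) (.node (.node (.leaf 0x1209) (.leaf 0x52ab)) (.node (.leaf 0x545a) (.leaf 0x0)))))) (.node (.node (.node (.node (.node (.leaf 0x7bd) (.leaf 0x2e18)) (.node (.leaf 0x4e3d) (.leaf 0x58a6))) (.node (.node (.leaf 0x968) (.leaf 0x458f)) (.node (.leaf 0x1dac)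 (.leaf 0x6f78)))) (.node (.node (.node (.leaf 0x66d) (.leaf 0x3ca1)) (.node (.leaf 0x1626) (.leaf 0x6485))) (.node (.node (.leaf 0xc02) (.leaf 0x6557)) (.node (.leaf 0x24df) (.leaf 0x0))))) (.node (.node (.node (.node (.leaf 0x644) (.leaf 0x363d)) (.node (.leaf 0x66af) (.leaf 0x5eef))) (.node (.node (.leaf 0x25af) (.leaf 0x49f9)) (.node (.leaf 0x2212) (.leaf 0x74fc)))) (.node (.node (.node (.leaf 0x4fa0) (.leaf 0x5f5e)) (.node (.leaf 0x18ed) (.leaf 0x6a97))) (.node (.node (.leaf 0xed1) (.leaf 0x61e6)) (.node (.leaf 0x2823) (.leaf 0x0))))))) (.node (.node (.node (.node (.node (.node (.leaf 0x17d) (.leaf 0x2ca9)) (.node (.leaf 0xf0d) (.leaf 0x56f1))) (.node (.node (.leaf 0x683) (.leaf 0x4310)) (.node (.leaf 0x1b1b) (.leaf 0x6c6d)))) (.node (.node (.node (.leaf 0x522) (.leaf 0x38ab)) (.node (.leaf 0x147a) (.leaf 0x618e))) (.node (.node (.leaf 0xb2e) (.leaf 0x4c99)) (.node (.leaf 0x2274) (.leaf 0x765e))))) (.node (.node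 (.node (.node (.leaf 0x28e) (.leaf 0x4a1c)) (.node (.leaf 0x11f1) (.leaf 0x5aae))) (.node (.node (.leaf 0x85d) (.leaf 0x4884)) (.node (.leaf 0x1fe0) (.leaf 0x71f7)))) (.node (.node (.node (.leaf 0x26c3) (.leaf 0x3e38)) (.node (.leaf 0x177b) (.leaf 0x67b9))) (.node (.node (.leaf 0x1fc4) (.leaf 0x515a)) (.node (.leaf 0x25de) (.leaf 0x0)))))) (.node (.node (.node (.node (.node (.leaf 0x202) (.leaf 0x2e3b)) (.node (.leaf 0x1091) (.leaf 0x58bf))) (.node (.node (.leaf 0x6ce) (.leaf 0x45b5)) (.node (.leaf 0x3d5e) (.leaf 0x6f2c)))) (.node (.node (.node (.leaf 0x595) (.leaf 0x3a25)) (.node (.leaf 0x15a1) (.leaf 0x64e0))) (.node (.node (.leaf 0xbee) (.leaf 0x4efa)) (.node (.leaf 0x2410) (.leaf 0x0))))) (.node (.node (.node (.node (.leaf 0x2cb8) (.leaf 0x3609)) (.node (.leaf 0x1338) (.leaf 0x5fcc))) (.node (.node (.leaf 0x8da) (.leaf 0x4a3d)) (.node (.leaf 0x20b2) (.leaf 0x731b)))) (.node (.node (.node (.leaf 0x572) (.leaf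 0x405c)) (.node (.leaf 0x1a07) (.leaf 0x6a30))) (.node (.node (.leaf 0xdc7) (.leaf 0x55cd)) (.node (.leaf 0x2aba) (.leaf 0x0))))))))

/-- Closure. -/
def clo71 : FTree := (.node (.node (.node (.node (.node (.node (.node (.leaf 0x10e) (.leaf 0x2aa8)) (.node (.leaf 0xf78) (.leaf 0x5750))) (.node (.node (.leaf 0x5501) (.leaf 0x4316)) (.node (.leaf 0x475e) (.leaf 0x6d35)))) (.node (.node (.node (.leaf 0x1cab) (.leaf 0x38c0)) (.node (.leaf 0x147c) (.leaf 0x624b))) (.node (.node (.leaf 0x319f) (.leaf 0x4e17)) (.node (.leaf 0x4a60) (.leaf 0x76a5))))) (.node (.node (.node (.node (.leaf 0x431) (.leaf 0x3431)) (.node (.leaf 0x11c3) (.leaf 0x5bd7))) (.node (.node (.leaf 0x2916) (.leaf 0x47b1)) (.node (.leaf 0x2080) (.leaf 0x7280)))) (.node (.node (.node (.leaf 0x5afc) (.leaf 0x3f05)) (.node (.leaf 0x205b) (.leaf 0x681c))) (.node (.node (.leaf 0xd04) (.leaf 0x51dd)) (.node (.leaf 0x25dc) (.leaf 0x0)))))) (.node (.node (.node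 (.node (.node (.leaf 0x2f9) (.leaf 0x2da3)) (.node (.leaf 0x1115) (.leaf 0x5a1f))) (.node (.node (.leaf 0x727) (.leaf 0x4535)) (.node (.leaf 0x1cd3) (.leaf 0x700d)))) (.node (.node (.node (.leaf 0x251f) (.leaf 0x3b42)) (.node (.leaf 0x44d0) (.leaf 0x64de))) (.node (.node (.leaf 0x359d) (.leaf 0x6a14)) (.node (.leaf 0x2fa0) (.leaf 0x0))))) (.node (.node (.node (.node (.leaf 0x5ba9) (.leaf 0x35f8)) (.node (.leaf 0x1430) (.leaf 0x607c))) (.node (.node (.leaf 0x3a14) (.leaf 0x4a04)) (.node (.leaf 0x21a2) (.leaf 0x74bf)))) (.node (.node (.node (.leaf 0x5f5) (.leaf 0x417e)) (.node (.leaf 0x18ce) (.leaf 0x6af7))) (.node (.node (.leaf 0x5d35) (.leaf 0x55a9)) (.node (.leaf 0x5b4f) (.leaf 0x0))))))) (.node (.node (.node (.node (.node (.node (.leaf 0x1f8) (.leaf 0x5af5)) (.node (.leaf 0x2d65) (.leaf 0x56f2))) (.node (.node (.leaf 0x3954) (.leaf 0x42e2)) (.node (.leaf 0x1b79) (.leaf 0x6c93)))) (.node (.node (.node (.leaf 0x13cf)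 (.leaf 0x38d3)) (.node (.leaf 0x14a6) (.leaf 0x62e5))) (.node (.node (.leaf 0x2aca) (.leaf 0x6eba)) (.node (.leaf 0x3094) (.leaf 0x7717))))) (.node (.node (.node (.node (.leaf 0x3646) (.leaf 0x327b)) (.node (.leaf 0x6e76) (.leaf 0x5b4a))) (.node (.node (.leaf 0x7d6) (.leaf 0x5e65)) (.node (.leaf 0x2092) (.leaf 0x7278)))) (.node (.node (.node (.leaf 0x944) (.leaf 0x3ee1)) (.node (.leaf 0x5b37) (.leaf 0x67a1))) (.node (.node (.leaf 0x4332) (.leaf 0x52f4)) (.node (.leaf 0x5456) (.leaf 0x0)))))) (.node (.node (.node (.node (.node (.leaf 0x35f) (.leaf 0x2ea5)) (.node (.leaf 0x1097) (.leaf 0x5976))) (.node (.node (.leaf 0xdc9) (.leaf 0x661f)) (.node (.leaf 0x3e37) (.leaf 0x6f84)))) (.node (.node (.node (.leaf 0x53bd) (.leaf 0x3b26)) (.node (.leaf 0x21f1) (.leaf 0x6642))) (.node (.node (.leaf 0xbf6) (.leaf 0x4ecb)) (.node (.leaf 0x2378) (.leaf 0x0))))) (.node (.node (.node (.node (.leaf 0x863) (.leaf 0x3638)) (.node (.leaf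 0x2e22) (.leaf 0x5ff3))) (.node (.node (.leaf 0xe5c) (.leaf 0x4b79)) (.node (.leaf 0x3411) (.leaf 0x7444)))) (.node (.node (.node (.leaf 0x5a1) (.leaf 0x409d)) (.node (.leaf 0x1967) (.leaf 0x6b20))) (.node (.node (.leaf 0xec4) (.leaf 0x5de4)) (.node (.leaf 0x28c9) (.leaf 0x0))))))))

/-- Closure. -/
def clo72 : FTree := (.node (.node (.node (.node (.node (.node (.node (.leaf 0x1a) (.leaf 0x40ae)) (.node (.leaf 0x3196) (.leaf 0x5798))) (.node (.node (.leaf 0x896) (.leaf 0x4338)) (.node (.leaf 0x1fe4) (.leaf 0x6e65)))) (.node (.node (.node (.leaf 0x1c84) (.leaf 0x3930)) (.node (.leaf 0x1498) (.leaf 0x63d1))) (.node (.node (.leaf 0x66e9) (.leaf 0x5ed8)) (.node (.leaf 0x22a2) (.leaf 0x759d))))) (.node (.node (.node (.node (.leaf 0x1c6c) (.leaf 0x3419)) (.node (.leaf 0x28cd) (.leaf 0x5af9))) (.node (.node (.leaf 0x867) (.leaf 0x4983)) (.node (.leaf 0x424a) (.leaf 0x7212)))) (.node (.node (.node (.leaf 0xfdc) (.leaf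 0x3e9d)) (.node (.leaf 0x181a) (.leaf 0x68c4))) (.node (.node (.leaf 0x121e) (.leaf 0x5221)) (.node (.leaf 0x3376) (.leaf 0x0)))))) (.node (.node (.node (.node (.node (.leaf 0xba0) (.leaf 0x3f00)) (.node (.leaf 0x5e49) (.leaf 0x58e8))) (.node (.node (.leaf 0x747) (.leaf 0x4595)) (.node (.leaf 0x267a) (.leaf 0x6fde)))) (.node (.node (.node (.leaf 0x69c) (.leaf 0x3a36)) (.node (.leaf 0x15cb) (.leaf 0x642e))) (.node (.node (.leaf 0xbda) (.leaf 0x4f0c)) (.node (.leaf 0x53b3) (.leaf 0x0))))) (.node (.node (.node (.node (.leaf 0x55f) (.leaf 0x35c7)) (.node (.leaf 0x1445) (.leaf 0x60a0))) (.node (.node (.leaf 0x1c02) (.leaf 0x4a50)) (.node (.leaf 0x21a3) (.leaf 0x7467)))) (.node (.node (.node (.leaf 0x591) (.leaf 0x407b)) (.node (.leaf 0x3478) (.leaf 0x6abf))) (.node (.node (.leaf 0x5c89) (.leaf 0x53f2)) (.node (.leaf 0x3980) (.leaf 0x0))))))) (.node (.node (.node (.node (.node (.node (.leaf 0x110) (.leaf 0x3324)) (.node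 (.leaf 0xf3d) (.leaf 0x60e1))) (.node (.node (.leaf 0x26a5) (.leaf 0x436c)) (.node (.leaf 0x1b9a) (.leaf 0x6d0a)))) (.node (.node (.node (.leaf 0x4676) (.leaf 0x3ba0)) (.node (.leaf 0x3fe1) (.leaf 0x6273))) (.node (.node (.leaf 0x105d) (.leaf 0x4c97)) (.node (.leaf 0x54c8) (.leaf 0x7625))))) (.node (.node (.node (.node (.leaf 0x3aa) (.leaf 0x344b)) (.node (.leaf 0x128d) (.leaf 0x5bd4))) (.node (.node (.leaf 0x89c) (.leaf 0x4838)) (.node (.leaf 0x5530) (.leaf 0x7276)))) (.node (.node (.node (.leaf 0x2759) (.leaf 0x3fc3)) (.node (.leaf 0x2284) (.leaf 0x669c))) (.node (.node (.leaf 0x120a) (.leaf 0x520e)) (.node (.leaf 0x25bc) (.leaf 0x0)))))) (.node (.node (.node (.node (.node (.leaf 0x246) (.leaf 0x2dc9)) (.node (.leaf 0x10a0) (.leaf 0x599c))) (.node (.node (.leaf 0x1261) (.leaf 0x4577)) (.node (.leaf 0x2432) (.leaf 0x7029)))) (.node (.node (.node (.leaf 0x3f0) (.leaf 0x3bed)) (.node (.leaf 0x5ee7) (.leaf 0x6467)))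 (.node (.node (.leaf 0x4a89) (.leaf 0x4f2d)) (.node (.leaf 0x24f0) (.leaf 0x0))))) (.node (.node (.node (.node (.leaf 0x61f1) (.leaf 0x35e3)) (.node (.leaf 0x143a) (.leaf 0x5f74))) (.node (.node (.leaf 0x974) (.leaf 0x49ee)) (.node (.leaf 0x20eb) (.leaf 0x7398)))) (.node (.node (.node (.leaf 0x17a9) (.leaf 0x65a0)) (.node (.leaf 0x3c88) (.leaf 0x6b5b))) (.node (.node (.leaf 0xe07) (.leaf 0x6ce2)) (.node (.leaf 0x27b4) (.leaf 0x0))))))))

/-- Closure. -/
def clo73 : FTree := (.node (.node (.node (.node (.node (.node (.node (.leaf 0xaa) (.leaf 0x29c1)) (.node (.leaf 0x50d7) (.leaf 0x5789))) (.node (.node (.leaf 0xa0b) (.leaf 0x4312)) (.node (.leaf 0x1ef3) (.leaf 0x6ee8)))) (.node (.node (.node (.leaf 0x553) (.leaf 0x390b)) (.node (.leaf 0x4435) (.leaf 0x62c0))) (.node (.node (.leaf 0x10c4) (.leaf 0x4d6a)) (.node (.leaf 0x22fa) (.leaf 0x7688))))) (.node (.node (.node (.node (.leaf 0x2336) (.leaf 0x41c1)) (.node (.leaf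 0x19ba) (.leaf 0x5dc8))) (.node (.node (.leaf 0x897) (.leaf 0x492d)) (.node (.leaf 0x209f) (.leaf 0x712e)))) (.node (.node (.node (.leaf 0x25f4) (.leaf 0x3fbd)) (.node (.leaf 0x2a22) (.leaf 0x6d8e))) (.node (.node (.leaf 0xd97) (.leaf 0x52f6)) (.node (.leaf 0x2625) (.leaf 0x0)))))) (.node (.node (.node (.node (.node (.leaf 0x7ab) (.leaf 0x320f)) (.node (.leaf 0x10e0) (.leaf 0x59aa))) (.node (.node (.leaf 0x32ea) (.leaf 0x453f)) (.node (.leaf 0x1d3b) (.leaf 0x70bb)))) (.node (.node (.node (.leaf 0x587) (.leaf 0x3b69)) (.node (.leaf 0x1d77) (.leaf 0x64a3))) (.node (.node (.leaf 0x306e) (.leaf 0x4f68)) (.node (.leaf 0x3bb4) (.leaf 0x0))))) (.node (.node (.node (.node (.leaf 0x4fb0) (.leaf 0x53c6)) (.node (.leaf 0x3e55) (.leaf 0x6229))) (.node (.node (.leaf 0xb3b) (.leaf 0x4b5e)) (.node (.leaf 0x28e8) (.leaf 0x739e)))) (.node (.node (.node (.leaf 0x29c5) (.leaf 0x41fb)) (.node (.leaf 0x2c45) (.leaf 0x6a73))) (.node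 (.node (.leaf 0xe02) (.leaf 0x5617)) (.node (.leaf 0x27c8) (.leaf 0x0))))))) (.node (.node (.node (.node (.node (.node (.leaf 0x1ad) (.leaf 0x5b1d)) (.node (.leaf 0x5d9e) (.leaf 0x5e93))) (.node (.node (.leaf 0x709) (.leaf 0x5e6c)) (.node (.leaf 0x5f77) (.leaf 0x6cd4)))) (.node (.node (.node (.leaf 0x82a) (.leaf 0x3951)) (.node (.leaf 0x1453) (.leaf 0x621d))) (.node (.node (.leaf 0x2a4a) (.leaf 0x4dd9)) (.node (.leaf 0x2293) (.leaf 0x75b6))))) (.node (.node (.node (.node (.leaf 0x3be) (.leaf 0x31fa)) (.node (.leaf 0x3155) (.leaf 0x5be5))) (.node (.node (.leaf 0x1859) (.leaf 0x4816)) (.node (.leaf 0x1f80) (.leaf 0x71da)))) (.node (.node (.node (.leaf 0x3255) (.leaf 0x3ef9)) (.node (.leaf 0x6c34) (.leaf 0x69bb))) (.node (.node (.leaf 0x23d5) (.leaf 0x5247)) (.node (.leaf 0x254f) (.leaf 0x0)))))) (.node (.node (.node (.node (.node (.leaf 0x247) (.leaf 0x2f5f)) (.node (.leaf 0x2035) (.leaf 0x5999))) (.node (.node (.leaf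 0x2023) (.leaf 0x4564)) (.node (.leaf 0x4f74) (.leaf 0x6f9e)))) (.node (.node (.node (.leaf 0x42fb) (.leaf 0x3afb)) (.node (.leaf 0x33f3) (.leaf 0x6601))) (.node (.node (.leaf 0xc16) (.leaf 0x4fbf)) (.node (.leaf 0x5c27) (.leaf 0x0))))) (.node (.node (.node (.node (.leaf 0x403) (.leaf 0x372b)) (.node (.leaf 0x30cf) (.leaf 0x60aa))) (.node (.node (.leaf 0x1df7) (.leaf 0x4a85)) (.node (.leaf 0x2c12) (.leaf 0x740f)))) (.node (.node (.node (.leaf 0x27b1) (.leaf 0x4232)) (.node (.leaf 0x19f2) (.leaf 0x6aee))) (.node (.node (.leaf 0xdcb) (.leaf 0x546b)) (.node (.leaf 0x2758) (.leaf 0x0))))))))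

/-- Closure. -/
def clo74 : FTree := (.node (.node (.node (.node (.node (.node (.node (.leaf 0x74) (.leaf 0x2a97)) (.node (.leaf 0xf6f) (.leaf 0x57a8))) (.node (.node (.leaf 0x33bb) (.leaf 0x5448)) (.node (.leaf 0x2805) (.leaf 0x6c41)))) (.node (.node (.node (.leaf 0x170a) (.leaf 0x37a3)) (.node (.leaf 0x345a) (.leaf 0x63b5))) (.node (.node (.leaf 0xa70) (.leaf 0x4df4)) (.node (.leaf 0x22e4) (.leaf 0x76d2))))) (.node (.node (.node (.node (.leaf 0x310) (.leaf 0x313d)) (.node (.leaf 0x2f6f) (.leaf 0x5db0))) (.node (.node (.leaf 0x87d) (.leaf 0x479b)) (.node (.leaf 0x1fcd) (.leaf 0x7171)))) (.node (.node (.node (.leaf 0x476) (.leaf 0x3f2f)) (.node (.leaf 0x1c5b) (.leaf 0x67c9))) (.node (.node (.leaf 0xd73) (.leaf 0x52e5)) (.node (.leaf 0x3905) (.leaf 0x0)))))) (.node (.node (.node (.node (.node (.leaf 0x2a8) (.leaf 0x2d5b)) (.node (.leaf 0x1012) (.leaf 0x5a4b))) (.node (.node (.leaf 0xd81) (.leaf 0x46ac)) (.node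 (.leaf 0x1e95) (.leaf 0x706b)))) (.node (.node (.node (.leaf 0x5ae0) (.leaf 0x3bc5)) (.node (.leaf 0x3ca8) (.leaf 0x661b))) (.node (.node (.leaf 0x6435) (.leaf 0x6113)) (.node (.leaf 0x2416) (.leaf 0x0))))) (.node (.node (.node (.node (.leaf 0x313a) (.leaf 0x36e5)) (.node (.leaf 0x13f9) (.leaf 0x613f))) (.node (.node (.leaf 0xa32) (.leaf 0x4b93)) (.node (.leaf 0x495b) (.leaf 0x750f)))) (.node (.node (.node (.leaf 0x3693) (.leaf 0x4252)) (.node (.leaf 0x1932) (.leaf 0x6a6e))) (.node (.node (.leaf 0x696a) (.leaf 0x55cb)) (.node (.leaf 0x2756) (.leaf 0x0))))))) (.node (.node (.node (.node (.node (.node (.leaf 0x1a2) (.leaf 0x2b91)) (.node (.leaf 0x10b5) (.leaf 0x567f))) (.node (.node (.leaf 0x953) (.leaf 0x4355)) (.node (.leaf 0x557d) (.leaf 0x6ec9)))) (.node (.node (.node (.leaf 0x395) (.leaf 0x39b6)) (.node (.leaf 0x3fe0) (.leaf 0x628b))) (.node (.node (.leaf 0x3edd) (.leaf 0x4d73)) (.node (.leaf 0x238d) (.leaf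 0x7647))))) (.node (.node (.node (.node (.leaf 0x65d) (.leaf 0x3100)) (.node (.leaf 0x377f) (.leaf 0x5ce2))) (.node (.node (.leaf 0x16f3) (.leaf 0x4876)) (.node (.leaf 0x28f7) (.leaf 0x7302)))) (.node (.node (.node (.leaf 0xccc) (.leaf 0x3e8c)) (.node (.leaf 0x1ce0) (.leaf 0x6791))) (.node (.node (.leaf 0xe46) (.leaf 0x52b5)) (.node (.leaf 0x60b6) (.leaf 0x0)))))) (.node (.node (.node (.node (.node (.leaf 0x778) (.leaf 0x2d7e)) (.node (.leaf 0x100f) (.leaf 0x59c9))) (.node (.node (.leaf 0xb59) (.leaf 0x44ef)) (.node (.leaf 0x1ddd) (.leaf 0x70a9)))) (.node (.node (.node (.leaf 0x1746) (.leaf 0x3bf6)) (.node (.leaf 0x19a8) (.leaf 0x6682))) (.node (.node (.leaf 0x6a5a) (.leaf 0x4fa5)) (.node (.leaf 0x24cd) (.leaf 0x0))))) (.node (.node (.node (.node (.leaf 0x6cef) (.leaf 0x35fb)) (.node (.leaf 0x13ad) (.leaf 0x5fd0))) (.node (.node (.leaf 0x957) (.leaf 0x5334)) (.node (.leaf 0x21d7) (.leaf 0x7380)))) (.node (.node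 (.node (.leaf 0x23f2) (.leaf 0x404a)) (.node (.leaf 0x1b60) (.leaf 0x6a61))) (.node (.node (.leaf 0x56dc) (.leaf 0x54fd)) (.node (.leaf 0x4e28) (.leaf 0x0))))))))

/-- Closure. -/
def clo75 : FTree := (.node (.node (.node (.node (.node (.node (.node (.leaf 0x124) (.leaf 0x2cac)) (.node (.leaf 0x3194) (.leaf 0x5853))) (.node (.node (.leaf 0x63c) (.leaf 0x4496)) (.node (.leaf 0x4367) (.leaf 0x6d9b)))) (.node (.node (.node (.leaf 0x52a) (.leaf 0x3791)) (.node (.leaf 0x152d) (.leaf 0x6206))) (.node (.node (.leaf 0x1d36) (.leaf 0x4d13)) (.node (.leaf 0x2282) (.leaf 0x76bf))))) (.node (.node (.node (.node (.leaf 0x871) (.leaf 0x3175)) (.node (.leaf 0x1297) (.leaf 0x5ac3))) (.node (.node (.leaf 0x3017) (.leaf 0x48d3)) (.node (.leaf 0x1fb7) (.leaf 0x7132)))) (.node (.node (.node (.leaf 0x68e) (.leaf 0x3f72)) (.node (.leaf 0x286f) (.leaf 0x6795))) (.node (.node (.leaf 0xe3c) (.leaf 0x51b0)) (.node (.leaf 0x25cb) (.leaf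 0x0)))))) (.node (.node (.node (.node (.node (.leaf 0xba9) (.leaf 0x3e92)) (.node (.leaf 0x1be0) (.leaf 0x59d1))) (.node (.node (.leaf 0x6ed) (.leaf 0x474d)) (.node (.leaf 0x1e7c) (.leaf 0x6f12)))) (.node (.node (.node (.leaf 0x42b) (.leaf 0x3bf3)) (.node (.leaf 0x1618) (.leaf 0x65ad))) (.node (.node (.leaf 0xc6b) (.leaf 0x4fb4)) (.node (.leaf 0x2389) (.leaf 0x0))))) (.node (.node (.node (.node (.leaf 0x2cb4) (.leaf 0x3582)) (.node (.leaf 0x3e1f) (.leaf 0x610f))) (.node (.node (.leaf 0x1080) (.leaf 0x4aad)) (.node (.leaf 0x412e) (.leaf 0x748d)))) (.node (.node (.node (.leaf 0x59c) (.leaf 0x41bd)) (.node (.leaf 0x1a0f) (.leaf 0x6a7f))) (.node (.node (.leaf 0x24d9) (.leaf 0x5505)) (.node (.leaf 0x2714) (.leaf 0x0))))))) (.node (.node (.node (.node (.node (.node (.leaf 0x1ea) (.leaf 0x2b54)) (.node (.leaf 0x3165) (.leaf 0x587b))) (.node (.node (.leaf 0xce8) (.leaf 0x519a)) (.node (.leaf 0x5adf) (.leaf 0x6d7f)))) (.node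 (.node (.node (.leaf 0x53d) (.leaf 0x3984)) (.node (.leaf 0x1571) (.leaf 0x6247))) (.node (.node (.leaf 0x3af8) (.leaf 0x4dc8)) (.node (.leaf 0x30a4) (.leaf 0x7640))))) (.node (.node (.node (.node (.leaf 0x2a65) (.leaf 0x31c8)) (.node (.leaf 0x11c5) (.leaf 0x5af2))) (.node (.node (.leaf 0x10cf) (.leaf 0x499f)) (.node (.leaf 0x1f52) (.leaf 0x71cb)))) (.node (.node (.node (.leaf 0x2b1f) (.leaf 0x3dc1)) (.node (.leaf 0x32bd) (.leaf 0x692c))) (.node (.node (.leaf 0xd0e) (.leaf 0x52d7)) (.node (.leaf 0x5f95) (.leaf 0x0)))))) (.node (.node (.node (.node (.node (.leaf 0x2fe) (.leaf 0x30c4)) (.node (.leaf 0x2030) (.leaf 0x5a56))) (.node (.node (.leaf 0xe14) (.leaf 0x44e4)) (.node (.leaf 0x3d32) (.leaf 0x6fd7)))) (.node (.node (.node (.leaf 0x17d6) (.leaf 0x3ae7)) (.node (.leaf 0x413f) (.leaf 0x646d))) (.node (.node (.leaf 0x3071) (.leaf 0x4fb9)) (.node (.leaf 0x2420) (.leaf 0x0))))) (.node (.node (.node (.node (.leaf 0x934)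 (.leaf 0x3899)) (.node (.leaf 0x2efe) (.leaf 0x5fc5))) (.node (.node (.leaf 0x1e98) (.leaf 0x5eab)) (.node (.leaf 0x4133) (.leaf 0x7421)))) (.node (.node (.node (.leaf 0x10f9) (.leaf 0x427e)) (.node (.leaf 0x196f) (.leaf 0x6b5c))) (.node (.node (.leaf 0xe76) (.leaf 0x559a)) (.node (.leaf 0x2703) (.leaf 0x0))))))))

/-- Closure. -/
def clo76 : FTree := (.node (.node (.node (.node (.node (.node (.node (.leaf 0x64) (.leaf 0x2a4f)) (.node (.leaf 0xfb5) (.leaf 0x57f6))) (.node (.node (.leaf 0xaf8) (.leaf 0x4487)) (.node (.leaf 0x1c41) (.leaf 0x6c7e)))) (.node (.node (.node (.leaf 0x828) (.leaf 0x3844)) (.node (.leaf 0x1469) (.leaf 0x637f))) (.node (.node (.leaf 0xac9) (.leaf 0x4d33)) (.node (.leaf 0x22c8) (.leaf 0x7671))))) (.node (.node (.node (.node (.leaf 0x2698) (.leaf 0x5b7b)) (.node (.leaf 0x28bf) (.leaf 0x5b69))) (.node (.node (.leaf 0x69e3) (.leaf 0x51d3)) (.node (.leaf 0x554d) (.leaf 0x714c)))) (.node (.node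 (.node (.leaf 0x181c) (.leaf 0x3d46)) (.node (.leaf 0x21c4) (.leaf 0x68dc))) (.node (.node (.leaf 0xd51) (.leaf 0x5626)) (.node (.leaf 0x2645) (.leaf 0x0)))))) (.node (.node (.node (.node (.node (.leaf 0x4d6) (.leaf 0x320d)) (.node (.leaf 0x197f) (.leaf 0x5983))) (.node (.node (.leaf 0x1036) (.leaf 0x4740)) (.node (.leaf 0x575d) (.leaf 0x7058)))) (.node (.node (.node (.leaf 0x8ee) (.leaf 0x3b2a)) (.node (.leaf 0x162c) (.leaf 0x666c))) (.node (.node (.leaf 0x6447) (.leaf 0x5054)) (.node (.leaf 0x2366) (.leaf 0x0))))) (.node (.node (.node (.node (.leaf 0x4fab) (.leaf 0x36a7)) (.node (.leaf 0x5bf4) (.leaf 0x5fe8))) (.node (.node (.leaf 0x1e70) (.leaf 0x4a71)) (.node (.leaf 0x3d99) (.leaf 0x747c)))) (.node (.node (.node (.leaf 0x298a) (.leaf 0x41a5)) (.node (.leaf 0x1911) (.leaf 0x6a25))) (.node (.node (.leaf 0x2b30) (.leaf 0x541a)) (.node (.leaf 0x4743) (.leaf 0x0))))))) (.node (.node (.node (.node (.node (.node (.leaf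 0x156) (.leaf 0x2954)) (.node (.leaf 0x319b) (.leaf 0x56eb))) (.node (.node (.leaf 0x3774) (.leaf 0x42d7)) (.node (.leaf 0x4013) (.leaf 0x6ede)))) (.node (.node (.node (.leaf 0x464c) (.leaf 0x3965)) (.node (.leaf 0x443f) (.leaf 0x63af))) (.node (.node (.leaf 0x3436) (.leaf 0x4c5d)) (.node (.leaf 0x22a6) (.leaf 0x758e))))) (.node (.node (.node (.node (.leaf 0x2356) (.leaf 0x33af)) (.node (.leaf 0x488c) (.leaf 0x5bf3))) (.node (.node (.leaf 0x88c) (.leaf 0x4996)) (.node (.leaf 0x1f64) (.leaf 0x71e0)))) (.node (.node (.node (.leaf 0xec6) (.leaf 0x3cce)) (.node (.leaf 0x3270) (.leaf 0x6776))) (.node (.node (.leaf 0x10d0) (.leaf 0x5181)) (.node (.leaf 0x2619) (.leaf 0x0)))))) (.node (.node (.node (.node (.node (.leaf 0xbae) (.leaf 0x2f97)) (.node (.leaf 0x3f58) (.leaf 0x59cd))) (.node (.node (.leaf 0x11bd) (.leaf 0x4c7a)) (.node (.leaf 0x3c31) (.leaf 0x6fd1)))) (.node (.node (.node (.leaf 0x131a) (.leaf 0x3b85)) (.node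 (.leaf 0x4143) (.leaf 0x6623))) (.node (.node (.leaf 0x6a33) (.leaf 0x4e85)) (.node (.leaf 0x2338) (.leaf 0x0))))) (.node (.node (.node (.node (.leaf 0x2fc8) (.leaf 0x42d2)) (.node (.leaf 0x1376) (.leaf 0x5f65))) (.node (.node (.leaf 0xa24) (.leaf 0x4af3)) (.node (.leaf 0x445a) (.leaf 0x7401)))) (.node (.node (.node (.leaf 0x5d8) (.leaf 0x415a)) (.node (.leaf 0x560d) (.leaf 0x6aef))) (.node (.node (.leaf 0xe79) (.leaf 0x53e1)) (.node (.leaf 0x67f9) (.leaf 0x0))))))))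

/-- Closure. -/
def clo77 : FTree := (.node (.node (.node (.node (.node (.node (.node (.leaf 0xa0) (.leaf 0x2c81)) (.node (.leaf 0x2603) (.leaf 0x57e8))) (.node (.node (.leaf 0x985) (.leaf 0x4462)) (.node (.leaf 0x2cab) (.leaf 0x6e9c)))) (.node (.node (.node (.leaf 0x1cad) (.leaf 0x4dff)) (.node (.leaf 0x1aec) (.leaf 0x6315))) (.node (.node (.leaf 0x117b) (.leaf 0x4cf9)) (.node (.leaf 0x2aee) (.leaf 0x757b))))) (.node (.node (.node (.node (.leaf 0x65f) (.leaf 0x5b00)) (.node (.leaf 0x1194) (.leaf 0x5bc9))) (.node (.node (.leaf 0x1660) (.leaf 0x4970)) (.node (.leaf 0x4c03) (.leaf 0x727d)))) (.node (.node (.node (.leaf 0x14ce) (.leaf 0x3f55)) (.node (.leaf 0x17da) (.leaf 0x697f))) (.node (.node (.leaf 0xd28) (.leaf 0x52e9)) (.node (.leaf 0x2593) (.leaf 0x0)))))) (.node (.node (.node (.node (.node (.leaf 0xee8) (.leaf 0x2d91)) (.node (.leaf 0x1078) (.leaf 0x5a6b))) (.node (.node (.leaf 0x1bd3) (.leaf 0x4590)) (.node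 (.leaf 0x1e32) (.leaf 0x7097)))) (.node (.node (.node (.leaf 0x4a8) (.leaf 0x3c84)) (.node (.leaf 0x158d) (.leaf 0x665b))) (.node (.node (.leaf 0x6133) (.leaf 0x4f70)) (.node (.leaf 0x2382) (.leaf 0x0))))) (.node (.node (.node (.node (.leaf 0x5ba2) (.leaf 0x362a)) (.node (.leaf 0x6922) (.leaf 0x5f86))) (.node (.node (.leaf 0xb51) (.leaf 0x4adc)) (.node (.leaf 0x20d2) (.leaf 0x73b5)))) (.node (.node (.node (.leaf 0x5867) (.leaf 0x411b)) (.node (.leaf 0x1960) (.leaf 0x6af8))) (.node (.node (.leaf 0xdd8) (.leaf 0x6ea0)) (.node (.leaf 0x3237) (.leaf 0x0))))))) (.node (.node (.node (.node (.node (.node (.leaf 0x1c5) (.leaf 0x3208)) (.node (.leaf 0x565d) (.leaf 0x60dc))) (.node (.node (.leaf 0x72f) (.leaf 0x432d)) (.node (.leaf 0x1b1f) (.leaf 0x6e09)))) (.node (.node (.node (.leaf 0x546) (.leaf 0x595c)) (.node (.leaf 0x344e) (.leaf 0x6373))) (.node (.node (.leaf 0xb87) (.leaf 0x4dbc)) (.node (.leaf 0x6747) (.leaf 0x7662)))))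 (.node (.node (.node (.node (.leaf 0x1c6a) (.leaf 0x3295)) (.node (.leaf 0x11d4) (.leaf 0x6585))) (.node (.node (.leaf 0x2928) (.leaf 0x484c)) (.node (.leaf 0x1fe6) (.leaf 0x7192)))) (.node (.node (.node (.leaf 0x2baf) (.leaf 0x3f1d)) (.node (.leaf 0x17b2) (.leaf 0x6908))) (.node (.node (.leaf 0x3c5b) (.leaf 0x51fd)) (.node (.leaf 0x2566) (.leaf 0x0)))))) (.node (.node (.node (.node (.node (.leaf 0x4ce) (.leaf 0x2dd6)) (.node (.leaf 0x3426) (.leaf 0x59d7))) (.node (.node (.leaf 0xe2b) (.leaf 0x459d)) (.node (.leaf 0x1e50) (.leaf 0x70e5)))) (.node (.node (.node (.leaf 0x5ae1) (.leaf 0x3afa)) (.node (.leaf 0x16bf) (.leaf 0x6482))) (.node (.node (.leaf 0xc03) (.leaf 0x50cb)) (.node (.leaf 0x238a) (.leaf 0x0))))) (.node (.node (.node (.node (.leaf 0x4ed5) (.leaf 0x361e)) (.node (.leaf 0x13a7) (.leaf 0x6103))) (.node (.node (.leaf 0x5083) (.leaf 0x4b85)) (.node (.leaf 0x20d4) (.leaf 0x7403)))) (.node (.node (.node (.leaf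 0x5d5) (.leaf 0x424d)) (.node (.leaf 0x190a) (.leaf 0x6b87))) (.node (.node (.leaf 0xea1) (.leaf 0x5428)) (.node (.leaf 0x293f) (.leaf 0x0))))))))

/-- Closure. -/
def clo78 : FTree := (.node (.node (.node (.node (.node (.node (.node (.leaf 0x5c) (.leaf 0x294f)) (.node (.leaf 0x12ca) (.leaf 0x6672))) (.node (.node (.leaf 0x6b8) (.leaf 0x544e)) (.node (.leaf 0x1acd) (.leaf 0x6ee1)))) (.node (.node (.node (.leaf 0x7de) (.leaf 0x37fa)) (.node (.leaf 0x15e5) (.leaf 0x62de))) (.node (.node (.leaf 0x3733) (.leaf 0x4cd3)) (.node (.leaf 0x2cf9) (.leaf 0x7539))))) (.node (.node (.node (.node (.leaf 0x2a5d) (.leaf 0x60c9)) (.node (.leaf 0x1255) (.leaf 0x5c44))) (.node (.node (.leaf 0x3d3c) (.leaf 0x479f)) (.node (.leaf 0x1f85) (.leaf 0x71b2)))) (.node (.node (.node (.leaf 0x2da6) (.leaf 0x3cd6)) (.node (.leaf 0x17aa) (.leaf 0x6931))) (.node (.node (.leaf 0xd76) (.leaf 0x5160)) (.node (.leaf 0x265f) (.leaf 0x0)))))) (.node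 (.node (.node (.node (.node (.leaf 0x255) (.leaf 0x2e25)) (.node (.leaf 0x3857) (.leaf 0x5932))) (.node (.node (.leaf 0xa16) (.leaf 0x46b4)) (.node (.leaf 0x1eb4) (.leaf 0x7082)))) (.node (.node (.node (.leaf 0x675) (.leaf 0x3be8)) (.node (.leaf 0x1fa0) (.leaf 0x67b1))) (.node (.node (.leaf 0x6177) (.leaf 0x4e5c)) (.node (.leaf 0x2418) (.leaf 0x0))))) (.node (.node (.node (.node (.leaf 0x62f) (.leaf 0x36ea)) (.node (.leaf 0x66a6) (.leaf 0x5f79))) (.node (.node (.leaf 0x1274) (.leaf 0x4a47)) (.node (.leaf 0x2235) (.leaf 0x731e)))) (.node (.node (.node (.leaf 0x273a) (.leaf 0x41ea)) (.node (.leaf 0x1bf5) (.leaf 0x6a44))) (.node (.node (.leaf 0xebf) (.leaf 0x55e6)) (.node (.leaf 0x2930) (.leaf 0x0))))))) (.node (.node (.node (.node (.node (.node (.leaf 0x15f) (.leaf 0x2a99)) (.node (.leaf 0x316e) (.leaf 0x5df2))) (.node (.node (.leaf 0x64c) (.leaf 0x544a)) (.node (.leaf 0x1a50) (.leaf 0x6ee4)))) (.node (.node (.node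 (.leaf 0x170b) (.leaf 0x3892)) (.node (.leaf 0x50fc) (.leaf 0x6349))) (.node (.node (.leaf 0xb7f) (.leaf 0x4da3)) (.node (.leaf 0x6634) (.leaf 0x7638))))) (.node (.node (.node (.node (.leaf 0x294b) (.leaf 0x3264)) (.node (.leaf 0x4d61) (.leaf 0x68a7))) (.node (.node (.leaf 0x3d42) (.leaf 0x51d2)) (.node (.leaf 0x1f9b) (.leaf 0x714d)))) (.node (.node (.node (.leaf 0x6839) (.leaf 0x3eef)) (.node (.leaf 0x1c09) (.leaf 0x6787))) (.node (.node (.leaf 0x1b11) (.leaf 0x52e3)) (.node (.leaf 0x48b7) (.leaf 0x0)))))) (.node (.node (.node (.node (.node (.leaf 0x2b1) (.leaf 0x2ec2)) (.node (.leaf 0x1101) (.leaf 0x5a6d))) (.node (.node (.leaf 0x129c) (.leaf 0x45a4)) (.node (.leaf 0x1e46) (.leaf 0x70a1)))) (.node (.node (.node (.leaf 0x2e58) (.leaf 0x3aa6)) (.node (.leaf 0x3c9c) (.leaf 0x64d2))) (.node (.node (.leaf 0x6171) (.leaf 0x4f66)) (.node (.leaf 0x2350) (.leaf 0x0))))) (.node (.node (.node (.node (.leaf 0x3d1) (.leaf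 0x36c6)) (.node (.leaf 0x141d) (.leaf 0x6009))) (.node (.node (.leaf 0xd6d) (.leaf 0x4b39)) (.node (.leaf 0x21ce) (.leaf 0x732d)))) (.node (.node (.node (.leaf 0x5ec) (.leaf 0x419a)) (.node (.leaf 0x19cf) (.leaf 0x6ab4))) (.node (.node (.leaf 0x56e0) (.leaf 0x54a4)) (.node (.leaf 0x2817) (.leaf 0x0))))))))

/-- Closure. -/
def clo79 : FTree := (.node (.node (.node (.node (.node (.node (.node (.leaf 0x142) (.leaf 0x298e)) (.node (.leaf 0x50da) (.leaf 0x56a7))) (.node (.node (.leaf 0x3773) (.leaf 0x42eb)) (.node (.leaf 0x1a68) (.leaf 0x6c5b)))) (.node (.node (.node (.leaf 0x554) (.leaf 0x3853)) (.node (.leaf 0x14a4) (.leaf 0x6325))) (.node (.node (.leaf 0xa68) (.leaf 0x4c2c)) (.node (.leaf 0x22f9) (.leaf 0x76d9))))) (.node (.node (.node (.node (.leaf 0x2335) (.leaf 0x54fc)) (.node (.leaf 0x115c) (.leaf 0x5bed))) (.node (.node (.leaf 0x894) (.leaf 0x4857)) (.node (.leaf 0x1fec) (.leaf 0x7293)))) (.node (.node (.node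 (.leaf 0x749) (.leaf 0x3ef2)) (.node (.leaf 0x3271) (.leaf 0x66d4))) (.node (.node (.leaf 0x4093) (.leaf 0x5317)) (.node (.leaf 0x2535) (.leaf 0x0)))))) (.node (.node (.node (.node (.node (.leaf 0x7ba) (.leaf 0x2f5d)) (.node (.leaf 0x2bb9) (.leaf 0x59b2))) (.node (.node (.leaf 0x2b2b) (.leaf 0x45aa)) (.node (.leaf 0x3f8e) (.leaf 0x6fa7)))) (.node (.node (.node (.leaf 0x5d7) (.leaf 0x3a34)) (.node (.leaf 0x1616) (.leaf 0x66e0))) (.node (.node (.leaf 0x3065) (.leaf 0x4ec3)) (.node (.leaf 0x24a4) (.leaf 0x0))))) (.node (.node (.node (.node (.leaf 0x1d19) (.leaf 0x37cf)) (.node (.leaf 0x2790) (.leaf 0x60c0))) (.node (.node (.leaf 0x954) (.leaf 0x4bb1)) (.node (.leaf 0x34ce) (.leaf 0x736f)))) (.node (.node (.node (.leaf 0x29c4) (.leaf 0x4100)) (.node (.leaf 0x1b59) (.leaf 0x6b60))) (.node (.node (.leaf 0x1f6f) (.leaf 0x5563)) (.node (.leaf 0x293d) (.leaf 0x0))))))) (.node (.node (.node (.node (.node (.node (.leaf 0x0)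 (.leaf 0x0)) (.node (.leaf 0x0) (.leaf 0x0))) (.node (.node (.leaf 0x0) (.leaf 0x0)) (.node (.leaf 0x0) (.leaf 0x0)))) (.node (.node (.node (.leaf 0x0) (.leaf 0x0)) (.node (.leaf 0x0) (.leaf 0x0))) (.node (.node (.leaf 0x0) (.leaf 0x0)) (.node (.leaf 0x0) (.leaf 0x0))))) (.node (.node (.node (.node (.leaf 0x0) (.leaf 0x0)) (.node (.leaf 0x0) (.leaf 0x0))) (.node (.node (.leaf 0x0) (.leaf 0x0)) (.node (.leaf 0x0) (.leaf 0x0)))) (.node (.node (.node (.leaf 0x0) (.leaf 0x0)) (.node (.leaf 0x0) (.leaf 0x0))) (.node (.node (.leaf 0x0) (.leaf 0x0)) (.node (.leaf 0x0) (.leaf 0x0)))))) (.node (.node (.node (.node (.node (.leaf 0x0) (.leaf 0x0)) (.node (.leaf 0x0) (.leaf 0x0))) (.node (.node (.leaf 0x0) (.leaf 0x0)) (.node (.leaf 0x0) (.leaf 0x0)))) (.node (.node (.node (.leaf 0x0) (.leaf 0x0)) (.node (.leaf 0x0) (.leaf 0x0))) (.node (.node (.leaf 0x0) (.leaf 0x0)) (.node (.leaf 0x0) (.leaf 0x0))))) (.node (.node (.node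 (.node (.leaf 0x0) (.leaf 0x0)) (.node (.leaf 0x0) (.leaf 0x0))) (.node (.node (.leaf 0x0) (.leaf 0x0)) (.node (.leaf 0x0) (.leaf 0x0)))) (.node (.node (.node (.leaf 0x0) (.leaf 0x0)) (.node (.leaf 0x0) (.leaf 0x0))) (.node (.node (.leaf 0x0) (.leaf 0x0)) (.node (.leaf 0x0) (.leaf 0x0))))))))

/-- Closure. -/
def clo80 : FTree := (.node (.node (.node (.node (.node (.node (.node (.leaf 0x17) (.leaf 0x2b23)) (.node (.leaf 0x2d63) (.leaf 0x5df3))) (.node (.node (.leaf 0x570c) (.leaf 0x447c)) (.node (.leaf 0x2d80) (.leaf 0x6efb)))) (.node (.node (.node (.leaf 0x37a) (.leaf 0x39c9)) (.node (.leaf 0x146a) (.leaf 0x62b5))) (.node (.node (.leaf 0x103a) (.leaf 0x5ed0)) (.node (.leaf 0x6754) (.leaf 0x76bc))))) (.node (.node (.node (.node (.leaf 0x12f1) (.leaf 0x3145)) (.node (.leaf 0x187f) (.leaf 0x5b3c))) (.node (.node (.leaf 0x3ded) (.leaf 0x4781)) (.node (.leaf 0x1f4a) (.leaf 0x718b)))) (.node (.node (.node (.leaf 0x930)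 (.leaf 0x678c)) (.node (.leaf 0x1742) (.leaf 0x675c))) (.node (.node (.leaf 0xd2b) (.leaf 0x52d8)) (.node (.leaf 0x2528) (.leaf 0x0)))))) (.node (.node (.node (.node (.node (.leaf 0x345) (.leaf 0x68e8)) (.node (.leaf 0x28b6) (.leaf 0x5928))) (.node (.node (.leaf 0x353e) (.leaf 0x470b)) (.node (.leaf 0x3979) (.leaf 0x704b)))) (.node (.node (.node (.leaf 0x5350) (.leaf 0x3cb0)) (.node (.leaf 0x46e2) (.leaf 0x6854))) (.node (.node (.leaf 0x29ab) (.leaf 0x56b8)) (.node (.leaf 0x32cf) (.leaf 0x0))))) (.node (.node (.node (.node (.leaf 0x42c6) (.leaf 0x36f6)) (.node (.leaf 0x3e4b) (.leaf 0x601f))) (.node (.node (.leaf 0x6724) (.leaf 0x4aa7)) (.node (.leaf 0x2239) (.leaf 0x74a3)))) (.node (.node (.node (.leaf 0x1322) (.leaf 0x428f)) (.node (.leaf 0x2c91) (.leaf 0x6aaa))) (.node (.node (.leaf 0x57fd) (.leaf 0x535e)) (.node (.leaf 0x2b53) (.leaf 0x0))))))) (.node (.node (.node (.node (.node (.node (.leaf 0xe5) (.leaf 0x6d0f))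 (.node (.leaf 0xf1e) (.leaf 0x56d0))) (.node (.node (.leaf 0x99e) (.leaf 0x4326)) (.node (.leaf 0x1bce) (.leaf 0x6c73)))) (.node (.node (.node (.leaf 0x7da) (.leaf 0x3786)) (.node (.leaf 0x3452) (.leaf 0x62db))) (.node (.node (.leaf 0xb38) (.leaf 0x4ceb)) (.node (.leaf 0x22bc) (.leaf 0x75a8))))) (.node (.node (.node (.node (.leaf 0x874) (.leaf 0x5464)) (.node (.leaf 0x128c) (.leaf 0x5ca2))) (.node (.node (.leaf 0x3d41) (.leaf 0x48b6)) (.node (.leaf 0x33fe) (.leaf 0x72b4)))) (.node (.node (.node (.leaf 0x61d) (.leaf 0x3eff)) (.node (.leaf 0x17ae) (.leaf 0x66ea))) (.node (.node (.leaf 0x65d9) (.leaf 0x51e4)) (.node (.leaf 0x3379) (.leaf 0x0)))))) (.node (.node (.node (.node (.node (.leaf 0x257) (.leaf 0x2de2)) (.node (.leaf 0xfc1) (.leaf 0x58ff))) (.node (.node (.leaf 0x724) (.leaf 0x4748)) (.node (.leaf 0x1e43) (.leaf 0x6f46)))) (.node (.node (.node (.leaf 0x4af4) (.leaf 0x3c7f)) (.node (.leaf 0x1597) (.leaf 0x665e)))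 (.node (.node (.leaf 0x6179) (.leaf 0x5109)) (.node (.leaf 0x238c) (.leaf 0x0))))) (.node (.node (.node (.node (.leaf 0x634) (.leaf 0x3747)) (.node (.leaf 0x2e36) (.leaf 0x60e3))) (.node (.node (.leaf 0x3aa7) (.leaf 0x4b88)) (.node (.leaf 0x21f0) (.leaf 0x74a7)))) (.node (.node (.node (.leaf 0x588) (.leaf 0x54c2)) (.node (.leaf 0x3471) (.leaf 0x6c23))) (.node (.node (.leaf 0x5b31) (.leaf 0x5643)) (.node (.leaf 0x27c3) (.leaf 0x0))))))))

/-- Closure. -/
def clo81 : FTree := (.node (.node (.node (.node (.node (.node (.node (.leaf 0x71) (.leaf 0x2ab7)) (.node (.leaf 0x12ba) (.leaf 0x5678))) (.node (.node (.leaf 0xfba) (.leaf 0x42ee)) (.node (.leaf 0x1aba) (.leaf 0x6d01)))) (.node (.node (.node (.leaf 0x1c75) (.leaf 0x38ef)) (.node (.leaf 0x14de) (.leaf 0x61bc))) (.node (.node (.leaf 0x509d) (.leaf 0x4c4e)) (.node (.leaf 0x22bd) (.leaf 0x7695))))) (.node (.node (.node (.node (.leaf 0x2fc1) (.leaf 0x302c)) (.node (.leaf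 0x11aa) (.leaf 0x5e7f))) (.node (.node (.leaf 0x20c4) (.leaf 0x4899)) (.node (.leaf 0x33fd) (.leaf 0x721e)))) (.node (.node (.node (.leaf 0x710) (.leaf 0x3ec9)) (.node (.leaf 0x1785) (.leaf 0x671e))) (.node (.node (.leaf 0x1954) (.leaf 0x5260)) (.node (.leaf 0x253e) (.leaf 0x0)))))) (.node (.node (.node (.node (.node (.leaf 0x287) (.leaf 0x2d16)) (.node (.leaf 0x2b3e) (.leaf 0x5a0e))) (.node (.node (.leaf 0x519c) (.leaf 0x4b77)) (.node (.leaf 0x42df) (.leaf 0x6f66)))) (.node (.node (.node (.leaf 0x3eb) (.leaf 0x3bd8)) (.node (.leaf 0x15d2) (.leaf 0x657a))) (.node (.node (.leaf 0xc75) (.leaf 0x53f8)) (.node (.leaf 0x23eb) (.leaf 0x0))))) (.node (.node (.node (.node (.leaf 0x55d) (.leaf 0x3655)) (.node (.leaf 0x1313) (.leaf 0x5f44))) (.node (.node (.leaf 0x1bfd) (.leaf 0x4b14)) (.node (.leaf 0x218f) (.leaf 0x7475)))) (.node (.node (.node (.leaf 0x132f) (.leaf 0x4186)) (.node (.leaf 0x188c) (.leaf 0x6bf2))) (.node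 (.node (.leaf 0x1fd9) (.leaf 0x6e8a)) (.node (.leaf 0x28dd) (.leaf 0x0))))))) (.node (.node (.node (.node (.node (.node (.leaf 0x163) (.leaf 0x2be4)) (.node (.leaf 0x2a86) (.leaf 0x5842))) (.node (.node (.leaf 0x43ff) (.leaf 0x4867)) (.node (.leaf 0x5477) (.leaf 0x6d7e)))) (.node (.node (.node (.leaf 0x3cfa) (.leaf 0x3924)) (.node (.leaf 0x1567) (.leaf 0x61de))) (.node (.node (.leaf 0x1200) (.leaf 0x4d00)) (.node (.leaf 0x2ae5) (.leaf 0x766e))))) (.node (.node (.node (.node (.leaf 0x32f) (.leaf 0x32ef)) (.node (.leaf 0x54ee) (.leaf 0x5e58))) (.node (.node (.leaf 0x2dbf) (.leaf 0x494e)) (.node (.leaf 0x2f57) (.leaf 0x7172)))) (.node (.node (.node (.leaf 0x4e60) (.leaf 0x41b6)) (.node (.leaf 0x17a2) (.leaf 0x6709))) (.node (.node (.leaf 0x5473) (.leaf 0x5169)) (.node (.leaf 0x271e) (.leaf 0x0)))))) (.node (.node (.node (.node (.node (.leaf 0x352) (.leaf 0x4fd0)) (.node (.leaf 0x2f17) (.leaf 0x5a05))) (.node (.node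 (.leaf 0x4831) (.leaf 0x5e15)) (.node (.leaf 0x1d0e) (.leaf 0x6f5a)))) (.node (.node (.node (.leaf 0x63e2) (.leaf 0x3cb2)) (.node (.leaf 0x159e) (.leaf 0x64c8))) (.node (.node (.leaf 0x3578) (.leaf 0x4e7b)) (.node (.leaf 0x23ae) (.leaf 0x0))))) (.node (.node (.node (.node (.leaf 0x298f) (.leaf 0x3703)) (.node (.leaf 0x1319) (.leaf 0x5f53))) (.node (.node (.leaf 0x5f31) (.leaf 0x4a44)) (.node (.leaf 0x2241) (.leaf 0x74df)))) (.node (.node (.node (.leaf 0x1408) (.leaf 0x4052)) (.node (.leaf 0x5612) (.leaf 0x6bbb))) (.node (.node (.leaf 0x5575) (.leaf 0x54e7)) (.node (.leaf 0x2e9b) (.leaf 0x0))))))))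

/-- Closure. -/
def clo82 : FTree := (.node (.node (.node (.node (.node (.node (.node (.leaf 0x84) (.leaf 0x5b2d)) (.node (.leaf 0xf22) (.leaf 0x57c9))) (.node (.node (.leaf 0x11db) (.leaf 0x438b)) (.node (.leaf 0x1c4b) (.leaf 0x6c77)))) (.node (.node (.node (.leaf 0x1c7b) (.leaf 0x45fe)) (.node (.leaf 0x3299) (.leaf 0x651f))) (.node (.node (.leaf 0xb8d) (.leaf 0x4d8a)) (.node (.leaf 0x4a5f) (.leaf 0x76ef))))) (.node (.node (.node (.node (.leaf 0x42aa) (.leaf 0x429a)) (.node (.leaf 0x1ec4) (.leaf 0x5aec))) (.node (.node (.leaf 0x112c) (.leaf 0x4904)) (.node (.leaf 0x2004) (.leaf 0x723a)))) (.node (.node (.node (.leaf 0x465) (.leaf 0x3dbc)) (.node (.leaf 0x1782) (.leaf 0x6809))) (.node (.node (.leaf 0x221b) (.leaf 0x5180)) (.node (.leaf 0x25fa) (.leaf 0x0)))))) (.node (.node (.node (.node (.node (.leaf 0x25e) (.leaf 0x2dd0)) (.node (.leaf 0x2bd3) (.leaf 0x5a1a))) (.node (.node (.leaf 0x6d6) (.leaf 0x4597)) (.node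 (.leaf 0x3941) (.leaf 0x7009)))) (.node (.node (.node (.leaf 0x29f5) (.leaf 0x3c55)) (.node (.leaf 0x1f9f) (.leaf 0x66e3))) (.node (.node (.leaf 0xc63) (.leaf 0x4ee6)) (.node (.leaf 0x2374) (.leaf 0x0))))) (.node (.node (.node (.node (.leaf 0x5bbe) (.leaf 0x3658)) (.node (.leaf 0x1436) (.leaf 0x660a))) (.node (.node (.leaf 0x43e0) (.leaf 0x4b0b)) (.node (.leaf 0x20c2) (.leaf 0x73fc)))) (.node (.node (.node (.leaf 0x5b28) (.leaf 0x3fcb)) (.node (.leaf 0x1991) (.leaf 0x6a47))) (.node (.node (.leaf 0xe1f) (.leaf 0x54b2)) (.node (.leaf 0x2921) (.leaf 0x0))))))) (.node (.node (.node (.node (.node (.node (.leaf 0x19f) (.leaf 0x5b1e)) (.node (.leaf 0x5fbe) (.leaf 0x57e1))) (.node (.node (.leaf 0x146b) (.leaf 0x441d)) (.node (.leaf 0x3519) (.leaf 0x6e27)))) (.node (.node (.node (.leaf 0x1c96) (.leaf 0x3f16)) (.node (.leaf 0x6979) (.leaf 0x628e))) (.node (.node (.leaf 0xb57) (.leaf 0x4e0e)) (.node (.leaf 0x6f05) (.leaf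 0x767c))))) (.node (.node (.node (.node (.leaf 0x1721) (.leaf 0x3371)) (.node (.leaf 0x1283) (.leaf 0x5e55))) (.node (.node (.leaf 0x604b) (.leaf 0x47f6)) (.node (.leaf 0x202f) (.leaf 0x7239)))) (.node (.node (.node (.leaf 0x2fe1) (.leaf 0x3f54)) (.node (.leaf 0x1d98) (.leaf 0x6771))) (.node (.node (.leaf 0xd66) (.leaf 0x5207)) (.node (.leaf 0x2613) (.leaf 0x0)))))) (.node (.node (.node (.node (.node (.leaf 0x2b5) (.leaf 0x2f1a)) (.node (.leaf 0x1c0e) (.leaf 0x59e8))) (.node (.node (.leaf 0x19df) (.leaf 0x455a)) (.node (.leaf 0x6074) (.leaf 0x6fcd)))) (.node (.node (.node (.leaf 0x4087) (.leaf 0x3c34)) (.node (.leaf 0x1672) (.leaf 0x6470))) (.node (.node (.leaf 0xc37) (.leaf 0x50b8)) (.node (.leaf 0x24c6) (.leaf 0x0))))) (.node (.node (.node (.node (.leaf 0x5c3) (.leaf 0x368a)) (.node (.leaf 0x46a2) (.leaf 0x6b40))) (.node (.node (.leaf 0xfbd) (.leaf 0x4bfa)) (.node (.leaf 0x2142) (.leaf 0x7465)))) (.node (.node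 (.node (.leaf 0x5f3) (.leaf 0x406f)) (.node (.leaf 0x192e) (.leaf 0x6b99))) (.node (.node (.leaf 0xe2a) (.leaf 0x53f0)) (.node (.leaf 0x27fe) (.leaf 0x0))))))))

/-- Closure. -/
def clo83 : FTree := (.node (.node (.node (.node (.node (.node (.node (.leaf 0x11a) (.leaf 0x677f)) (.node (.leaf 0xfb3) (.leaf 0x57ff))) (.node (.node (.leaf 0x64e) (.leaf 0x6594)) (.node (.leaf 0x1a5d) (.leaf 0x6d17)))) (.node (.node (.node (.leaf 0x831) (.leaf 0x395b)) (.node (.leaf 0x1e13) (.leaf 0x625a))) (.node (.node (.leaf 0xb55) (.leaf 0x4d3a)) (.node (.leaf 0x232c) (.leaf 0x76df))))) (.node (.node (.node (.node (.leaf 0x2695) (.leaf 0x32b7)) (.node (.leaf 0x1234) (.leaf 0x681b))) (.node (.node (.leaf 0x69e2) (.leaf 0x48d8)) (.node (.leaf 0x1fce) (.leaf 0x727c)))) (.node (.node (.node (.leaf 0x2dce) (.leaf 0x3ef7)) (.node (.leaf 0x54f5) (.leaf 0x66c8))) (.node (.node (.leaf 0xd7f) (.leaf 0x5623)) (.node (.leaf 0x48bb) (.leaf 0x0))))))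 (.node (.node (.node (.node (.node (.leaf 0x4cb) (.leaf 0x2e9c)) (.node (.leaf 0x3a48) (.leaf 0x598f))) (.node (.node (.leaf 0x16e4) (.leaf 0x4586)) (.node (.leaf 0x1ee3) (.leaf 0x6f21)))) (.node (.node (.node (.leaf 0xa39) (.leaf 0x3afd)) (.node (.leaf 0x16eb) (.leaf 0x65a3))) (.node (.node (.leaf 0x643d) (.leaf 0x5121)) (.node (.leaf 0x2499) (.leaf 0x0))))) (.node (.node (.node (.node (.leaf 0x1d18) (.leaf 0x36ef)) (.node (.leaf 0x1586) (.leaf 0x6117))) (.node (.node (.leaf 0xa7b) (.leaf 0x4a0e)) (.node (.leaf 0x2c14) (.leaf 0x7344)))) (.node (.node (.node (.leaf 0x2989) (.leaf 0x4426)) (.node (.leaf 0x19b0) (.leaf 0x6b59))) (.node (.node (.leaf 0x5c07) (.leaf 0x5341)) (.node (.leaf 0x283a) (.leaf 0x0))))))) (.node (.node (.node (.node (.node (.node (.leaf 0x1ac) (.leaf 0x3233)) (.node (.leaf 0xf1f) (.leaf 0x570d))) (.node (.node (.leaf 0x96c) (.leaf 0x5fda)) (.node (.leaf 0x3179) (.leaf 0x6c76)))) (.node (.node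 (.node (.leaf 0x7dd) (.leaf 0x45ee)) (.node (.leaf 0x1538) (.leaf 0x62bb))) (.node (.node (.leaf 0x2acf) (.leaf 0x4db2)) (.node (.leaf 0x2266) (.leaf 0x753d))))) (.node (.node (.node (.node (.leaf 0x2a5f) (.leaf 0x31ae)) (.node (.leaf 0x120d) (.leaf 0x5c68))) (.node (.node (.leaf 0x3a09) (.leaf 0x48c9)) (.node (.leaf 0x2197) (.leaf 0x7247)))) (.node (.node (.node (.leaf 0x38c8) (.leaf 0x3ee7)) (.node (.leaf 0x17ac) (.leaf 0x692b))) (.node (.node (.leaf 0xcf4) (.leaf 0x74eb)) (.node (.leaf 0x4975) (.leaf 0x0)))))) (.node (.node (.node (.node (.node (.leaf 0x27f) (.leaf 0x2dd5)) (.node (.leaf 0x32d9) (.leaf 0x591d))) (.node (.node (.leaf 0xe04) (.leaf 0x45bb)) (.node (.leaf 0x24c5) (.leaf 0x70e2)))) (.node (.node (.node (.leaf 0x381b) (.leaf 0x3ffe)) (.node (.leaf 0x1651) (.leaf 0x6479))) (.node (.node (.leaf 0xc32) (.leaf 0x50b0)) (.node (.leaf 0x2953) (.leaf 0x0))))) (.node (.node (.node (.node (.leaf 0x451) (.leaf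 0x36f0)) (.node (.leaf 0x1361) (.leaf 0x60a5))) (.node (.node (.leaf 0x2f08) (.leaf 0x4b8e)) (.node (.leaf 0x2170) (.leaf 0x746b)))) (.node (.node (.node (.leaf 0x27bc) (.leaf 0x428d)) (.node (.leaf 0x1901) (.leaf 0x6b77))) (.node (.node (.leaf 0x24da) (.leaf 0x5392)) (.node (.leaf 0x2849) (.leaf 0x0))))))))

/-- Closure. -/
def clo84 : FTree := (.node (.node (.node (.node (.node (.node (.node (.leaf 0x39) (.leaf 0x2b38)) (.node (.leaf 0xf00) (.leaf 0x5740))) (.node (.node (.leaf 0x6576) (.leaf 0x42c3)) (.node (.leaf 0x1bb5) (.leaf 0x6d6f)))) (.node (.node (.node (.leaf 0x818) (.leaf 0x38fa)) (.node (.leaf 0x150a) (.leaf 0x629b))) (.node (.node (.leaf 0x29c2) (.leaf 0x4cbb)) (.node (.leaf 0x2cef) (.leaf 0x75d2))))) (.node (.node (.node (.node (.leaf 0x30c) (.leaf 0x300f)) (.node (.leaf 0x2bc7) (.leaf 0x5df1))) (.node (.node (.leaf 0x851) (.leaf 0x48d0)) (.node (.leaf 0x2031) (.leaf 0x727f)))) (.node (.node (.node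 (.leaf 0x489) (.leaf 0x3d08)) (.node (.leaf 0x1766) (.leaf 0x67fe))) (.node (.node (.leaf 0x1a2f) (.leaf 0x5165)) (.node (.leaf 0x32ad) (.leaf 0x0)))))) (.node (.node (.node (.node (.node (.leaf 0x20b) (.leaf 0x2eae)) (.node (.leaf 0x548d) (.leaf 0x5898))) (.node (.node (.leaf 0x72d) (.leaf 0x44e6)) (.node (.leaf 0x1cba) (.leaf 0x704a)))) (.node (.node (.node (.leaf 0x619) (.leaf 0x39d5)) (.node (.leaf 0x34b2) (.leaf 0x6468))) (.node (.node (.leaf 0xc1c) (.leaf 0x543e)) (.node (.leaf 0x234e) (.leaf 0x0))))) (.node (.node (.node (.node (.leaf 0x557) (.leaf 0x371f)) (.node (.leaf 0x130e) (.leaf 0x5f66))) (.node (.node (.leaf 0x1a75) (.leaf 0x49cd)) (.node (.leaf 0x21c5) (.leaf 0x74a4)))) (.node (.node (.node (.leaf 0x517) (.leaf 0x423d)) (.node (.leaf 0x1e85) (.leaf 0x6b6b))) (.node (.node (.leaf 0xddb) (.leaf 0x532c)) (.node (.leaf 0x26d3) (.leaf 0x0))))))) (.node (.node (.node (.node (.node (.node (.leaf 0x17f)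 (.leaf 0x2fa5)) (.node (.leaf 0x5668) (.leaf 0x5791))) (.node (.node (.leaf 0x6bc) (.leaf 0x4472)) (.node (.leaf 0x317a) (.leaf 0x6ee5)))) (.node (.node (.node (.leaf 0x531) (.leaf 0x3978)) (.node (.leaf 0x6d57) (.leaf 0x62a6))) (.node (.node (.leaf 0x476a) (.leaf 0x4c39)) (.node (.leaf 0x22dd) (.leaf 0x7532))))) (.node (.node (.node (.node (.leaf 0x268c) (.leaf 0x33bd)) (.node (.leaf 0x120c) (.leaf 0x5c8b))) (.node (.node (.leaf 0x2dc4) (.leaf 0x48a5)) (.node (.leaf 0x208a) (.leaf 0x7133)))) (.node (.node (.node (.leaf 0x38c6) (.leaf 0x3fae)) (.node (.leaf 0x1842) (.leaf 0x695f))) (.node (.node (.leaf 0x1892) (.leaf 0x51b8)) (.node (.leaf 0x2538) (.leaf 0x0)))))) (.node (.node (.node (.node (.node (.leaf 0x4d8) (.leaf 0x2d78)) (.node (.leaf 0x4020) (.leaf 0x5a74))) (.node (.node (.leaf 0xd5c) (.leaf 0x4566)) (.node (.leaf 0x4017) (.leaf 0x70dd)))) (.node (.node (.node (.leaf 0x301d) (.leaf 0x3b55)) (.node (.leaf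 0x1625) (.leaf 0x646e))) (.node (.node (.leaf 0x358c) (.leaf 0x4f77)) (.node (.leaf 0x23f9) (.leaf 0x0))))) (.node (.node (.node (.node (.leaf 0x341) (.leaf 0x37d6)) (.node (.leaf 0x2e2d) (.leaf 0x5f09))) (.node (.node (.leaf 0x9cd) (.leaf 0x4a82)) (.node (.leaf 0x28e4) (.leaf 0x7357)))) (.node (.node (.node (.leaf 0x2d51) (.leaf 0x5291)) (.node (.leaf 0x18f6) (.leaf 0x6b7f))) (.node (.node (.leaf 0x1f03) (.leaf 0x564a)) (.node (.leaf 0x3b38) (.leaf 0x0))))))))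

/-- Closure. -/
def clo85 : FTree := (.node (.node (.node (.node (.node (.node (.node (.leaf 0xd9) (.leaf 0x2c52)) (.node (.leaf 0x5661) (.leaf 0x5822))) (.node (.node (.leaf 0x38ee) (.leaf 0x4f8c)) (.node (.leaf 0x1ee4) (.leaf 0x6e90)))) (.node (.node (.node (.leaf 0x13f0) (.leaf 0x6283)) (.node (.leaf 0x1e1e) (.leaf 0x6341))) (.node (.node (.leaf 0x1316) (.leaf 0x4d3c)) (.node (.leaf 0x22c7) (.leaf 0x7545))))) (.node (.node (.node (.node (.leaf 0x3c9) (.leaf 0x331c)) (.node (.leaf 0x1276) (.leaf 0x6860))) (.node (.node (.leaf 0xe96) (.leaf 0x4797)) (.node (.leaf 0x668a) (.leaf 0x7137)))) (.node (.node (.node (.leaf 0x8b5) (.leaf 0x3f03)) (.node (.leaf 0x2b7a) (.leaf 0x67ac))) (.node (.node (.leaf 0x259e) (.leaf 0x51fc)) (.node (.leaf 0x262f) (.leaf 0x0)))))) (.node (.node (.node (.node (.node (.leaf 0x4b6) (.leaf 0x2e2b)) (.node (.leaf 0x1ffc) (.leaf 0x5a87))) (.node (.node (.leaf 0x9c3) (.leaf 0x46ef)) (.node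 (.leaf 0x536e) (.leaf 0x6f93)))) (.node (.node (.node (.leaf 0x3cd1) (.leaf 0x3c0e)) (.node (.leaf 0x19a5) (.leaf 0x64ad))) (.node (.node (.leaf 0xc7c) (.leaf 0x4f1a)) (.node (.leaf 0x23c1) (.leaf 0x0))))) (.node (.node (.node (.node (.leaf 0x376e) (.leaf 0x6808)) (.node (.leaf 0x5007) (.leaf 0x60ae))) (.node (.node (.leaf 0x3bc3) (.leaf 0x4ac2)) (.node (.leaf 0x553d) (.leaf 0x747f)))) (.node (.node (.node (.leaf 0x68e5) (.leaf 0x40b0)) (.node (.leaf 0x191b) (.leaf 0x6b76))) (.node (.node (.leaf 0x1114) (.leaf 0x672c)) (.node (.leaf 0x3722) (.leaf 0x0))))))) (.node (.node (.node (.node (.node (.node (.leaf 0x1c3) (.leaf 0x2bc6)) (.node (.leaf 0xf72) (.leaf 0x57f2))) (.node (.node (.leaf 0x6b2) (.leaf 0x43f4)) (.node (.leaf 0x1bfb) (.leaf 0x6ce4)))) (.node (.node (.node (.leaf 0x3d22) (.leaf 0x5acf)) (.node (.leaf 0x155a) (.leaf 0x6359))) (.node (.node (.leaf 0x387e) (.leaf 0x4c83)) (.node (.leaf 0x2306) (.leaf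 0x7666))))) (.node (.node (.node (.node (.leaf 0x3ccb) (.leaf 0x3256)) (.node (.leaf 0x3785) (.leaf 0x5dd9))) (.node (.node (.leaf 0x709f) (.leaf 0x498f)) (.node (.leaf 0x28f5) (.leaf 0x72be)))) (.node (.node (.node (.leaf 0x10ea) (.leaf 0x3f69)) (.node (.leaf 0x284c) (.leaf 0x69d8))) (.node (.node (.leaf 0xcc8) (.leaf 0x5629)) (.node (.leaf 0x2597) (.leaf 0x0)))))) (.node (.node (.node (.node (.node (.leaf 0x2cf) (.leaf 0x2d7c)) (.node (.leaf 0x1a6b) (.leaf 0x58f7))) (.node (.node (.leaf 0x190e) (.leaf 0x45ba)) (.node (.leaf 0x1e9d) (.leaf 0x708c)))) (.node (.node (.node (.leaf 0x2780) (.leaf 0x3a7a)) (.node (.leaf 0x167a) (.leaf 0x63fa))) (.node (.node (.leaf 0xbe9) (.leaf 0x4ee5)) (.node (.leaf 0x24c3) (.leaf 0x0))))) (.node (.node (.node (.node (.leaf 0x614a) (.leaf 0x3758)) (.node (.leaf 0x687d) (.leaf 0x6065))) (.node (.node (.leaf 0x95b) (.leaf 0x4a57)) (.node (.leaf 0x2134) (.leaf 0x7370)))) (.node (.node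 (.node (.leaf 0x5412) (.leaf 0x4111)) (.node (.leaf 0x1941) (.leaf 0x6b8a))) (.node (.node (.leaf 0x2f45) (.leaf 0x5500)) (.node (.leaf 0x4b86) (.leaf 0x0))))))))

/-- Closure. -/
def clo86 : FTree := (.node (.node (.node (.node (.node (.node (.node (.leaf 0x9e) (.leaf 0x4ee4)) (.node (.leaf 0xf30) (.leaf 0x5720))) (.node (.node (.leaf 0xb8e) (.leaf 0x42cf)) (.node (.leaf 0x3552) (.leaf 0x6dc5)))) (.node (.node (.node (.leaf 0x2dfd) (.leaf 0x3b8f)) (.node (.leaf 0x50f1) (.leaf 0x62f7))) (.node (.node (.leaf 0x1de5) (.leaf 0x4c40)) (.node (.leaf 0x30a5) (.leaf 0x766b))))) (.node (.node (.node (.node (.leaf 0x5134) (.leaf 0x427c)) (.node (.leaf 0x1175) (.leaf 0x5aef))) (.node (.node (.leaf 0x1130) (.leaf 0x476f)) (.node (.leaf 0x1f6c) (.leaf 0x723b)))) (.node (.node (.node (.leaf 0x480) (.leaf 0x3d95)) (.node (.leaf 0x4feb) (.leaf 0x6898))) (.node (.node (.leaf 0x1daa) (.leaf 0x5319)) (.node (.leaf 0x266d) (.leaf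 0x0)))))) (.node (.node (.node (.node (.node (.leaf 0x258) (.leaf 0x2dcd)) (.node (.leaf 0x28c3) (.leaf 0x58de))) (.node (.node (.leaf 0x706) (.leaf 0x452e)) (.node (.leaf 0x38df) (.leaf 0x7000)))) (.node (.node (.node (.leaf 0x40d) (.leaf 0x3a47)) (.node (.leaf 0x15da) (.leaf 0x6538))) (.node (.node (.leaf 0xc58) (.leaf 0x4ea8)) (.node (.leaf 0x3bba) (.leaf 0x0))))) (.node (.node (.node (.node (.leaf 0x5d31) (.leaf 0x35a9)) (.node (.leaf 0x66ad) (.leaf 0x6604))) (.node (.node (.leaf 0x996) (.leaf 0x4af6)) (.node (.leaf 0x2143) (.leaf 0x7395)))) (.node (.node (.node (.leaf 0x4fa4) (.leaf 0x41ae)) (.node (.leaf 0x19d3) (.leaf 0x6a58))) (.node (.node (.leaf 0x64f6) (.leaf 0x5615)) (.node (.leaf 0x2e91) (.leaf 0x0))))))) (.node (.node (.node (.node (.node (.node (.leaf 0x1d2) (.leaf 0x2bd6)) (.node (.leaf 0x12c9) (.leaf 0x586c))) (.node (.node (.leaf 0x1b86) (.leaf 0x43d8)) (.node (.leaf 0x489f) (.leaf 0x6d3a))))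 (.node (.node (.node (.leaf 0x1c85) (.leaf 0x38e4)) (.node (.leaf 0x14b1) (.leaf 0x63aa))) (.node (.node (.leaf 0x1b51) (.leaf 0x4d1c)) (.node (.leaf 0x76cc) (.leaf 0x75e3))))) (.node (.node (.node (.node (.leaf 0x2d42) (.leaf 0x32ac)) (.node (.leaf 0x3cad) (.leaf 0x5d6c))) (.node (.node (.leaf 0xa02) (.leaf 0x47af)) (.node (.leaf 0x2047) (.leaf 0x71b7)))) (.node (.node (.node (.leaf 0x3dc4) (.leaf 0x4611)) (.node (.leaf 0x2070) (.leaf 0x6d4a))) (.node (.node (.leaf 0x5d54) (.leaf 0x5182)) (.node (.leaf 0x4267) (.leaf 0x0)))))) (.node (.node (.node (.node (.node (.leaf 0x272) (.leaf 0x2d33)) (.node (.leaf 0x1591) (.leaf 0x5a50))) (.node (.node (.leaf 0x4bb4) (.leaf 0x4554)) (.node (.leaf 0x1d6d) (.leaf 0x6fe5)))) (.node (.node (.node (.leaf 0x401) (.leaf 0x3b5c)) (.node (.leaf 0x2234) (.leaf 0x64f1))) (.node (.node (.leaf 0xc87) (.leaf 0x4fe6)) (.node (.leaf 0x244c) (.leaf 0x0))))) (.node (.node (.node (.node (.leaf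 0x5c1) (.leaf 0x3b97)) (.node (.leaf 0x26fe) (.leaf 0x60b4))) (.node (.node (.leaf 0xdd0) (.leaf 0x4bec)) (.node (.leaf 0x219e) (.leaf 0x7439)))) (.node (.node (.node (.leaf 0x9fd) (.leaf 0x4022)) (.node (.leaf 0x1a1b) (.leaf 0x6afd))) (.node (.node (.leaf 0x5e24) (.leaf 0x5601)) (.node (.leaf 0x27ab) (.leaf 0x0))))))))

/-- Closure. -/
def clo87 : FTree := (.node (.node (.node (.node (.node (.node (.node (.leaf 0xd7) (.leaf 0x5ac5)) (.node (.leaf 0xf16) (.leaf 0x5715))) (.node (.node (.leaf 0x3b35) (.leaf 0x42b8)) (.node (.leaf 0x1a69) (.leaf 0x6d16)))) (.node (.node (.node (.leaf 0x51b) (.leaf 0x37b1)) (.node (.leaf 0x1449) (.leaf 0x6262))) (.node (.node (.leaf 0x189f) (.leaf 0x4c30)) (.node (.leaf 0x3089) (.leaf 0x76f9))))) (.node (.node (.node (.node (.leaf 0x292) (.leaf 0x30ac)) (.node (.leaf 0x1144) (.leaf 0x5ea6))) (.node (.node (.leaf 0x804) (.leaf 0x475f)) (.node (.leaf 0x1f93) (.leaf 0x7241)))) (.node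 (.node (.node (.leaf 0x4304) (.leaf 0x3fb2)) (.node (.leaf 0x1757) (.leaf 0x6782))) (.node (.node (.leaf 0xcd9) (.leaf 0x517c)) (.node (.leaf 0x42a4) (.leaf 0x0)))))) (.node (.node (.node (.node (.node (.leaf 0x207) (.leaf 0x2f53)) (.node (.leaf 0x1f08) (.leaf 0x58b4))) (.node (.node (.leaf 0x6fe) (.leaf 0x45e9)) (.node (.leaf 0x3dd0) (.leaf 0x6f70)))) (.node (.node (.node (.leaf 0x2a41) (.leaf 0x39ec)) (.node (.leaf 0x161c) (.leaf 0x64d0))) (.node (.node (.leaf 0xc1a) (.leaf 0x4e63)) (.node (.leaf 0x243a) (.leaf 0x0))))) (.node (.node (.node (.node (.leaf 0x2cc8) (.leaf 0x3569)) (.node (.leaf 0x26f1) (.leaf 0x5ff2))) (.node (.node (.leaf 0x922) (.leaf 0x49d7)) (.node (.leaf 0x21b9) (.leaf 0x7363)))) (.node (.node (.node (.leaf 0x55b) (.leaf 0x4014)) (.node (.leaf 0x1942) (.leaf 0x6b19))) (.node (.node (.leaf 0xec5) (.leaf 0x560b)) (.node (.leaf 0x3dbf) (.leaf 0x0))))))) (.node (.node (.node (.node (.node (.node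 (.leaf 0x1f3) (.leaf 0x2c9e)) (.node (.leaf 0x2a78) (.leaf 0x5e94))) (.node (.node (.leaf 0xe70) (.leaf 0x430a)) (.node (.leaf 0x355d) (.leaf 0x6e04)))) (.node (.node (.node (.leaf 0x13f5) (.leaf 0x3799)) (.node (.leaf 0x18ae) (.leaf 0x61e2))) (.node (.node (.leaf 0x2841) (.leaf 0x4da2)) (.node (.leaf 0x2292) (.leaf 0x757a))))) (.node (.node (.node (.node (.leaf 0x12f9) (.leaf 0x3108)) (.node (.leaf 0x1ecb) (.leaf 0x5ab1))) (.node (.node (.leaf 0x6059) (.leaf 0x482e)) (.node (.leaf 0x1f73) (.leaf 0x721c)))) (.node (.node (.node (.leaf 0x2818) (.leaf 0x3dd5)) (.node (.leaf 0x1839) (.leaf 0x69de))) (.node (.node (.leaf 0x182c) (.leaf 0x5635)) (.node (.leaf 0x3120) (.leaf 0x0)))))) (.node (.node (.node (.node (.node (.leaf 0x363) (.leaf 0x2e38)) (.node (.leaf 0x10a6) (.leaf 0x58ca))) (.node (.node (.leaf 0xb72) (.leaf 0x44ee)) (.node (.leaf 0x1daf) (.leaf 0x70a0)))) (.node (.node (.node (.leaf 0x1d51) (.leaf 0x4626))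 (.node (.leaf 0x169a) (.leaf 0x65c4))) (.node (.node (.leaf 0xc30) (.leaf 0x4fd5)) (.node (.leaf 0x248c) (.leaf 0x0))))) (.node (.node (.node (.node (.leaf 0x1139) (.leaf 0x35f5)) (.node (.leaf 0x1413) (.leaf 0x5fd2))) (.node (.node (.leaf 0x940) (.leaf 0x4a6e)) (.node (.leaf 0x5d42) (.leaf 0x7485)))) (.node (.node (.node (.leaf 0x5a2) (.leaf 0x4edd)) (.node (.leaf 0x1914) (.leaf 0x6a19))) (.node (.node (.leaf 0x3205) (.leaf 0x55a7)) (.node (.leaf 0x382c) (.leaf 0x0))))))))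

/-- Closure. -/
def clo88 : FTree := (.node (.node (.node (.node (.node (.node (.node (.leaf 0x21) (.leaf 0x2b5e)) (.node (.leaf 0x3172) (.leaf 0x57e2))) (.node (.node (.leaf 0x6c1) (.leaf 0x435b)) (.node (.leaf 0x3433) (.leaf 0x6ddd)))) (.node (.node (.node (.leaf 0x170c) (.leaf 0x382b)) (.node (.leaf 0x14f9) (.leaf 0x62cf))) (.node (.node (.leaf 0xb6b) (.leaf 0x4d3b)) (.node (.leaf 0x2ae8) (.leaf 0x7546))))) (.node (.node (.node (.node (.leaf 0x335) (.leaf 0x3259)) (.node (.leaf 0x4ad1) (.leaf 0x5d82))) (.node (.node (.leaf 0xea5) (.leaf 0x4c48)) (.node (.leaf 0x3759) (.leaf 0x72cb)))) (.node (.node (.node (.leaf 0x4ac3) (.leaf 0x3f09)) (.node (.leaf 0x17d0) (.leaf 0x695c))) (.node (.node (.leaf 0xd3a) (.leaf 0x51e5)) (.node (.leaf 0x3540) (.leaf 0x0)))))) (.node (.node (.node (.node (.node (.leaf 0x2c3) (.leaf 0x49cf)) (.node (.leaf 0x107c) (.leaf 0x5a54))) (.node (.node (.leaf 0x33a4) (.leaf 0x456f)) (.node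 (.leaf 0x1e8c) (.leaf 0x6f87)))) (.node (.node (.node (.leaf 0x4b1) (.leaf 0x3a86)) (.node (.leaf 0x158b) (.leaf 0x6405))) (.node (.node (.leaf 0x6434) (.leaf 0x5fee)) (.node (.leaf 0x239e) (.leaf 0x0))))) (.node (.node (.node (.node (.leaf 0x2d6b) (.leaf 0x3613)) (.node (.leaf 0x5003) (.leaf 0x5f96))) (.node (.node (.leaf 0x1884) (.leaf 0x4bde)) (.node (.leaf 0x210e) (.leaf 0x7391)))) (.node (.node (.node (.leaf 0x66ba) (.leaf 0x3fff)) (.node (.leaf 0x1997) (.leaf 0x6a60))) (.node (.node (.leaf 0x5801) (.leaf 0x5389)) (.node (.leaf 0x2ed1) (.leaf 0x0))))))) (.node (.node (.node (.node (.node (.node (.leaf 0x140) (.leaf 0x29d8)) (.node (.leaf 0x10b3) (.leaf 0x57fc))) (.node (.node (.leaf 0x9a7) (.leaf 0x432b)) (.node (.leaf 0x1b18) (.leaf 0x6eb3)))) (.node (.node (.node (.leaf 0x466c) (.leaf 0x37ac)) (.node (.leaf 0x152e) (.leaf 0x6224))) (.node (.node (.leaf 0x1266) (.leaf 0x5ecb)) (.node (.leaf 0x5888) (.leaf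 0x7709))))) (.node (.node (.node (.node (.leaf 0x2fd4) (.leaf 0x5b06)) (.node (.leaf 0x3306) (.leaf 0x5e8e))) (.node (.node (.leaf 0x887) (.leaf 0x47b9)) (.node (.leaf 0x33ff) (.leaf 0x726d)))) (.node (.node (.node (.leaf 0x4e4b) (.leaf 0x3ee4)) (.node (.leaf 0x176d) (.leaf 0x6730))) (.node (.node (.leaf 0x3502) (.leaf 0x5214)) (.node (.leaf 0x252a) (.leaf 0x0)))))) (.node (.node (.node (.node (.node (.leaf 0x779) (.leaf 0x2e8c)) (.node (.leaf 0x11d6) (.leaf 0x5990))) (.node (.node (.leaf 0x729) (.leaf 0x4c7b)) (.node (.leaf 0x1d30) (.leaf 0x7054)))) (.node (.node (.node (.leaf 0xe05) (.leaf 0x3c01)) (.node (.leaf 0x1d6b) (.leaf 0x654d))) (.node (.node (.leaf 0x3068) (.leaf 0x6112)) (.node (.leaf 0x23ab) (.leaf 0x0))))) (.node (.node (.node (.node (.leaf 0x4f4e) (.leaf 0x42d3)) (.node (.leaf 0x3e4c) (.leaf 0x6021))) (.node (.node (.leaf 0xe4f) (.leaf 0x4bb8)) (.node (.leaf 0x2150) (.leaf 0x74e3)))) (.node (.node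 (.node (.leaf 0x5cf) (.leaf 0x4137)) (.node (.leaf 0x19cb) (.leaf 0x6aec))) (.node (.node (.leaf 0xe6e) (.leaf 0x54b0)) (.node (.leaf 0x28e1) (.leaf 0x0))))))))

/-- Closure. -/
def clo89 : FTree := (.node (.node (.node (.node (.node (.node (.node (.leaf 0xaf) (.leaf 0x2b94)) (.node (.leaf 0x1a00) (.leaf 0x5686))) (.node (.node (.leaf 0xdee) (.leaf 0x440d)) (.node (.leaf 0x1b78) (.leaf 0x6e57)))) (.node (.node (.node (.leaf 0x846) (.leaf 0x3856)) (.node (.leaf 0x14a0) (.leaf 0x61fb))) (.node (.node (.leaf 0x5cea) (.leaf 0x4d28)) (.node (.leaf 0x662f) (.leaf 0x75dc))))) (.node (.node (.node (.node (.leaf 0x3d76) (.leaf 0x332c)) (.node (.leaf 0x12dc) (.leaf 0x5b39))) (.node (.node (.leaf 0x1eac) (.leaf 0x497e)) (.node (.leaf 0x2091) (.leaf 0x7228)))) (.node (.node (.node (.leaf 0x4065) (.leaf 0x3f43)) (.node (.leaf 0x34a9) (.leaf 0x68f2))) (.node (.node (.leaf 0xd4b) (.leaf 0x51f1)) (.node (.leaf 0x2664) (.leaf 0x0))))))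 (.node (.node (.node (.node (.node (.leaf 0x4f5) (.leaf 0x2ed4)) (.node (.leaf 0x1060) (.leaf 0x5959))) (.node (.node (.leaf 0x1296) (.leaf 0x462b)) (.node (.leaf 0x1ef5) (.leaf 0x70cf)))) (.node (.node (.node (.leaf 0x32d4) (.leaf 0x3a9c)) (.node (.leaf 0x15b5) (.leaf 0x64b7))) (.node (.node (.leaf 0xbfc) (.leaf 0x4f91)) (.node (.leaf 0x24ed) (.leaf 0x0))))) (.node (.node (.node (.node (.leaf 0x3fc) (.leaf 0x373b)) (.node (.leaf 0x5000) (.leaf 0x601e))) (.node (.node (.leaf 0x97b) (.leaf 0x4bdf)) (.node (.leaf 0x480f) (.leaf 0x7374)))) (.node (.node (.node (.leaf 0x274e) (.leaf 0x4157)) (.node (.leaf 0x199b) (.leaf 0x6ab5))) (.node (.node (.leaf 0xe7b) (.leaf 0x53ba)) (.node (.leaf 0x6961) (.leaf 0x0))))))) (.node (.node (.node (.node (.node (.node (.leaf 0x185) (.leaf 0x3363)) (.node (.leaf 0xf8e) (.leaf 0x69d4))) (.node (.node (.leaf 0x92b) (.leaf 0x4320)) (.node (.leaf 0x2065) (.leaf 0x6d71)))) (.node (.node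 (.node (.leaf 0x13e2) (.leaf 0x38e0)) (.node (.leaf 0x3fd8) (.leaf 0x61ff))) (.node (.node (.leaf 0x28ef) (.leaf 0x4e25)) (.node (.leaf 0x230e) (.leaf 0x7664))))) (.node (.node (.node (.node (.leaf 0x43a) (.leaf 0x3514)) (.node (.leaf 0x11bf) (.leaf 0x5c0a))) (.node (.node (.leaf 0x6e5c) (.leaf 0x48ba)) (.node (.leaf 0x1f4b) (.leaf 0x7264)))) (.node (.node (.node (.leaf 0x2740) (.leaf 0x3f12)) (.node (.leaf 0x1c13) (.leaf 0x67ba))) (.node (.node (.leaf 0xd52) (.leaf 0x5212)) (.node (.leaf 0x48bc) (.leaf 0x0)))))) (.node (.node (.node (.node (.node (.leaf 0x511) (.leaf 0x2f48)) (.node (.leaf 0x250f) (.leaf 0x59e6))) (.node (.node (.leaf 0x1076) (.leaf 0x5e18)) (.node (.leaf 0x3423) (.leaf 0x70ae)))) (.node (.node (.node (.leaf 0x1d3c) (.leaf 0x3b16)) (.node (.leaf 0x1633) (.leaf 0x642b))) (.node (.node (.leaf 0xc85) (.leaf 0x4e72)) (.node (.leaf 0x244b) (.leaf 0x0))))) (.node (.node (.node (.node (.leaf 0x30fc)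 (.leaf 0x369d)) (.node (.leaf 0x5bf0) (.leaf 0x60b9))) (.node (.node (.leaf 0x4823) (.leaf 0x4b72)) (.node (.leaf 0x5d43) (.leaf 0x73e2)))) (.node (.node (.node (.leaf 0x2eb2) (.leaf 0x403b)) (.node (.leaf 0x18ca) (.leaf 0x6b92))) (.node (.node (.leaf 0x21e7) (.leaf 0x57da)) (.node (.leaf 0x26e2) (.leaf 0x0))))))))

/-- Closure. -/
def clo90 : FTree := (.node (.node (.node (.node (.node (.node (.node (.leaf 0x61) (.leaf 0x2b8b)) (.node (.leaf 0xf58) (.leaf 0x6671))) (.node (.node (.leaf 0x6b6) (.leaf 0x43e6)) (.node (.leaf 0x1be3) (.leaf 0x6cac)))) (.node (.node (.node (.leaf 0x38c) (.leaf 0x5bcc)) (.node (.leaf 0x149a) (.leaf 0x62c8))) (.node (.node (.leaf 0x2f1e) (.leaf 0x4c7d)) (.node (.leaf 0x2ce9) (.leaf 0x752c))))) (.node (.node (.node (.node (.leaf 0x60a) (.leaf 0x338a)) (.node (.leaf 0x1918) (.leaf 0x5c49))) (.node (.node (.leaf 0x88f) (.leaf 0x47a2)) (.node (.leaf 0x1f72) (.leaf 0x714a)))) (.node (.node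 (.node (.leaf 0x1187) (.leaf 0x3d2b)) (.node (.leaf 0x17f6) (.leaf 0x69df))) (.node (.node (.leaf 0x3503) (.leaf 0x514b)) (.node (.leaf 0x4deb) (.leaf 0x0)))))) (.node (.node (.node (.node (.node (.leaf 0x7c1) (.leaf 0x2e31)) (.node (.leaf 0x3fcc) (.leaf 0x59c0))) (.node (.node (.leaf 0x2c44) (.leaf 0x45cc)) (.node (.leaf 0x1dc0) (.leaf 0x7066)))) (.node (.node (.node (.leaf 0x1d3d) (.leaf 0x3b17)) (.node (.leaf 0x16a7) (.leaf 0x663d))) (.node (.node (.leaf 0x6a36) (.leaf 0x4f36)) (.node (.leaf 0x2426) (.leaf 0x0))))) (.node (.node (.node (.node (.leaf 0x1cb9) (.leaf 0x4b80)) (.node (.leaf 0x2789) (.leaf 0x610a))) (.node (.node (.leaf 0x4073) (.leaf 0x4b19)) (.node (.leaf 0x21e8) (.leaf 0x735b)))) (.node (.node (.node (.leaf 0x66a1) (.leaf 0x42a8)) (.node (.leaf 0x1bf9) (.leaf 0x6ba1))) (.node (.node (.leaf 0x3a69) (.leaf 0x5597)) (.node (.leaf 0x2b4c) (.leaf 0x0))))))) (.node (.node (.node (.node (.node (.node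 (.leaf 0x1a3) (.leaf 0x299f)) (.node (.leaf 0x3184) (.leaf 0x5771))) (.node (.node (.leaf 0xfd9) (.leaf 0x6590)) (.node (.leaf 0x1c3a) (.leaf 0x6d68)))) (.node (.node (.node (.leaf 0x464b) (.leaf 0x3826)) (.node (.leaf 0x1e10) (.leaf 0x61af))) (.node (.node (.leaf 0xb19) (.leaf 0x5ec6)) (.node (.leaf 0x2ced) (.leaf 0x76f7))))) (.node (.node (.node (.node (.leaf 0x2fd0) (.leaf 0x5594)) (.node (.leaf 0x4e55) (.leaf 0x5cc8))) (.node (.node (.leaf 0x6e59) (.leaf 0x4912)) (.node (.leaf 0x1f22) (.leaf 0x725f)))) (.node (.node (.node (.leaf 0x5438) (.leaf 0x3d71)) (.node (.leaf 0x21c2) (.leaf 0x687e))) (.node (.node (.leaf 0xd96) (.leaf 0x5283)) (.node (.leaf 0x60b7) (.leaf 0x0)))))) (.node (.node (.node (.node (.node (.leaf 0xbac) (.leaf 0x3176)) (.node (.leaf 0x1052) (.leaf 0x58a0))) (.node (.node (.leaf 0x6ea) (.leaf 0x4710)) (.node (.leaf 0x301c) (.leaf 0x7045)))) (.node (.node (.node (.leaf 0x310a) (.leaf 0x3a4c))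 (.node (.leaf 0x161f) (.leaf 0x63ed))) (.node (.node (.leaf 0xc83) (.leaf 0x502d)) (.node (.leaf 0x2489) (.leaf 0x0))))) (.node (.node (.node (.node (.leaf 0xb15) (.leaf 0x389f)) (.node (.leaf 0x26b5) (.leaf 0x6055))) (.node (.node (.leaf 0x1aa3) (.leaf 0x4b02)) (.node (.leaf 0x20f0) (.leaf 0x7409)))) (.node (.node (.node (.leaf 0x6dd2) (.leaf 0x4187)) (.node (.leaf 0x196b) (.leaf 0x6bf5))) (.node (.node (.leaf 0xddc) (.leaf 0x5549)) (.node (.leaf 0x27eb) (.leaf 0x0))))))))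

/-- Closure. -/
def clo91 : FTree := (.node (.node (.node (.node (.node (.node (.node (.leaf 0xc3) (.leaf 0x294d)) (.node (.leaf 0x16ff) (.leaf 0x5751))) (.node (.node (.leaf 0x6c7) (.leaf 0x42d9)) (.node (.leaf 0x1b65) (.leaf 0x6d69)))) (.node (.node (.node (.leaf 0x4659) (.leaf 0x37ae)) (.node (.leaf 0x451a) (.leaf 0x625c))) (.node (.node (.leaf 0xb53) (.leaf 0x4ccd)) (.node (.leaf 0x22a0) (.leaf 0x75db))))) (.node (.node (.node (.node (.leaf 0x581) (.leaf 0x31ce)) (.node (.leaf 0x2153) (.leaf 0x5daa))) (.node (.node (.leaf 0x44da) (.leaf 0x47cd)) (.node (.leaf 0x1f1e) (.leaf 0x7292)))) (.node (.node (.node (.leaf 0x1053) (.leaf 0x3cd4)) (.node (.leaf 0x1b7c) (.leaf 0x67f7))) (.node (.node (.leaf 0xd00) (.leaf 0x5186)) (.node (.leaf 0x4dea) (.leaf 0x0)))))) (.node (.node (.node (.node (.node (.leaf 0xba2) (.leaf 0x5564)) (.node (.leaf 0x1a6c) (.leaf 0x5a91))) (.node (.node (.leaf 0x8c7) (.leaf 0x4631)) (.node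 (.leaf 0x1ef4) (.leaf 0x6ffa)))) (.node (.node (.node (.leaf 0x385f) (.leaf 0x3c57)) (.node (.leaf 0x16e8) (.leaf 0x64fc))) (.node (.node (.leaf 0xc9a) (.leaf 0x53f7)) (.node (.leaf 0x2439) (.leaf 0x0))))) (.node (.node (.node (.node (.leaf 0xb13) (.leaf 0x3ab0)) (.node (.leaf 0x469f) (.leaf 0x6118))) (.node (.node (.leaf 0xa34) (.leaf 0x4bf8)) (.node (.leaf 0x4810) (.leaf 0x750d)))) (.node (.node (.node (.leaf 0x58c) (.leaf 0x421a)) (.node (.leaf 0x192d) (.leaf 0x6c0a))) (.node (.node (.leaf 0xe21) (.leaf 0x556c)) (.node (.leaf 0x2748) (.leaf 0x0))))))) (.node (.node (.node (.node (.node (.node (.leaf 0x1b2) (.leaf 0x6864)) (.node (.leaf 0x31e0) (.leaf 0x5764))) (.node (.node (.leaf 0xcc6) (.leaf 0x50be)) (.node (.leaf 0x1c08) (.leaf 0x6c96)))) (.node (.node (.node (.leaf 0x7ed) (.leaf 0x3985)) (.node (.leaf 0x14ad) (.leaf 0x62c5))) (.node (.node (.leaf 0xa7a) (.leaf 0x4c8d)) (.node (.leaf 0x2af5) (.leaf 0x759f)))))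 (.node (.node (.node (.node (.leaf 0x2d2c) (.leaf 0x5b92)) (.node (.leaf 0x4b94) (.leaf 0x5c55))) (.node (.node (.leaf 0x88d) (.leaf 0x47f2)) (.node (.leaf 0x204c) (.leaf 0x724e)))) (.node (.node (.node (.leaf 0x11b8) (.leaf 0x3f57)) (.node (.leaf 0x17f9) (.leaf 0x6928))) (.node (.node (.leaf 0xe3f) (.leaf 0x52c9)) (.node (.leaf 0x256c) (.leaf 0x0)))))) (.node (.node (.node (.node (.node (.leaf 0x7bb) (.leaf 0x2fa1)) (.node (.leaf 0x14ba) (.leaf 0x591b))) (.node (.node (.leaf 0x753) (.leaf 0x45b8)) (.node (.leaf 0x4840) (.leaf 0x70ef)))) (.node (.node (.node (.leaf 0x328b) (.leaf 0x3c85)) (.node (.leaf 0x1d6f) (.leaf 0x6685))) (.node (.node (.leaf 0x6a39) (.leaf 0x5aba)) (.node (.leaf 0x2ab1) (.leaf 0x0))))) (.node (.node (.node (.node (.leaf 0x1cbc) (.leaf 0x3ecd)) (.node (.leaf 0x2e15) (.leaf 0x60d1))) (.node (.node (.leaf 0x2bcf) (.leaf 0x4b73)) (.node (.leaf 0x220d) (.leaf 0x748a)))) (.node (.node (.node (.leaf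 0xad6) (.leaf 0x429b)) (.node (.leaf 0x19dd) (.leaf 0x6a20))) (.node (.node (.leaf 0x62ba) (.leaf 0x54e6)) (.node (.leaf 0x30d7) (.leaf 0x0))))))))

/-- Closure. -/
def clo92 : FTree := (.node (.node (.node (.node (.node (.node (.node (.leaf 0x37) (.leaf 0x2b8a)) (.node (.leaf 0x2a76) (.leaf 0x69fe))) (.node (.node (.leaf 0x8f5) (.leaf 0x4447)) (.node (.leaf 0x1b3a) (.leaf 0x6ee6)))) (.node (.node (.node (.leaf 0x386) (.leaf 0x3932)) (.node (.leaf 0x18a7) (.leaf 0x6187))) (.node (.node (.leaf 0x2b74) (.leaf 0x4d2d)) (.node (.leaf 0x2323) (.leaf 0x7537))))) (.node (.node (.node (.node (.leaf 0x12f2) (.leaf 0x348d)) (.node (.leaf 0x1aad) (.leaf 0x621f))) (.node (.node (.leaf 0x13ff) (.leaf 0x492e)) (.node (.leaf 0x1f4f) (.leaf 0x7156)))) (.node (.node (.node (.leaf 0xcbc) (.leaf 0x3d40)) (.node (.leaf 0x1760) (.leaf 0x68b7))) (.node (.node (.leaf 0x11f7) (.leaf 0x5192)) (.node (.leaf 0x32b2) (.leaf 0x0)))))) (.node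 (.node (.node (.node (.node (.leaf 0x359) (.leaf 0x66b7)) (.node (.leaf 0xfd4) (.leaf 0x593c))) (.node (.node (.leaf 0x564e) (.leaf 0x4699)) (.node (.leaf 0x6999) (.leaf 0x7069)))) (.node (.node (.node (.leaf 0x46c) (.leaf 0x4621)) (.node (.leaf 0x1657) (.leaf 0x663f))) (.node (.node (.leaf 0x6129) (.leaf 0x4e83)) (.node (.leaf 0x244f) (.leaf 0x0))))) (.node (.node (.node (.node (.leaf 0x486b) (.leaf 0x3675)) (.node (.leaf 0x1325) (.leaf 0x6093))) (.node (.node (.leaf 0x3bde) (.leaf 0x4b4a)) (.node (.leaf 0x2245) (.leaf 0x74d8)))) (.node (.node (.node (.leaf 0x3de1) (.leaf 0x40c3)) (.node (.leaf 0x19f7) (.leaf 0x6a17))) (.node (.node (.leaf 0x1113) (.leaf 0x557a)) (.node (.leaf 0x28fe) (.leaf 0x0))))))) (.node (.node (.node (.node (.node (.node (.leaf 0x157) (.leaf 0x4f57)) (.node (.leaf 0xf9c) (.leaf 0x57a1))) (.node (.node (.leaf 0x3314) (.leaf 0x43df)) (.node (.leaf 0x3432) (.leaf 0x6edf)))) (.node (.node (.node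 (.leaf 0x84f) (.leaf 0x3f6d)) (.node (.leaf 0x14bb) (.leaf 0x625b))) (.node (.node (.leaf 0xb85) (.leaf 0x4de2)) (.node (.leaf 0x6e3c) (.leaf 0x7700))))) (.node (.node (.node (.node (.leaf 0x39d1) (.leaf 0x4758)) (.node (.leaf 0x2c34) (.leaf 0x5e4b))) (.node (.node (.leaf 0x292b) (.leaf 0x487c)) (.node (.leaf 0x207b) (.leaf 0x71b6)))) (.node (.node (.node (.leaf 0x464) (.leaf 0x3f61)) (.node (.leaf 0x17e6) (.leaf 0x685b))) (.node (.node (.leaf 0x3ebe) (.leaf 0x521f)) (.node (.leaf 0x25b8) (.leaf 0x0)))))) (.node (.node (.node (.node (.node (.leaf 0x4dd) (.leaf 0x2d9c)) (.node (.leaf 0x1105) (.leaf 0x595f))) (.node (.node (.leaf 0x1f35) (.leaf 0x4543)) (.node (.leaf 0x5c1a) (.leaf 0x7027)))) (.node (.node (.node (.leaf 0x620) (.leaf 0x3bdd)) (.node (.leaf 0x44d2) (.leaf 0x655f))) (.node (.node (.leaf 0xc09) (.leaf 0x50fe)) (.node (.leaf 0x2f98) (.leaf 0x0))))) (.node (.node (.node (.node (.leaf 0x30e4) (.leaf 0x365e))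 (.node (.leaf 0x13fa) (.leaf 0x6136))) (.node (.node (.leaf 0x2478) (.leaf 0x4b7c)) (.node (.leaf 0x20f2) (.leaf 0x73bb)))) (.node (.node (.node (.leaf 0x1d28) (.leaf 0x4174)) (.node (.leaf 0x192b) (.leaf 0x6ae9))) (.node (.node (.leaf 0xe7d) (.leaf 0x560a)) (.node (.leaf 0x5466) (.leaf 0x0))))))))

/-- Closure. -/
def clo93 : FTree := (.node (.node (.node (.node (.node (.node (.node (.leaf 0xa9) (.leaf 0x6865)) (.node (.leaf 0x10bf) (.leaf 0x5e9a))) (.node (.node (.leaf 0x559b) (.leaf 0x4370)) (.node (.leaf 0x614c) (.leaf 0x6de7)))) (.node (.node (.node (.leaf 0x4651) (.leaf 0x386f)) (.node (.leaf 0x1575) (.leaf 0x61c9))) (.node (.node (.leaf 0xb96) (.leaf 0x4cc0)) (.node (.leaf 0x6f04) (.leaf 0x754b))))) (.node (.node (.node (.node (.leaf 0x656) (.leaf 0x31aa)) (.node (.leaf 0x1ec9) (.leaf 0x5b5d))) (.node (.node (.leaf 0x10c8) (.leaf 0x48bf)) (.node (.leaf 0x3510) (.leaf 0x7269)))) (.node (.node (.node (.leaf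 0xaa3) (.leaf 0x3e49)) (.node (.leaf 0x175b) (.leaf 0x690f))) (.node (.node (.leaf 0xd14) (.leaf 0x52cc)) (.node (.leaf 0x260b) (.leaf 0x0)))))) (.node (.node (.node (.node (.node (.leaf 0x7c0) (.leaf 0x5d65)) (.node (.leaf 0x3bfe) (.leaf 0x59ac))) (.node (.node (.leaf 0x3445) (.leaf 0x457e)) (.node (.leaf 0x3f47) (.leaf 0x70ba)))) (.node (.node (.node (.leaf 0x4059) (.leaf 0x3c6a)) (.node (.leaf 0x1653) (.leaf 0x650b))) (.node (.node (.leaf 0x3087) (.leaf 0x690d)) (.node (.leaf 0x24ba) (.leaf 0x0))))) (.node (.node (.node (.node (.leaf 0x939) (.leaf 0x4694)) (.node (.leaf 0x134b) (.leaf 0x5f63))) (.node (.node (.leaf 0x5b03) (.leaf 0x4b32)) (.node (.leaf 0x2185) (.leaf 0x74f3)))) (.node (.node (.node (.leaf 0x652) (.leaf 0x47d3)) (.node (.leaf 0x3bd0) (.leaf 0x6bf3))) (.node (.node (.leaf 0x57a3) (.leaf 0x5510)) (.node (.leaf 0x2924) (.leaf 0x0))))))) (.node (.node (.node (.node (.node (.node (.leaf 0x1cb) (.leaf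 0x2c5d)) (.node (.leaf 0xf57) (.leaf 0x69d2))) (.node (.node (.leaf 0x5f43) (.leaf 0x5024)) (.node (.leaf 0x1b39) (.leaf 0x6d40)))) (.node (.node (.node (.leaf 0x843) (.leaf 0x37a5)) (.node (.leaf 0x32a4) (.leaf 0x634e))) (.node (.node (.leaf 0xad1) (.leaf 0x4dfe)) (.node (.leaf 0x632e) (.leaf 0x761c))))) (.node (.node (.node (.node (.leaf 0x443) (.leaf 0x3225)) (.node (.leaf 0x12cc) (.leaf 0x5b2e))) (.node (.node (.leaf 0x8a7) (.leaf 0x47fb)) (.node (.leaf 0x6c8a) (.leaf 0x7184)))) (.node (.node (.node (.leaf 0x27a6) (.leaf 0x46d6)) (.node (.leaf 0x54e1) (.leaf 0x68c5))) (.node (.node (.leaf 0xdb2) (.leaf 0x52cb)) (.node (.leaf 0x266e) (.leaf 0x0)))))) (.node (.node (.node (.node (.node (.leaf 0x77d) (.leaf 0x2d06)) (.node (.leaf 0x32b8) (.leaf 0x5a8b))) (.node (.node (.leaf 0x107a) (.leaf 0x453c)) (.node (.leaf 0x3424) (.leaf 0x70c8)))) (.node (.node (.node (.leaf 0x3fb) (.leaf 0x3bd7)) (.node (.leaf 0x3ca5)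 (.leaf 0x64be))) (.node (.node (.leaf 0x307a) (.leaf 0x4ff0)) (.node (.leaf 0x2474) (.leaf 0x0))))) (.node (.node (.node (.node (.leaf 0x30ea) (.leaf 0x36a0)) (.node (.leaf 0x5bf2) (.leaf 0x60bd))) (.node (.node (.leaf 0x1aee) (.leaf 0x4b56)) (.node (.leaf 0x21ba) (.leaf 0x73fb)))) (.node (.node (.node (.leaf 0x1149) (.leaf 0x4183)) (.node (.leaf 0x198b) (.leaf 0x6ad0))) (.node (.node (.leaf 0x2e6f) (.leaf 0x54b5)) (.node (.leaf 0x27b0) (.leaf 0x0))))))))

/-- Closure. -/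
def clo94 : FTree := (.node (.node (.node (.node (.node (.node (.node (.leaf 0xa3) (.leaf 0x2be5)) (.node (.leaf 0xf59) (.leaf 0x5857))) (.node (.node (.leaf 0x699) (.leaf 0x502b)) (.node (.leaf 0x1ba1) (.leaf 0x6dbd)))) (.node (.node (.node (.leaf 0x541) (.leaf 0x395f)) (.node (.leaf 0x4515) (.leaf 0x62a9))) (.node (.node (.leaf 0x66eb) (.leaf 0x5ecf)) (.node (.leaf 0x22d7) (.leaf 0x7575))))) (.node (.node (.node (.node (.leaf 0x3b1) (.leaf 0x3335)) (.node (.leaf 0x5d5c) (.leaf 0x5e20))) (.node (.node (.leaf 0x1156) (.leaf 0x4987)) (.node (.leaf 0x4469) (.leaf 0x7179)))) (.node (.node (.node (.leaf 0x6ae) (.leaf 0x3ea4)) (.node (.leaf 0x26d7) (.leaf 0x6923))) (.node (.node (.leaf 0xd09) (.leaf 0x5278)) (.node (.leaf 0x267e) (.leaf 0x0)))))) (.node (.node (.node (.node (.node (.leaf 0x772) (.leaf 0x2e51)) (.node (.leaf 0x293a) (.leaf 0x5a9d))) (.node (.node (.leaf 0xa15) (.leaf 0x4707)) (.node (.leaf 0x2e4d) (.leaf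 0x702f)))) (.node (.node (.node (.leaf 0x5f9) (.leaf 0x423f)) (.node (.leaf 0x15b7) (.leaf 0x65f3))) (.node (.node (.leaf 0x29b2) (.leaf 0x4f3e)) (.node (.leaf 0x23e7) (.leaf 0x0))))) (.node (.node (.node (.node (.leaf 0xb0e) (.leaf 0x362d)) (.node (.leaf 0x1399) (.leaf 0x601a))) (.node (.node (.leaf 0x2eda) (.leaf 0x4b5c)) (.node (.leaf 0x40c6) (.leaf 0x74b7)))) (.node (.node (.node (.leaf 0x64f) (.leaf 0x40a6)) (.node (.leaf 0x3c8a) (.leaf 0x6bbe))) (.node (.node (.leaf 0x5038) (.leaf 0x54aa)) (.node (.leaf 0x288b) (.leaf 0x0))))))) (.node (.node (.node (.node (.node (.node (.leaf 0x1c4) (.leaf 0x29f2)) (.node (.leaf 0x31ec) (.leaf 0x578d))) (.node (.node (.leaf 0xac0) (.leaf 0x50c0)) (.node (.leaf 0x1c4e) (.leaf 0x6d23)))) (.node (.node (.node (.leaf 0x7f2) (.leaf 0x3983)) (.node (.leaf 0x1a88) (.leaf 0x61d5))) (.node (.node (.leaf 0x29d2) (.leaf 0x4c29)) (.node (.leaf 0x2390) (.leaf 0x7558))))) (.node (.node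 (.node (.node (.leaf 0x441) (.leaf 0x5cfa)) (.node (.leaf 0x1205) (.leaf 0x5e0f))) (.node (.node (.leaf 0x20c9) (.leaf 0x48aa)) (.node (.leaf 0x200d) (.leaf 0x72cf)))) (.node (.node (.node (.leaf 0x1d87) (.leaf 0x3e97)) (.node (.leaf 0x185a) (.leaf 0x6869))) (.node (.node (.leaf 0xeba) (.leaf 0x52bf)) (.node (.leaf 0x25d2) (.leaf 0x0)))))) (.node (.node (.node (.node (.node (.leaf 0x795) (.leaf 0x3efe)) (.node (.leaf 0x32d8) (.leaf 0x594b))) (.node (.node (.leaf 0x123b) (.leaf 0x474c)) (.node (.leaf 0x4f24) (.leaf 0x710a)))) (.node (.node (.node (.leaf 0x42a) (.leaf 0x3ffb)) (.node (.leaf 0x15c0) (.leaf 0x6591))) (.node (.node (.leaf 0xc8f) (.leaf 0x4f49)) (.node (.leaf 0x5426) (.leaf 0x0))))) (.node (.node (.node (.node (.leaf 0x3a4) (.leaf 0x3763)) (.node (.leaf 0x1390) (.leaf 0x5f2a))) (.node (.node (.leaf 0xa0d) (.leaf 0x4ac8)) (.node (.leaf 0x2164) (.leaf 0x73aa)))) (.node (.node (.node (.leaf 0x5cb) (.leaf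 0x40e0)) (.node (.leaf 0x1a3a) (.leaf 0x6bd3))) (.node (.node (.leaf 0x2fae) (.leaf 0x6e8b)) (.node (.leaf 0x28f3) (.leaf 0x0))))))))

/-- Closure. -/
def clo95 : FTree := (.node (.node (.node (.node (.node (.node (.node (.leaf 0x11e) (.leaf 0x2a09)) (.node (.leaf 0x1c36) (.leaf 0x56ca))) (.node (.node (.leaf 0x17bd) (.leaf 0x64b0)) (.node (.leaf 0x1aaf) (.leaf 0x6d4f)))) (.node (.node (.node (.leaf 0x81f) (.leaf 0x4b42)) (.node (.leaf 0x14c7) (.leaf 0x6361))) (.node (.node (.leaf 0x18c3) (.leaf 0x4cc1)) (.node (.leaf 0x2aea) (.leaf 0x7685))))) (.node (.node (.node (.node (.leaf 0x12fb) (.leaf 0x3331)) (.node (.leaf 0x6bc9) (.leaf 0x5ad3))) (.node (.node (.leaf 0x2ff9) (.leaf 0x4e65)) (.node (.leaf 0x204e) (.leaf 0x7170)))) (.node (.node (.node (.leaf 0x74f) (.leaf 0x3e5c)) (.node (.leaf 0x1831) (.leaf 0x66ca))) (.node (.node (.leaf 0xd95) (.leaf 0x51c3)) (.node (.leaf 0x2594) (.leaf 0x0)))))) (.node (.node (.node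 (.node (.node (.leaf 0x2ef) (.leaf 0x2f72)) (.node (.leaf 0x1592) (.leaf 0x5aa6))) (.node (.node (.leaf 0x3849) (.leaf 0x46b7)) (.node (.leaf 0x2447) (.leaf 0x70ee)))) (.node (.node (.node (.leaf 0x533f) (.leaf 0x3a8a)) (.node (.leaf 0x16d3) (.leaf 0x65d3))) (.node (.node (.leaf 0x305f) (.leaf 0x4f1e)) (.node (.leaf 0x2402) (.leaf 0x0))))) (.node (.node (.node (.node (.leaf 0x2cc5) (.leaf 0x3688)) (.node (.leaf 0x2e21) (.leaf 0x6039))) (.node (.node (.leaf 0xccf) (.leaf 0x4aba)) (.node (.leaf 0x20f5) (.leaf 0x739a)))) (.node (.node (.node (.leaf 0x2e3f) (.leaf 0x426a)) (.node (.leaf 0x1962) (.leaf 0x6bc8))) (.node (.node (.leaf 0x27e9) (.leaf 0x555a)) (.node (.leaf 0x6eda) (.leaf 0x0))))))) (.node (.node (.node (.node (.node (.node (.leaf 0x0) (.leaf 0x0)) (.node (.leaf 0x0) (.leaf 0x0))) (.node (.node (.leaf 0x0) (.leaf 0x0)) (.node (.leaf 0x0) (.leaf 0x0)))) (.node (.node (.node (.leaf 0x0) (.leaf 0x0)) (.node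 (.leaf 0x0) (.leaf 0x0))) (.node (.node (.leaf 0x0) (.leaf 0x0)) (.node (.leaf 0x0) (.leaf 0x0))))) (.node (.node (.node (.node (.leaf 0x0) (.leaf 0x0)) (.node (.leaf 0x0) (.leaf 0x0))) (.node (.node (.leaf 0x0) (.leaf 0x0)) (.node (.leaf 0x0) (.leaf 0x0)))) (.node (.node (.node (.leaf 0x0) (.leaf 0x0)) (.node (.leaf 0x0) (.leaf 0x0))) (.node (.node (.leaf 0x0) (.leaf 0x0)) (.node (.leaf 0x0) (.leaf 0x0)))))) (.node (.node (.node (.node (.node (.leaf 0x0) (.leaf 0x0)) (.node (.leaf 0x0) (.leaf 0x0))) (.node (.node (.leaf 0x0) (.leaf 0x0)) (.node (.leaf 0x0) (.leaf 0x0)))) (.node (.node (.node (.leaf 0x0) (.leaf 0x0)) (.node (.leaf 0x0) (.leaf 0x0))) (.node (.node (.leaf 0x0) (.leaf 0x0)) (.node (.leaf 0x0) (.leaf 0x0))))) (.node (.node (.node (.node (.leaf 0x0) (.leaf 0x0)) (.node (.leaf 0x0) (.leaf 0x0))) (.node (.node (.leaf 0x0) (.leaf 0x0)) (.node (.leaf 0x0) (.leaf 0x0)))) (.node (.node (.node (.leaf 0x0)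 (.leaf 0x0)) (.node (.leaf 0x0) (.leaf 0x0))) (.node (.node (.leaf 0x0) (.leaf 0x0)) (.node (.leaf 0x0) (.leaf 0x0))))))))

/-- Closure. -/
def clo96 : FTree := (.node (.node (.node (.node (.node (.node (.node (.leaf 0x9) (.leaf 0x2dd3)) (.node (.leaf 0xfb0) (.leaf 0x57a6))) (.node (.node (.leaf 0x34ca) (.leaf 0x4303)) (.node (.leaf 0x1dbd) (.leaf 0x6cab)))) (.node (.node (.node (.leaf 0x3d1f) (.leaf 0x397f)) (.node (.leaf 0x144f) (.leaf 0x6371))) (.node (.node (.leaf 0xa79) (.leaf 0x5ec9)) (.node (.leaf 0x2301) (.leaf 0x7707))))) (.node (.node (.node (.node (.leaf 0x171d) (.leaf 0x32e0)) (.node (.leaf 0x2014) (.leaf 0x653d))) (.node (.node (.leaf 0xe9b) (.leaf 0x477c)) (.node (.leaf 0x2085) (.leaf 0x715f)))) (.node (.node (.node (.leaf 0x1b33) (.leaf 0x3f51)) (.node (.leaf 0x183a) (.leaf 0x69bd))) (.node (.node (.leaf 0x1420) (.leaf 0x52bb)) (.node (.leaf 0x25cd) (.leaf 0x0)))))) (.node (.node (.node (.node (.node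 (.leaf 0x4b2) (.leaf 0x2ed2)) (.node (.leaf 0x2b76) (.leaf 0x5a0b))) (.node (.node (.leaf 0xa12) (.leaf 0x4548)) (.node (.leaf 0x1cf4) (.leaf 0x6f27)))) (.node (.node (.node (.leaf 0x2fdd) (.leaf 0x3b9c)) (.node (.leaf 0x1707) (.leaf 0x65ff))) (.node (.node (.leaf 0xc7a) (.leaf 0x5122)) (.node (.leaf 0x246c) (.leaf 0x0))))) (.node (.node (.node (.node (.leaf 0x376f) (.leaf 0x366b)) (.node (.leaf 0x4724) (.leaf 0x606d))) (.node (.node (.leaf 0x2963) (.leaf 0x4b07)) (.node (.leaf 0x20f4) (.leaf 0x7480)))) (.node (.node (.node (.leaf 0x1d2a) (.leaf 0x4188)) (.node (.leaf 0x18da) (.leaf 0x6ac8))) (.node (.node (.leaf 0xecb) (.leaf 0x561a)) (.node (.leaf 0x2b8e) (.leaf 0x0))))))) (.node (.node (.node (.node (.node (.node (.leaf 0xde) (.leaf 0x4fd1)) (.node (.leaf 0xf9a) (.leaf 0x56ac))) (.node (.node (.leaf 0x647) (.leaf 0x432a)) (.node (.leaf 0x1a61) (.leaf 0x6ead)))) (.node (.node (.node (.leaf 0x850) (.leaf 0x3830))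 (.node (.leaf 0x32a3) (.leaf 0x6384))) (.node (.node (.leaf 0xb03) (.leaf 0x4d26)) (.node (.leaf 0x53d4) (.leaf 0x7632))))) (.node (.node (.node (.node (.leaf 0x39cd) (.leaf 0x55ed)) (.node (.leaf 0x3fc5) (.leaf 0x68a9))) (.node (.node (.leaf 0x2929) (.leaf 0x4915)) (.node (.leaf 0x24e5) (.leaf 0x7177)))) (.node (.node (.node (.leaf 0x1ac8) (.leaf 0x3e16)) (.node (.leaf 0x17de) (.leaf 0x66c6))) (.node (.node (.leaf 0x1b0f) (.leaf 0x5277)) (.node (.leaf 0x2530) (.leaf 0x0)))))) (.node (.node (.node (.node (.node (.leaf 0x4e4) (.leaf 0x2fa3)) (.node (.leaf 0x2bd2) (.leaf 0x5966))) (.node (.node (.leaf 0x3b34) (.leaf 0x45de)) (.node (.leaf 0x28b5) (.leaf 0x708f)))) (.node (.node (.node (.leaf 0x487) (.leaf 0x3a9e)) (.node (.leaf 0x15f4) (.leaf 0x64b6))) (.node (.node (.leaf 0xc0b) (.leaf 0x5013)) (.node (.leaf 0x238e) (.leaf 0x0))))) (.node (.node (.node (.node (.leaf 0x4ed6) (.leaf 0x36bf)) (.node (.leaf 0x1395)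 (.leaf 0x6603))) (.node (.node (.leaf 0x97f) (.leaf 0x4b9b)) (.node (.leaf 0x40ca) (.leaf 0x73c0)))) (.node (.node (.node (.leaf 0x1d29) (.leaf 0x408d)) (.node (.leaf 0x1b5a) (.leaf 0x6ac4))) (.node (.node (.leaf 0x55b5) (.leaf 0x5483)) (.node (.leaf 0x459f) (.leaf 0x0))))))))

/-- Closure. -/
def clo97 : FTree := (.node (.node (.node (.node (.node (.node (.node (.leaf 0x6e) (.leaf 0x31d3)) (.node (.leaf 0x315b) (.leaf 0x575e))) (.node (.node (.leaf 0x92a) (.leaf 0x4372)) (.node (.leaf 0x1b6f) (.leaf 0x6d31)))) (.node (.node (.node (.leaf 0x2e08) (.leaf 0x3855)) (.node (.leaf 0x3fdd) (.leaf 0x62b2))) (.node (.node (.leaf 0xadc) (.leaf 0x4e12)) (.node (.leaf 0x22e9) (.leaf 0x7711))))) (.node (.node (.node (.node (.leaf 0x8e9) (.leaf 0x31ab)) (.node (.leaf 0x12dd) (.leaf 0x5c09))) (.node (.node (.leaf 0x1514) (.leaf 0x48b0)) (.node (.leaf 0x1f47) (.leaf 0x716d)))) (.node (.node (.node (.leaf 0x486) (.leaf 0x3df3))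 (.node (.leaf 0x240f) (.leaf 0x69af))) (.node (.node (.leaf 0x2835) (.leaf 0x51ed)) (.node (.leaf 0x263e) (.leaf 0x0)))))) (.node (.node (.node (.node (.node (.leaf 0x2b4) (.leaf 0x2d08)) (.node (.leaf 0x1e27) (.leaf 0x5930))) (.node (.node (.leaf 0x3b32) (.leaf 0x470c)) (.node (.leaf 0x1e80) (.leaf 0x6ff7)))) (.node (.node (.node (.leaf 0x1a37) (.leaf 0x3aaa)) (.node (.leaf 0x16e6) (.leaf 0x64f3))) (.node (.node (.leaf 0x6440) (.leaf 0x4ec0)) (.node (.leaf 0x2472) (.leaf 0x0))))) (.node (.node (.node (.node (.leaf 0x5d30) (.leaf 0x36d4)) (.node (.leaf 0x142c) (.leaf 0x60b8))) (.node (.node (.leaf 0x2141) (.leaf 0x4b8f)) (.node (.leaf 0x233f) (.leaf 0x7402)))) (.node (.node (.node (.leaf 0x10f0) (.leaf 0x405a)) (.node (.leaf 0x19c3) (.leaf 0x6ad4))) (.node (.node (.leaf 0x5be7) (.leaf 0x545d)) (.node (.leaf 0x27d0) (.leaf 0x0))))))) (.node (.node (.node (.node (.node (.node (.leaf 0x1b8) (.leaf 0x377d)) (.node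 (.leaf 0x5d98) (.leaf 0x577b))) (.node (.node (.leaf 0xab9) (.leaf 0x4866)) (.node (.leaf 0x1b70) (.leaf 0x6ca9)))) (.node (.node (.node (.leaf 0x37d) (.leaf 0x377b)) (.node (.leaf 0x18ab) (.leaf 0x6300))) (.node (.node (.leaf 0xb7e) (.leaf 0x4dc5)) (.node (.leaf 0x2cdb) (.leaf 0x76f5))))) (.node (.node (.node (.node (.leaf 0x56d) (.leaf 0x30f9)) (.node (.leaf 0x2c87) (.leaf 0x5d56))) (.node (.node (.leaf 0x1cc2) (.leaf 0x48d4)) (.node (.leaf 0x1f51) (.leaf 0x7231)))) (.node (.node (.node (.leaf 0x671) (.leaf 0x3e0c)) (.node (.leaf 0x1ce2) (.leaf 0x676b))) (.node (.node (.leaf 0xd11) (.leaf 0x51a6)) (.node (.leaf 0x271f) (.leaf 0x0)))))) (.node (.node (.node (.node (.node (.leaf 0x245) (.leaf 0x2f16)) (.node (.leaf 0x11e3) (.leaf 0x58fc))) (.node (.node (.leaf 0x40f3) (.leaf 0x473f)) (.node (.leaf 0x1e22) (.leaf 0x6f50)))) (.node (.node (.node (.leaf 0x685) (.leaf 0x3f3d)) (.node (.leaf 0x168d) (.leaf 0x64d6)))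 (.node (.node (.leaf 0x618b) (.leaf 0x5053)) (.node (.leaf 0x2ba8) (.leaf 0x0))))) (.node (.node (.node (.node (.leaf 0x3028) (.leaf 0x3740)) (.node (.leaf 0x2b0e) (.leaf 0x60f1))) (.node (.node (.leaf 0x281e) (.leaf 0x4b83)) (.node (.leaf 0x39ee) (.leaf 0x7514)))) (.node (.node (.node (.leaf 0x2a08) (.leaf 0x4298)) (.node (.leaf 0x1a1e) (.leaf 0x6aac))) (.node (.node (.leaf 0x57ad) (.leaf 0x55d9)) (.node (.leaf 0x280e) (.leaf 0x0))))))))

/-- Closure. -/
def clo98 : FTree := (.node (.node (.node (.node (.node (.node (.node (.leaf 0x51) (.leaf 0x4fba)) (.node (.leaf 0x5fa1) (.leaf 0x573b))) (.node (.node (.leaf 0x6b5) (.leaf 0x491e)) (.node (.leaf 0x38e3) (.leaf 0x6cbd)))) (.node (.node (.node (.leaf 0x2e00) (.leaf 0x396d)) (.node (.leaf 0x1a8a) (.leaf 0x635c))) (.node (.node (.leaf 0xaae) (.leaf 0x4ca6)) (.node (.leaf 0x4a64) (.leaf 0x76d1))))) (.node (.node (.node (.node (.leaf 0x609) (.leaf 0x340d)) (.node (.leaf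 0x2422) (.leaf 0x5c48))) (.node (.node (.leaf 0x87e) (.leaf 0x49a7)) (.node (.leaf 0x20a0) (.leaf 0x71a4)))) (.node (.node (.node (.leaf 0x1a27) (.leaf 0x3da1)) (.node (.leaf 0x180c) (.leaf 0x67dd))) (.node (.node (.leaf 0xd0a) (.leaf 0x51db)) (.node (.leaf 0x2762) (.leaf 0x0)))))) (.node (.node (.node (.node (.node (.leaf 0x2b2) (.leaf 0x2ef3)) (.node (.leaf 0x4947) (.leaf 0x591a))) (.node (.node (.leaf 0x942) (.leaf 0x46b2)) (.node (.leaf 0x3d4a) (.leaf 0x7075)))) (.node (.node (.node (.leaf 0x488) (.leaf 0x3ae3)) (.node (.leaf 0x168f) (.leaf 0x649c))) (.node (.node (.leaf 0x6439) (.leaf 0x5014)) (.node (.leaf 0x2412) (.leaf 0x0))))) (.node (.node (.node (.node (.leaf 0x313b) (.leaf 0x3710)) (.node (.leaf 0x1377) (.leaf 0x60f2))) (.node (.node (.leaf 0x3b46) (.leaf 0x4b8d)) (.node (.leaf 0x5176) (.leaf 0x7435)))) (.node (.node (.node (.leaf 0x2867) (.leaf 0x54c4)) (.node (.leaf 0x1937) (.leaf 0x6a70))) (.node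 (.node (.leaf 0x33ce) (.leaf 0x55e4)) (.node (.leaf 0x5b7f) (.leaf 0x0))))))) (.node (.node (.node (.node (.node (.node (.leaf 0x139) (.leaf 0x6317)) (.node (.leaf 0xf0f) (.leaf 0x57d2))) (.node (.node (.leaf 0x3a64) (.leaf 0x42fd)) (.node (.leaf 0x33dd) (.leaf 0x6dac)))) (.node (.node (.node (.leaf 0x81d) (.leaf 0x3840)) (.node (.leaf 0x144e) (.leaf 0x6158))) (.node (.node (.leaf 0xb47) (.leaf 0x4df2)) (.node (.leaf 0x2273) (.leaf 0x7657))))) (.node (.node (.node (.node (.leaf 0x31c) (.leaf 0x308e)) (.node (.leaf 0x123d) (.leaf 0x5ac6))) (.node (.node (.leaf 0x803) (.leaf 0x498d)) (.node (.leaf 0x1fd0) (.leaf 0x7242)))) (.node (.node (.node (.leaf 0x616) (.leaf 0x3d9c)) (.node (.leaf 0x176e) (.leaf 0x68cd))) (.node (.node (.leaf 0x2599) (.leaf 0x5151)) (.node (.leaf 0x4e3a) (.leaf 0x0)))))) (.node (.node (.node (.node (.node (.leaf 0x211) (.leaf 0x2f77)) (.node (.leaf 0x1050) (.leaf 0x5897))) (.node (.node (.leaf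 0x70b) (.leaf 0x4615)) (.node (.leaf 0x1cd8) (.leaf 0x703b)))) (.node (.node (.node (.leaf 0x29f6) (.leaf 0x3a10)) (.node (.leaf 0x1656) (.leaf 0x661c))) (.node (.node (.leaf 0xc1b) (.leaf 0x502e)) (.node (.leaf 0x23cc) (.leaf 0x0))))) (.node (.node (.node (.node (.leaf 0x2cc7) (.leaf 0x3720)) (.node (.leaf 0x5009) (.leaf 0x60a6))) (.node (.node (.leaf 0x8d4) (.leaf 0x49dd)) (.node (.leaf 0x2c2b) (.leaf 0x7418)))) (.node (.node (.node (.leaf 0x573) (.leaf 0x3fca)) (.node (.leaf 0x1981) (.leaf 0x6a8e))) (.node (.node (.leaf 0xdae) (.leaf 0x53a5)) (.node (.leaf 0x3da8) (.leaf 0x0))))))))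

/-- Closure. -/
def clo99 : FTree := (.node (.node (.node (.node (.node (.node (.node (.leaf 0xd3) (.leaf 0x2b51)) (.node (.leaf 0x10ad) (.leaf 0x5e91))) (.node (.node (.leaf 0x9d9) (.leaf 0x43a0)) (.node (.leaf 0x343f) (.leaf 0x6ed1)))) (.node (.node (.node (.leaf 0x538) (.leaf 0x39af)) (.node (.leaf 0x15ee) (.leaf 0x62e0))) (.node (.node (.leaf 0x692e) (.leaf 0x4e0b)) (.node (.leaf 0x22e1) (.leaf 0x75f8))))) (.node (.node (.node (.node (.leaf 0x5045) (.leaf 0x3565)) (.node (.leaf 0x31bc) (.leaf 0x5d01))) (.node (.node (.leaf 0x89a) (.leaf 0x746f)) (.node (.leaf 0x5dd5) (.leaf 0x7225)))) (.node (.node (.node (.leaf 0x334b) (.leaf 0x3e65)) (.node (.leaf 0x179b) (.leaf 0x69c0))) (.node (.node (.leaf 0x11fd) (.leaf 0x5238)) (.node (.leaf 0x5eb1) (.leaf 0x0)))))) (.node (.node (.node (.node (.node (.leaf 0x7b2) (.leaf 0x3224)) (.node (.leaf 0x3c94) (.leaf 0x5995))) (.node (.node (.leaf 0x48c5) (.leaf 0x4730)) (.node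 (.leaf 0x1d65) (.leaf 0x702d)))) (.node (.node (.node (.leaf 0x417) (.leaf 0x3b66)) (.node (.leaf 0x1adc) (.leaf 0x6462))) (.node (.node (.leaf 0x3053) (.leaf 0x5017)) (.node (.leaf 0x23b3) (.leaf 0x0))))) (.node (.node (.node (.node (.leaf 0x4fac) (.leaf 0x35ec)) (.node (.leaf 0x2f05) (.leaf 0x5fc7))) (.node (.node (.leaf 0x2726) (.leaf 0x4bac)) (.node (.leaf 0x3d97) (.leaf 0x735f)))) (.node (.node (.node (.leaf 0x1147) (.leaf 0x4285)) (.node (.leaf 0x18f3) (.leaf 0x6a32))) (.node (.node (.leaf 0x5039) (.leaf 0x5611)) (.node (.leaf 0x40da) (.leaf 0x0))))))) (.node (.node (.node (.node (.node (.node (.leaf 0x1d3) (.leaf 0x605b)) (.node (.leaf 0xf9b) (.leaf 0x586f))) (.node (.node (.leaf 0x32f0) (.leaf 0x4445)) (.node (.leaf 0x222c) (.leaf 0x6d0b)))) (.node (.node (.node (.leaf 0x3d11) (.leaf 0x3861)) (.node (.leaf 0x1e1a) (.leaf 0x61ae))) (.node (.node (.leaf 0x2c6b) (.leaf 0x4d17)) (.node (.leaf 0x229e) (.leaf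 0x765b))))) (.node (.node (.node (.node (.leaf 0x1723) (.leaf 0x33b4)) (.node (.leaf 0x488b) (.leaf 0x5b8f))) (.node (.node (.leaf 0xe9c) (.leaf 0x4887)) (.node (.leaf 0x1f4c) (.leaf 0x72cd)))) (.node (.node (.node (.leaf 0xec7) (.leaf 0x3e39)) (.node (.leaf 0x1834) (.leaf 0x67e9))) (.node (.node (.leaf 0xd8c) (.leaf 0x5296)) (.node (.leaf 0x30dd) (.leaf 0x0)))))) (.node (.node (.node (.node (.node (.leaf 0x515) (.leaf 0x69e9)) (.node (.leaf 0x28b7) (.leaf 0x5a08))) (.node (.node (.leaf 0x2b81) (.leaf 0x5e16)) (.node (.leaf 0x3641) (.leaf 0x6fc0)))) (.node (.node (.node (.leaf 0x3cd0) (.leaf 0x4628)) (.node (.leaf 0x1650) (.leaf 0x645a))) (.node (.node (.leaf 0xc68) (.leaf 0x4f19)) (.node (.leaf 0x2482) (.leaf 0x0))))) (.node (.node (.node (.node (.leaf 0x378a) (.leaf 0x363e)) (.node (.leaf 0x26fa) (.leaf 0x6048))) (.node (.node (.leaf 0x48fa) (.leaf 0x4b08)) (.node (.leaf 0x5d47) (.leaf 0x7513)))) (.node (.node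 (.node (.leaf 0x2b95) (.leaf 0x4179)) (.node (.leaf 0x1a3f) (.leaf 0x6bb1))) (.node (.node (.leaf 0x2578) (.leaf 0x55f2)) (.node (.leaf 0x36ec) (.leaf 0x0))))))))

/-- Closure. -/
def clo100 : FTree := (.node (.node (.node (.node (.node (.node (.node (.leaf 0x43) (.leaf 0x4f58)) (.node (.leaf 0x3193) (.leaf 0x69ff))) (.node (.node (.leaf 0x688) (.leaf 0x43b1)) (.node (.leaf 0x1bd1) (.leaf 0x6e99)))) (.node (.node (.node (.leaf 0x1c8f) (.leaf 0x37e4)) (.node (.leaf 0x50f7) (.leaf 0x6281))) (.node (.node (.leaf 0xab5) (.leaf 0x4c50)) (.node (.leaf 0x22b3) (.leaf 0x76af))))) (.node (.node (.node (.node (.leaf 0x1c65) (.leaf 0x3517)) (.node (.leaf 0x290b) (.leaf 0x5c74))) (.node (.node (.leaf 0x868) (.leaf 0x4896)) (.node (.leaf 0x349e) (.leaf 0x7203)))) (.node (.node (.node (.leaf 0xb4a) (.leaf 0x3dfa)) (.node (.leaf 0x1880) (.leaf 0x696d))) (.node (.node (.leaf 0x1da6) (.leaf 0x5229)) (.node (.leaf 0x2568) (.leaf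 0x0)))))) (.node (.node (.node (.node (.node (.leaf 0xb9e) (.leaf 0x2d87)) (.node (.leaf 0x10dd) (.leaf 0x58e6))) (.node (.node (.leaf 0x51eb) (.leaf 0x4569)) (.node (.leaf 0x1d3f) (.leaf 0x6f5e)))) (.node (.node (.node (.leaf 0xfc3) (.leaf 0x3bab)) (.node (.leaf 0x15eb) (.leaf 0x63f7))) (.node (.node (.leaf 0xbe3) (.leaf 0x4e9a)) (.node (.leaf 0x63b3) (.leaf 0x0))))) (.node (.node (.node (.node (.leaf 0xc26) (.leaf 0x3626)) (.node (.leaf 0x66b5) (.leaf 0x5f08))) (.node (.node (.leaf 0xb89) (.leaf 0x4a78)) (.node (.leaf 0x20ef) (.leaf 0x73bf)))) (.node (.node (.node (.leaf 0x590) (.leaf 0x40dd)) (.node (.leaf 0x19ec) (.leaf 0x6b7d))) (.node (.node (.leaf 0xe36) (.leaf 0x5561)) (.node (.leaf 0x6cf6) (.leaf 0x0))))))) (.node (.node (.node (.node (.node (.node (.leaf 0x14a) (.leaf 0x2a20)) (.node (.leaf 0x2a73) (.leaf 0x5758))) (.node (.node (.leaf 0xdfd) (.leaf 0x42e4)) (.node (.leaf 0x5050) (.leaf 0x6e5d)))) (.node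 (.node (.node (.leaf 0x13bf) (.leaf 0x3851)) (.node (.leaf 0x1a89) (.leaf 0x638a))) (.node (.node (.leaf 0x2e94) (.leaf 0x4c22)) (.node (.leaf 0x6f01) (.leaf 0x75f0))))) (.node (.node (.node (.node (.leaf 0x3d79) (.leaf 0x3157)) (.node (.leaf 0x1258) (.leaf 0x5bdb))) (.node (.node (.leaf 0x29eb) (.leaf 0x505e)) (.node (.leaf 0x350e) (.leaf 0x71d2)))) (.node (.node (.node (.leaf 0x2b56) (.leaf 0x3e0b)) (.node (.leaf 0x6346) (.leaf 0x68bc))) (.node (.node (.leaf 0xcfa) (.leaf 0x52f7)) (.node (.leaf 0x2563) (.leaf 0x0)))))) (.node (.node (.node (.node (.node (.leaf 0x35d) (.leaf 0x2f81)) (.node (.leaf 0x1e6c) (.leaf 0x5a2d))) (.node (.node (.leaf 0x738) (.leaf 0x4524)) (.node (.leaf 0x3f8d) (.leaf 0x7028)))) (.node (.node (.node (.leaf 0x428) (.leaf 0x3a3e)) (.node (.leaf 0x159f) (.leaf 0x64dc))) (.node (.node (.leaf 0x3587) (.leaf 0x5102)) (.node (.leaf 0x24e2) (.leaf 0x0))))) (.node (.node (.node (.node (.leaf 0x113a)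 (.leaf 0x3846)) (.node (.leaf 0x1363) (.leaf 0x5f57))) (.node (.node (.leaf 0x6e98) (.leaf 0x68c7)) (.node (.leaf 0x4d76) (.leaf 0x7506)))) (.node (.node (.node (.leaf 0x3617) (.leaf 0x41be)) (.node (.leaf 0x414a) (.leaf 0x6adf))) (.node (.node (.leaf 0xe94) (.leaf 0x5d12)) (.node (.leaf 0x6350) (.leaf 0x0))))))))

/-- Closure. -/
def clo101 : FTree := (.node (.node (.node (.node (.node (.node (.node (.leaf 0xd6) (.leaf 0x4fbb)) (.node (.leaf 0x5fb8) (.leaf 0x572a))) (.node (.node (.leaf 0x1157) (.leaf 0x43f7)) (.node (.leaf 0x4850) (.leaf 0x6cdc)))) (.node (.node (.node (.leaf 0x1c8d) (.leaf 0x3914)) (.node (.leaf 0x145a) (.leaf 0x63cd))) (.node (.node (.leaf 0x6d6d) (.leaf 0x4c5e)) (.node (.leaf 0x6332) (.leaf 0x7644))))) (.node (.node (.node (.node (.leaf 0x1728) (.leaf 0x33a8)) (.node (.leaf 0x12ed) (.leaf 0x5c0c))) (.node (.node (.leaf 0x6050) (.leaf 0x4c45)) (.node (.leaf 0x2192) (.leaf 0x71f3)))) (.node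 (.node (.node (.leaf 0xd34) (.leaf 0x3ea9)) (.node (.leaf 0x187c) (.leaf 0x6812))) (.node (.node (.leaf 0x10d2) (.leaf 0x522c)) (.node (.leaf 0x337a) (.leaf 0x0)))))) (.node (.node (.node (.node (.node (.leaf 0x2bd) (.leaf 0x2f96)) (.node (.leaf 0x10c7) (.leaf 0x59ee))) (.node (.node (.leaf 0x8a9) (.leaf 0x45f9)) (.node (.leaf 0x1edf) (.leaf 0x6fd5)))) (.node (.node (.node (.leaf 0x427) (.leaf 0x3a5b)) (.node (.leaf 0x33ef) (.leaf 0x64ed))) (.node (.node (.leaf 0xc2d) (.leaf 0x4f10)) (.node (.leaf 0x573d) (.leaf 0x0))))) (.node (.node (.node (.node (.leaf 0x5b0) (.leaf 0x371b)) (.node (.leaf 0x138f) (.leaf 0x609c))) (.node (.node (.leaf 0xa2e) (.leaf 0x4b1f)) (.node (.leaf 0x2176) (.leaf 0x7434)))) (.node (.node (.node (.leaf 0x5f2) (.leaf 0x404e)) (.node (.leaf 0x34d8) (.leaf 0x6aff))) (.node (.node (.leaf 0xe95) (.leaf 0x5460)) (.node (.leaf 0x3b00) (.leaf 0x0))))))) (.node (.node (.node (.node (.node (.node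 (.leaf 0x1b5) (.leaf 0x2a25)) (.node (.leaf 0x3167) (.leaf 0x5734))) (.node (.node (.leaf 0x3572) (.leaf 0x444f)) (.node (.leaf 0x1b41) (.leaf 0x6ecb)))) (.node (.node (.node (.leaf 0x3d0d) (.leaf 0x3e99)) (.node (.leaf 0x1485) (.leaf 0x63dd))) (.node (.node (.leaf 0x2716) (.leaf 0x4d1b)) (.node (.leaf 0x6193) (.leaf 0x75a6))))) (.node (.node (.node (.node (.leaf 0x8e3) (.leaf 0x34e1)) (.node (.leaf 0x3fa5) (.leaf 0x6907))) (.node (.node (.leaf 0x184a) (.leaf 0x481e)) (.node (.leaf 0x1fee) (.leaf 0x7141)))) (.node (.node (.node (.leaf 0x14c6) (.leaf 0x3f02)) (.node (.leaf 0x5cdb) (.leaf 0x66e6))) (.node (.node (.leaf 0x4092) (.leaf 0x5230)) (.node (.leaf 0x252e) (.leaf 0x0)))))) (.node (.node (.node (.node (.node (.leaf 0x2d1) (.leaf 0x2ec1)) (.node (.leaf 0x1096) (.leaf 0x597d))) (.node (.node (.leaf 0xb83) (.leaf 0x45af)) (.node (.leaf 0x4d96) (.leaf 0x6fc5)))) (.node (.node (.node (.leaf 0x48b) (.leaf 0x3aa9))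 (.node (.leaf 0x1d76) (.leaf 0x6425))) (.node (.node (.leaf 0xbde) (.leaf 0x50a0)) (.node (.leaf 0x24cb) (.leaf 0x0))))) (.node (.node (.node (.node (.leaf 0x2994) (.leaf 0x364d)) (.node (.leaf 0x3e1d) (.leaf 0x622c))) (.node (.node (.leaf 0xdd7) (.leaf 0x4ba4)) (.node (.leaf 0x3418) (.leaf 0x745b)))) (.node (.node (.node (.leaf 0x3a93) (.leaf 0x4048)) (.node (.leaf 0x5e00) (.leaf 0x6ad7))) (.node (.node (.leaf 0x30ed) (.leaf 0x53c3)) (.node (.leaf 0x4d02) (.leaf 0x0))))))))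

/-- Closure. -/
def clo102 : FTree := (.node (.node (.node (.node (.node (.node (.node (.leaf 0x68) (.leaf 0x29ee)) (.node (.leaf 0xf65) (.leaf 0x5778))) (.node (.node (.leaf 0x2ac2) (.leaf 0x43cb)) (.node (.leaf 0x1b7f) (.leaf 0x6d7c)))) (.node (.node (.node (.leaf 0x3d20) (.leaf 0x389e)) (.node (.leaf 0x1569) (.leaf 0x61f8))) (.node (.node (.leaf 0xe23) (.leaf 0x4c90)) (.node (.leaf 0x30a2) (.leaf 0x75b4))))) (.node (.node (.node (.node (.leaf 0x8dd) (.leaf 0x34d5)) (.node (.leaf 0x3ba6) (.leaf 0x5b2b))) (.node (.node (.leaf 0x174d) (.leaf 0x4977)) (.node (.leaf 0x4250) (.leaf 0x717e)))) (.node (.node (.node (.leaf 0x1178) (.leaf 0x3df5)) (.node (.leaf 0x1838) (.leaf 0x6938))) (.node (.node (.leaf 0x10e6) (.leaf 0x5196)) (.node (.leaf 0x25e0) (.leaf 0x0)))))) (.node (.node (.node (.node (.node (.leaf 0x304) (.leaf 0x2e8e)) (.node (.leaf 0x1250) (.leaf 0x597a))) (.node (.node (.leaf 0x384a) (.leaf 0x470e)) (.node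 (.leaf 0x3faf) (.leaf 0x6fec)))) (.node (.node (.node (.leaf 0x3a21) (.leaf 0x3aad)) (.node (.leaf 0x169e) (.leaf 0x642d))) (.node (.node (.leaf 0x4aa0) (.leaf 0x4f16)) (.node (.leaf 0x2468) (.leaf 0x0))))) (.node (.node (.node (.node (.leaf 0x5433) (.leaf 0x3631)) (.node (.leaf 0x1368) (.leaf 0x5f5c))) (.node (.node (.leaf 0xa9e) (.leaf 0x4a59)) (.node (.leaf 0x20dd) (.leaf 0x73c8)))) (.node (.node (.node (.leaf 0x10fe) (.leaf 0x4102)) (.node (.leaf 0x19f8) (.leaf 0x6aab))) (.node (.node (.leaf 0x5aeb) (.leaf 0x54ed)) (.node (.leaf 0x2785) (.leaf 0x0))))))) (.node (.node (.node (.node (.node (.node (.leaf 0x1ae) (.leaf 0x2c80)) (.node (.leaf 0xf53) (.leaf 0x5731))) (.node (.node (.leaf 0x1f27) (.leaf 0x50c6)) (.node (.leaf 0x1bb2) (.leaf 0x6e4e)))) (.node (.node (.node (.leaf 0x838) (.leaf 0x3897)) (.node (.leaf 0x1a8b) (.leaf 0x62c3))) (.node (.node (.leaf 0x54dd) (.leaf 0x4df5)) (.node (.leaf 0x6f06) (.leaf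 0x762d))))) (.node (.node (.node (.node (.leaf 0x447) (.leaf 0x4e5b)) (.node (.leaf 0x11f6) (.leaf 0x5c7d))) (.node (.node (.leaf 0x8a6) (.leaf 0x4954)) (.node (.leaf 0x2042) (.leaf 0x719d)))) (.node (.node (.node (.leaf 0x2eca) (.leaf 0x3f76)) (.node (.leaf 0x3272) (.leaf 0x6956))) (.node (.node (.leaf 0xd12) (.leaf 0x52c3)) (.node (.leaf 0x4479) (.leaf 0x0)))))) (.node (.node (.node (.node (.node (.leaf 0x775) (.leaf 0x2dd8)) (.node (.leaf 0x103b) (.leaf 0x5a80))) (.node (.node (.leaf 0x1083) (.leaf 0x460d)) (.node (.leaf 0x1df9) (.leaf 0x70f4)))) (.node (.node (.node (.leaf 0x6493) (.leaf 0x3ffc)) (.node (.leaf 0x1690) (.leaf 0x65ac))) (.node (.node (.leaf 0x306a) (.leaf 0x679e)) (.node (.leaf 0x5422) (.leaf 0x0))))) (.node (.node (.node (.node (.leaf 0x4ece) (.leaf 0x3661)) (.node (.leaf 0x1342) (.leaf 0x5f5a))) (.node (.node (.leaf 0x5e62) (.leaf 0x68a2)) (.node (.leaf 0x480a) (.leaf 0x7515)))) (.node (.node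 (.node (.leaf 0x114a) (.leaf 0x4072)) (.node (.leaf 0x1e8d) (.leaf 0x6bcd))) (.node (.node (.leaf 0xe74) (.leaf 0x55da)) (.node (.leaf 0x32c0) (.leaf 0x0))))))))

/-- Closure. -/
def clo103 : FTree := (.node (.node (.node (.node (.node (.node (.node (.leaf 0x112) (.leaf 0x3b2e)) (.node (.leaf 0xf52) (.leaf 0x56d4))) (.node (.node (.leaf 0x347a) (.leaf 0x4406)) (.node (.leaf 0x1aab) (.leaf 0x6d4c)))) (.node (.node (.node (.leaf 0x82c) (.leaf 0x3944)) (.node (.leaf 0x4d56) (.leaf 0x63ac))) (.node (.node (.leaf 0xce3) (.leaf 0x4d2f)) (.node (.leaf 0x41d4) (.leaf 0x76e5))))) (.node (.node (.node (.node (.leaf 0x291) (.leaf 0x65a5)) (.node (.leaf 0x11e9) (.leaf 0x5c29))) (.node (.node (.leaf 0x899) (.leaf 0x4a7e)) (.node (.leaf 0x2045) (.leaf 0x72f3)))) (.node (.node (.node (.leaf 0xcee) (.leaf 0x3dd2)) (.node (.leaf 0x339b) (.leaf 0x66cf))) (.node (.node (.leaf 0x582c) (.leaf 0x51ca)) (.node (.leaf 0x276b) (.leaf 0x0))))))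 (.node (.node (.node (.node (.node (.leaf 0x793) (.leaf 0x2db8)) (.node (.leaf 0xfc8) (.leaf 0x5904))) (.node (.node (.leaf 0x409c) (.leaf 0x472d)) (.node (.leaf 0x2385) (.leaf 0x710b)))) (.node (.node (.node (.leaf 0x49a) (.leaf 0x3a17)) (.node (.leaf 0x413a) (.leaf 0x659c))) (.node (.node (.leaf 0x3063) (.leaf 0x4f48)) (.node (.leaf 0x24b5) (.leaf 0x0))))) (.node (.node (.node (.node (.leaf 0x4faf) (.leaf 0x3847)) (.node (.leaf 0x1405) (.leaf 0x5fc9))) (.node (.node (.leaf 0x34c5) (.leaf 0x689f)) (.node (.leaf 0x4130) (.leaf 0x748b)))) (.node (.node (.node (.leaf 0x2a45) (.leaf 0x41c2)) (.node (.leaf 0x585c) (.leaf 0x730d))) (.node (.node (.leaf 0xe08) (.leaf 0x549a)) (.node (.leaf 0x40d9) (.leaf 0x0))))))) (.node (.node (.node (.node (.node (.node (.leaf 0x1fb) (.leaf 0x2cd8)) (.node (.leaf 0x5d89) (.leaf 0x583f))) (.node (.node (.leaf 0xd7c) (.leaf 0x4309)) (.node (.leaf 0x57bf) (.leaf 0x6e1f)))) (.node (.node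 (.node (.leaf 0x3cda) (.leaf 0x3939)) (.node (.leaf 0x146c) (.leaf 0x6221))) (.node (.node (.leaf 0xa5a) (.leaf 0x4d6f)) (.node (.leaf 0x6e48) (.leaf 0x7675))))) (.node (.node (.node (.node (.leaf 0x2259) (.leaf 0x325c)) (.node (.leaf 0x1134) (.leaf 0x5cd5))) (.node (.node (.leaf 0x5e74) (.leaf 0x482c)) (.node (.leaf 0x1fdb) (.leaf 0x71e4)))) (.node (.node (.node (.leaf 0x3000) (.leaf 0x3f39)) (.node (.leaf 0x1b2f) (.leaf 0x671d))) (.node (.node (.leaf 0x2f23) (.leaf 0x5293)) (.node (.leaf 0x571f) (.leaf 0x0)))))) (.node (.node (.node (.node (.node (.leaf 0x22d) (.leaf 0x5565)) (.node (.leaf 0x186b) (.leaf 0x58c7))) (.node (.node (.leaf 0x4f20) (.leaf 0x453d)) (.node (.leaf 0x2807) (.leaf 0x7092)))) (.node (.node (.node (.leaf 0x30ae) (.leaf 0x3b7c)) (.node (.leaf 0x160f) (.leaf 0x6523))) (.node (.node (.leaf 0x3041) (.leaf 0x4e99)) (.node (.leaf 0x2425) (.leaf 0x0))))) (.node (.node (.node (.node (.leaf 0x1763)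 (.leaf 0x3604)) (.node (.leaf 0x3e54) (.leaf 0x5fdc))) (.node (.node (.leaf 0x921) (.leaf 0x4bd4)) (.node (.leaf 0x20b9) (.leaf 0x734d)))) (.node (.node (.node (.leaf 0x5a7) (.leaf 0x4002)) (.node (.leaf 0x1907) (.leaf 0x6b10))) (.node (.node (.leaf 0xec3) (.leaf 0x5582)) (.node (.leaf 0x27cd) (.leaf 0x0))))))))

/-- Closure. -/
def clo104 : FTree := (.node (.node (.node (.node (.node (.node (.node (.leaf 0x1f) (.leaf 0x5b82)) (.node (.leaf 0x10b2) (.leaf 0x5796))) (.node (.node (.leaf 0x9ce) (.leaf 0x50c3)) (.node (.leaf 0x1ac6) (.leaf 0x6cd7)))) (.node (.node (.node (.leaf 0x1710) (.leaf 0x38cf)) (.node (.leaf 0x14e7) (.leaf 0x61ac))) (.node (.node (.leaf 0x2c6c) (.leaf 0x4de6)) (.node (.leaf 0x41d8) (.leaf 0x769b))))) (.node (.node (.node (.node (.leaf 0x3a6) (.leaf 0x38d2)) (.node (.leaf 0x1180) (.leaf 0x5e88))) (.node (.node (.leaf 0x1f30) (.leaf 0x4836)) (.node (.leaf 0x204d) (.leaf 0x72b2)))) (.node (.node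 (.node (.leaf 0x38f8) (.leaf 0x3eb1)) (.node (.leaf 0x1789) (.leaf 0x682d))) (.node (.node (.leaf 0x1fc7) (.leaf 0x531f)) (.node (.leaf 0x25f5) (.leaf 0x0)))))) (.node (.node (.node (.node (.node (.leaf 0x777) (.leaf 0x2d95)) (.node (.leaf 0x127b) (.leaf 0x598d))) (.node (.node (.leaf 0x1063) (.leaf 0x45d3)) (.node (.leaf 0x4155) (.leaf 0x6fe9)))) (.node (.node (.node (.leaf 0x6a22) (.leaf 0x3b0a)) (.node (.leaf 0x169f) (.leaf 0x64f2))) (.node (.node (.leaf 0x644f) (.leaf 0x62b3)) (.node (.leaf 0x5424) (.leaf 0x0))))) (.node (.node (.node (.node (.leaf 0x41e) (.leaf 0x3643)) (.node (.leaf 0x30d3) (.leaf 0x6015))) (.node (.node (.leaf 0x5bfd) (.leaf 0x4a6f)) (.node (.leaf 0x20f3) (.leaf 0x73a2)))) (.node (.node (.node (.leaf 0x2cbf) (.leaf 0x551b)) (.node (.leaf 0x19d5) (.leaf 0x6a41))) (.node (.node (.leaf 0x5b77) (.leaf 0x6389)) (.node (.leaf 0x28cf) (.leaf 0x0))))))) (.node (.node (.node (.node (.node (.node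 (.leaf 0x113) (.leaf 0x2a30)) (.node (.leaf 0x3198) (.leaf 0x57d6))) (.node (.node (.leaf 0x9cb) (.leaf 0x42dc)) (.node (.leaf 0x1a38) (.leaf 0x6c50)))) (.node (.node (.node (.leaf 0x839) (.leaf 0x37a8)) (.node (.leaf 0x3457) (.leaf 0x634b))) (.node (.node (.leaf 0xaad) (.leaf 0x4e2d)) (.node (.leaf 0x54d0) (.leaf 0x761a))))) (.node (.node (.node (.node (.leaf 0x57f) (.leaf 0x322d)) (.node (.leaf 0x20db) (.leaf 0x5c77))) (.node (.node (.leaf 0x2347) (.leaf 0x49b3)) (.node (.leaf 0x1f94) (.leaf 0x713c)))) (.node (.node (.node (.leaf 0x6e0) (.leaf 0x3ee0)) (.node (.leaf 0x3387) (.leaf 0x68d3))) (.node (.node (.leaf 0xd22) (.leaf 0x52df)) (.node (.leaf 0x3559) (.leaf 0x0)))))) (.node (.node (.node (.node (.node (.leaf 0xbaa) (.leaf 0x2f1d)) (.node (.leaf 0x10dc) (.leaf 0x5a94))) (.node (.node (.leaf 0xffe) (.leaf 0x46aa)) (.node (.leaf 0x2371) (.leaf 0x70bc)))) (.node (.node (.node (.leaf 0x26ef) (.leaf 0x3b36)) (.node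 (.leaf 0x3c9f) (.leaf 0x65e2))) (.node (.node (.leaf 0xc7e) (.leaf 0x500e)) (.node (.leaf 0x233a) (.leaf 0x0))))) (.node (.node (.node (.node (.leaf 0x2fc5) (.leaf 0x36f7)) (.node (.leaf 0x1343) (.leaf 0x60e6))) (.node (.node (.leaf 0x4178) (.leaf 0x4b67)) (.node (.leaf 0x2221) (.leaf 0x73dd)))) (.node (.node (.node (.leaf 0x5e4) (.leaf 0x41f6)) (.node (.leaf 0x194d) (.leaf 0x6a86))) (.node (.node (.leaf 0x33a7) (.leaf 0x548e)) (.node (.leaf 0x5b7e) (.leaf 0x0))))))))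

/-- Closure. -/
def clo105 : FTree := (.node (.node (.node (.node (.node (.node (.node (.leaf 0xcc) (.leaf 0x2b47)) (.node (.leaf 0x10bb) (.leaf 0x69db))) (.node (.node (.leaf 0xe27) (.leaf 0x439a)) (.node (.leaf 0x2878) (.leaf 0x6ef2)))) (.node (.node (.node (.leaf 0x1717) (.leaf 0x4c49)) (.node (.leaf 0x147e) (.leaf 0x634c))) (.node (.node (.leaf 0x330c) (.leaf 0x4e26)) (.node (.leaf 0x53d3) (.leaf 0x76a4))))) (.node (.node (.node (.node (.leaf 0x2d2e) (.leaf 0x3282)) (.node (.leaf 0x2800) (.leaf 0x5e61))) (.node (.node (.leaf 0x258d) (.leaf 0x4785)) (.node (.leaf 0x2013) (.leaf 0x71a3)))) (.node (.node (.node (.leaf 0xa50) (.leaf 0x3f08)) (.node (.leaf 0x2041) (.leaf 0x696f))) (.node (.node (.leaf 0x2834) (.leaf 0x5318)) (.node (.leaf 0x3544) (.leaf 0x0)))))) (.node (.node (.node (.node (.node (.leaf 0x792) (.leaf 0x2d4d)) (.node (.leaf 0x43a5) (.leaf 0x58ab))) (.node (.node (.leaf 0x9d1) (.leaf 0x4542)) (.node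 (.leaf 0x4ec1) (.leaf 0x7098)))) (.node (.node (.node (.leaf 0x30a9) (.leaf 0x4281)) (.node (.leaf 0x3e6d) (.leaf 0x65c7))) (.node (.node (.leaf 0xc3e) (.leaf 0x5ffe)) (.node (.leaf 0x28d9) (.leaf 0x0))))) (.node (.node (.node (.node (.leaf 0x313c) (.leaf 0x37d4)) (.node (.leaf 0x5bf1) (.leaf 0x6079))) (.node (.node (.leaf 0x1098) (.leaf 0x4a01)) (.node (.leaf 0x233e) (.leaf 0x74c7)))) (.node (.node (.node (.leaf 0x29c8) (.leaf 0x4294)) (.node (.leaf 0x19a2) (.leaf 0x6a1c))) (.node (.node (.leaf 0x6261) (.leaf 0x55fd)) (.node (.leaf 0x28a6) (.leaf 0x0))))))) (.node (.node (.node (.node (.node (.node (.leaf 0x1d1) (.leaf 0x2b7d)) (.node (.leaf 0xf09) (.leaf 0x5783))) (.node (.node (.leaf 0x697) (.leaf 0x4307)) (.node (.leaf 0x55c3) (.leaf 0x6c4f)))) (.node (.node (.node (.leaf 0x374) (.leaf 0x3775)) (.node (.leaf 0x18aa) (.leaf 0x6ea5))) (.node (.node (.leaf 0xac2) (.leaf 0x4cf1)) (.node (.leaf 0x2288) (.leaf 0x75c4)))))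 (.node (.node (.node (.node (.leaf 0x7ea) (.leaf 0x30b7)) (.node (.leaf 0x2464) (.leaf 0x5c56))) (.node (.node (.leaf 0x86a) (.leaf 0x476b)) (.node (.leaf 0x1fdf) (.leaf 0x7207)))) (.node (.node (.node (.leaf 0x26ae) (.leaf 0x3f79)) (.node (.leaf 0x236a) (.leaf 0x69f9))) (.node (.node (.leaf 0xcc5) (.leaf 0x5138)) (.node (.leaf 0x3377) (.leaf 0x0)))))) (.node (.node (.node (.node (.node (.leaf 0x1ff) (.leaf 0x2cd7)) (.node (.leaf 0x421c) (.leaf 0x58fa))) (.node (.node (.leaf 0x6f8) (.leaf 0x46f3)) (.node (.leaf 0x1ce3) (.leaf 0x6f48)))) (.node (.node (.node (.leaf 0x2a51) (.leaf 0x3e5e)) (.node (.leaf 0x33ea) (.leaf 0x65ce))) (.node (.node (.leaf 0xc44) (.leaf 0x4f41)) (.node (.leaf 0x248b) (.leaf 0x0))))) (.node (.node (.node (.node (.leaf 0x3a1) (.leaf 0x374b)) (.node (.leaf 0x2f01) (.leaf 0x5f26))) (.node (.node (.leaf 0x8c8) (.leaf 0x4a4e)) (.node (.leaf 0x2157) (.leaf 0x7471)))) (.node (.node (.node (.leaf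 0xbea) (.leaf 0x427b)) (.node (.leaf 0x18c7) (.leaf 0x6aa9))) (.node (.node (.leaf 0x34c0) (.leaf 0x5523)) (.node (.leaf 0x26e1) (.leaf 0x0))))))))

/-- Closure. -/
def clo106 : FTree := (.node (.node (.node (.node (.node (.node (.node (.leaf 0x5f) (.leaf 0x29cf)) (.node (.leaf 0xf61) (.leaf 0x5685))) (.node (.node (.leaf 0x31c1) (.leaf 0x4353)) (.node (.leaf 0x31ac) (.leaf 0x6ef6)))) (.node (.node (.node (.leaf 0x396) (.leaf 0x38e5)) (.node (.leaf 0x1468) (.leaf 0x620d))) (.node (.node (.leaf 0xb95) (.leaf 0x4c3c)) (.node (.leaf 0x2ae9) (.leaf 0x75e0))))) (.node (.node (.node (.node (.leaf 0x21e2) (.leaf 0x314d)) (.node (.leaf 0x3f95) (.leaf 0x5b41))) (.node (.node (.leaf 0x4207) (.leaf 0x4974)) (.node (.leaf 0x2067) (.leaf 0x7215)))) (.node (.node (.node (.leaf 0x11c7) (.leaf 0x3f77)) (.node (.leaf 0x1800) (.leaf 0x6e31))) (.node (.node (.leaf 0x10d1) (.leaf 0x52bc)) (.node (.leaf 0x5ddc) (.leaf 0x0)))))) (.node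 (.node (.node (.node (.node (.leaf 0x769) (.leaf 0x2d85)) (.node (.leaf 0x104f) (.leaf 0x58e3))) (.node (.node (.leaf 0x2e60) (.leaf 0x45fd)) (.node (.leaf 0x1d02) (.leaf 0x6fd6)))) (.node (.node (.node (.leaf 0x17bb) (.leaf 0x3a98)) (.node (.leaf 0x1979) (.leaf 0x67f3))) (.node (.node (.leaf 0xc72) (.leaf 0x4fb7)) (.node (.leaf 0x24aa) (.leaf 0x0))))) (.node (.node (.node (.node (.leaf 0xd9c) (.leaf 0x366e)) (.node (.leaf 0x1380) (.leaf 0x60fa))) (.node (.node (.leaf 0x995) (.leaf 0x4bf9)) (.node (.leaf 0x2162) (.leaf 0x7397)))) (.node (.node (.node (.leaf 0xd65) (.leaf 0x40cf)) (.node (.leaf 0x1a01) (.leaf 0x6a6f))) (.node (.node (.leaf 0xe67) (.leaf 0x5560)) (.node (.leaf 0x44c3) (.leaf 0x0))))))) (.node (.node (.node (.node (.node (.node (.leaf 0x1b9) (.leaf 0x2c94)) (.node (.leaf 0x12c5) (.leaf 0x5d7e))) (.node (.node (.leaf 0x3479) (.leaf 0x4384)) (.node (.leaf 0x428a) (.leaf 0x6db2)))) (.node (.node (.node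 (.leaf 0x4681) (.leaf 0x5c9a)) (.node (.leaf 0x1492) (.leaf 0x63a8))) (.node (.node (.leaf 0x2b26) (.leaf 0x5ed3)) (.node (.leaf 0x6192) (.leaf 0x765d))))) (.node (.node (.node (.node (.leaf 0x870) (.leaf 0x3210)) (.node (.leaf 0x1291) (.leaf 0x5c2e))) (.node (.node (.leaf 0x1844) (.leaf 0x477e)) (.node (.leaf 0x552b) (.leaf 0x71db)))) (.node (.node (.node (.leaf 0x2e76) (.leaf 0x3f68)) (.node (.leaf 0x5514) (.leaf 0x69c7))) (.node (.node (.leaf 0x2f25) (.leaf 0x5641)) (.node (.leaf 0x25d6) (.leaf 0x0)))))) (.node (.node (.node (.node (.node (.leaf 0x27d) (.leaf 0x2cfd)) (.node (.leaf 0x50ab) (.leaf 0x58d5))) (.node (.node (.leaf 0x2b9f) (.leaf 0x454a)) (.node (.leaf 0x438d) (.leaf 0x6f6e)))) (.node (.node (.node (.leaf 0x3d7) (.leaf 0x41ed)) (.node (.leaf 0x1d66) (.leaf 0x6471))) (.node (.node (.leaf 0xbdb) (.leaf 0x4edb)) (.node (.leaf 0x2488) (.leaf 0x0))))) (.node (.node (.node (.node (.leaf 0x3570) (.leaf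 0x35c6)) (.node (.leaf 0x278a) (.leaf 0x604c))) (.node (.node (.leaf 0x3294) (.leaf 0x4a19)) (.node (.leaf 0x21b0) (.leaf 0x7484)))) (.node (.node (.node (.leaf 0x4fa7) (.leaf 0x4223)) (.node (.leaf 0x18e7) (.leaf 0x6b52))) (.node (.node (.leaf 0x3771) (.leaf 0x54b4)) (.node (.leaf 0x2827) (.leaf 0x0))))))))

/-- Closure. -/
def clo107 : FTree := (.node (.node (.node (.node (.node (.node (.node (.leaf 0xbe) (.leaf 0x35a0)) (.node (.leaf 0xf4f) (.leaf 0x56de))) (.node (.node (.leaf 0xdd1) (.leaf 0x652e)) (.node (.leaf 0x1a74) (.leaf 0x6efa)))) (.node (.node (.node (.leaf 0x54e) (.leaf 0x38ed)) (.node (.leaf 0x155c) (.leaf 0x6b56))) (.node (.node (.leaf 0x2c7e) (.leaf 0x4d68)) (.node (.leaf 0x2ae4) (.leaf 0x75a9))))) (.node (.node (.node (.node (.leaf 0x854) (.leaf 0x4fe4)) (.node (.leaf 0x38af) (.leaf 0x5b66))) (.node (.node (.leaf 0x8a3) (.leaf 0x48cf)) (.node (.leaf 0x5647) (.leaf 0x71d9)))) (.node (.node (.node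 (.leaf 0x20b6) (.leaf 0x3fb6)) (.node (.leaf 0x5b70) (.leaf 0x66d6))) (.node (.node (.leaf 0x336f) (.leaf 0x5270)) (.node (.leaf 0x265d) (.leaf 0x0)))))) (.node (.node (.node (.node (.node (.leaf 0x767) (.leaf 0x5795)) (.node (.leaf 0x1090) (.leaf 0x59a7))) (.node (.node (.leaf 0x40ac) (.leaf 0x4557)) (.node (.leaf 0x1db0) (.leaf 0x7018)))) (.node (.node (.node (.leaf 0x272d) (.leaf 0x3b03)) (.node (.leaf 0x15d6) (.leaf 0x6d9a))) (.node (.node (.leaf 0x3066) (.leaf 0x500d)) (.node (.leaf 0x402a) (.leaf 0x0))))) (.node (.node (.node (.node (.leaf 0x4ed3) (.leaf 0x641f)) (.node (.leaf 0x2b0b) (.leaf 0x608d))) (.node (.node (.leaf 0x99c) (.leaf 0x4bbb)) (.node (.leaf 0x2c2d) (.leaf 0x73d0)))) (.node (.node (.node (.leaf 0xada) (.leaf 0x493d)) (.node (.leaf 0x1983) (.leaf 0x6c0f))) (.node (.node (.leaf 0x119d) (.leaf 0x55e1)) (.node (.leaf 0x47c6) (.leaf 0x0))))))) (.node (.node (.node (.node (.node (.node (.leaf 0x1df)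 (.leaf 0x2c95)) (.node (.leaf 0x19e6) (.leaf 0x5e96))) (.node (.node (.leaf 0x5b97) (.leaf 0x43be)) (.node (.leaf 0x557f) (.leaf 0x6d77)))) (.node (.node (.node (.leaf 0x3d10) (.leaf 0x3957)) (.node (.leaf 0x18b6) (.leaf 0x63d0))) (.node (.node (.leaf 0xb9a) (.leaf 0x5ed1)) (.node (.leaf 0x22f7) (.leaf 0x770a))))) (.node (.node (.node (.node (.leaf 0x2d41) (.leaf 0x3326)) (.node (.leaf 0x4d2a) (.leaf 0x5cb7))) (.node (.node (.leaf 0x420a) (.leaf 0x493f)) (.node (.leaf 0x1f53) (.leaf 0x71d3)))) (.node (.node (.node (.leaf 0x99a) (.leaf 0x3f6f)) (.node (.leaf 0x1820) (.leaf 0x6717))) (.node (.node (.leaf 0x2f27) (.leaf 0x5243)) (.node (.leaf 0x264e) (.leaf 0x0)))))) (.node (.node (.node (.node (.node (.leaf 0x4d0) (.leaf 0x2f41)) (.node (.leaf 0x2890) (.leaf 0x5a11))) (.node (.node (.leaf 0x732) (.leaf 0x46c1)) (.node (.leaf 0x26e0) (.leaf 0x6fe6)))) (.node (.node (.node (.leaf 0x689) (.leaf 0x3cbd)) (.node (.leaf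 0x164b) (.leaf 0x64ee))) (.node (.node (.leaf 0xc69) (.leaf 0x5fef)) (.node (.leaf 0x24be) (.leaf 0x0))))) (.node (.node (.node (.node (.leaf 0x2feb) (.leaf 0x3704)) (.node (.leaf 0x3e51) (.leaf 0x605d))) (.node (.node (.leaf 0x1bc2) (.leaf 0x4af9)) (.node (.leaf 0x2243) (.leaf 0x749c)))) (.node (.node (.node (.leaf 0xb25) (.leaf 0x4211)) (.node (.leaf 0x6ca7) (.leaf 0x6b17))) (.node (.node (.leaf 0x5bb6) (.leaf 0x5377)) (.node (.leaf 0x2847) (.leaf 0x0))))))))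

/-- Closure. -/
def clo108 : FTree := (.node (.node (.node (.node (.node (.node (.node (.leaf 0x53) (.leaf 0x2b09)) (.node (.leaf 0xf7f) (.leaf 0x6a04))) (.node (.node (.leaf 0x5374) (.leaf 0x435f)) (.node (.leaf 0x3441) (.leaf 0x6d85)))) (.node (.node (.node (.leaf 0x1ca9) (.leaf 0x3874)) (.node (.leaf 0x14df) (.leaf 0x61c0))) (.node (.node (.leaf 0x3149) (.leaf 0x4c7c)) (.node (.leaf 0x2aeb) (.leaf 0x75a2))))) (.node (.node (.node (.node (.leaf 0x65c) (.leaf 0x335c)) (.node (.leaf 0x1195) (.leaf 0x5bc6))) (.node (.node (.leaf 0x1ba8) (.leaf 0x4812)) (.node (.leaf 0x1faa) (.leaf 0x72d4)))) (.node (.node (.node (.leaf 0x14cf) (.leaf 0x3e06)) (.node (.leaf 0x2040) (.leaf 0x6989))) (.node (.node (.leaf 0x2a14) (.leaf 0x5235)) (.node (.leaf 0x253d) (.leaf 0x0)))))) (.node (.node (.node (.node (.node (.leaf 0xee0) (.leaf 0x417d)) (.node (.leaf 0x1553) (.leaf 0x596b))) (.node (.node (.leaf 0x6667) (.leaf 0x46d9)) (.node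 (.leaf 0x1ecc) (.leaf 0x70ac)))) (.node (.node (.node (.leaf 0x405b) (.leaf 0x4068)) (.node (.leaf 0x16d9) (.leaf 0x65f9))) (.node (.node (.leaf 0x3070) (.leaf 0x4fd4)) (.node (.leaf 0x4504) (.leaf 0x0))))) (.node (.node (.node (.node (.leaf 0x463) (.leaf 0x59dd)) (.node (.leaf 0x2788) (.leaf 0x6038))) (.node (.node (.leaf 0x2be1) (.leaf 0x4ae1)) (.node (.leaf 0x3daf) (.leaf 0x741e)))) (.node (.node (.node (.leaf 0x9b7) (.leaf 0x499d)) (.node (.leaf 0x19e0) (.leaf 0x6b7c))) (.node (.node (.leaf 0x1bc5) (.leaf 0x5520)) (.node (.leaf 0x2886) (.leaf 0x0))))))) (.node (.node (.node (.node (.node (.node (.leaf 0x130) (.leaf 0x296e)) (.node (.leaf 0x10c0) (.leaf 0x6a02))) (.node (.node (.leaf 0x984) (.leaf 0x440e)) (.node (.leaf 0x1b6a) (.leaf 0x6dc6)))) (.node (.node (.node (.leaf 0x38a) (.leaf 0x3938)) (.node (.leaf 0x149d) (.leaf 0x638d))) (.node (.node (.leaf 0x31f6) (.leaf 0x4c63)) (.node (.leaf 0x2ce3) (.leaf 0x7531)))))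 (.node (.node (.node (.node (.leaf 0xa89) (.leaf 0x5807)) (.node (.leaf 0x1232) (.leaf 0x5bc8))) (.node (.node (.leaf 0x46be) (.leaf 0x4981)) (.node (.leaf 0x350b) (.leaf 0x71c8)))) (.node (.node (.node (.leaf 0x1067) (.leaf 0x3cde)) (.node (.leaf 0x17ea) (.leaf 0x69fc))) (.node (.node (.leaf 0x1e81) (.leaf 0x5153)) (.node (.leaf 0x28a3) (.leaf 0x0)))))) (.node (.node (.node (.node (.node (.leaf 0x7a3) (.leaf 0x2f44)) (.node (.leaf 0x129f) (.leaf 0x5918))) (.node (.node (.leaf 0x4f42) (.leaf 0x46d7)) (.node (.leaf 0x1db8) (.leaf 0x70cb)))) (.node (.node (.node (.leaf 0xfe8) (.leaf 0x3bc0)) (.node (.leaf 0x16b7) (.leaf 0x6852))) (.node (.node (.leaf 0xca1) (.leaf 0x4f3f)) (.node (.leaf 0x3c41) (.leaf 0x0))))) (.node (.node (.node (.node (.leaf 0xb92) (.leaf 0x3aae)) (.node (.leaf 0x26f8) (.leaf 0x60d0))) (.node (.node (.leaf 0x1ddc) (.leaf 0x4bf3)) (.node (.leaf 0x3cbf) (.leaf 0x747e)))) (.node (.node (.node (.leaf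 0x3227) (.leaf 0x4286)) (.node (.leaf 0x18e8) (.leaf 0x6b0f))) (.node (.node (.leaf 0x2b9c) (.leaf 0x54ac)) (.node (.leaf 0x28ee) (.leaf 0x0))))))))

/-- Closure. -/
def clo109 : FTree := (.node (.node (.node (.node (.node (.node (.node (.leaf 0xbf) (.leaf 0x390f)) (.node (.leaf 0x31dd) (.leaf 0x584c))) (.node (.node (.leaf 0x4080) (.leaf 0x4492)) (.node (.leaf 0x1a5a) (.leaf 0x6dbb)))) (.node (.node (.node (.leaf 0x542) (.leaf 0x397e)) (.node (.leaf 0x1536) (.leaf 0x6265))) (.node (.node (.leaf 0xabe) (.leaf 0x69f7)) (.node (.leaf 0x588a) (.leaf 0x7610))))) (.node (.node (.node (.node (.leaf 0x3e4) (.leaf 0x34c3)) (.node (.leaf 0x6d33) (.leaf 0x5e82))) (.node (.node (.leaf 0x12aa) (.leaf 0x4944)) (.node (.leaf 0x424b) (.leaf 0x71e2)))) (.node (.node (.node (.leaf 0x9bc) (.leaf 0x3cf2)) (.node (.leaf 0x5ab4) (.leaf 0x6868))) (.node (.node (.leaf 0x31a4) (.leaf 0x5218)) (.node (.leaf 0x571e) (.leaf 0x0)))))) (.node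 (.node (.node (.node (.node (.leaf 0x77c) (.leaf 0x2ebf)) (.node (.leaf 0x1112) (.leaf 0x5a98))) (.node (.node (.leaf 0xe57) (.leaf 0x44ce)) (.node (.leaf 0x1d2c) (.leaf 0x7006)))) (.node (.node (.node (.leaf 0xd90) (.leaf 0x3bdc)) (.node (.leaf 0x16be) (.leaf 0x6678))) (.node (.node (.leaf 0x29b3) (.leaf 0x4eca)) (.node (.leaf 0x2449) (.leaf 0x0))))) (.node (.node (.node (.node (.leaf 0x1127) (.leaf 0x3657)) (.node (.leaf 0x1396) (.leaf 0x5ff5))) (.node (.node (.leaf 0xa1a) (.leaf 0x4bda)) (.node (.leaf 0x33c5) (.leaf 0x73f3)))) (.node (.node (.node (.leaf 0x23ee) (.leaf 0x41bb)) (.node (.leaf 0x1938) (.leaf 0x6b15))) (.node (.node (.leaf 0x63ae) (.leaf 0x57d8)) (.node (.leaf 0x271c) (.leaf 0x0))))))) (.node (.node (.node (.node (.node (.node (.leaf 0x1d9) (.leaf 0x2c6e)) (.node (.leaf 0xf5c) (.leaf 0x569a))) (.node (.node (.leaf 0x5c71) (.leaf 0x4385)) (.node (.leaf 0x1e93) (.leaf 0x6e30)))) (.node (.node (.node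 (.leaf 0x841) (.leaf 0x3947)) (.node (.leaf 0x14d2) (.leaf 0x6b21))) (.node (.node (.leaf 0x2900) (.leaf 0x4cbe)) (.node (.leaf 0x6738) (.leaf 0x7583))))) (.node (.node (.node (.node (.leaf 0x3dc) (.leaf 0x4baa)) (.node (.leaf 0x193d) (.leaf 0x5cba))) (.node (.node (.leaf 0x880) (.leaf 0x4959)) (.node (.leaf 0x208b) (.leaf 0x7311)))) (.node (.node (.node (.leaf 0x8db) (.leaf 0x3d07)) (.node (.leaf 0x176c) (.leaf 0x670b))) (.node (.node (.leaf 0xe47) (.leaf 0x529a)) (.node (.leaf 0x262d) (.leaf 0x0)))))) (.node (.node (.node (.node (.node (.leaf 0x786) (.leaf 0x6157)) (.node (.leaf 0x341b) (.leaf 0x5aa0))) (.node (.node (.leaf 0x9b3) (.leaf 0x4537)) (.node (.leaf 0x5d04) (.leaf 0x7085)))) (.node (.node (.node (.leaf 0x3619) (.leaf 0x3c99)) (.node (.leaf 0x34b5) (.leaf 0x6484))) (.node (.node (.leaf 0x3080) (.leaf 0x507b)) (.node (.leaf 0x2495) (.leaf 0x0))))) (.node (.node (.node (.node (.leaf 0x409) (.leaf 0x35fc))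 (.node (.leaf 0x30c7) (.leaf 0x5f3b))) (.node (.node (.leaf 0x9af) (.leaf 0x4b52)) (.node (.leaf 0x21b6) (.leaf 0x734c)))) (.node (.node (.node (.leaf 0x5c8) (.leaf 0x41fd)) (.node (.leaf 0x5aa9) (.leaf 0x6b36))) (.node (.node (.leaf 0x3960) (.leaf 0x6335)) (.node (.leaf 0x27be) (.leaf 0x0))))))))

/-- Closure. -/
def clo110 : FTree := (.node (.node (.node (.node (.node (.node (.node (.leaf 0x92) (.leaf 0x2b2d)) (.node (.leaf 0xf4e) (.leaf 0x5665))) (.node (.node (.leaf 0xe2e) (.leaf 0x43a1)) (.node (.leaf 0x2230) (.leaf 0x6cec)))) (.node (.node (.node (.leaf 0x391) (.leaf 0x3818)) (.node (.leaf 0x39bd) (.leaf 0x6284))) (.node (.node (.leaf 0xa47) (.leaf 0x4d62)) (.node (.leaf 0x2ae0) (.leaf 0x7630))))) (.node (.node (.node (.node (.leaf 0x442) (.leaf 0x3250)) (.node (.leaf 0x12eb) (.leaf 0x5b7a))) (.node (.node (.leaf 0x1d06) (.leaf 0x478e)) (.node (.leaf 0x2f55) (.leaf 0x72cc)))) (.node (.node (.node (.leaf 0x677)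 (.leaf 0x3ea3)) (.node (.leaf 0x26a1) (.leaf 0x66bd))) (.node (.node (.leaf 0x65d8) (.leaf 0x51a1)) (.node (.leaf 0x30e0) (.leaf 0x0)))))) (.node (.node (.node (.node (.node (.leaf 0x773) (.leaf 0x2d74)) (.node (.leaf 0x2781) (.leaf 0x5923))) (.node (.node (.leaf 0x725) (.leaf 0x6e35)) (.node (.leaf 0x1dda) (.leaf 0x6f4f)))) (.node (.node (.node (.leaf 0x26ea) (.leaf 0x3a78)) (.node (.leaf 0x1600) (.leaf 0x64fb))) (.node (.node (.leaf 0xc9b) (.leaf 0x5d6f)) (.node (.leaf 0x2409) (.leaf 0x0))))) (.node (.node (.node (.node (.leaf 0x6cf2) (.leaf 0x372f)) (.node (.leaf 0x2e28) (.leaf 0x60e5))) (.node (.node (.leaf 0x280b) (.leaf 0x6cd0)) (.node (.leaf 0x2163) (.leaf 0x73a5)))) (.node (.node (.node (.leaf 0x415d) (.leaf 0x40e8)) (.node (.leaf 0x34d9) (.leaf 0x6bbf))) (.node (.node (.leaf 0xeb1) (.leaf 0x54f7)) (.node (.leaf 0x276a) (.leaf 0x0))))))) (.node (.node (.node (.node (.node (.node (.leaf 0x134) (.leaf 0x395c))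 (.node (.leaf 0x57c7) (.leaf 0x5682))) (.node (.node (.leaf 0x6712) (.leaf 0x4423)) (.node (.leaf 0x1ab0) (.leaf 0x6e9e)))) (.node (.node (.node (.leaf 0x13e3) (.leaf 0x384d)) (.node (.leaf 0x1530) (.leaf 0x63de))) (.node (.node (.leaf 0x411d) (.leaf 0x4d25)) (.node (.leaf 0x54d2) (.leaf 0x75c1))))) (.node (.node (.node (.node (.leaf 0xa92) (.leaf 0x5dfa)) (.node (.leaf 0x1cff) (.leaf 0x5c40))) (.node (.node (.leaf 0xa04) (.leaf 0x482d)) (.node (.leaf 0x20a5) (.leaf 0x7160)))) (.node (.node (.node (.leaf 0x73b) (.leaf 0x3e5d)) (.node (.leaf 0x1827) (.leaf 0x68f4))) (.node (.node (.leaf 0x5606) (.leaf 0x52b7)) (.node (.leaf 0x5cd6) (.leaf 0x0)))))) (.node (.node (.node (.node (.node (.leaf 0x4e1) (.leaf 0x5d72)) (.node (.leaf 0x110f) (.leaf 0x59f7))) (.node (.node (.leaf 0x4f22) (.leaf 0x44fb)) (.node (.leaf 0x1eae) (.leaf 0x7116)))) (.node (.node (.node (.leaf 0x49f) (.leaf 0x3b8d)) (.node (.leaf 0x1d79) (.leaf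 0x649e))) (.node (.node (.leaf 0xc80) (.leaf 0x4fe0)) (.node (.leaf 0x3e42) (.leaf 0x0))))) (.node (.node (.node (.node (.leaf 0xaee) (.leaf 0x423b)) (.node (.leaf 0x13c0) (.leaf 0x605c))) (.node (.node (.leaf 0xcde) (.leaf 0x4aeb)) (.node (.leaf 0x2f67) (.leaf 0x737a)))) (.node (.node (.node (.leaf 0x3f52) (.leaf 0x4098)) (.node (.leaf 0x6380) (.leaf 0x6a9a))) (.node (.node (.leaf 0x34fb) (.leaf 0x5361)) (.node (.leaf 0x28a5) (.leaf 0x0))))))))

/-- Closure. -/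
def clo111 : FTree := (.node (.node (.node (.node (.node (.node (.node (.leaf 0x143) (.leaf 0x2b88)) (.node (.leaf 0x3192) (.leaf 0x60d6))) (.node (.node (.leaf 0x4061) (.leaf 0x5cad)) (.node (.leaf 0x1bea) (.leaf 0x6cf0)))) (.node (.node (.node (.leaf 0x825) (.leaf 0x38f0)) (.node (.leaf 0x4439) (.leaf 0x62df))) (.node (.node (.leaf 0xb45) (.leaf 0x4c25)) (.node (.leaf 0x2ce0) (.leaf 0x76c3))))) (.node (.node (.node (.node (.leaf 0x1c71) (.leaf 0x32d5)) (.node (.leaf 0x11de) (.leaf 0x5cf8))) (.node (.node (.leaf 0x88b) (.leaf 0x48ac)) (.node (.leaf 0x207a) (.leaf 0x72d0)))) (.node (.node (.node (.leaf 0x909) (.leaf 0x3dc5)) (.node (.leaf 0x5b72) (.leaf 0x6876))) (.node (.node (.leaf 0x336e) (.leaf 0x527d)) (.node (.leaf 0x5ddb) (.leaf 0x0)))))) (.node (.node (.node (.node (.node (.leaf 0xbbf) (.leaf 0x2f8c)) (.node (.leaf 0xfe5) (.leaf 0x5947))) (.node (.node (.leaf 0x8fb) (.leaf 0x4c73)) (.node (.leaf 0x3251)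 (.leaf 0x710c)))) (.node (.node (.node (.leaf 0x6772) (.leaf 0x6d2b)) (.node (.leaf 0x168c) (.leaf 0x6659))) (.node (.node (.leaf 0x6a34) (.leaf 0x510b)) (.node (.leaf 0x53b1) (.leaf 0x0))))) (.node (.node (.node (.node (.leaf 0x2fc3) (.leaf 0x35b9)) (.node (.leaf 0x130f) (.leaf 0x5f68))) (.node (.node (.leaf 0x9de) (.leaf 0x4ae9)) (.node (.leaf 0x214c) (.leaf 0x7321)))) (.node (.node (.node (.leaf 0x59f) (.leaf 0x4164)) (.node (.leaf 0x189b) (.leaf 0x6bd5))) (.node (.node (.leaf 0xe7f) (.leaf 0x541c)) (.node (.leaf 0x28e2) (.leaf 0x0))))))) (.node (.node (.node (.node (.node (.node (.leaf 0x0) (.leaf 0x0)) (.node (.leaf 0x0) (.leaf 0x0))) (.node (.node (.leaf 0x0) (.leaf 0x0)) (.node (.leaf 0x0) (.leaf 0x0)))) (.node (.node (.node (.leaf 0x0) (.leaf 0x0)) (.node (.leaf 0x0) (.leaf 0x0))) (.node (.node (.leaf 0x0) (.leaf 0x0)) (.node (.leaf 0x0) (.leaf 0x0))))) (.node (.node (.node (.node (.leaf 0x0) (.leaf 0x0))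 (.node (.leaf 0x0) (.leaf 0x0))) (.node (.node (.leaf 0x0) (.leaf 0x0)) (.node (.leaf 0x0) (.leaf 0x0)))) (.node (.node (.node (.leaf 0x0) (.leaf 0x0)) (.node (.leaf 0x0) (.leaf 0x0))) (.node (.node (.leaf 0x0) (.leaf 0x0)) (.node (.leaf 0x0) (.leaf 0x0)))))) (.node (.node (.node (.node (.node (.leaf 0x0) (.leaf 0x0)) (.node (.leaf 0x0) (.leaf 0x0))) (.node (.node (.leaf 0x0) (.leaf 0x0)) (.node (.leaf 0x0) (.leaf 0x0)))) (.node (.node (.node (.leaf 0x0) (.leaf 0x0)) (.node (.leaf 0x0) (.leaf 0x0))) (.node (.node (.leaf 0x0) (.leaf 0x0)) (.node (.leaf 0x0) (.leaf 0x0))))) (.node (.node (.node (.node (.leaf 0x0) (.leaf 0x0)) (.node (.leaf 0x0) (.leaf 0x0))) (.node (.node (.leaf 0x0) (.leaf 0x0)) (.node (.leaf 0x0) (.leaf 0x0)))) (.node (.node (.node (.leaf 0x0) (.leaf 0x0)) (.node (.leaf 0x0) (.leaf 0x0))) (.node (.node (.leaf 0x0) (.leaf 0x0)) (.node (.leaf 0x0) (.leaf 0x0))))))))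

/-- Closure. -/
def clo112 : FTree := (.node (.node (.node (.node (.node (.node (.node (.leaf 0x1b) (.leaf 0x2955)) (.node (.leaf 0xef1) (.leaf 0x5e99))) (.node (.node (.leaf 0x69e) (.leaf 0x518c)) (.node (.leaf 0x1c19) (.leaf 0x6e9b)))) (.node (.node (.node (.leaf 0x7eb) (.leaf 0x395d)) (.node (.leaf 0x156b) (.leaf 0x6282))) (.node (.node (.leaf 0xb4d) (.leaf 0x4d36)) (.node (.leaf 0x4a5e) (.leaf 0x7520))))) (.node (.node (.node (.node (.leaf 0x30a) (.leaf 0x3033)) (.node (.leaf 0x2c33) (.leaf 0x5de5))) (.node (.node (.leaf 0x869) (.leaf 0x47ff)) (.node (.leaf 0x1f76) (.leaf 0x7208)))) (.node (.node (.node (.leaf 0x45f) (.leaf 0x3cd5)) (.node (.leaf 0x1cdf) (.leaf 0x683c))) (.node (.node (.leaf 0x65d2) (.leaf 0x5133)) (.node (.leaf 0x2632) (.leaf 0x0)))))) (.node (.node (.node (.node (.node (.leaf 0x201) (.leaf 0x5c5e)) (.node (.leaf 0x12af) (.leaf 0x58dc))) (.node (.node (.leaf 0x25e6) (.leaf 0x5e14)) (.node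 (.leaf 0x374a) (.leaf 0x6fe2)))) (.node (.node (.node (.leaf 0x314e) (.leaf 0x39d6)) (.node (.leaf 0x1f9c) (.leaf 0x65a4))) (.node (.node (.leaf 0xc43) (.leaf 0x4e3f)) (.node (.leaf 0x3bb8) (.leaf 0x0))))) (.node (.node (.node (.node (.leaf 0x3b7) (.leaf 0x3726)) (.node (.leaf 0x1332) (.leaf 0x600b))) (.node (.node (.leaf 0x1203) (.leaf 0x4a09)) (.node (.leaf 0x210c) (.leaf 0x731a)))) (.node (.node (.node (.leaf 0x566) (.leaf 0x40cc)) (.node (.leaf 0x18ea) (.leaf 0x6b6a))) (.node (.node (.leaf 0x68d1) (.leaf 0x5512)) (.node (.leaf 0x26f5) (.leaf 0x0))))))) (.node (.node (.node (.node (.node (.node (.leaf 0xe9) (.leaf 0x2f40)) (.node (.leaf 0x19e8) (.leaf 0x588c))) (.node (.node (.leaf 0x2b46) (.leaf 0x4489)) (.node (.leaf 0x1bb6) (.leaf 0x6e05)))) (.node (.node (.node (.leaf 0x83d) (.leaf 0x3891)) (.node (.leaf 0x6d5e) (.leaf 0x61fd))) (.node (.node (.leaf 0x1804) (.leaf 0x4e2e)) (.node (.leaf 0x2309) (.leaf 0x76a6)))))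 (.node (.node (.node (.node (.leaf 0x1c68) (.leaf 0x338b)) (.node (.leaf 0x2896) (.leaf 0x5e59))) (.node (.node (.leaf 0x1167) (.leaf 0x4894)) (.node (.leaf 0x2026) (.leaf 0x720b)))) (.node (.node (.node (.leaf 0x67a4) (.leaf 0x3edc)) (.node (.leaf 0x1759) (.leaf 0x6a08))) (.node (.node (.leaf 0x65da) (.leaf 0x562f)) (.node (.leaf 0x266c) (.leaf 0x0)))))) (.node (.node (.node (.node (.node (.leaf 0x4fc) (.leaf 0x2f3d)) (.node (.leaf 0x3c82) (.leaf 0x59d2))) (.node (.node (.leaf 0xf4b) (.leaf 0x4720)) (.node (.leaf 0x1d85) (.leaf 0x70a5)))) (.node (.node (.node (.leaf 0x682) (.leaf 0x3c15)) (.node (.leaf 0x15b6) (.leaf 0x668c))) (.node (.node (.leaf 0x616a) (.leaf 0x4ea2)) (.node (.leaf 0x2375) (.leaf 0x0))))) (.node (.node (.node (.node (.leaf 0x1b48) (.leaf 0x35aa)) (.node (.leaf 0x1378) (.leaf 0x600d))) (.node (.node (.leaf 0x1002) (.leaf 0x4a1b)) (.node (.leaf 0x34cd) (.leaf 0x74d4)))) (.node (.node (.node (.leaf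 0x5fc) (.leaf 0x4083)) (.node (.leaf 0x19be) (.leaf 0x6be5))) (.node (.node (.leaf 0x55a2) (.leaf 0x557b)) (.node (.leaf 0x2898) (.leaf 0x0))))))))

/-- Closure. -/
def clo113 : FTree := (.node (.node (.node (.node (.node (.node (.node (.leaf 0x8d) (.leaf 0x2a54)) (.node (.leaf 0x12b7) (.leaf 0x56cb))) (.node (.node (.leaf 0xaba) (.leaf 0x4377)) (.node (.leaf 0x1c47) (.leaf 0x6c9b)))) (.node (.node (.node (.leaf 0x2e04) (.leaf 0x3837)) (.node (.leaf 0x329f) (.leaf 0x6312))) (.node (.node (.leaf 0x2d9e) (.leaf 0x4c51)) (.node (.leaf 0x2312) (.leaf 0x75ea))))) (.node (.node (.node (.node (.leaf 0x42af) (.leaf 0x3318)) (.node (.leaf 0x1643) (.leaf 0x5e31))) (.node (.node (.leaf 0x112e) (.leaf 0x4825)) (.node (.leaf 0x1f57) (.leaf 0x7248)))) (.node (.node (.node (.leaf 0x87a) (.leaf 0x3d5a)) (.node (.leaf 0x1b23) (.leaf 0x66d5))) (.node (.node (.leaf 0xd70) (.leaf 0x5150)) (.node (.leaf 0x497a) (.leaf 0x0)))))) (.node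 (.node (.node (.node (.node (.leaf 0x271) (.leaf 0x2ec6)) (.node (.leaf 0x288d) (.leaf 0x5a10))) (.node (.node (.leaf 0x702) (.leaf 0x4549)) (.node (.leaf 0x1cc9) (.leaf 0x6ff9)))) (.node (.node (.node (.leaf 0x41d) (.leaf 0x3a68)) (.node (.leaf 0x1634) (.leaf 0x6853))) (.node (.node (.leaf 0xc5d) (.leaf 0x5d6d)) (.node (.leaf 0x24d2) (.leaf 0x0))))) (.node (.node (.node (.node (.leaf 0x5bc3) (.leaf 0x369c)) (.node (.leaf 0x1433) (.leaf 0x60be))) (.node (.node (.leaf 0x1cdc) (.leaf 0x4afc)) (.node (.leaf 0x2178) (.leaf 0x7464)))) (.node (.node (.node (.leaf 0xa00) (.leaf 0x410e)) (.node (.leaf 0x19b6) (.leaf 0x6b23))) (.node (.node (.leaf 0xe82) (.leaf 0x548a)) (.node (.leaf 0x26d0) (.leaf 0x0))))))) (.node (.node (.node (.node (.node (.node (.leaf 0x194) (.leaf 0x2aa4)) (.node (.leaf 0x5fa6) (.leaf 0x5717))) (.node (.node (.leaf 0x48b2) (.leaf 0x6904)) (.node (.leaf 0x2512) (.leaf 0x6e80)))) (.node (.node (.node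 (.leaf 0x466f) (.leaf 0x38f3)) (.node (.leaf 0x1454) (.leaf 0x6186))) (.node (.node (.leaf 0x3148) (.leaf 0x4c31)) (.node (.leaf 0x2af3) (.leaf 0x7708))))) (.node (.node (.node (.node (.leaf 0x172d) (.leaf 0x3293)) (.node (.leaf 0x117d) (.leaf 0x5e10))) (.node (.node (.leaf 0x1403) (.leaf 0x48de)) (.node (.leaf 0x2038) (.leaf 0x723d)))) (.node (.node (.node (.leaf 0x1ab7) (.leaf 0x460e)) (.node (.leaf 0x176f) (.leaf 0x680f))) (.node (.node (.leaf 0xd8f) (.leaf 0x51c0)) (.node (.leaf 0x5ea2) (.leaf 0x0)))))) (.node (.node (.node (.node (.node (.leaf 0x2b3) (.leaf 0x3223)) (.node (.leaf 0x1c00) (.leaf 0x5a5f))) (.node (.node (.leaf 0x3526) (.leaf 0x4601)) (.node (.leaf 0x1da3) (.leaf 0x6f3a)))) (.node (.node (.node (.leaf 0x2ff4) (.leaf 0x3b2d)) (.node (.leaf 0x160c) (.leaf 0x6687))) (.node (.node (.leaf 0x612b) (.leaf 0x4e9d)) (.node (.leaf 0x235b) (.leaf 0x0))))) (.node (.node (.node (.node (.leaf 0x337) (.leaf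 0x370d)) (.node (.leaf 0x26f6) (.leaf 0x5ffb))) (.node (.node (.leaf 0x961) (.leaf 0x4b2f)) (.node (.leaf 0x28e9) (.leaf 0x73c5)))) (.node (.node (.node (.leaf 0x1a2a) (.leaf 0x4240)) (.node (.leaf 0x414c) (.leaf 0x6a80))) (.node (.node (.leaf 0xe39) (.leaf 0x5372)) (.node (.leaf 0x290e) (.leaf 0x0))))))))

/-- Closure. -/
def clo114 : FTree := (.node (.node (.node (.node (.node (.node (.node (.leaf 0x58) (.leaf 0x29ef)) (.node (.leaf 0x10af) (.leaf 0x56a2))) (.node (.node (.leaf 0x2754) (.leaf 0x5bb0)) (.node (.leaf 0x325d) (.leaf 0x6d2d)))) (.node (.node (.node (.leaf 0x543) (.leaf 0x389a)) (.node (.leaf 0x14b0) (.leaf 0x6308))) (.node (.node (.leaf 0x27ad) (.leaf 0x4d05)) (.node (.leaf 0x22fb) (.leaf 0x764e))))) (.node (.node (.node (.node (.leaf 0x5048) (.leaf 0x3566)) (.node (.leaf 0x3c5f) (.leaf 0x5d4c))) (.node (.node (.leaf 0x895) (.leaf 0x4883)) (.node (.leaf 0x2548) (.leaf 0x72f5)))) (.node (.node (.node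 (.leaf 0x39fd) (.leaf 0x3d6a)) (.node (.leaf 0x3386) (.leaf 0x66d0))) (.node (.node (.leaf 0x5efc) (.leaf 0x526a)) (.node (.leaf 0x4265) (.leaf 0x0)))))) (.node (.node (.node (.node (.node (.leaf 0x7b9) (.leaf 0x2ead)) (.node (.leaf 0x3966) (.leaf 0x596e))) (.node (.node (.leaf 0x50cc) (.leaf 0x45b4)) (.node (.leaf 0x1d1c) (.leaf 0x6f59)))) (.node (.node (.node (.leaf 0x4e40) (.leaf 0x3abc)) (.node (.leaf 0x6f33) (.leaf 0x67b8))) (.node (.node (.leaf 0x3055) (.leaf 0x5ab9)) (.node (.leaf 0x49b0) (.leaf 0x0))))) (.node (.node (.node (.node (.leaf 0x1d1b) (.leaf 0x3b99)) (.node (.leaf 0x4726) (.leaf 0x613b))) (.node (.node (.leaf 0x936) (.leaf 0x4b63)) (.node (.leaf 0x250a) (.leaf 0x73e5)))) (.node (.node (.node (.leaf 0x1148) (.leaf 0x420d)) (.node (.leaf 0x6382) (.leaf 0x6a5b))) (.node (.node (.leaf 0xed9) (.leaf 0x5403)) (.node (.leaf 0x2e7d) (.leaf 0x0))))))) (.node (.node (.node (.node (.node (.node (.leaf 0x171)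 (.leaf 0x2c26)) (.node (.leaf 0xfab) (.leaf 0x580b))) (.node (.node (.leaf 0x26a6) (.leaf 0x4430)) (.node (.leaf 0x20f7) (.leaf 0x6cfb)))) (.node (.node (.node (.leaf 0x3d09) (.leaf 0x3e7b)) (.node (.leaf 0x1544) (.leaf 0x75d7))) (.node (.node (.leaf 0x105e) (.leaf 0x4c5b)) (.node (.leaf 0x22f2) (.leaf 0x76b3))))) (.node (.node (.node (.node (.leaf 0x1c67) (.leaf 0x34bb)) (.node (.leaf 0x1236) (.leaf 0x5bd5))) (.node (.node (.leaf 0x12d5) (.leaf 0x47b0)) (.node (.leaf 0x446c) (.leaf 0x72ed)))) (.node (.node (.node (.leaf 0x38cc) (.leaf 0x3f5f)) (.node (.leaf 0x1871) (.leaf 0x6851))) (.node (.node (.leaf 0xd89) (.leaf 0x525b)) (.node (.leaf 0x354f) (.leaf 0x0)))))) (.node (.node (.node (.node (.node (.leaf 0x4e6) (.leaf 0x2edc)) (.node (.leaf 0x3462) (.leaf 0x5926))) (.node (.node (.leaf 0x194c) (.leaf 0x471f)) (.node (.leaf 0x1ee8) (.leaf 0x6f97)))) (.node (.node (.node (.leaf 0x3d56) (.leaf 0x3a01)) (.node (.leaf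 0x44c8) (.leaf 0x65f2))) (.node (.node (.leaf 0xcae) (.leaf 0x4ee3)) (.node (.leaf 0x3e2d) (.leaf 0x0))))) (.node (.node (.node (.node (.leaf 0x6144) (.leaf 0x35a6)) (.node (.leaf 0x142a) (.leaf 0x6080))) (.node (.node (.leaf 0x2557) (.leaf 0x4bee)) (.node (.leaf 0x4d77) (.leaf 0x74f5)))) (.node (.node (.node (.leaf 0x22ca) (.leaf 0x40f1)) (.node (.leaf 0x3476) (.leaf 0x6c06))) (.node (.node (.leaf 0xe26) (.leaf 0x5353)) (.node (.leaf 0x2766) (.leaf 0x0))))))))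

/-- Closure. -/
def clo115 : FTree := (.node (.node (.node (.node (.node (.node (.node (.leaf 0xb6) (.leaf 0x3884)) (.node (.leaf 0x5d9d) (.leaf 0x588b))) (.node (.node (.leaf 0x1d8a) (.leaf 0x4394)) (.node (.leaf 0x1ac4) (.leaf 0x6ce7)))) (.node (.node (.node (.leaf 0x3ce2) (.leaf 0x381c)) (.node (.leaf 0x147b) (.leaf 0x63ce))) (.node (.node (.leaf 0xb7c) (.leaf 0x69f8)) (.node (.leaf 0x2281) (.leaf 0x7679))))) (.node (.node (.node (.node (.leaf 0x3ad) (.leaf 0x327f)) (.node (.leaf 0x1240) (.leaf 0x68f5))) (.node (.node (.leaf 0x1150) (.leaf 0x494a)) (.node (.leaf 0x6ec6) (.leaf 0x71d1)))) (.node (.node (.node (.leaf 0x993) (.leaf 0x3d8f)) (.node (.leaf 0x6953) (.leaf 0x670d))) (.node (.node (.leaf 0x433b) (.leaf 0x516a)) (.node (.leaf 0x2521) (.leaf 0x0)))))) (.node (.node (.node (.node (.node (.leaf 0x243) (.leaf 0x2ebc)) (.node (.leaf 0x2bba) (.leaf 0x5943))) (.node (.node (.leaf 0x6ec) (.leaf 0x45ab)) (.node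 (.leaf 0x1e64) (.leaf 0x6f86)))) (.node (.node (.node (.leaf 0x499) (.leaf 0x3bee)) (.node (.leaf 0x16b6) (.leaf 0x649a))) (.node (.node (.leaf 0x29b7) (.leaf 0x4fb2)) (.node (.leaf 0x2380) (.leaf 0x0))))) (.node (.node (.node (.node (.leaf 0x30ff) (.leaf 0x36f8)) (.node (.leaf 0x3b0e) (.leaf 0x6225))) (.node (.node (.leaf 0x5aaa) (.leaf 0x4bad)) (.node (.leaf 0x215a) (.leaf 0x73dc)))) (.node (.node (.node (.leaf 0xb02) (.leaf 0x400a)) (.node (.leaf 0x2c8d) (.leaf 0x6b5f))) (.node (.node (.leaf 0xdf1) (.leaf 0x63ec)) (.node (.leaf 0x28cb) (.leaf 0x0))))))) (.node (.node (.node (.node (.node (.node (.leaf 0x1ef) (.leaf 0x2c55)) (.node (.leaf 0x5fa4) (.leaf 0x5810))) (.node (.node (.leaf 0x4efd) (.leaf 0x4343)) (.node (.leaf 0x2875) (.leaf 0x6e69)))) (.node (.node (.node (.leaf 0x1c86) (.leaf 0x44eb)) (.node (.leaf 0x14bc) (.leaf 0x62c9))) (.node (.node (.leaf 0x5db3) (.leaf 0x4cf6)) (.node (.leaf 0x22c0) (.leaf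 0x76b0))))) (.node (.node (.node (.node (.leaf 0x8e4) (.leaf 0x3374)) (.node (.leaf 0x388f) (.leaf 0x5da8))) (.node (.node (.leaf 0x3d3f) (.leaf 0x4935)) (.node (.leaf 0x20a3) (.leaf 0x7287)))) (.node (.node (.node (.leaf 0x48f) (.leaf 0x3ead)) (.node (.leaf 0x1781) (.leaf 0x6820))) (.node (.node (.leaf 0x2517) (.leaf 0x529f)) (.node (.leaf 0x4dde) (.leaf 0x0)))))) (.node (.node (.node (.node (.node (.leaf 0x2c6) (.leaf 0x69a8)) (.node (.leaf 0x6cff) (.leaf 0x5909))) (.node (.node (.leaf 0x1a49) (.leaf 0x4b68)) (.node (.leaf 0x29da) (.leaf 0x704f)))) (.node (.node (.node (.leaf 0x2e56) (.leaf 0x3bf7)) (.node (.leaf 0x19ad) (.leaf 0x665a))) (.node (.node (.leaf 0x6163) (.leaf 0x4f80)) (.node (.leaf 0x2368) (.leaf 0x0))))) (.node (.node (.node (.node (.leaf 0x3cc) (.leaf 0x370c)) (.node (.leaf 0x2f07) (.leaf 0x5f5d))) (.node (.node (.leaf 0x926) (.leaf 0x63f5)) (.node (.leaf 0x20d3) (.leaf 0x7396)))) (.node (.node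 (.node (.leaf 0x2e3c) (.leaf 0x4275)) (.node (.leaf 0x3bcb) (.leaf 0x6b70))) (.node (.node (.leaf 0xe55) (.leaf 0x539c)) (.node (.leaf 0x2803) (.leaf 0x0))))))))

/-- Closure. -/
def clo116 : FTree := (.node (.node (.node (.node (.node (.node (.node (.leaf 0x4c) (.leaf 0x2b55)) (.node (.leaf 0xf2a) (.leaf 0x5684))) (.node (.node (.leaf 0x5c81) (.leaf 0x43c2)) (.node (.leaf 0x3482) (.leaf 0x6cc3)))) (.node (.node (.node (.leaf 0x1c82) (.leaf 0x670e)) (.node (.leaf 0x14e1) (.leaf 0x61d3))) (.node (.node (.leaf 0xb1a) (.leaf 0x4d07)) (.node (.leaf 0x538a) (.leaf 0x764b))))) (.node (.node (.node (.node (.leaf 0x2a66) (.leaf 0x30d8)) (.node (.leaf 0x1202) (.leaf 0x5d5f))) (.node (.node (.leaf 0x20c5) (.leaf 0x48e9)) (.node (.leaf 0x203d) (.leaf 0x72da)))) (.node (.node (.node (.leaf 0x44b7) (.leaf 0x3ec5)) (.node (.leaf 0x1850) (.leaf 0x67c1))) (.node (.node (.leaf 0x4339) (.leaf 0x5315)) (.node (.leaf 0x3133) (.leaf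 0x0)))))) (.node (.node (.node (.node (.node (.leaf 0x27c) (.leaf 0x2eee)) (.node (.leaf 0x47e5) (.leaf 0x5a51))) (.node (.node (.leaf 0x2938) (.leaf 0x45d8)) (.node (.leaf 0x4760) (.leaf 0x6fa3)))) (.node (.node (.node (.leaf 0x3f1) (.leaf 0x3ffd)) (.node (.leaf 0x16d2) (.leaf 0x63fb))) (.node (.node (.leaf 0xc76) (.leaf 0x4fe7)) (.node (.leaf 0x515b) (.leaf 0x0))))) (.node (.node (.node (.node (.leaf 0x55e) (.leaf 0x39ed)) (.node (.leaf 0x26b3) (.leaf 0x603a))) (.node (.node (.leaf 0x6375) (.leaf 0x532e)) (.node (.leaf 0x20e9) (.leaf 0x73d8)))) (.node (.node (.node (.leaf 0x178c) (.leaf 0x420e)) (.node (.leaf 0x1903) (.leaf 0x6b82))) (.node (.node (.leaf 0xe00) (.leaf 0x63eb)) (.node (.leaf 0x4afe) (.leaf 0x0))))))) (.node (.node (.node (.node (.node (.node (.leaf 0x101) (.leaf 0x2b22)) (.node (.leaf 0x5fb7) (.leaf 0x576b))) (.node (.node (.leaf 0x6a4) (.leaf 0x444a)) (.node (.leaf 0x1ef2) (.leaf 0x6d11)))) (.node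 (.node (.node (.leaf 0x4685) (.leaf 0x5acd)) (.node (.leaf 0x1532) (.leaf 0x6329))) (.node (.node (.leaf 0xb1c) (.leaf 0x4c36)) (.node (.leaf 0x22cc) (.leaf 0x7543))))) (.node (.node (.node (.node (.leaf 0x2fb4) (.leaf 0x34fa)) (.node (.leaf 0x418a) (.leaf 0x5cbb))) (.node (.node (.leaf 0x1ba5) (.leaf 0x47e2)) (.node (.leaf 0x20a7) (.leaf 0x72a1)))) (.node (.node (.node (.leaf 0x6f7) (.leaf 0x3f53)) (.node (.leaf 0x17b7) (.leaf 0x698d))) (.node (.node (.leaf 0x4335) (.leaf 0x5246)) (.node (.leaf 0x289f) (.leaf 0x0)))))) (.node (.node (.node (.node (.node (.leaf 0x2a7) (.leaf 0x2d23)) (.node (.leaf 0x6cd9) (.leaf 0x58c8))) (.node (.node (.leaf 0x17f4) (.leaf 0x4623)) (.node (.leaf 0x29db) (.leaf 0x70c5)))) (.node (.node (.node (.leaf 0x3670) (.leaf 0x3c5e)) (.node (.leaf 0x160a) (.leaf 0x659b))) (.node (.node (.leaf 0x307d) (.leaf 0x5c66)) (.node (.leaf 0x3a1b) (.leaf 0x0))))) (.node (.node (.node (.node (.leaf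 0xdfb) (.leaf 0x35f6)) (.node (.leaf 0x3b11) (.leaf 0x6061))) (.node (.node (.leaf 0x1271) (.leaf 0x4bbf)) (.node (.leaf 0x2112) (.leaf 0x7393)))) (.node (.node (.node (.leaf 0x66bc) (.leaf 0x40a4)) (.node (.leaf 0x18d1) (.leaf 0x6ae1))) (.node (.node (.leaf 0x10f7) (.leaf 0x6c58)) (.node (.leaf 0x27af) (.leaf 0x0))))))))

/-- Closure. -/
def clo117 : FTree := (.node (.node (.node (.node (.node (.node (.node (.leaf 0xff) (.leaf 0x3eee)) (.node (.leaf 0x315e) (.leaf 0x577d))) (.node (.node (.leaf 0x36f2) (.leaf 0x42e7)) (.node (.leaf 0x4991) (.leaf 0x6c9d)))) (.node (.node (.node (.leaf 0x525) (.leaf 0x3792)) (.node (.leaf 0x15fc) (.leaf 0x62e8))) (.node (.node (.leaf 0x30ba) (.leaf 0x4c80)) (.node (.leaf 0x22c4) (.leaf 0x76ad))))) (.node (.node (.node (.node (.leaf 0x3cc5) (.leaf 0x33dc)) (.node (.leaf 0x3780) (.leaf 0x5ce7))) (.node (.node (.leaf 0x1d25) (.leaf 0x4815)) (.node (.leaf 0x1fb4) (.leaf 0x7250))))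 (.node (.node (.node (.leaf 0xccd) (.leaf 0x3ddd)) (.node (.leaf 0x17e7) (.leaf 0x6728))) (.node (.node (.leaf 0xcf3) (.leaf 0x51ef)) (.node (.leaf 0x2516) (.leaf 0x0)))))) (.node (.node (.node (.node (.node (.leaf 0x2ec) (.leaf 0x3a41)) (.node (.leaf 0x1b1d) (.leaf 0x5915))) (.node (.node (.leaf 0x1f1b) (.leaf 0x5a22)) (.node (.leaf 0x1e68) (.leaf 0x7095)))) (.node (.node (.node (.leaf 0x496) (.leaf 0x3c16)) (.node (.leaf 0x15be) (.leaf 0x65ed))) (.node (.node (.leaf 0x29a3) (.leaf 0x4ef8)) (.node (.leaf 0x237c) (.leaf 0x0))))) (.node (.node (.node (.node (.leaf 0x5c92) (.leaf 0x3731)) (.node (.leaf 0x1339) (.leaf 0x5fca))) (.node (.node (.leaf 0x4bd3) (.leaf 0x5ea9)) (.node (.leaf 0x39da) (.leaf 0x7512)))) (.node (.node (.node (.leaf 0x2a9b) (.leaf 0x4b10)) (.node (.leaf 0x193a) (.leaf 0x6aea))) (.node (.node (.leaf 0xe45) (.leaf 0x5546)) (.node (.leaf 0x28c1) (.leaf 0x0))))))) (.node (.node (.node (.node (.node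 (.node (.leaf 0x199) (.leaf 0x2ab5)) (.node (.leaf 0xf5b) (.leaf 0x57b3))) (.node (.node (.leaf 0xfe7) (.leaf 0x431e)) (.node (.leaf 0x4f84) (.leaf 0x6e0d)))) (.node (.node (.node (.leaf 0x534) (.leaf 0x3832)) (.node (.leaf 0x2bf8) (.leaf 0x61b9))) (.node (.node (.leaf 0x27e6) (.leaf 0x4ce9)) (.node (.leaf 0x6e3e) (.leaf 0x76d5))))) (.node (.node (.node (.node (.leaf 0x60d) (.leaf 0x3201)) (.node (.leaf 0x2427) (.leaf 0x5be3))) (.node (.node (.leaf 0x5e7a) (.leaf 0x47f1)) (.node (.leaf 0x1f4d) (.leaf 0x71ae)))) (.node (.node (.node (.leaf 0x1a26) (.leaf 0x3d74)) (.node (.leaf 0x54f8) (.leaf 0x69fa))) (.node (.node (.leaf 0x11f9) (.leaf 0x51c9)) (.node (.leaf 0x2551) (.leaf 0x0)))))) (.node (.node (.node (.node (.node (.leaf 0x7b6) (.leaf 0x2f49)) (.node (.leaf 0x1069) (.leaf 0x59a3))) (.node (.node (.leaf 0x9d0) (.leaf 0x44fc)) (.node (.leaf 0x28b4) (.leaf 0x7067)))) (.node (.node (.node (.leaf 0x11da) (.leaf 0x3b18))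 (.node (.leaf 0x15d1) (.leaf 0x64e2))) (.node (.node (.leaf 0x3049) (.leaf 0x5124)) (.node (.leaf 0x2484) (.leaf 0x0))))) (.node (.node (.node (.node (.leaf 0x1124) (.leaf 0x3696)) (.node (.leaf 0x139f) (.leaf 0x5f3f))) (.node (.node (.leaf 0x1087) (.leaf 0x4b36)) (.node (.leaf 0x217e) (.leaf 0x74ba)))) (.node (.node (.node (.leaf 0x1ed4) (.leaf 0x48cc)) (.node (.leaf 0x52a3) (.leaf 0x6b9e))) (.node (.node (.leaf 0x2665) (.leaf 0x554c)) (.node (.leaf 0x296d) (.leaf 0x0))))))))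

/-- Closure. -/
def clo118 : FTree := (.node (.node (.node (.node (.node (.node (.node (.leaf 0x57) (.leaf 0x2a3d)) (.node (.leaf 0xf34) (.leaf 0x5787))) (.node (.node (.leaf 0x1a54) (.leaf 0x5091)) (.node (.leaf 0x2abd) (.leaf 0x6d83)))) (.node (.node (.node (.leaf 0x3ce0) (.leaf 0x37a9)) (.node (.leaf 0x151b) (.leaf 0x636a))) (.node (.node (.leaf 0xad4) (.leaf 0x4dd0)) (.node (.leaf 0x54c9) (.leaf 0x764c))))) (.node (.node (.node (.node (.leaf 0xbc7) (.leaf 0x35af)) (.node (.leaf 0x1fab) (.leaf 0x5b55))) (.node (.node (.leaf 0x9f4) (.leaf 0x4804)) (.node (.leaf 0x1fb2) (.leaf 0x71fc)))) (.node (.node (.node (.leaf 0x911) (.leaf 0x3eae)) (.node (.leaf 0x1822) (.leaf 0x688f))) (.node (.node (.leaf 0xd2f) (.leaf 0x52c5)) (.node (.leaf 0x5ea0) (.leaf 0x0)))))) (.node (.node (.node (.node (.node (.leaf 0x23a) (.leaf 0x3708)) (.node (.leaf 0x5553) (.leaf 0x58c9))) (.node (.node (.leaf 0xe52) (.leaf 0x46fe)) (.node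 (.leaf 0x1dc3) (.leaf 0x6fa1)))) (.node (.node (.node (.leaf 0x6296) (.leaf 0x3a23)) (.node (.leaf 0x3ca9) (.leaf 0x6597))) (.node (.node (.leaf 0x3046) (.leaf 0x62ac)) (.node (.leaf 0x2457) (.leaf 0x0))))) (.node (.node (.node (.node (.leaf 0x3004) (.leaf 0x3672)) (.node (.leaf 0x3e58) (.leaf 0x6111))) (.node (.node (.leaf 0xa33) (.leaf 0x4bb2)) (.node (.leaf 0x224e) (.leaf 0x7511)))) (.node (.node (.node (.leaf 0x597) (.leaf 0x4256)) (.node (.leaf 0x19e5) (.leaf 0x6c1b))) (.node (.node (.leaf 0x5b78) (.leaf 0x55cc)) (.node (.leaf 0x2713) (.leaf 0x0))))))) (.node (.node (.node (.node (.node (.node (.leaf 0x155) (.leaf 0x4b4d)) (.node (.leaf 0x31e7) (.leaf 0x69ca))) (.node (.node (.leaf 0x94a) (.leaf 0x4481)) (.node (.leaf 0x1c60) (.leaf 0x6c6e)))) (.node (.node (.node (.leaf 0x7f5) (.leaf 0x3a70)) (.node (.leaf 0x1a85) (.leaf 0x62f8))) (.node (.node (.leaf 0x10c5) (.leaf 0x4da7)) (.node (.leaf 0x53d1) (.leaf 0x7561)))))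 (.node (.node (.node (.node (.leaf 0xa85) (.leaf 0x355b)) (.node (.leaf 0x11cc) (.leaf 0x5e4c))) (.node (.node (.leaf 0x2348) (.leaf 0x48c3)) (.node (.leaf 0x1fae) (.leaf 0x72c5)))) (.node (.node (.node (.leaf 0x1023) (.leaf 0x3e5b)) (.node (.leaf 0x17f8) (.leaf 0x67dc))) (.node (.node (.leaf 0x6993) (.leaf 0x52d5)) (.node (.leaf 0x4266) (.leaf 0x0)))))) (.node (.node (.node (.node (.node (.leaf 0x7b1) (.leaf 0x2fac)) (.node (.leaf 0x1038) (.leaf 0x592f))) (.node (.node (.leaf 0x6c4b) (.leaf 0x474b)) (.node (.leaf 0x1e91) (.leaf 0x7117)))) (.node (.node (.node (.leaf 0x4521) (.leaf 0x3bb5)) (.node (.leaf 0x1ad4) (.leaf 0x64a1))) (.node (.node (.leaf 0xc90) (.leaf 0x5096)) (.node (.leaf 0x23a3) (.leaf 0x0))))) (.node (.node (.node (.node (.leaf 0x302b) (.leaf 0x41e6)) (.node (.leaf 0x1407) (.leaf 0x60ef))) (.node (.node (.leaf 0x1071) (.leaf 0x4b6b)) (.node (.leaf 0x21da) (.leaf 0x741a)))) (.node (.node (.node (.leaf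 0x6766) (.leaf 0x429d)) (.node (.leaf 0x5616) (.leaf 0x6bcf))) (.node (.node (.leaf 0xe1e) (.leaf 0x53ae)) (.node (.leaf 0x279a) (.leaf 0x0))))))))

/-- Closure. -/
def clo119 : FTree := (.node (.node (.node (.node (.node (.node (.node (.leaf 0x107) (.leaf 0x6d3d)) (.node (.leaf 0x50d8) (.leaf 0x57e0))) (.node (.node (.leaf 0x1f3b) (.leaf 0x4386)) (.node (.leaf 0x2a58) (.leaf 0x6e86)))) (.node (.node (.node (.leaf 0x82b) (.leaf 0x3f25)) (.node (.leaf 0x344d) (.leaf 0x63bd))) (.node (.node (.leaf 0xb81) (.leaf 0x4e21)) (.node (.leaf 0x2394) (.leaf 0x76fc))))) (.node (.node (.node (.node (.leaf 0x49c8) (.leaf 0x40a2)) (.node (.leaf 0x1177) (.leaf 0x6153))) (.node (.node (.leaf 0x3247) (.leaf 0x48f3)) (.node (.leaf 0x2196) (.leaf 0x71dd)))) (.node (.node (.node (.leaf 0x1d35) (.leaf 0x3fab)) (.node (.leaf 0x17b6) (.leaf 0x6715))) (.node (.node (.leaf 0x1da5) (.leaf 0x529c)) (.node (.leaf 0x2545) (.leaf 0x0)))))) (.node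 (.node (.node (.node (.node (.leaf 0x7a4) (.leaf 0x6825)) (.node (.leaf 0x697d) (.leaf 0x5913))) (.node (.node (.leaf 0x2459) (.leaf 0x69b7)) (.node (.leaf 0x3216) (.leaf 0x6f40)))) (.node (.node (.node (.leaf 0x4ae3) (.leaf 0x41ec)) (.node (.leaf 0x1598) (.leaf 0x6497))) (.node (.node (.leaf 0x3064) (.leaf 0x4e7c)) (.node (.leaf 0x245f) (.leaf 0x0))))) (.node (.node (.node (.node (.leaf 0x4ed1) (.leaf 0x389d)) (.node (.leaf 0x1419) (.leaf 0x6606))) (.node (.node (.leaf 0x348e) (.leaf 0x4b50)) (.node (.leaf 0x212b) (.leaf 0x74ce)))) (.node (.node (.node (.leaf 0xaf4) (.leaf 0x403f)) (.node (.leaf 0x18c9) (.leaf 0x6b43))) (.node (.node (.leaf 0x5406) (.leaf 0x5396)) (.node (.leaf 0x5841) (.leaf 0x0))))))) (.node (.node (.node (.node (.node (.node (.leaf 0x1f7) (.leaf 0x46c3)) (.node (.leaf 0xfae) (.leaf 0x56c1))) (.node (.node (.leaf 0x6d7d) (.leaf 0x4403)) (.node (.leaf 0x1ac3) (.leaf 0x6ec3)))) (.node (.node (.node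 (.leaf 0x13dc) (.leaf 0x3955)) (.node (.leaf 0x14f0) (.leaf 0x61be))) (.node (.node (.leaf 0x5aca) (.leaf 0x6eb8)) (.node (.leaf 0x22b2) (.leaf 0x75bf))))) (.node (.node (.node (.node (.leaf 0x3d7e) (.leaf 0x5da7)) (.node (.leaf 0x11dd) (.leaf 0x5c86))) (.node (.node (.leaf 0x3c09) (.leaf 0x6eed)) (.node (.leaf 0x206e) (.leaf 0x7240)))) (.node (.node (.node (.leaf 0x90a) (.leaf 0x3f41)) (.node (.leaf 0x185d) (.leaf 0x6704))) (.node (.node (.leaf 0x31a5) (.leaf 0x5289)) (.node (.leaf 0x276f) (.leaf 0x0)))))) (.node (.node (.node (.node (.node (.leaf 0x4eb) (.leaf 0x30f8)) (.node (.leaf 0x1278) (.leaf 0x5a41))) (.node (.node (.leaf 0x75c) (.leaf 0x4b6e)) (.node (.leaf 0x4276) (.leaf 0x7102)))) (.node (.node (.node (.leaf 0x8be) (.leaf 0x3af6)) (.node (.leaf 0x16bd) (.leaf 0x657c))) (.node (.node (.leaf 0xcb3) (.leaf 0x4e94)) (.node (.leaf 0x23fd) (.leaf 0x0))))) (.node (.node (.node (.node (.leaf 0x376b) (.leaf 0x3694))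 (.node (.leaf 0x2e1b) (.leaf 0x5ff9))) (.node (.node (.leaf 0x1a35) (.leaf 0x4b65)) (.node (.leaf 0x2133) (.leaf 0x7416)))) (.node (.node (.node (.leaf 0x37df) (.leaf 0x4752)) (.node (.leaf 0x18f1) (.leaf 0x6c21))) (.node (.node (.leaf 0xdf7) (.leaf 0x5579)) (.node (.leaf 0x2931) (.leaf 0x0))))))))

/-- Closure. -/
def clo120 : FTree := (.node (.node (.node (.node (.node (.node (.node (.leaf 0x1c) (.leaf 0x3dba)) (.node (.leaf 0x10bd) (.leaf 0x5e8f))) (.node (.node (.leaf 0x1b4e) (.leaf 0x4408)) (.node (.leaf 0x3a7d) (.leaf 0x6eff)))) (.node (.node (.node (.leaf 0x465f) (.leaf 0x39c8)) (.node (.leaf 0x4be6) (.leaf 0x636e))) (.node (.node (.leaf 0x581d) (.leaf 0x5ec4)) (.node (.leaf 0x22e5) (.leaf 0x75c9))))) (.node (.node (.node (.node (.leaf 0x290) (.leaf 0x327c)) (.node (.leaf 0x119f) (.leaf 0x5dbe))) (.node (.node (.leaf 0x1155) (.leaf 0x47c9)) (.node (.leaf 0x2009) (.leaf 0x7220)))) (.node (.node (.node (.leaf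 0x927) (.leaf 0x3e88)) (.node (.leaf 0x177e) (.leaf 0x686d))) (.node (.node (.leaf 0xd3e) (.leaf 0x5314)) (.node (.leaf 0x28a0) (.leaf 0x0)))))) (.node (.node (.node (.node (.node (.leaf 0x766) (.leaf 0x3e90)) (.node (.leaf 0x50ac) (.leaf 0x5919))) (.node (.node (.leaf 0x349c) (.leaf 0x4657)) (.node (.leaf 0x1ef0) (.leaf 0x6f3e)))) (.node (.node (.node (.leaf 0x225c) (.leaf 0x5162)) (.node (.leaf 0x46e6) (.leaf 0x6612))) (.node (.node (.leaf 0x29b1) (.leaf 0x5042)) (.node (.leaf 0x2401) (.leaf 0x0))))) (.node (.node (.node (.node (.leaf 0xb0f) (.leaf 0x3692)) (.node (.leaf 0x26fd) (.leaf 0x602f))) (.node (.node (.leaf 0x2e82) (.leaf 0x4b58)) (.node (.leaf 0x39dc) (.leaf 0x74be)))) (.node (.node (.node (.leaf 0x3230) (.leaf 0x4269)) (.node (.leaf 0x1a10) (.leaf 0x6c24))) (.node (.node (.leaf 0x27e2) (.leaf 0x55c0)) (.node (.leaf 0x288c) (.leaf 0x0))))))) (.node (.node (.node (.node (.node (.node (.leaf 0x141) (.leaf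 0x29e0)) (.node (.leaf 0xf3f) (.leaf 0x56a3))) (.node (.node (.leaf 0x5de9) (.leaf 0x510d)) (.node (.leaf 0x4f98) (.leaf 0x6c7d)))) (.node (.node (.node (.leaf 0x13c6) (.leaf 0x4e4e)) (.node (.leaf 0x4d5c) (.leaf 0x62b7))) (.node (.node (.leaf 0x411e) (.leaf 0x4c8f)) (.node (.leaf 0x229f) (.leaf 0x7605))))) (.node (.node (.node (.node (.leaf 0x411) (.leaf 0x3036)) (.node (.leaf 0x129a) (.leaf 0x5cca))) (.node (.node (.leaf 0x2ff7) (.leaf 0x4798)) (.node (.leaf 0x2546) (.leaf 0x7198)))) (.node (.node (.node (.leaf 0x17d7) (.leaf 0x3fa8)) (.node (.leaf 0x55fe) (.leaf 0x6775))) (.node (.node (.leaf 0x2b65) (.leaf 0x52ce)) (.node (.leaf 0x3536) (.leaf 0x0)))))) (.node (.node (.node (.node (.node (.leaf 0x24b) (.leaf 0x32e7)) (.node (.leaf 0x10a4) (.leaf 0x5a66))) (.node (.node (.leaf 0x6f5) (.leaf 0x4c1c)) (.node (.leaf 0x37cb) (.leaf 0x7103)))) (.node (.node (.node (.leaf 0x2acd) (.leaf 0x3c4b)) (.node (.leaf 0x16de)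 (.leaf 0x64a4))) (.node (.node (.leaf 0x304f) (.leaf 0x543d)) (.node (.leaf 0x23e2) (.leaf 0x0))))) (.node (.node (.node (.node (.leaf 0xf0b) (.leaf 0x35c5)) (.node (.leaf 0x13b6) (.leaf 0x6024))) (.node (.node (.leaf 0x54ab) (.leaf 0x4b4e)) (.node (.leaf 0x222b) (.leaf 0x74ef)))) (.node (.node (.node (.leaf 0x3d6d) (.leaf 0x407c)) (.node (.leaf 0x2c47) (.leaf 0x6bcb))) (.node (.node (.leaf 0xe0b) (.leaf 0x538c)) (.node (.leaf 0x2752) (.leaf 0x0))))))))

/-- Closure. -/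
def clo121 : FTree := (.node (.node (.node (.node (.node (.node (.node (.leaf 0xe3) (.leaf 0x5c9d)) (.node (.leaf 0xf9f) (.leaf 0x5e9b))) (.node (.node (.leaf 0x633b) (.leaf 0x434b)) (.node (.leaf 0x4108) (.leaf 0x6c5a)))) (.node (.node (.node (.leaf 0x847) (.leaf 0x3860)) (.node (.leaf 0x1561) (.leaf 0x626e))) (.node (.node (.leaf 0x102e) (.leaf 0x4dfd)) (.node (.leaf 0x54cd) (.leaf 0x76f1))))) (.node (.node (.node (.node (.leaf 0x39d2) (.leaf 0x352c)) (.node (.leaf 0x4d60) (.leaf 0x5c01))) (.node (.node (.leaf 0x2915) (.leaf 0x4994)) (.node (.leaf 0x2131) (.leaf 0x7312)))) (.node (.node (.node (.leaf 0x6838) (.leaf 0x3f2d)) (.node (.leaf 0x20ba) (.leaf 0x6984))) (.node (.node (.leaf 0xd4d) (.leaf 0x51af)) (.node (.leaf 0x3554) (.leaf 0x0)))))) (.node (.node (.node (.node (.node (.leaf 0x512) (.leaf 0x5b48)) (.node (.leaf 0x1066) (.leaf 0x5963))) (.node (.node (.leaf 0x6e3) (.leaf 0x4636)) (.node (.leaf 0x1ef9)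 (.leaf 0x709b)))) (.node (.node (.node (.leaf 0x382e) (.leaf 0x3bc4)) (.node (.leaf 0x3c2d) (.leaf 0x645e))) (.node (.node (.leaf 0x359c) (.leaf 0x5c65)) (.node (.leaf 0x28d3) (.leaf 0x0))))) (.node (.node (.node (.node (.leaf 0xdf4) (.leaf 0x35f0)) (.node (.leaf 0x5bf6) (.leaf 0x6076))) (.node (.node (.leaf 0x4293) (.leaf 0x4a07)) (.node (.leaf 0x2508) (.leaf 0x7517)))) (.node (.node (.node (.leaf 0x2b99) (.leaf 0x566a)) (.node (.leaf 0x1998) (.leaf 0x6b2e))) (.node (.node (.leaf 0xeb5) (.leaf 0x55f1)) (.node (.leaf 0x27f3) (.leaf 0x0))))))) (.node (.node (.node (.node (.node (.node (.leaf 0x1b4) (.leaf 0x2b5a)) (.node (.leaf 0x5fae) (.leaf 0x5672))) (.node (.node (.leaf 0x3a66) (.leaf 0x4356)) (.node (.leaf 0x1aa6) (.leaf 0x6e52)))) (.node (.node (.node (.leaf 0x2e09) (.leaf 0x383e)) (.node (.leaf 0x1e1c) (.leaf 0x62fb))) (.node (.node (.leaf 0xb4f) (.leaf 0x4d46)) (.node (.leaf 0x6748) (.leaf 0x76f8))))) (.node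 (.node (.node (.node (.leaf 0x56e) (.leaf 0x3316)) (.node (.leaf 0x11ce) (.leaf 0x5ad6))) (.node (.node (.leaf 0x6051) (.leaf 0x4843)) (.node (.leaf 0x1f7b) (.leaf 0x722b)))) (.node (.node (.node (.leaf 0x9a1) (.leaf 0x3e3b)) (.node (.leaf 0x654b) (.leaf 0x68bd))) (.node (.node (.leaf 0x11fb) (.leaf 0x51ec)) (.node (.leaf 0x2580) (.leaf 0x0)))))) (.node (.node (.node (.node (.node (.leaf 0x2ad) (.leaf 0x2faa)) (.node (.leaf 0x104c) (.leaf 0x5938))) (.node (.node (.leaf 0x745) (.leaf 0x45e3)) (.node (.leaf 0x1eff) (.leaf 0x70d6)))) (.node (.node (.node (.leaf 0xde6) (.leaf 0x3a77)) (.node (.leaf 0x16a0) (.leaf 0x65a9))) (.node (.node (.leaf 0xc31) (.leaf 0x7245)) (.node (.leaf 0x24ac) (.leaf 0x0))))) (.node (.node (.node (.node (.leaf 0x5ad) (.leaf 0x35bf)) (.node (.leaf 0x132c) (.leaf 0x6019))) (.node (.node (.leaf 0x913) (.leaf 0x4bc4)) (.node (.leaf 0x20da) (.leaf 0x7365)))) (.node (.node (.node (.leaf 0x2a9f)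 (.leaf 0x4255)) (.node (.leaf 0x1904) (.leaf 0x6bee))) (.node (.node (.leaf 0x5e7e) (.leaf 0x5444)) (.node (.leaf 0x291f) (.leaf 0x0))))))))

/-- Closure. -/
def clo122 : FTree := (.node (.node (.node (.node (.node (.node (.node (.leaf 0x7d) (.leaf 0x31d2)) (.node (.leaf 0x3170) (.leaf 0x5713))) (.node (.node (.leaf 0x665) (.leaf 0x5baf)) (.node (.leaf 0x1bdf) (.leaf 0x6d47)))) (.node (.node (.node (.leaf 0x170e) (.leaf 0x383d)) (.node (.leaf 0x14ab) (.leaf 0x62dc))) (.node (.node (.leaf 0xa54) (.leaf 0x4d81)) (.node (.leaf 0x674e) (.leaf 0x7674))))) (.node (.node (.node (.node (.leaf 0x332) (.leaf 0x330d)) (.node (.leaf 0x1138) (.leaf 0x5c05))) (.node (.node (.leaf 0xea9) (.leaf 0x4799)) (.node (.leaf 0x1f24) (.leaf 0x7196)))) (.node (.node (.node (.leaf 0x62e) (.leaf 0x3de5)) (.node (.leaf 0x1c50) (.leaf 0x672f))) (.node (.node (.leaf 0x182e) (.leaf 0x51e8)) (.node (.leaf 0x30de) (.leaf 0x0)))))) (.node (.node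 (.node (.node (.node (.leaf 0x2d7) (.leaf 0x32e9)) (.node (.leaf 0x6e00) (.leaf 0x5a4f))) (.node (.node (.leaf 0x722) (.leaf 0x46a8)) (.node (.leaf 0x32de) (.leaf 0x6f37)))) (.node (.node (.node (.leaf 0x3d5) (.leaf 0x3a87)) (.node (.leaf 0x15b0) (.leaf 0x653f))) (.node (.node (.leaf 0x6431) (.leaf 0x4f31)) (.node (.leaf 0x23b0) (.leaf 0x0))))) (.node (.node (.node (.node (.leaf 0x2d6e) (.leaf 0x371e)) (.node (.leaf 0x30cd) (.leaf 0x5f13))) (.node (.node (.leaf 0x980) (.leaf 0x4b90)) (.node (.leaf 0x20d9) (.leaf 0x732c)))) (.node (.node (.node (.leaf 0x66bb) (.leaf 0x407f)) (.node (.leaf 0x18f8) (.leaf 0x6a82))) (.node (.node (.leaf 0x5574) (.leaf 0x53dc)) (.node (.leaf 0x5ba0) (.leaf 0x0))))))) (.node (.node (.node (.node (.node (.node (.leaf 0x1ce) (.leaf 0x2b3f)) (.node (.leaf 0xf56) (.leaf 0x5d7f))) (.node (.node (.leaf 0x721) (.leaf 0x448a)) (.node (.leaf 0x1acc) (.leaf 0x6cb6)))) (.node (.node (.node (.leaf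 0x1ca7) (.leaf 0x37c2)) (.node (.leaf 0x1472) (.leaf 0x624a))) (.node (.node (.leaf 0x177f) (.leaf 0x4d5e)) (.node (.leaf 0x53cb) (.leaf 0x753f))))) (.node (.node (.node (.node (.leaf 0x2fd1) (.leaf 0x31c0)) (.node (.leaf 0x3b59) (.leaf 0x5db9))) (.node (.node (.leaf 0xb6e) (.leaf 0x4905)) (.node (.leaf 0x2068) (.leaf 0x71cd)))) (.node (.node (.node (.leaf 0x2dc5) (.leaf 0x4733)) (.node (.leaf 0x1868) (.leaf 0x6d50))) (.node (.node (.leaf 0xd8b) (.leaf 0x5184)) (.node (.leaf 0x267f) (.leaf 0x0)))))) (.node (.node (.node (.node (.node (.leaf 0x7a9) (.leaf 0x2d03)) (.node (.leaf 0x197e) (.leaf 0x59e7))) (.node (.node (.leaf 0x9e6) (.leaf 0x45fc)) (.node (.leaf 0x1f0f) (.leaf 0x7026)))) (.node (.node (.node (.leaf 0x30f0) (.leaf 0x3c02)) (.node (.leaf 0x2237) (.leaf 0x67f1))) (.node (.node (.leaf 0x644b) (.leaf 0x504f)) (.node (.leaf 0x2362) (.leaf 0x0))))) (.node (.node (.node (.node (.leaf 0x648) (.leaf 0x36e8))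 (.node (.leaf 0x142e) (.leaf 0x5f7d))) (.node (.node (.leaf 0xfd3) (.leaf 0x4a24)) (.node (.leaf 0x2140) (.leaf 0x7400)))) (.node (.node (.node (.leaf 0x3229) (.leaf 0x52af)) (.node (.leaf 0x3bcd) (.leaf 0x6af5))) (.node (.node (.leaf 0x142d) (.leaf 0x61e7)) (.node (.leaf 0x3edb) (.leaf 0x0))))))))

/-- Closure. -/
def clo123 : FTree := (.node (.node (.node (.node (.node (.node (.node (.leaf 0xc5) (.leaf 0x2c24)) (.node (.leaf 0x5f9c) (.leaf 0x57be))) (.node (.node (.leaf 0x32b4) (.leaf 0x611a)) (.node (.leaf 0x1a81) (.leaf 0x6d8c)))) (.node (.node (.node (.leaf 0x1c93) (.leaf 0x3880)) (.node (.leaf 0x1559) (.leaf 0x637b))) (.node (.node (.leaf 0x3e15) (.leaf 0x4c35)) (.node (.leaf 0x5885) (.leaf 0x7565))))) (.node (.node (.node (.node (.leaf 0x311) (.leaf 0x609f)) (.node (.leaf 0x2bd5) (.leaf 0x5b75))) (.node (.node (.leaf 0x2919) (.leaf 0x479a)) (.node (.leaf 0x668b) (.leaf 0x7206)))) (.node (.node (.node (.leaf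 0x484) (.leaf 0x3f8a)) (.node (.leaf 0x1abf) (.leaf 0x67c8))) (.node (.node (.leaf 0x221c) (.leaf 0x5223)) (.node (.leaf 0x5eb4) (.leaf 0x0)))))) (.node (.node (.node (.node (.node (.leaf 0x2df) (.leaf 0x2e45)) (.node (.leaf 0x1c3c) (.leaf 0x5a4a))) (.node (.node (.leaf 0x559f) (.leaf 0x46e9)) (.node (.leaf 0x1da4) (.leaf 0x6f88)))) (.node (.node (.node (.leaf 0x66e) (.leaf 0x3c2f)) (.node (.leaf 0x15f3) (.leaf 0x64a9))) (.node (.node (.leaf 0x3591) (.leaf 0x503b)) (.node (.leaf 0x23b9) (.leaf 0x0))))) (.node (.node (.node (.node (.leaf 0x5ba8) (.leaf 0x366f)) (.node (.leaf 0x143b) (.leaf 0x5f18))) (.node (.node (.leaf 0x1e75) (.leaf 0x4b29)) (.node (.leaf 0x396e) (.leaf 0x74d5)))) (.node (.node (.node (.leaf 0x64c1) (.leaf 0x4076)) (.node (.leaf 0x18d8) (.leaf 0x6bf6))) (.node (.node (.leaf 0xe65) (.leaf 0x534e)) (.node (.leaf 0x27ac) (.leaf 0x0))))))) (.node (.node (.node (.node (.node (.node (.leaf 0x1fa) (.leaf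 0x29dc)) (.node (.leaf 0x318c) (.leaf 0x5847))) (.node (.node (.leaf 0x2a2f) (.leaf 0x434a)) (.node (.leaf 0x1dbc) (.leaf 0x6e70)))) (.node (.node (.node (.leaf 0x465d) (.leaf 0x380b)) (.node (.leaf 0x155b) (.leaf 0x6291))) (.node (.node (.leaf 0x3b86) (.leaf 0x4c61)) (.node (.leaf 0x227c) (.leaf 0x756c))))) (.node (.node (.node (.node (.leaf 0x49c6) (.leaf 0x32bf)) (.node (.leaf 0x4942) (.leaf 0x5b27))) (.node (.node (.leaf 0x1d04) (.leaf 0x4919)) (.node (.leaf 0x1f32) (.leaf 0x72f7)))) (.node (.node (.node (.leaf 0x6c3c) (.leaf 0x3f67)) (.node (.leaf 0x26d6) (.leaf 0x675f))) (.node (.node (.leaf 0xd46) (.leaf 0x519d)) (.node (.leaf 0x25c9) (.leaf 0x0)))))) (.node (.node (.node (.node (.node (.leaf 0xbb9) (.leaf 0x2e75)) (.node (.leaf 0x2b3d) (.leaf 0x5a83))) (.node (.node (.leaf 0x70d) (.leaf 0x45b6)) (.node (.leaf 0x1e5e) (.leaf 0x7096)))) (.node (.node (.node (.leaf 0x58f) (.leaf 0x3a51)) (.node (.leaf 0x1596)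 (.leaf 0x6579))) (.node (.node (.leaf 0xc96) (.leaf 0x5081)) (.node (.leaf 0x2476) (.leaf 0x0))))) (.node (.node (.node (.node (.leaf 0x226b) (.leaf 0x35dd)) (.node (.leaf 0x1381) (.leaf 0x5ee2))) (.node (.node (.leaf 0x925) (.leaf 0x4b18)) (.node (.leaf 0x33c0) (.leaf 0x7479)))) (.node (.node (.node (.leaf 0x6dcb) (.leaf 0x4010)) (.node (.leaf 0x5833) (.leaf 0x6a5d))) (.node (.node (.leaf 0x5756) (.leaf 0x54b3)) (.node (.leaf 0x3ac5) (.leaf 0x0))))))))

/-- Closure. -/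
def clo124 : FTree := (.node (.node (.node (.node (.node (.node (.node (.leaf 0x4a) (.leaf 0x2a0c)) (.node (.leaf 0xfa6) (.leaf 0x56ef))) (.node (.node (.leaf 0x637) (.leaf 0x4923)) (.node (.leaf 0x1a63) (.leaf 0x6ef7)))) (.node (.node (.node (.leaf 0x83e) (.leaf 0x37a1)) (.node (.leaf 0x1a8f) (.leaf 0x62f3))) (.node (.node (.leaf 0xd8e) (.leaf 0x4e00)) (.node (.leaf 0x6631) (.leaf 0x7573))))) (.node (.node (.node (.node (.leaf 0x1d49) (.leaf 0x34fd)) (.node (.leaf 0x1245) (.leaf 0x5e72))) (.node (.node (.leaf 0x8b3) (.leaf 0x47e4)) (.node (.leaf 0x209d) (.leaf 0x719f)))) (.node (.node (.node (.leaf 0x33b7) (.leaf 0x3fa7)) (.node (.leaf 0x3342) (.leaf 0x685e))) (.node (.node (.leaf 0xe49) (.leaf 0x5312)) (.node (.leaf 0x261a) (.leaf 0x0)))))) (.node (.node (.node (.node (.node (.leaf 0x4ee) (.leaf 0x2f79)) (.node (.leaf 0x10de) (.leaf 0x59db))) (.node (.node (.leaf 0xa2c) (.leaf 0x44e0)) (.node (.leaf 0x1d38) (.leaf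 0x70a6)))) (.node (.node (.node (.leaf 0x5bb) (.leaf 0x3c33)) (.node (.leaf 0x1ad7) (.leaf 0x668f))) (.node (.node (.leaf 0x616f) (.leaf 0x4f73)) (.node (.leaf 0x2411) (.leaf 0x0))))) (.node (.node (.node (.node (.leaf 0x264b) (.leaf 0x42d0)) (.node (.leaf 0x1364) (.leaf 0x5f54))) (.node (.node (.leaf 0xa21) (.leaf 0x4a73)) (.node (.leaf 0x4455) (.leaf 0x7462)))) (.node (.node (.node (.leaf 0x600) (.leaf 0x6649)) (.node (.leaf 0x1a22) (.leaf 0x6a2c))) (.node (.node (.leaf 0x1798) (.leaf 0x5592)) (.node (.leaf 0x28a9) (.leaf 0x0))))))) (.node (.node (.node (.node (.node (.node (.leaf 0x162) (.leaf 0x29e2)) (.node (.leaf 0xf75) (.leaf 0x5703))) (.node (.node (.leaf 0xcca) (.leaf 0x4480)) (.node (.leaf 0x25b3) (.leaf 0x6d07)))) (.node (.node (.node (.leaf 0x1ca0) (.leaf 0x3838)) (.node (.leaf 0x153a) (.leaf 0x61b6))) (.node (.node (.leaf 0x5cbe) (.leaf 0x4d6c)) (.node (.leaf 0x4a66) (.leaf 0x7624))))) (.node (.node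 (.node (.node (.leaf 0x430) (.leaf 0x3504)) (.node (.leaf 0x1dfb) (.leaf 0x5c4a))) (.node (.node (.leaf 0x291b) (.leaf 0x48fc)) (.node (.leaf 0x1ff4) (.leaf 0x7217)))) (.node (.node (.node (.leaf 0x6c9c) (.leaf 0x3d7a)) (.node (.leaf 0x2059) (.leaf 0x69c9))) (.node (.node (.leaf 0x1222) (.leaf 0x51d7)) (.node (.leaf 0x25fb) (.leaf 0x0)))))) (.node (.node (.node (.node (.node (.leaf 0x2f2) (.leaf 0x3706)) (.node (.leaf 0x1082) (.leaf 0x5a1c))) (.node (.node (.leaf 0x717) (.leaf 0x46d8)) (.node (.leaf 0x471d) (.leaf 0x6fc9)))) (.node (.node (.node (.leaf 0x111d) (.leaf 0x3aa2)) (.node (.leaf 0x16c8) (.leaf 0x6423))) (.node (.node (.leaf 0x3597) (.leaf 0x508d)) (.node (.leaf 0x23b6) (.leaf 0x0))))) (.node (.node (.node (.node (.leaf 0x45c) (.leaf 0x3632)) (.node (.leaf 0x1446) (.leaf 0x5fff))) (.node (.node (.leaf 0x36bc) (.leaf 0x4a25)) (.node (.leaf 0x3cbb) (.leaf 0x7376)))) (.node (.node (.node (.leaf 0x5f4) (.leaf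 0x429c)) (.node (.leaf 0x19f6) (.leaf 0x6ac5))) (.node (.node (.leaf 0x33cd) (.leaf 0x5417)) (.node (.leaf 0x2747) (.leaf 0x0))))))))

/-- Closure. -/
def clo125 : FTree := (.node (.node (.node (.node (.node (.node (.node (.leaf 0xe6) (.leaf 0x2c29)) (.node (.leaf 0xf2d) (.leaf 0x5704))) (.node (.node (.leaf 0x5d09) (.leaf 0x43d1)) (.node (.leaf 0x1dd4) (.leaf 0x6ed8)))) (.node (.node (.node (.leaf 0x1c7d) (.leaf 0x3975)) (.node (.leaf 0x1551) (.leaf 0x632a))) (.node (.node (.leaf 0xadd) (.leaf 0x4c5c)) (.node (.leaf 0x6196) (.leaf 0x754a))))) (.node (.node (.node (.node (.leaf 0x2a6a) (.leaf 0x30c9)) (.node (.leaf 0x1216) (.leaf 0x5c5f))) (.node (.node (.leaf 0x20c8) (.leaf 0x477f)) (.node (.leaf 0x208d) (.leaf 0x7230)))) (.node (.node (.node (.leaf 0x4599) (.leaf 0x41b1)) (.node (.leaf 0x184e) (.leaf 0x67cb))) (.node (.node (.leaf 0xd62) (.leaf 0x530b)) (.node (.leaf 0x354b) (.leaf 0x0)))))) (.node (.node (.node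 (.node (.node (.leaf 0x274) (.leaf 0x2d86)) (.node (.leaf 0x1e2b) (.leaf 0x5a3b))) (.node (.node (.leaf 0x11ca) (.leaf 0x4546)) (.node (.leaf 0x1e4c) (.leaf 0x6fdd)))) (.node (.node (.node (.leaf 0x3ba) (.leaf 0x3c52)) (.node (.leaf 0x3e6c) (.leaf 0x645b))) (.node (.node (.leaf 0xc88) (.leaf 0x5018)) (.node (.leaf 0x3a18) (.leaf 0x0))))) (.node (.node (.node (.node (.leaf 0xc1e) (.leaf 0x363f)) (.node (.leaf 0x142b) (.leaf 0x607d))) (.node (.node (.leaf 0x556f) (.leaf 0x4b0f)) (.node (.leaf 0x2117) (.leaf 0x732a)))) (.node (.node (.node (.leaf 0x178b) (.leaf 0x41f2)) (.node (.leaf 0x34d6) (.leaf 0x6acf))) (.node (.node (.leaf 0x5deb) (.leaf 0x6c56)) (.node (.leaf 0x280c) (.leaf 0x0))))))) (.node (.node (.node (.node (.node (.node (.leaf 0x1cf) (.leaf 0x2b2e)) (.node (.leaf 0x2a71) (.leaf 0x5e95))) (.node (.node (.leaf 0x6571) (.leaf 0x4460)) (.node (.leaf 0x1b07) (.leaf 0x6ddb)))) (.node (.node (.node (.leaf 0x13f6)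 (.leaf 0x38b8)) (.node (.leaf 0x1ae9) (.leaf 0x6298))) (.node (.node (.leaf 0x692a) (.leaf 0x6ebd)) (.node (.leaf 0x2ade) (.leaf 0x754d))))) (.node (.node (.node (.node (.leaf 0x296) (.leaf 0x3776)) (.node (.leaf 0x2b86) (.leaf 0x5df0))) (.node (.node (.leaf 0x29e9) (.leaf 0x494f)) (.node (.leaf 0x24e4) (.leaf 0x71f9)))) (.node (.node (.node (.leaf 0x1a99) (.leaf 0x3e66)) (.node (.leaf 0x694e) (.leaf 0x6835))) (.node (.node (.leaf 0x5f49) (.leaf 0x5166)) (.node (.leaf 0x5eb5) (.leaf 0x0)))))) (.node (.node (.node (.node (.node (.leaf 0x356) (.leaf 0x30f7)) (.node (.leaf 0x2beb) (.leaf 0x5978))) (.node (.node (.leaf 0x1fba) (.leaf 0x44e7)) (.node (.leaf 0x363c) (.leaf 0x6fea)))) (.node (.node (.node (.leaf 0xed3) (.leaf 0x3ac6)) (.node (.leaf 0x167e) (.leaf 0x6da5))) (.node (.node (.leaf 0x3585) (.leaf 0x63a2)) (.node (.leaf 0x28d8) (.leaf 0x0))))) (.node (.node (.node (.node (.leaf 0x113b) (.leaf 0x3673)) (.node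 (.leaf 0x4a2f) (.leaf 0x603e))) (.node (.node (.leaf 0x1c40) (.leaf 0x4a17)) (.node (.leaf 0x2f34) (.leaf 0x7425)))) (.node (.node (.node (.leaf 0x3dde) (.leaf 0x4982)) (.node (.leaf 0x1908) (.leaf 0x6b8c))) (.node (.node (.leaf 0x5e7d) (.leaf 0x55f3)) (.node (.leaf 0x3281) (.leaf 0x0))))))))

/-- Closure. -/
def clo126 : FTree := (.node (.node (.node (.node (.node (.node (.node (.leaf 0x99) (.leaf 0x2afb)) (.node (.leaf 0x319c) (.leaf 0x5849))) (.node (.node (.leaf 0x2a2e) (.leaf 0x5cac)) (.node (.leaf 0x1aa2) (.leaf 0x6c80)))) (.node (.node (.node (.leaf 0x829) (.leaf 0x3870)) (.node (.leaf 0x1482) (.leaf 0x6520))) (.node (.node (.leaf 0x1056) (.leaf 0x4d92)) (.node (.leaf 0x632d) (.leaf 0x7627))))) (.node (.node (.node (.node (.leaf 0x49c3) (.leaf 0x5c58)) (.node (.leaf 0x2708) (.leaf 0x5b29))) (.node (.node (.leaf 0x3014) (.leaf 0x488e)) (.node (.leaf 0x1fa9) (.leaf 0x713e)))) (.node (.node (.node (.leaf 0xabf)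 (.leaf 0x460f)) (.node (.leaf 0x2128) (.leaf 0x681f))) (.node (.node (.leaf 0x1a31) (.leaf 0x527b)) (.node (.leaf 0x256d) (.leaf 0x0)))))) (.node (.node (.node (.node (.node (.leaf 0xbba) (.leaf 0x6d22)) (.node (.leaf 0x3be7) (.leaf 0x5a95))) (.node (.node (.leaf 0x3925) (.leaf 0x4690)) (.node (.leaf 0x3af7) (.leaf 0x7113)))) (.node (.node (.node (.leaf 0x425) (.leaf 0x406c)) (.node (.leaf 0x44a4) (.leaf 0x6553))) (.node (.node (.leaf 0xc64) (.leaf 0x4fdc)) (.node (.leaf 0x2bab) (.leaf 0x0))))) (.node (.node (.node (.node (.leaf 0x2cb7) (.leaf 0x3737)) (.node (.leaf 0x1383) (.leaf 0x5fc1))) (.node (.node (.leaf 0x997) (.leaf 0x4ac0)) (.node (.leaf 0x250b) (.leaf 0x73b8)))) (.node (.node (.node (.leaf 0x44b9) (.leaf 0x4041)) (.node (.leaf 0x1f11) (.leaf 0x6a71))) (.node (.node (.leaf 0x57a7) (.leaf 0x551c)) (.node (.leaf 0x2912) (.leaf 0x0))))))) (.node (.node (.node (.node (.node (.node (.leaf 0x16b) (.leaf 0x2be6))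 (.node (.leaf 0xf3b) (.leaf 0x574a))) (.node (.node (.leaf 0x5dc2) (.leaf 0x42f9)) (.node (.leaf 0x1a5c) (.leaf 0x6dd3)))) (.node (.node (.node (.leaf 0x13c9) (.leaf 0x3926)) (.node (.leaf 0x14eb) (.leaf 0x62c1))) (.node (.node (.leaf 0x36a4) (.leaf 0x4cb4)) (.node (.leaf 0x22ab) (.leaf 0x75a7))))) (.node (.node (.node (.node (.leaf 0x413) (.leaf 0x42e8)) (.node (.leaf 0x4f0f) (.leaf 0x5b81))) (.node (.node (.leaf 0x2ff6) (.leaf 0x5059)) (.node (.leaf 0x34a5) (.leaf 0x7175)))) (.node (.node (.node (.leaf 0x17cc) (.leaf 0x3de7)) (.node (.leaf 0x6159) (.leaf 0x66c3))) (.node (.node (.leaf 0xd94) (.leaf 0x52c0)) (.node (.leaf 0x25b9) (.leaf 0x0)))))) (.node (.node (.node (.node (.node (.leaf 0x242) (.leaf 0x2f7b)) (.node (.leaf 0x103e) (.leaf 0x5a6c))) (.node (.node (.leaf 0x2bb4) (.leaf 0x44f1)) (.node (.leaf 0x1d08) (.leaf 0x6f8a)))) (.node (.node (.node (.leaf 0x46b) (.leaf 0x3c0d)) (.node (.leaf 0x16d5) (.leaf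 0x6408))) (.node (.node (.leaf 0x3048) (.leaf 0x4f15)) (.node (.leaf 0x2458) (.leaf 0x0))))) (.node (.node (.node (.node (.leaf 0x860) (.leaf 0x3669)) (.node (.leaf 0x2e16) (.leaf 0x5efd))) (.node (.node (.leaf 0x1f20) (.leaf 0x689d)) (.node (.leaf 0x5d44) (.leaf 0x738c)))) (.node (.node (.node (.leaf 0x3d6f) (.leaf 0x4154)) (.node (.leaf 0x3bcf) (.leaf 0x6b71))) (.node (.node (.leaf 0x2574) (.leaf 0x55b9)) (.node (.leaf 0x6351) (.leaf 0x0))))))))

/-- Closure. -/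
def clo127 : FTree := (.node (.node (.node (.node (.node (.node (.node (.leaf 0x122) (.leaf 0x2b9e)) (.node (.leaf 0x2d64) (.leaf 0x5775))) (.node (.node (.leaf 0x2ea7) (.leaf 0x4313)) (.node (.leaf 0x343c) (.leaf 0x6c72)))) (.node (.node (.node (.leaf 0x13c8) (.leaf 0x39ab)) (.node (.leaf 0x4437) (.leaf 0x63ca))) (.node (.node (.leaf 0xcc4) (.leaf 0x4cb5)) (.node (.leaf 0x309e) (.leaf 0x7592))))) (.node (.node (.node (.node (.leaf 0x3647) (.leaf 0x327a)) (.node (.leaf 0x1939) (.leaf 0x5b05))) (.node (.node (.leaf 0x7d7) (.leaf 0x4773)) (.node (.leaf 0x1f9a) (.leaf 0x7261)))) (.node (.node (.node (.leaf 0x8dc) (.leaf 0x3dad)) (.node (.leaf 0x1865) (.leaf 0x69ea))) (.node (.node (.leaf 0x5474) (.leaf 0x52f1)) (.node (.leaf 0x44ad) (.leaf 0x0)))))) (.node (.node (.node (.node (.node (.leaf 0x367) (.leaf 0x2f74)) (.node (.leaf 0x461c) (.leaf 0x596c))) (.node (.node (.leaf 0x27c2) (.leaf 0x44f2)) (.node (.leaf 0x3f0f)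 (.leaf 0x7089)))) (.node (.node (.node (.leaf 0x295a) (.leaf 0x3a20)) (.node (.leaf 0x15dc) (.leaf 0x65df))) (.node (.node (.leaf 0xbf9) (.leaf 0x4ef7)) (.node (.leaf 0x2f9e) (.leaf 0x0))))) (.node (.node (.node (.node (.leaf 0xf15) (.leaf 0x35a1)) (.node (.leaf 0x1410) (.leaf 0x60fb))) (.node (.node (.leaf 0x97e) (.leaf 0x4b3b)) (.node (.leaf 0x2f37) (.leaf 0x73b1)))) (.node (.node (.node (.leaf 0x5a0) (.leaf 0x3fec)) (.node (.leaf 0x19c9) (.leaf 0x6a9d))) (.node (.node (.leaf 0xe5b) (.leaf 0x5605)) (.node (.leaf 0x26cc) (.leaf 0x0))))))) (.node (.node (.node (.node (.node (.node (.leaf 0x0) (.leaf 0x0)) (.node (.leaf 0x0) (.leaf 0x0))) (.node (.node (.leaf 0x0) (.leaf 0x0)) (.node (.leaf 0x0) (.leaf 0x0)))) (.node (.node (.node (.leaf 0x0) (.leaf 0x0)) (.node (.leaf 0x0) (.leaf 0x0))) (.node (.node (.leaf 0x0) (.leaf 0x0)) (.node (.leaf 0x0) (.leaf 0x0))))) (.node (.node (.node (.node (.leaf 0x0) (.leaf 0x0))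 (.node (.leaf 0x0) (.leaf 0x0))) (.node (.node (.leaf 0x0) (.leaf 0x0)) (.node (.leaf 0x0) (.leaf 0x0)))) (.node (.node (.node (.leaf 0x0) (.leaf 0x0)) (.node (.leaf 0x0) (.leaf 0x0))) (.node (.node (.leaf 0x0) (.leaf 0x0)) (.node (.leaf 0x0) (.leaf 0x0)))))) (.node (.node (.node (.node (.node (.leaf 0x0) (.leaf 0x0)) (.node (.leaf 0x0) (.leaf 0x0))) (.node (.node (.leaf 0x0) (.leaf 0x0)) (.node (.leaf 0x0) (.leaf 0x0)))) (.node (.node (.node (.leaf 0x0) (.leaf 0x0)) (.node (.leaf 0x0) (.leaf 0x0))) (.node (.node (.leaf 0x0) (.leaf 0x0)) (.node (.leaf 0x0) (.leaf 0x0))))) (.node (.node (.node (.node (.leaf 0x0) (.leaf 0x0)) (.node (.leaf 0x0) (.leaf 0x0))) (.node (.node (.leaf 0x0) (.leaf 0x0)) (.node (.leaf 0x0) (.leaf 0x0)))) (.node (.node (.node (.leaf 0x0) (.leaf 0x0)) (.node (.leaf 0x0) (.leaf 0x0))) (.node (.node (.leaf 0x0) (.leaf 0x0)) (.node (.leaf 0x0) (.leaf 0x0))))))))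

/-- Closure. -/
def clo128 : FTree := (.node (.node (.node (.node (.node (.node (.node (.leaf 0x4) (.leaf 0x532a)) (.node (.leaf 0x2d60) (.leaf 0x578c))) (.node (.node (.leaf 0x9d4) (.leaf 0x44a5)) (.node (.leaf 0x3531) (.leaf 0x6cfc)))) (.node (.node (.node (.leaf 0x37b) (.leaf 0x39a4)) (.node (.leaf 0x156c) (.leaf 0x6275))) (.node (.node (.leaf 0xb86) (.leaf 0x4d44)) (.node (.leaf 0x2aef) (.leaf 0x7550))))) (.node (.node (.node (.node (.leaf 0x12f0) (.leaf 0x333c)) (.node (.leaf 0x33d4) (.leaf 0x5e0c))) (.node (.node (.leaf 0x3df2) (.leaf 0x505b)) (.node (.leaf 0x2f58) (.leaf 0x72fd)))) (.node (.node (.node (.leaf 0x3fc9) (.leaf 0x3f87)) (.node (.leaf 0x4ba5) (.leaf 0x694f))) (.node (.node (.leaf 0x3391) (.leaf 0x52db)) (.node (.leaf 0x25ac) (.leaf 0x0)))))) (.node (.node (.node (.node (.node (.leaf 0x346) (.leaf 0x2f0a)) (.node (.leaf 0x4e84) (.leaf 0x5924))) (.node (.node (.leaf 0x9f7) (.leaf 0x5863)) (.node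 (.leaf 0x1e52) (.leaf 0x70dc)))) (.node (.node (.node (.leaf 0x3685) (.leaf 0x3c74)) (.node (.leaf 0x159d) (.leaf 0x64f8))) (.node (.node (.leaf 0x29ac) (.leaf 0x502a)) (.node (.leaf 0x2aab) (.leaf 0x0))))) (.node (.node (.node (.node (.leaf 0x42cb) (.leaf 0x41e0)) (.node (.leaf 0x13a5) (.leaf 0x5fc8))) (.node (.node (.leaf 0xa4a) (.leaf 0x5ea7)) (.node (.leaf 0x20e5) (.leaf 0x7385)))) (.node (.node (.node (.leaf 0x1324) (.leaf 0x411a)) (.node (.leaf 0x1959) (.leaf 0x6c02))) (.node (.node (.leaf 0x501b) (.leaf 0x54e3)) (.node (.leaf 0x2757) (.leaf 0x0))))))) (.node (.node (.node (.node (.node (.node (.leaf 0x14f) (.leaf 0x2bcd)) (.node (.leaf 0xf42) (.leaf 0x5804))) (.node (.node (.leaf 0xb1e) (.leaf 0x4864)) (.node (.leaf 0x1be5) (.leaf 0x6e01)))) (.node (.node (.node (.leaf 0x4682) (.leaf 0x37f8)) (.node (.leaf 0x18af) (.leaf 0x63c2))) (.node (.node (.leaf 0x1805) (.leaf 0x4cae)) (.node (.leaf 0x229a) (.leaf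 0x7684))))) (.node (.node (.node (.node (.leaf 0x56f) (.leaf 0x31fc)) (.node (.leaf 0x3f9e) (.leaf 0x5b33))) (.node (.node (.leaf 0x1856) (.leaf 0x481d)) (.node (.leaf 0x2096) (.leaf 0x71a7)))) (.node (.node (.node (.leaf 0x4a69) (.leaf 0x3f4a)) (.node (.leaf 0x54f6) (.leaf 0x69a6))) (.node (.node (.leaf 0x10e7) (.leaf 0x5219)) (.node (.leaf 0x25ae) (.leaf 0x0)))))) (.node (.node (.node (.node (.node (.leaf 0x239) (.leaf 0x2d53)) (.node (.leaf 0x1046) (.leaf 0x58ba))) (.node (.node (.leaf 0x2bb3) (.leaf 0x4613)) (.node (.leaf 0x1d31) (.leaf 0x6f77)))) (.node (.node (.node (.leaf 0x4e52) (.leaf 0x3f3c)) (.node (.leaf 0x157f) (.leaf 0x6644))) (.node (.node (.leaf 0xc18) (.leaf 0x4f21)) (.node (.leaf 0x2405) (.leaf 0x0))))) (.node (.node (.node (.node (.leaf 0x4f50) (.leaf 0x35b6)) (.node (.leaf 0x1392) (.leaf 0x5f89))) (.node (.node (.leaf 0x906) (.leaf 0x4a05)) (.node (.leaf 0x21b4) (.leaf 0x736b)))) (.node (.node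 (.node (.leaf 0x29cc) (.leaf 0x4428)) (.node (.leaf 0x193e) (.leaf 0x6ab2))) (.node (.node (.leaf 0xdfc) (.leaf 0x5434)) (.node (.leaf 0x3f75) (.leaf 0x0))))))))

/-- Closure. -/
def clo129 : FTree := (.node (.node (.node (.node (.node (.node (.node (.leaf 0x9c) (.leaf 0x2b8c)) (.node (.leaf 0x3197) (.leaf 0x56b5))) (.node (.node (.leaf 0x684) (.leaf 0x6531)) (.node (.leaf 0x1ac9) (.leaf 0x6dea)))) (.node (.node (.node (.leaf 0x524) (.leaf 0x45fa)) (.node (.leaf 0x1550) (.leaf 0x6521))) (.node (.node (.leaf 0xb64) (.leaf 0x4cee)) (.node (.leaf 0x227b) (.leaf 0x76b2))))) (.node (.node (.node (.node (.leaf 0x86f) (.leaf 0x34c9)) (.node (.leaf 0x11d9) (.leaf 0x5ad9))) (.node (.node (.leaf 0x3016) (.leaf 0x483c)) (.node (.leaf 0x2058) (.leaf 0x7158)))) (.node (.node (.node (.leaf 0x3bbd) (.leaf 0x3f13)) (.node (.leaf 0x1830) (.leaf 0x6982))) (.node (.node (.leaf 0x23d7) (.leaf 0x51a3)) (.node (.leaf 0x2bfe) (.leaf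 0x0)))))) (.node (.node (.node (.node (.node (.leaf 0xbb3) (.leaf 0x2f3c)) (.node (.leaf 0x415e) (.leaf 0x59c6))) (.node (.node (.leaf 0x1e79) (.leaf 0x45cf)) (.node (.leaf 0x1eb3) (.leaf 0x6f16)))) (.node (.node (.node (.leaf 0x3ee) (.leaf 0x3a91)) (.node (.leaf 0x34b6) (.leaf 0x6481))) (.node (.node (.leaf 0xc6c) (.leaf 0x4eeb)) (.node (.leaf 0x4026) (.leaf 0x0))))) (.node (.node (.node (.node (.leaf 0x2cb2) (.leaf 0x4b3a)) (.node (.leaf 0x13af) (.leaf 0x5f1a))) (.node (.node (.leaf 0x9c5) (.leaf 0x4ab0)) (.node (.leaf 0x2c11) (.leaf 0x7340)))) (.node (.node (.node (.leaf 0x59d) (.leaf 0x48ca)) (.node (.leaf 0x34dd) (.leaf 0x6baf))) (.node (.node (.leaf 0x4633) (.leaf 0x5622)) (.node (.leaf 0x282c) (.leaf 0x0))))))) (.node (.node (.node (.node (.node (.node (.leaf 0x16f) (.leaf 0x2a8c)) (.node (.leaf 0x5fab) (.leaf 0x56c2))) (.node (.node (.leaf 0x66a) (.leaf 0x4366)) (.node (.leaf 0x5b53) (.leaf 0x6caf)))) (.node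 (.node (.node (.leaf 0x1c7c) (.leaf 0x37a2)) (.node (.leaf 0x15fb) (.leaf 0x635e))) (.node (.node (.leaf 0x2dd7) (.leaf 0x4c7f)) (.node (.leaf 0x2324) (.leaf 0x755c))))) (.node (.node (.node (.node (.leaf 0x8e0) (.leaf 0x3383)) (.node (.leaf 0x11bc) (.leaf 0x677a))) (.node (.node (.leaf 0x3d44) (.leaf 0x47c4)) (.node (.leaf 0x1fe2) (.leaf 0x715e)))) (.node (.node (.node (.leaf 0x690) (.leaf 0x3e83)) (.node (.leaf 0x4fe9) (.leaf 0x66d9))) (.node (.node (.leaf 0xd4a) (.leaf 0x52a7)) (.node (.leaf 0x3283) (.leaf 0x0)))))) (.node (.node (.node (.node (.node (.leaf 0x2d9) (.leaf 0x44bf)) (.node (.leaf 0x17c2) (.leaf 0x5905))) (.node (.node (.leaf 0x200a) (.leaf 0x45ac)) (.node (.leaf 0x1ce4) (.leaf 0x6fb1)))) (.node (.node (.node (.leaf 0x49d) (.leaf 0x3aab)) (.node (.leaf 0x1658) (.leaf 0x6525))) (.node (.node (.leaf 0x6167) (.leaf 0x507f)) (.node (.leaf 0x236b) (.leaf 0x0))))) (.node (.node (.node (.node (.leaf 0x3d2)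 (.leaf 0x3677)) (.node (.leaf 0x133a) (.leaf 0x608f))) (.node (.node (.leaf 0x1f41) (.leaf 0x4b48)) (.node (.leaf 0x2217) (.leaf 0x74ff)))) (.node (.node (.node (.leaf 0x2e3e) (.leaf 0x418f)) (.node (.leaf 0x19f5) (.leaf 0x6ab0))) (.node (.node (.leaf 0x1106) (.leaf 0x54dc)) (.node (.leaf 0x28ad) (.leaf 0x0))))))))

/-- Closure. -/
def clo130 : FTree := (.node (.node (.node (.node (.node (.node (.node (.leaf 0x4d) (.leaf 0x3abf)) (.node (.leaf 0xf55) (.leaf 0x6a03))) (.node (.node (.leaf 0x956) (.leaf 0x4346)) (.node (.leaf 0x2073) (.leaf 0x6d41)))) (.node (.node (.node (.leaf 0x536) (.leaf 0x37f2)) (.node (.leaf 0x1481) (.leaf 0x62ab))) (.node (.node (.leaf 0xb98) (.leaf 0x4dc0)) (.node (.leaf 0x22ea) (.leaf 0x7536))))) (.node (.node (.node (.node (.leaf 0x3ae) (.leaf 0x3332)) (.node (.leaf 0x1201) (.leaf 0x5e2b))) (.node (.node (.leaf 0x1152) (.leaf 0x47b4)) (.node (.leaf 0x1f82) (.leaf 0x7214)))) (.node (.node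 (.node (.leaf 0x44b8) (.leaf 0x3e3a)) (.node (.leaf 0x34aa) (.leaf 0x69a2))) (.node (.node (.leaf 0x16a1) (.leaf 0x5210)) (.node (.leaf 0x353a) (.leaf 0x0)))))) (.node (.node (.node (.node (.node (.leaf 0x76f) (.leaf 0x2e4a)) (.node (.leaf 0x101a) (.leaf 0x5a99))) (.node (.node (.leaf 0x1a43) (.leaf 0x4591)) (.node (.leaf 0x1d6e) (.leaf 0x6f89)))) (.node (.node (.node (.leaf 0x6216) (.leaf 0x50b9)) (.node (.leaf 0x167d) (.leaf 0x6855))) (.node (.node (.leaf 0x29bb) (.leaf 0x639b)) (.node (.leaf 0x247c) (.leaf 0x0))))) (.node (.node (.node (.node (.leaf 0x5b09) (.leaf 0x4b7f)) (.node (.leaf 0x688a) (.leaf 0x60c6))) (.node (.node (.leaf 0x302f) (.leaf 0x4adf)) (.node (.leaf 0x33c6) (.leaf 0x7413)))) (.node (.node (.node (.leaf 0x650) (.leaf 0x551d)) (.node (.leaf 0x19ca) (.leaf 0x6a8a))) (.node (.node (.leaf 0x50ff) (.leaf 0x55b0)) (.node (.leaf 0x26cf) (.leaf 0x0))))))) (.node (.node (.node (.node (.node (.node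 (.leaf 0x136) (.leaf 0x2c78)) (.node (.leaf 0x31f2) (.leaf 0x57dc))) (.node (.node (.leaf 0x1f4e) (.leaf 0x4389)) (.node (.leaf 0x23e5) (.leaf 0x6dba)))) (.node (.node (.node (.leaf 0x4660) (.leaf 0x39a6)) (.node (.leaf 0x329c) (.leaf 0x6392))) (.node (.node (.leaf 0x1ed6) (.leaf 0x4dc9)) (.node (.leaf 0x2ae7) (.leaf 0x7699))))) (.node (.node (.node (.node (.leaf 0x49c4) (.leaf 0x32cd)) (.node (.leaf 0x54ef) (.leaf 0x6152))) (.node (.node (.leaf 0x1d22) (.leaf 0x4784)) (.node (.leaf 0x2c64) (.leaf 0x71de)))) (.node (.node (.node (.leaf 0x4e61) (.leaf 0x3e43)) (.node (.leaf 0x549d) (.leaf 0x69a9))) (.node (.node (.leaf 0xcd8) (.leaf 0x5233)) (.node (.leaf 0x25ea) (.leaf 0x0)))))) (.node (.node (.node (.node (.node (.leaf 0x783) (.leaf 0x3a3f)) (.node (.leaf 0x675e) (.leaf 0x591f))) (.node (.node (.leaf 0x2169) (.leaf 0x454c)) (.node (.leaf 0x4f72) (.leaf 0x6f4e)))) (.node (.node (.node (.leaf 0x3f3) (.leaf 0x3cba))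 (.node (.leaf 0x44c6) (.leaf 0x6518))) (.node (.node (.leaf 0x29a6) (.leaf 0x4f88)) (.node (.leaf 0x2365) (.leaf 0x0))))) (.node (.node (.node (.node (.leaf 0x935) (.leaf 0x36bb)) (.node (.leaf 0x1425) (.leaf 0x5fe2))) (.node (.node (.leaf 0xa05) (.leaf 0x4ba8)) (.node (.leaf 0x21ad) (.leaf 0x74f8)))) (.node (.node (.node (.leaf 0xd64) (.leaf 0x4b17)) (.node (.leaf 0x19d7) (.leaf 0x6b5e))) (.node (.node (.leaf 0x62f0) (.leaf 0x53b0)) (.node (.leaf 0x332e) (.leaf 0x0))))))))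

/-- Closure. -/
def clo131 : FTree := (.node (.node (.node (.node (.node (.node (.node (.leaf 0xae) (.leaf 0x2ac7)) (.node (.leaf 0x10b7) (.leaf 0x56d1))) (.node (.node (.leaf 0x26a8) (.leaf 0x438c)) (.node (.leaf 0x1b2c) (.leaf 0x6d2f)))) (.node (.node (.node (.leaf 0x4665) (.leaf 0x3f6a)) (.node (.leaf 0x153b) (.leaf 0x626d))) (.node (.node (.leaf 0x2a49) (.leaf 0x4d4f)) (.node (.leaf 0x587f) (.leaf 0x7580))))) (.node (.node (.node (.node (.leaf 0x2fda) (.leaf 0x32e2)) (.node (.leaf 0x3b4d) (.leaf 0x5ded))) (.node (.node (.leaf 0x886) (.leaf 0x4856)) (.node (.leaf 0x2028) (.leaf 0x7308)))) (.node (.node (.node (.leaf 0x3ad5) (.leaf 0x3d3b)) (.node (.leaf 0x17a0) (.leaf 0x685d))) (.node (.node (.leaf 0x5d50) (.leaf 0x5206)) (.node (.leaf 0x3541) (.leaf 0x0)))))) (.node (.node (.node (.node (.node (.leaf 0x770) (.leaf 0x2e9d)) (.node (.leaf 0x56e6) (.leaf 0x5982))) (.node (.node (.leaf 0x73e) (.leaf 0x4756)) (.node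 (.leaf 0x2ddf) (.leaf 0x704e)))) (.node (.node (.node (.leaf 0x3a31) (.leaf 0x39f9)) (.node (.leaf 0x1d68) (.leaf 0x64b3))) (.node (.node (.leaf 0x3059) (.leaf 0x4eb4)) (.node (.leaf 0x241d) (.leaf 0x0))))) (.node (.node (.node (.node (.leaf 0x40a) (.leaf 0x3b93)) (.node (.leaf 0x26f3) (.leaf 0x5ff8))) (.node (.node (.leaf 0x33e5) (.leaf 0x4bcf)) (.node (.leaf 0x34d1) (.leaf 0x74d2)))) (.node (.node (.node (.leaf 0x5ce) (.leaf 0x3ff6)) (.node (.leaf 0x2c1c) (.leaf 0x6c19))) (.node (.node (.leaf 0xe61) (.leaf 0x5356)) (.node (.leaf 0x5467) (.leaf 0x0))))))) (.node (.node (.node (.node (.node (.node (.leaf 0x1d0) (.leaf 0x2b5b)) (.node (.leaf 0x31ee) (.leaf 0x5700))) (.node (.node (.leaf 0x3834) (.leaf 0x65be)) (.node (.leaf 0x1b17) (.leaf 0x6d08)))) (.node (.node (.node (.leaf 0x2dea) (.leaf 0x3948)) (.node (.leaf 0x1e19) (.leaf 0x63d2))) (.node (.node (.leaf 0x1d11) (.leaf 0x4ca8)) (.node (.leaf 0x54d1) (.leaf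 0x764a))))) (.node (.node (.node (.node (.leaf 0x504c) (.leaf 0x319d)) (.node (.leaf 0x31fd) (.leaf 0x5cef))) (.node (.node (.leaf 0xefa) (.leaf 0x4772)) (.node (.leaf 0x1f44) (.leaf 0x7211)))) (.node (.node (.node (.leaf 0x3352) (.leaf 0x3dee)) (.node (.leaf 0x240d) (.leaf 0x688d))) (.node (.node (.leaf 0xda6) (.leaf 0x5310)) (.node (.leaf 0x263d) (.leaf 0x0)))))) (.node (.node (.node (.node (.node (.leaf 0x79b) (.leaf 0x2f30)) (.node (.leaf 0x2eef) (.leaf 0x59e1))) (.node (.node (.leaf 0x713) (.leaf 0x44f9)) (.node (.leaf 0x1e08) (.leaf 0x6fed)))) (.node (.node (.node (.leaf 0x418) (.leaf 0x3abe)) (.node (.leaf 0x33f2) (.leaf 0x647d))) (.node (.node (.leaf 0xc27) (.leaf 0x4f13)) (.node (.leaf 0x24c8) (.leaf 0x0))))) (.node (.node (.node (.node (.leaf 0x576) (.leaf 0x3727)) (.node (.leaf 0x135f) (.leaf 0x60a8))) (.node (.node (.leaf 0x93e) (.leaf 0x63fc)) (.node (.leaf 0x211c) (.leaf 0x7359)))) (.node (.node (.node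 (.leaf 0x1cf6) (.leaf 0x4051)) (.node (.leaf 0x19b5) (.leaf 0x6a3e))) (.node (.node (.leaf 0x4213) (.leaf 0x53ed)) (.node (.leaf 0x26da) (.leaf 0x0))))))))

/-- Closure. -/
def clo132 : FTree := (.node (.node (.node (.node (.node (.node (.node (.leaf 0x2f) (.leaf 0x2a03)) (.node (.leaf 0x5d91) (.leaf 0x56fb))) (.node (.node (.leaf 0xa1d) (.leaf 0x43ec)) (.node (.leaf 0x1bd5) (.leaf 0x6c7f)))) (.node (.node (.node (.leaf 0x13c1) (.leaf 0x400c)) (.node (.leaf 0x1525) (.leaf 0x630d))) (.node (.node (.leaf 0x1a71) (.leaf 0x4de0)) (.node (.leaf 0x2ce2) (.leaf 0x770c))))) (.node (.node (.node (.node (.leaf 0x3c7) (.leaf 0x3037)) (.node (.leaf 0x4f0e) (.leaf 0x5e1f))) (.node (.node (.leaf 0x2ff8) (.leaf 0x4930)) (.node (.leaf 0x2034) (.leaf 0x71c1)))) (.node (.node (.node (.leaf 0x17cb) (.leaf 0x3dae)) (.node (.leaf 0x182a) (.leaf 0x69eb))) (.node (.node (.leaf 0xd69) (.leaf 0x5288)) (.node (.leaf 0x5e86) (.leaf 0x0))))))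 (.node (.node (.node (.node (.node (.leaf 0x252) (.leaf 0x2f50)) (.node (.leaf 0x11ba) (.leaf 0x593d))) (.node (.node (.leaf 0x45e1) (.leaf 0x472e)) (.node (.leaf 0x1ed7) (.leaf 0x6faf)))) (.node (.node (.node (.leaf 0x2966) (.leaf 0x3a58)) (.node (.leaf 0x1678) (.leaf 0x65e5))) (.node (.node (.leaf 0x3051) (.leaf 0x4f28)) (.node (.leaf 0x234b) (.leaf 0x0))))) (.node (.node (.node (.node (.leaf 0xf10) (.leaf 0x3711)) (.node (.leaf 0x4a2d) (.leaf 0x6063))) (.node (.node (.leaf 0x1ebd) (.leaf 0x689a)) (.node (.leaf 0x21e5) (.leaf 0x742b)))) (.node (.node (.node (.leaf 0x3b78) (.leaf 0x4b1b)) (.node (.leaf 0x1935) (.leaf 0x6ae8))) (.node (.node (.leaf 0xfbf) (.leaf 0x533d)) (.node (.leaf 0x287d) (.leaf 0x0))))))) (.node (.node (.node (.node (.node (.node (.leaf 0x174) (.leaf 0x2ac6)) (.node (.leaf 0xf28) (.leaf 0x57f5))) (.node (.node (.leaf 0x36f1) (.leaf 0x4374)) (.node (.leaf 0x1b42) (.leaf 0x6d79)))) (.node (.node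 (.node (.leaf 0x521) (.leaf 0x38a8)) (.node (.leaf 0x50f8) (.leaf 0x63c0))) (.node (.node (.leaf 0x3138) (.leaf 0x4cfb)) (.node (.leaf 0x30a3) (.leaf 0x7636))))) (.node (.node (.node (.node (.leaf 0x42b3) (.leaf 0x3327)) (.node (.leaf 0x1e24) (.leaf 0x5ce8))) (.node (.node (.leaf 0x801) (.leaf 0x4775)) (.node (.leaf 0x1f5d) (.leaf 0x71f6)))) (.node (.node (.node (.leaf 0x14a2) (.leaf 0x3d72)) (.node (.leaf 0x1879) (.leaf 0x6a05))) (.node (.node (.leaf 0x1953) (.leaf 0x5642)) (.node (.leaf 0x4477) (.leaf 0x0)))))) (.node (.node (.node (.node (.node (.leaf 0x26c) (.leaf 0x2edd)) (.node (.leaf 0x105f) (.leaf 0x5956))) (.node (.node (.leaf 0x4e88) (.leaf 0x44f6)) (.node (.leaf 0x3af5) (.leaf 0x70ca)))) (.node (.node (.node (.leaf 0x2969) (.leaf 0x3a67)) (.node (.leaf 0x15cd) (.leaf 0x6564))) (.node (.node (.leaf 0xbd0) (.leaf 0x4eac)) (.node (.leaf 0x24bf) (.leaf 0x0))))) (.node (.node (.node (.node (.leaf 0x318) (.leaf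 0x3ab4)) (.node (.leaf 0x13ac) (.leaf 0x5f30))) (.node (.node (.leaf 0x9d6) (.leaf 0x4a8e)) (.node (.leaf 0x210d) (.leaf 0x73c6)))) (.node (.node (.node (.leaf 0x1cce) (.leaf 0x4049)) (.node (.leaf 0x5078) (.leaf 0x6b1d))) (.node (.node (.leaf 0x444c) (.leaf 0x55e0)) (.node (.leaf 0x26cb) (.leaf 0x0))))))))

/-- Closure. -/
def clo133 : FTree := (.node (.node (.node (.node (.node (.node (.node (.leaf 0xd2) (.leaf 0x302d)) (.node (.leaf 0xf0e) (.leaf 0x5df9))) (.node (.node (.leaf 0x69f) (.leaf 0x4322)) (.node (.leaf 0x5be0) (.leaf 0x6eca)))) (.node (.node (.node (.leaf 0x377) (.leaf 0x3f70)) (.node (.leaf 0x32a1) (.leaf 0x6288))) (.node (.node (.leaf 0xaf5) (.leaf 0x5ecd)) (.node (.leaf 0x226f) (.leaf 0x759a))))) (.node (.node (.node (.node (.leaf 0x30b) (.leaf 0x30bb)) (.node (.leaf 0x2a3b) (.leaf 0x63ef))) (.node (.node (.leaf 0x866) (.leaf 0x496a)) (.node (.leaf 0x1f3e) (.leaf 0x7129)))) (.node (.node (.node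 (.leaf 0x1ce9) (.leaf 0x3d50)) (.node (.leaf 0x26a0) (.leaf 0x699c))) (.node (.node (.leaf 0xced) (.leaf 0x58af)) (.node (.leaf 0x2533) (.leaf 0x0)))))) (.node (.node (.node (.node (.node (.leaf 0x20e) (.leaf 0x2eeb)) (.node (.leaf 0x1c49) (.leaf 0x58d9))) (.node (.node (.leaf 0x43b8) (.leaf 0x45c7)) (.node (.leaf 0x1cf3) (.leaf 0x6fc8)))) (.node (.node (.node (.leaf 0x667) (.leaf 0x49d9)) (.node (.leaf 0x15db) (.leaf 0x64e4))) (.node (.node (.leaf 0xbd3) (.leaf 0x4f47)) (.node (.leaf 0x23c4) (.leaf 0x0))))) (.node (.node (.node (.node (.leaf 0x39d) (.leaf 0x370e)) (.node (.leaf 0x1317) (.leaf 0x60f8))) (.node (.node (.leaf 0x28b1) (.leaf 0x4a4c)) (.node (.leaf 0x21d2) (.leaf 0x73d5)))) (.node (.node (.node (.leaf 0x564) (.leaf 0x423c)) (.node (.leaf 0x5858) (.leaf 0x6b9d))) (.node (.node (.leaf 0xdb9) (.leaf 0x5404)) (.node (.leaf 0x30d6) (.leaf 0x0))))))) (.node (.node (.node (.node (.node (.node (.leaf 0x15d)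 (.leaf 0x2a2c)) (.node (.leaf 0x315d) (.leaf 0x571d))) (.node (.node (.leaf 0x11b3) (.leaf 0x4f8a)) (.node (.leaf 0x41a1) (.leaf 0x6cc0)))) (.node (.node (.node (.leaf 0x3ce1) (.leaf 0x3819)) (.node (.leaf 0x145d) (.leaf 0x638b))) (.node (.node (.leaf 0x27a1) (.leaf 0x4c43)) (.node (.leaf 0x662e) (.leaf 0x75aa))))) (.node (.node (.node (.node (.leaf 0x2fbb) (.leaf 0x345f)) (.node (.leaf 0x1fb0) (.leaf 0x5b74))) (.node (.node (.leaf 0x174f) (.leaf 0x4793)) (.node (.leaf 0x6691) (.leaf 0x71be)))) (.node (.node (.node (.leaf 0x910) (.leaf 0x3eea)) (.node (.leaf 0x1825) (.leaf 0x6813))) (.node (.node (.leaf 0x21ff) (.leaf 0x5204)) (.node (.leaf 0x3132) (.leaf 0x0)))))) (.node (.node (.node (.node (.node (.leaf 0x2e2) (.leaf 0x2ec9)) (.node (.leaf 0x1bad) (.leaf 0x5a29))) (.node (.node (.leaf 0x9e1) (.leaf 0x46fb)) (.node (.leaf 0x1da0) (.leaf 0x6fa4)))) (.node (.node (.node (.leaf 0x3d8) (.leaf 0x3c60)) (.node (.leaf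 0x33ed) (.leaf 0x6614))) (.node (.node (.leaf 0x4a9c) (.leaf 0x4ee1)) (.node (.leaf 0x239b) (.leaf 0x0))))) (.node (.node (.node (.node (.leaf 0x6145) (.leaf 0x36c0)) (.node (.leaf 0x691c) (.leaf 0x5fd9))) (.node (.node (.leaf 0x3814) (.leaf 0x4b9e)) (.node (.leaf 0x2125) (.leaf 0x74a1)))) (.node (.node (.node (.leaf 0x64ba) (.leaf 0x408a)) (.node (.leaf 0x199f) (.leaf 0x6adb))) (.node (.node (.leaf 0x5405) (.leaf 0x535f)) (.node (.leaf 0x277d) (.leaf 0x0))))))))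

/-- Closure. -/
def clo134 : FTree := (.node (.node (.node (.node (.node (.node (.node (.leaf 0x65) (.leaf 0x2c85)) (.node (.leaf 0xf60) (.leaf 0x56d6))) (.node (.node (.leaf 0x6c3) (.leaf 0x4396)) (.node (.leaf 0x1eed) (.leaf 0x6e2a)))) (.node (.node (.node (.leaf 0x1ca6) (.leaf 0x397c)) (.node (.leaf 0x1522) (.leaf 0x61da))) (.node (.node (.leaf 0x28f0) (.leaf 0x4c42)) (.node (.leaf 0x231b) (.leaf 0x7544))))) (.node (.node (.node (.node (.leaf 0x5049) (.leaf 0x46cd)) (.node (.leaf 0x148c) (.leaf 0x5c9b))) (.node (.node (.leaf 0x1f33) (.leaf 0x4999)) (.node (.leaf 0x4c02) (.leaf 0x72b7)))) (.node (.node (.node (.leaf 0x4aa) (.leaf 0x3d33)) (.node (.leaf 0x1786) (.leaf 0x67cf))) (.node (.node (.leaf 0x1014) (.leaf 0x52ad)) (.node (.leaf 0x2903) (.leaf 0x0)))))) (.node (.node (.node (.node (.node (.leaf 0x7a0) (.leaf 0x2d69)) (.node (.leaf 0x121a) (.leaf 0x59e5))) (.node (.node (.leaf 0x1b81) (.leaf 0x455d)) (.node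 (.leaf 0x1d92) (.leaf 0x701c)))) (.node (.node (.node (.leaf 0xc50) (.leaf 0x3cae)) (.node (.leaf 0x158c) (.leaf 0x6469))) (.node (.node (.leaf 0x6452) (.leaf 0x5033)) (.node (.leaf 0x41f9) (.leaf 0x0))))) (.node (.node (.node (.node (.leaf 0x6a0e) (.leaf 0x35d9)) (.node (.leaf 0x691b) (.leaf 0x5f84))) (.node (.node (.leaf 0xa35) (.leaf 0x4a41)) (.node (.leaf 0x2145) (.leaf 0x73a0)))) (.node (.node (.node (.leaf 0x2cca) (.leaf 0x41e9)) (.node (.leaf 0x3756) (.leaf 0x6a45))) (.node (.node (.leaf 0x27e1) (.leaf 0x751b)) (.node (.leaf 0x2b67) (.leaf 0x0))))))) (.node (.node (.node (.node (.node (.node (.leaf 0x17c) (.leaf 0x3b53)) (.node (.leaf 0x1a05) (.leaf 0x5851))) (.node (.node (.leaf 0x2753) (.leaf 0x491a)) (.node (.leaf 0x1fc9) (.leaf 0x6d44)))) (.node (.node (.node (.leaf 0x3cfc) (.leaf 0x40d1)) (.node (.leaf 0x1a95) (.leaf 0x63d3))) (.node (.node (.leaf 0x1072) (.leaf 0x5ed6)) (.node (.leaf 0x619d) (.leaf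 0x76c8))))) (.node (.node (.node (.node (.leaf 0x1d4d) (.leaf 0x341c)) (.node (.leaf 0x1292) (.leaf 0x5d4d))) (.node (.node (.leaf 0x3c05) (.leaf 0x4888)) (.node (.leaf 0x2082) (.leaf 0x7233)))) (.node (.node (.node (.leaf 0x2e74) (.leaf 0x3de8)) (.node (.leaf 0x284e) (.leaf 0x67e1))) (.node (.node (.leaf 0x5d51) (.leaf 0x52ee)) (.node (.leaf 0x4aac) (.leaf 0x0)))))) (.node (.node (.node (.node (.node (.leaf 0x500) (.leaf 0x2f8b)) (.node (.leaf 0x456a) (.leaf 0x592c))) (.node (.node (.leaf 0x737) (.leaf 0x4749)) (.node (.leaf 0x1ec3) (.leaf 0x6f6c)))) (.node (.node (.node (.leaf 0x6699) (.leaf 0x3b56)) (.node (.leaf 0x16b4) (.leaf 0x6624))) (.node (.node (.leaf 0xcb2) (.leaf 0x4eb8)) (.node (.leaf 0x245d) (.leaf 0x0))))) (.node (.node (.node (.node (.leaf 0x310e) (.leaf 0x5143)) (.node (.leaf 0x3e52) (.leaf 0x611c))) (.node (.node (.leaf 0xdf0) (.leaf 0x4b03)) (.node (.leaf 0x21fb) (.leaf 0x7428)))) (.node (.node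 (.node (.leaf 0x5fa) (.leaf 0x568e)) (.node (.leaf 0x752d) (.leaf 0x6a7a))) (.node (.node (.leaf 0x6684) (.leaf 0x5393)) (.node (.leaf 0x5b9f) (.leaf 0x0))))))))

/-- Closure. -/
def clo135 : FTree := (.node (.node (.node (.node (.node (.node (.node (.leaf 0xea) (.leaf 0x2a8b)) (.node (.leaf 0x31e2) (.leaf 0x5872))) (.node (.node (.leaf 0x5dad) (.leaf 0x445c)) (.node (.leaf 0x1afb) (.leaf 0x7652)))) (.node (.node (.node (.leaf 0x7f0) (.leaf 0x39c2)) (.node (.leaf 0x148b) (.leaf 0x63b8))) (.node (.node (.leaf 0x2dd9) (.leaf 0x4de4)) (.node (.leaf 0x673d) (.leaf 0x75ca))))) (.node (.node (.node (.node (.leaf 0x2d30) (.leaf 0x323e)) (.node (.leaf 0x6e75) (.leaf 0x5cdc))) (.node (.node (.leaf 0x891) (.leaf 0x47d5)) (.node (.leaf 0x1f7a) (.leaf 0x713a)))) (.node (.node (.node (.leaf 0x945) (.leaf 0x3ece)) (.node (.leaf 0x1743) (.leaf 0x675a))) (.node (.node (.leaf 0xcd3) (.leaf 0x52b9)) (.node (.leaf 0x32af) (.leaf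 0x0)))))) (.node (.node (.node (.node (.node (.leaf 0x7ac) (.leaf 0x2e55)) (.node (.leaf 0x4e3c) (.leaf 0x593b))) (.node (.node (.leaf 0x10a3) (.leaf 0x4732)) (.node (.leaf 0x1e77) (.leaf 0x6fcb)))) (.node (.node (.node (.leaf 0x6834) (.leaf 0x4280)) (.node (.leaf 0x3c9e) (.leaf 0x663c))) (.node (.node (.leaf 0x6a3b) (.leaf 0x5016)) (.node (.leaf 0x23b7) (.leaf 0x0))))) (.node (.node (.node (.node (.leaf 0x3029) (.leaf 0x3679)) (.node (.leaf 0x1333) (.leaf 0x6006))) (.node (.node (.leaf 0x2b70) (.leaf 0x4ae5)) (.node (.leaf 0x39f0) (.leaf 0x74a6)))) (.node (.node (.node (.leaf 0xad7) (.leaf 0x42a0)) (.node (.leaf 0x3c8f) (.leaf 0x6a1a))) (.node (.node (.leaf 0x5cc6) (.leaf 0x5544)) (.node (.leaf 0x289c) (.leaf 0x0))))))) (.node (.node (.node (.node (.node (.node (.leaf 0x1f0) (.leaf 0x2ad5)) (.node (.leaf 0x5f9f) (.leaf 0x69ce))) (.node (.node (.leaf 0xac1) (.leaf 0x446a)) (.node (.leaf 0x3200) (.leaf 0x6eab))))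 (.node (.node (.node (.leaf 0x13d5) (.leaf 0x3973)) (.node (.leaf 0x1509) (.leaf 0x62d2))) (.node (.node (.leaf 0x1d37) (.leaf 0x4c91)) (.node (.leaf 0x3092) (.leaf 0x758a))))) (.node (.node (.node (.node (.leaf 0x44a) (.leaf 0x3434)) (.node (.leaf 0x121d) (.leaf 0x5e0e))) (.node (.node (.leaf 0x2e49) (.leaf 0x48af)) (.node (.leaf 0x1f45) (.leaf 0x719c)))) (.node (.node (.node (.leaf 0x54e8) (.leaf 0x46dc)) (.node (.leaf 0x2ca1) (.leaf 0x6943))) (.node (.node (.leaf 0xe48) (.leaf 0x518a)) (.node (.leaf 0x25e1) (.leaf 0x0)))))) (.node (.node (.node (.node (.node (.leaf 0x2e9) (.leaf 0x68e9)) (.node (.leaf 0x110e) (.leaf 0x5a39))) (.node (.node (.leaf 0xa26) (.leaf 0x4552)) (.node (.leaf 0x1ed1) (.leaf 0x7100)))) (.node (.node (.node (.leaf 0x2ac3) (.leaf 0x3c90)) (.node (.leaf 0x1684) (.leaf 0x6483))) (.node (.node (.leaf 0x4a99) (.leaf 0x4e98)) (.node (.leaf 0x24c9) (.leaf 0x0))))) (.node (.node (.node (.node (.leaf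 0x2995) (.leaf 0x36b8)) (.node (.leaf 0x1384) (.leaf 0x5fd3))) (.node (.node (.leaf 0x992) (.leaf 0x4a3b)) (.node (.leaf 0x214a) (.leaf 0x733f)))) (.node (.node (.node (.leaf 0x3ae0) (.leaf 0x426d)) (.node (.leaf 0x3c21) (.leaf 0x6a81))) (.node (.node (.leaf 0xe9f) (.leaf 0x54fe)) (.node (.leaf 0x2715) (.leaf 0x0))))))))

/-- Closure. -/
def clo136 : FTree := (.node (.node (.node (.node (.node (.node (.node (.leaf 0x20) (.leaf 0x298d)) (.node (.leaf 0xfad) (.leaf 0x56f9))) (.node (.node (.leaf 0x30be) (.leaf 0x44a9)) (.node (.leaf 0x1c48) (.leaf 0x6e9f)))) (.node (.node (.node (.leaf 0x3d15) (.leaf 0x3876)) (.node (.leaf 0x1475) (.leaf 0x6210))) (.node (.node (.leaf 0x5d80) (.leaf 0x4c3d)) (.node (.leaf 0x22f4) (.leaf 0x7604))))) (.node (.node (.node (.node (.leaf 0x171e) (.leaf 0x32e5)) (.node (.leaf 0x115b) (.leaf 0x5d75))) (.node (.node (.leaf 0xe98) (.leaf 0x492f)) (.node (.leaf 0x24e9) (.leaf 0x712d)))) (.node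 (.node (.node (.leaf 0x748) (.leaf 0x3e0e)) (.node (.leaf 0x1835) (.leaf 0x67c2))) (.node (.node (.leaf 0x1542) (.leaf 0x52b3)) (.node (.leaf 0x2526) (.leaf 0x0)))))) (.node (.node (.node (.node (.node (.leaf 0x4b4) (.leaf 0x2f1b)) (.node (.leaf 0x12e0) (.leaf 0x5a0f))) (.node (.node (.leaf 0x45e2) (.leaf 0x473e)) (.node (.leaf 0x471a) (.leaf 0x6fd8)))) (.node (.node (.node (.leaf 0x5e5) (.leaf 0x3f7d)) (.node (.leaf 0x19a6) (.leaf 0x64b8))) (.node (.node (.leaf 0xc79) (.leaf 0x5119)) (.node (.leaf 0x2aae) (.leaf 0x0))))) (.node (.node (.node (.node (.leaf 0x3112) (.leaf 0x35e9)) (.node (.leaf 0x1344) (.leaf 0x5f59))) (.node (.node (.leaf 0x38bb) (.leaf 0x5330)) (.node (.leaf 0x375f) (.leaf 0x7489)))) (.node (.node (.node (.leaf 0x1d2b) (.leaf 0x4127)) (.node (.leaf 0x18f7) (.leaf 0x6ab6))) (.node (.node (.leaf 0x34f9) (.leaf 0x53e7)) (.node (.leaf 0x3ea6) (.leaf 0x0))))))) (.node (.node (.node (.node (.node (.node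 (.leaf 0xeb) (.leaf 0x29d5)) (.node (.leaf 0x5d97) (.leaf 0x56a6))) (.node (.node (.leaf 0x2a0b) (.leaf 0x510e)) (.node (.leaf 0x1b74) (.leaf 0x6ed2)))) (.node (.node (.node (.leaf 0x13c2) (.leaf 0x3888)) (.node (.leaf 0x14b8) (.leaf 0x61f9))) (.node (.node (.leaf 0x1073) (.leaf 0x4d24)) (.node (.leaf 0x54cf) (.leaf 0x7668))))) (.node (.node (.node (.node (.leaf 0x58fe) (.leaf 0x53ef)) (.node (.leaf 0x114c) (.leaf 0x5e12))) (.node (.node (.leaf 0x1153) (.leaf 0x47e7)) (.node (.leaf 0x1f37) (.leaf 0x717f)))) (.node (.node (.node (.leaf 0x5ac8) (.leaf 0x3f7f)) (.node (.leaf 0x1815) (.leaf 0x67f8))) (.node (.node (.leaf 0x1a33) (.leaf 0x52d0)) (.node (.leaf 0x4261) (.leaf 0x0)))))) (.node (.node (.node (.node (.node (.leaf 0x237) (.leaf 0x3178)) (.node (.leaf 0x4584) (.leaf 0x58f5))) (.node (.node (.leaf 0xa58) (.leaf 0x45d2)) (.node (.leaf 0x393d) (.leaf 0x7110)))) (.node (.node (.node (.leaf 0x589) (.leaf 0x4242))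 (.node (.leaf 0x15d7) (.leaf 0x6621))) (.node (.node (.leaf 0x29b4) (.leaf 0x4f7e)) (.node (.leaf 0x23e1) (.leaf 0x0))))) (.node (.node (.node (.node (.leaf 0x3006) (.leaf 0x4ffc)) (.node (.leaf 0x13a2) (.leaf 0x5f52))) (.node (.node (.leaf 0x915) (.leaf 0x4abd)) (.node (.leaf 0x25c2) (.leaf 0x7331)))) (.node (.node (.node (.leaf 0x29ca) (.leaf 0x4156)) (.node (.leaf 0x560c) (.leaf 0x6a83))) (.node (.node (.leaf 0x55ef) (.leaf 0x546c)) (.node (.leaf 0x27e4) (.leaf 0x0))))))))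

/-- Closure. -/
def clo137 : FTree := (.node (.node (.node (.node (.node (.node (.node (.leaf 0x8f) (.leaf 0x2dac)) (.node (.leaf 0x31ea) (.leaf 0x56f3))) (.node (.node (.leaf 0xfd7) (.leaf 0x436e)) (.node (.leaf 0x1c5c) (.leaf 0x6dd6)))) (.node (.node (.node (.leaf 0x4664) (.leaf 0x4b41)) (.node (.leaf 0x146f) (.leaf 0x62fd))) (.node (.node (.leaf 0x3ae9) (.leaf 0x4dba)) (.node (.leaf 0x2277) (.leaf 0x76ec))))) (.node (.node (.node (.node (.leaf 0x5044) (.leaf 0x533c)) (.node (.leaf 0x119e) (.leaf 0x5b7d))) (.node (.node (.leaf 0x9ee) (.leaf 0x47fe)) (.node (.leaf 0x5531) (.leaf 0x71ad)))) (.node (.node (.node (.leaf 0x928) (.leaf 0x3e95)) (.node (.leaf 0x174a) (.leaf 0x67ae))) (.node (.node (.leaf 0x259a) (.leaf 0x52c4)) (.node (.leaf 0x2650) (.leaf 0x0)))))) (.node (.node (.node (.node (.node (.leaf 0x7b0) (.leaf 0x2ee2)) (.node (.leaf 0x10c6) (.leaf 0x5989))) (.node (.node (.leaf 0xa25) (.leaf 0x45bf)) (.node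 (.leaf 0x1dfe) (.leaf 0x6f3c)))) (.node (.node (.node (.leaf 0x225d) (.leaf 0x3caf)) (.node (.leaf 0x1697) (.leaf 0x67b7))) (.node (.node (.leaf 0x3056) (.leaf 0x4f30)) (.node (.leaf 0x23e6) (.leaf 0x0))))) (.node (.node (.node (.node (.leaf 0x5b0a) (.leaf 0x3702)) (.node (.leaf 0x6913) (.leaf 0x5f56))) (.node (.node (.leaf 0x6619) (.leaf 0x4b57)) (.node (.leaf 0x214b) (.leaf 0x733d)))) (.node (.node (.node (.leaf 0x5c0e) (.leaf 0x4113)) (.node (.leaf 0x1a1c) (.leaf 0x6a67))) (.node (.node (.leaf 0xece) (.leaf 0x6e8d)) (.node (.leaf 0x281b) (.leaf 0x0))))))) (.node (.node (.node (.node (.node (.node (.leaf 0x17e) (.leaf 0x2b9d)) (.node (.leaf 0x3160) (.leaf 0x56af))) (.node (.node (.leaf 0x11dc) (.leaf 0x5e53)) (.node (.leaf 0x248e) (.leaf 0x6d66)))) (.node (.node (.node (.leaf 0x529) (.leaf 0x38aa)) (.node (.leaf 0x50fb) (.leaf 0x61b5))) (.node (.node (.leaf 0xab7) (.leaf 0x4ced)) (.node (.leaf 0x2320) (.leaf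 0x76ff))))) (.node (.node (.node (.node (.leaf 0x3cc6) (.leaf 0x33d8)) (.node (.leaf 0x1dd9) (.leaf 0x5aed))) (.node (.node (.leaf 0x1d21) (.leaf 0x48a4)) (.node (.leaf 0x1f49) (.leaf 0x727b)))) (.node (.node (.node (.leaf 0x94c) (.leaf 0x3d5b)) (.node (.leaf 0x17b4) (.leaf 0x68f9))) (.node (.node (.leaf 0xd79) (.leaf 0x527a)) (.node (.leaf 0x2503) (.leaf 0x0)))))) (.node (.node (.node (.node (.node (.leaf 0x2fb) (.leaf 0x2d0e)) (.node (.leaf 0x2782) (.leaf 0x5927))) (.node (.node (.leaf 0x726) (.leaf 0x45d9)) (.node (.leaf 0x3560) (.leaf 0x7073)))) (.node (.node (.node (.leaf 0x27ca) (.leaf 0x3a7c)) (.node (.leaf 0x1621) (.leaf 0x6486))) (.node (.node (.leaf 0x29a2) (.leaf 0x5114)) (.node (.leaf 0x53b7) (.leaf 0x0))))) (.node (.node (.node (.node (.leaf 0x932) (.leaf 0x35c9)) (.node (.leaf 0x2e30) (.leaf 0x600c))) (.node (.node (.leaf 0x2e8b) (.leaf 0x4aa9)) (.node (.leaf 0x2183) (.leaf 0x74b0)))) (.node (.node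 (.node (.leaf 0x2a9c) (.leaf 0x41f5)) (.node (.leaf 0x18bb) (.leaf 0x6b93))) (.node (.node (.leaf 0xec1) (.leaf 0x541f)) (.node (.leaf 0x28de) (.leaf 0x0))))))))

/-- Closure. -/
def clo138 : FTree := (.node (.node (.node (.node (.node (.node (.node (.leaf 0x73) (.leaf 0x2a50)) (.node (.leaf 0x12c6) (.leaf 0x5689))) (.node (.node (.leaf 0x9ca) (.leaf 0x5cae)) (.node (.leaf 0x30fa) (.leaf 0x6c36)))) (.node (.node (.node (.leaf 0x7e3) (.leaf 0x3788)) (.node (.leaf 0x149c) (.leaf 0x62be))) (.node (.node (.leaf 0x2d97) (.leaf 0x4d6b)) (.node (.leaf 0x22be) (.leaf 0x7535))))) (.node (.node (.node (.node (.leaf 0x85c) (.leaf 0x5e0d)) (.node (.leaf 0x390a) (.leaf 0x5c78))) (.node (.node (.leaf 0x3a0b) (.leaf 0x4961)) (.node (.leaf 0x2000) (.leaf 0x713d)))) (.node (.node (.node (.leaf 0x23da) (.leaf 0x3dd9)) (.node (.leaf 0x17ab) (.leaf 0x6793))) (.node (.node (.leaf 0x1a32) (.leaf 0x51de)) (.node (.leaf 0x2686) (.leaf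 0x0)))))) (.node (.node (.node (.node (.node (.leaf 0x273) (.leaf 0x2cbb)) (.node (.leaf 0xfc9) (.leaf 0x58b3))) (.node (.node (.leaf 0x36ae) (.leaf 0x468b)) (.node (.leaf 0x303c) (.leaf 0x706e)))) (.node (.node (.node (.leaf 0x1a36) (.leaf 0x3ac4)) (.node (.leaf 0x19a4) (.leaf 0x67ed))) (.node (.node (.leaf 0xc34) (.leaf 0x4f6e)) (.node (.leaf 0x240c) (.leaf 0x0))))) (.node (.node (.node (.node (.leaf 0x456) (.leaf 0x6807)) (.node (.leaf 0x1444) (.leaf 0x60ad))) (.node (.node (.leaf 0x920) (.leaf 0x4a42)) (.node (.leaf 0x216c) (.leaf 0x7379)))) (.node (.node (.node (.leaf 0x5ba) (.leaf 0x41fc)) (.node (.leaf 0x1a19) (.leaf 0x6acc))) (.node (.node (.leaf 0x1107) (.leaf 0x5494)) (.node (.leaf 0x4b8c) (.leaf 0x0))))))) (.node (.node (.node (.node (.node (.node (.leaf 0x172) (.leaf 0x5c32)) (.node (.leaf 0x57cd) (.leaf 0x576c))) (.node (.node (.leaf 0x2524) (.leaf 0x4434)) (.node (.leaf 0x5b54) (.leaf 0x6e06)))) (.node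 (.node (.node (.leaf 0x4673) (.leaf 0x379c)) (.node (.leaf 0x145c) (.leaf 0x62ae))) (.node (.node (.leaf 0x330b) (.leaf 0x4c54)) (.node (.leaf 0x2398) (.leaf 0x7687))))) (.node (.node (.node (.node (.leaf 0x1724) (.leaf 0x333f)) (.node (.leaf 0x11ab) (.leaf 0x5de7))) (.node (.node (.leaf 0x1cc7) (.leaf 0x4788)) (.node (.leaf 0x2056) (.leaf 0x7235)))) (.node (.node (.node (.leaf 0x711) (.leaf 0x3f0d)) (.node (.leaf 0x183f) (.leaf 0x68aa))) (.node (.node (.leaf 0x4aa6) (.leaf 0x530e)) (.node (.leaf 0x5cd1) (.leaf 0x0)))))) (.node (.node (.node (.node (.node (.leaf 0x4f1) (.leaf 0x2ed9)) (.node (.leaf 0x1120) (.leaf 0x590e))) (.node (.node (.leaf 0xa1f) (.leaf 0x4618)) (.node (.leaf 0x1d32) (.leaf 0x6f53)))) (.node (.node (.node (.leaf 0x32d3) (.leaf 0x3f7c)) (.node (.leaf 0x1663) (.leaf 0x6548))) (.node (.node (.leaf 0x6174) (.leaf 0x4e95)) (.node (.leaf 0x2950) (.leaf 0x0))))) (.node (.node (.node (.node (.leaf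 0x2fc6) (.leaf 0x3600)) (.node (.leaf 0x687c) (.leaf 0x603f))) (.node (.node (.leaf 0xa1e) (.leaf 0x4df7)) (.node (.leaf 0x21b8) (.leaf 0x74b6)))) (.node (.node (.node (.leaf 0x2855) (.leaf 0x4058)) (.node (.leaf 0x201d) (.leaf 0x6ac2))) (.node (.node (.leaf 0xe7a) (.leaf 0x5394)) (.node (.leaf 0x2894) (.leaf 0x0))))))))

/-- Closure. -/
def clo139 : FTree := (.node (.node (.node (.node (.node (.node (.node (.leaf 0xfe) (.leaf 0x2a91)) (.node (.leaf 0x5d8d) (.leaf 0x5854))) (.node (.node (.leaf 0x2745) (.leaf 0x43ce)) (.node (.leaf 0x1ad0) (.leaf 0x6e9d)))) (.node (.node (.node (.leaf 0x13cc) (.leaf 0x37d8)) (.node (.leaf 0x3fe5) (.leaf 0x6271))) (.node (.node (.leaf 0x40f9) (.leaf 0x4e1c)) (.node (.leaf 0x4a63) (.leaf 0x766d))))) (.node (.node (.node (.node (.leaf 0x2d25) (.leaf 0x6d13)) (.node (.leaf 0x12a1) (.leaf 0x5c8d))) (.node (.node (.leaf 0x5e75) (.leaf 0x497c)) (.node (.leaf 0x1f6b) (.leaf 0x7270))))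 (.node (.node (.node (.leaf 0x46d) (.leaf 0x3f18)) (.node (.leaf 0x1b30) (.leaf 0x6909))) (.node (.node (.leaf 0xd84) (.leaf 0x5191)) (.node (.leaf 0x25ff) (.leaf 0x0)))))) (.node (.node (.node (.node (.node (.leaf 0x227) (.leaf 0x6892)) (.node (.leaf 0x207d) (.leaf 0x5a71))) (.node (.node (.leaf 0x70a) (.leaf 0x5861)) (.node (.leaf 0x1ed0) (.leaf 0x6f96)))) (.node (.node (.node (.leaf 0x3a30) (.leaf 0x3af0)) (.node (.leaf 0x159b) (.leaf 0x647a))) (.node (.node (.leaf 0x3040) (.leaf 0x4fe5)) (.node (.leaf 0x3c39) (.leaf 0x0))))) (.node (.node (.node (.node (.leaf 0x1764) (.leaf 0x35f2)) (.node (.leaf 0x1372) (.leaf 0x60de))) (.node (.node (.leaf 0x1447) (.leaf 0x4ad4)) (.node (.leaf 0x5535) (.leaf 0x74c4)))) (.node (.node (.node (.leaf 0xb00) (.leaf 0x40f0)) (.node (.leaf 0x1a1a) (.leaf 0x6b12))) (.node (.node (.leaf 0xdd6) (.leaf 0x55a6)) (.node (.leaf 0x270a) (.leaf 0x0))))))) (.node (.node (.node (.node (.node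 (.node (.leaf 0x182) (.leaf 0x2c0c)) (.node (.leaf 0x2a7a) (.leaf 0x60db))) (.node (.node (.leaf 0xb1d) (.leaf 0x441c)) (.node (.leaf 0x2f8e) (.leaf 0x6d88)))) (.node (.node (.node (.leaf 0x3d17) (.leaf 0x3931)) (.node (.leaf 0x6978) (.leaf 0x6364))) (.node (.node (.leaf 0xa5d) (.leaf 0x4d01)) (.node (.leaf 0x3091) (.leaf 0x7649))))) (.node (.node (.node (.node (.leaf 0x321) (.leaf 0x4b2a)) (.node (.leaf 0x1627) (.leaf 0x5b32))) (.node (.node (.leaf 0x35cf) (.leaf 0x5e64)) (.node (.leaf 0x422e) (.leaf 0x72bb)))) (.node (.node (.node (.leaf 0x947) (.leaf 0x3db4)) (.node (.leaf 0x1870) (.leaf 0x6971))) (.node (.node (.leaf 0x5d52) (.leaf 0x5308)) (.node (.leaf 0x5ccf) (.leaf 0x0)))))) (.node (.node (.node (.node (.node (.leaf 0x34c) (.leaf 0x2e6b)) (.node (.leaf 0x65dd) (.leaf 0x5a04))) (.node (.node (.leaf 0x337f) (.leaf 0x4721)) (.node (.leaf 0x3be3) (.leaf 0x7079)))) (.node (.node (.node (.leaf 0x29f7) (.leaf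 0x39f3)) (.node (.leaf 0x46e5) (.leaf 0x64ac))) (.node (.node (.leaf 0x3577) (.leaf 0x4fbe)) (.node (.leaf 0x249b) (.leaf 0x0))))) (.node (.node (.node (.node (.leaf 0x2975) (.leaf 0x37d2)) (.node (.leaf 0x278f) (.leaf 0x60d2))) (.node (.node (.leaf 0x5edc) (.leaf 0x49e7)) (.node (.leaf 0x2249) (.leaf 0x74dd)))) (.node (.node (.node (.leaf 0x5c6) (.leaf 0x3fce)) (.node (.leaf 0x585a) (.leaf 0x6c2d))) (.node (.node (.leaf 0xeaf) (.leaf 0x5358)) (.node (.leaf 0x3723) (.leaf 0x0))))))))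

/-- Closure. -/
def clo140 : FTree := (.node (.node (.node (.node (.node (.node (.node (.leaf 0x4f) (.leaf 0x2a4c)) (.node (.leaf 0xf5d) (.leaf 0x56b3))) (.node (.node (.leaf 0x621) (.leaf 0x4365)) (.node (.leaf 0x5e0a) (.leaf 0x6d86)))) (.node (.node (.node (.leaf 0x1c9b) (.leaf 0x3831)) (.node (.leaf 0x153c) (.leaf 0x61d6))) (.node (.node (.leaf 0xa55) (.leaf 0x4c64)) (.node (.leaf 0x2314) (.leaf 0x75fa))))) (.node (.node (.node (.node (.leaf 0x5046) (.leaf 0x6dd7)) (.node (.leaf 0x11a9) (.leaf 0x5e71))) (.node (.node (.leaf 0x1f31) (.leaf 0x4949)) (.node (.leaf 0x2055) (.leaf 0x72e0)))) (.node (.node (.node (.leaf 0x159a) (.leaf 0x3f80)) (.node (.leaf 0x184d) (.leaf 0x67a7))) (.node (.node (.leaf 0x5607) (.leaf 0x52ae)) (.node (.leaf 0x3378) (.leaf 0x0)))))) (.node (.node (.node (.node (.node (.leaf 0x794) (.leaf 0x2d0d)) (.node (.leaf 0x6cd6) (.leaf 0x59e2))) (.node (.node (.leaf 0x4482) (.leaf 0x45a2)) (.node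 (.leaf 0x1e72) (.leaf 0x6f67)))) (.node (.node (.node (.leaf 0x41c) (.leaf 0x3a2c)) (.node (.leaf 0x16d4) (.leaf 0x6540))) (.node (.node (.leaf 0x6450) (.leaf 0x4fa2)) (.node (.leaf 0x47bc) (.leaf 0x0))))) (.node (.node (.node (.node (.leaf 0x41f) (.leaf 0x363b)) (.node (.leaf 0x26f9) (.leaf 0x5f0d))) (.node (.node (.leaf 0xe4e) (.leaf 0x4a3f)) (.node (.leaf 0x425b) (.leaf 0x745e)))) (.node (.node (.node (.leaf 0x2ccb) (.leaf 0x4220)) (.node (.leaf 0x3477) (.leaf 0x6bbd))) (.node (.node (.leaf 0x1f23) (.leaf 0x552a)) (.node (.leaf 0x27e3) (.leaf 0x0))))))) (.node (.node (.node (.node (.node (.node (.leaf 0x129) (.leaf 0x296a)) (.node (.leaf 0xf02) (.leaf 0x56ec))) (.node (.node (.leaf 0x6a5) (.leaf 0x42ce)) (.node (.leaf 0x1b7e) (.leaf 0x6ce5)))) (.node (.node (.node (.leaf 0x36d) (.leaf 0x37b5)) (.node (.leaf 0x3298) (.leaf 0x623b))) (.node (.node (.leaf 0xb3e) (.leaf 0x4dc3)) (.node (.leaf 0x2271) (.leaf 0x7529)))))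 (.node (.node (.node (.node (.leaf 0x29f) (.leaf 0x30ab)) (.node (.leaf 0x1279) (.leaf 0x5bab))) (.node (.node (.leaf 0x7ff) (.leaf 0x4824)) (.node (.leaf 0x1f69) (.leaf 0x719e)))) (.node (.node (.node (.leaf 0x445) (.leaf 0x3d58)) (.node (.leaf 0x1732) (.leaf 0x683a))) (.node (.node (.leaf 0xcd7) (.leaf 0x5146)) (.node (.leaf 0x25e5) (.leaf 0x0)))))) (.node (.node (.node (.node (.node (.leaf 0x217) (.leaf 0x2f90)) (.node (.leaf 0x1061) (.leaf 0x58cf))) (.node (.node (.leaf 0x6cd) (.leaf 0x4532)) (.node (.leaf 0x3cd7) (.leaf 0x6ffe)))) (.node (.node (.node (.leaf 0x35a7) (.leaf 0x39e3)) (.node (.leaf 0x1ad8) (.leaf 0x6588))) (.node (.node (.leaf 0xbc6) (.leaf 0x4f25)) (.node (.leaf 0x241e) (.leaf 0x0))))) (.node (.node (.node (.node (.leaf 0x327) (.leaf 0x3735)) (.node (.leaf 0x2b15) (.leaf 0x60ec))) (.node (.node (.leaf 0x8b7) (.leaf 0x4a0f)) (.node (.leaf 0x2160) (.leaf 0x7426)))) (.node (.node (.node (.leaf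 0xf04) (.leaf 0x3fd1)) (.node (.leaf 0x1980) (.leaf 0x6b0b))) (.node (.node (.leaf 0xdac) (.leaf 0x55a0)) (.node (.leaf 0x26c5) (.leaf 0x0))))))))

/-- Closure. -/
def clo141 : FTree := (.node (.node (.node (.node (.node (.node (.node (.leaf 0x85) (.leaf 0x2a53)) (.node (.leaf 0x19ef) (.leaf 0x57f8))) (.node (.node (.leaf 0x673) (.leaf 0x434d)) (.node (.leaf 0x1bdc) (.leaf 0x6c62)))) (.node (.node (.node (.leaf 0x830) (.leaf 0x3917)) (.node (.leaf 0x1a94) (.leaf 0x6252))) (.node (.node (.leaf 0x67bd) (.leaf 0x4c6a)) (.node (.leaf 0x22e2) (.leaf 0x7614))))) (.node (.node (.node (.node (.leaf 0x2689) (.leaf 0x5c62)) (.node (.leaf 0x11af) (.leaf 0x5c13))) (.node (.node (.leaf 0xea3) (.leaf 0x48d5)) (.node (.leaf 0x2139) (.leaf 0x728f)))) (.node (.node (.node (.leaf 0x18a0) (.leaf 0x3db0)) (.node (.leaf 0x5516) (.leaf 0x69c5))) (.node (.node (.leaf 0x1e59) (.leaf 0x51b6)) (.node (.leaf 0x2537) (.leaf 0x0)))))) (.node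 (.node (.node (.node (.node (.leaf 0x50c) (.leaf 0x2e5f)) (.node (.leaf 0x121b) (.leaf 0x5981))) (.node (.node (.leaf 0x4086) (.leaf 0x472f)) (.node (.leaf 0x4715) (.leaf 0x6f25)))) (.node (.node (.node (.leaf 0x429) (.leaf 0x3a5f)) (.node (.leaf 0x34b1) (.leaf 0x65c1))) (.node (.node (.leaf 0x6438) (.leaf 0x4fbc)) (.node (.leaf 0x28d5) (.leaf 0x0))))) (.node (.node (.node (.node (.leaf 0x264d) (.leaf 0x3717)) (.node (.leaf 0x140d) (.leaf 0x5f6a))) (.node (.node (.leaf 0x28a8) (.leaf 0x4a16)) (.node (.leaf 0x3d9b) (.leaf 0x7378)))) (.node (.node (.node (.leaf 0x3f34) (.leaf 0x4268)) (.node (.leaf 0x2020) (.leaf 0x6add))) (.node (.node (.leaf 0xe85) (.leaf 0x5536)) (.node (.leaf 0x2751) (.leaf 0x0))))))) (.node (.node (.node (.node (.node (.node (.leaf 0x19b) (.leaf 0x29c0)) (.node (.leaf 0x5fb6) (.leaf 0x56ce))) (.node (.node (.leaf 0x3ad1) (.leaf 0x44b1)) (.node (.leaf 0x1b9f) (.leaf 0x6def)))) (.node (.node (.node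 (.leaf 0x13eb) (.leaf 0x378f)) (.node (.leaf 0x443e) (.leaf 0x61b8))) (.node (.node (.leaf 0xa78) (.leaf 0x4d30)) (.node (.leaf 0x23c9) (.leaf 0x766c))))) (.node (.node (.node (.node (.leaf 0x3ccc) (.leaf 0x334d)) (.node (.leaf 0x4cd6) (.leaf 0x5afe))) (.node (.node (.leaf 0x184c) (.leaf 0x49b8)) (.node (.leaf 0x1ff8) (.leaf 0x7153)))) (.node (.node (.node (.leaf 0x979) (.leaf 0x3ef1)) (.node (.leaf 0x2936) (.leaf 0x67aa))) (.node (.node (.leaf 0x546f) (.leaf 0x51fb)) (.node (.leaf 0x2570) (.leaf 0x0)))))) (.node (.node (.node (.node (.node (.leaf 0x2f4) (.leaf 0x2d10)) (.node (.leaf 0x3421) (.leaf 0x58f6))) (.node (.node (.leaf 0x4272) (.leaf 0x474f)) (.node (.leaf 0x3217) (.leaf 0x70f1)))) (.node (.node (.node (.leaf 0x1db2) (.leaf 0x3c38)) (.node (.leaf 0x19a0) (.leaf 0x65e7))) (.node (.node (.leaf 0xbe5) (.leaf 0x504b)) (.node (.leaf 0x5c2a) (.leaf 0x0))))) (.node (.node (.node (.node (.leaf 0x2a01) (.leaf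 0x35c8)) (.node (.leaf 0x140b) (.leaf 0x5fd4))) (.node (.node (.leaf 0x2f8a) (.leaf 0x4a3a)) (.node (.leaf 0x224b) (.leaf 0x748f)))) (.node (.node (.node (.leaf 0x3637) (.leaf 0x4201)) (.node (.leaf 0x194a) (.leaf 0x6bdd))) (.node (.node (.leaf 0x55ad) (.leaf 0x5498)) (.node (.leaf 0x347e) (.leaf 0x0))))))))

/-- Closure. -/
def clo142 : FTree := (.node (.node (.node (.node (.node (.node (.node (.leaf 0x75) (.leaf 0x2c37)) (.node (.leaf 0xf84) (.leaf 0x5e8c))) (.node (.node (.leaf 0xcc9) (.leaf 0x43a3)) (.node (.leaf 0x2a96) (.leaf 0x6ca8)))) (.node (.node (.node (.leaf 0x1cae) (.leaf 0x37e8)) (.node (.leaf 0x32a6) (.leaf 0x634a))) (.node (.node (.leaf 0x3107) (.leaf 0x4d86)) (.node (.leaf 0x22d5) (.leaf 0x75ec))))) (.node (.node (.node (.node (.leaf 0x8ea) (.leaf 0x324d)) (.node (.leaf 0x1e4d) (.leaf 0x5c4b))) (.node (.node (.leaf 0x1661) (.leaf 0x4901)) (.node (.leaf 0x2097) (.leaf 0x723c)))) (.node (.node (.node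 (.leaf 0x3b06) (.leaf 0x3f73)) (.node (.leaf 0x206a) (.leaf 0x696c))) (.node (.node (.leaf 0xd5e) (.leaf 0x52fd)) (.node (.leaf 0x25b6) (.leaf 0x0)))))) (.node (.node (.node (.node (.node (.leaf 0xeee) (.leaf 0x2d45)) (.node (.leaf 0x567d) (.leaf 0x5a88))) (.node (.node (.leaf 0x1242) (.leaf 0x463e)) (.node (.leaf 0x1e90) (.leaf 0x6fa6)))) (.node (.node (.node (.leaf 0x2db7) (.leaf 0x3a80)) (.node (.leaf 0x3ca6) (.leaf 0x6641))) (.node (.node (.leaf 0x6132) (.leaf 0x500c)) (.node (.leaf 0x23ac) (.leaf 0x0))))) (.node (.node (.node (.node (.leaf 0x5ba3) (.leaf 0x4b81)) (.node (.leaf 0x1434) (.leaf 0x5f7c))) (.node (.node (.leaf 0x3311) (.leaf 0x4b34)) (.node (.leaf 0x2218) (.leaf 0x740e)))) (.node (.node (.node (.leaf 0x90f) (.leaf 0x3ff5)) (.node (.leaf 0x39b2) (.leaf 0x6ab3))) (.node (.node (.leaf 0x2f43) (.leaf 0x5503)) (.node (.leaf 0x2830) (.leaf 0x0))))))) (.node (.node (.node (.node (.node (.node (.leaf 0x15e)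 (.leaf 0x29e5)) (.node (.leaf 0x10ab) (.leaf 0x57ab))) (.node (.node (.leaf 0x5de8) (.leaf 0x435c)) (.node (.leaf 0x1a7f) (.leaf 0x6cc1)))) (.node (.node (.node (.leaf 0x399) (.leaf 0x62d1)) (.node (.leaf 0x14f3) (.leaf 0x6202))) (.node (.node (.leaf 0x2cd3) (.leaf 0x69f4)) (.node (.leaf 0x587a) (.leaf 0x7706))))) (.node (.node (.node (.node (.leaf 0x21de) (.leaf 0x31b5)) (.node (.leaf 0x334f) (.leaf 0x5ccb))) (.node (.node (.leaf 0x234a) (.leaf 0x494d)) (.node (.leaf 0x1ff5) (.leaf 0x72b9)))) (.node (.node (.node (.leaf 0x33d0) (.leaf 0x3f44)) (.node (.leaf 0x1740) (.leaf 0x682a))) (.node (.node (.leaf 0xd9b) (.leaf 0x51aa)) (.node (.leaf 0x5ea4) (.leaf 0x0)))))) (.node (.node (.node (.node (.node (.leaf 0x79a) (.leaf 0x30f6)) (.node (.leaf 0x10e3) (.leaf 0x58e1))) (.node (.node (.leaf 0x65ea) (.leaf 0x69b2)) (.node (.leaf 0x37f7) (.leaf 0x6fa2)))) (.node (.node (.node (.leaf 0x905) (.leaf 0x3c47)) (.node (.leaf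 0x6f2f) (.leaf 0x6508))) (.node (.node (.leaf 0xc82) (.leaf 0x5fed)) (.node (.leaf 0x4503) (.leaf 0x0))))) (.node (.node (.node (.node (.leaf 0x1cbd) (.leaf 0x37d5)) (.node (.leaf 0x4722) (.leaf 0x606a))) (.node (.node (.leaf 0xb9b) (.leaf 0x4af1)) (.node (.leaf 0x21d8) (.leaf 0x73e4)))) (.node (.node (.node (.leaf 0xaf2) (.leaf 0x42a6)) (.node (.leaf 0x18fc) (.leaf 0x6b88))) (.node (.node (.leaf 0x31cc) (.leaf 0x6655)) (.node (.leaf 0x2843) (.leaf 0x0))))))))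

/-- Closure. -/
def clo143 : FTree := (.node (.node (.node (.node (.node (.node (.node (.leaf 0x117) (.leaf 0x299a)) (.node (.leaf 0x1c2f) (.leaf 0x5781))) (.node (.node (.leaf 0x68b) (.leaf 0x5022)) (.node (.leaf 0x1b85) (.leaf 0x6ce8)))) (.node (.node (.node (.leaf 0x3cf9) (.leaf 0x3f81)) (.node (.leaf 0x329e) (.leaf 0x61e5))) (.node (.node (.leaf 0x4f6a) (.leaf 0x4db0)) (.node (.leaf 0x619a) (.leaf 0x7639))))) (.node (.node (.node (.node (.leaf 0x444) (.leaf 0x3274)) (.node (.leaf 0x119a) (.leaf 0x5b9a))) (.node (.node (.leaf 0x709e) (.leaf 0x489c)) (.node (.leaf 0x552f) (.leaf 0x7190)))) (.node (.node (.node (.leaf 0x117e) (.leaf 0x3f85)) (.node (.leaf 0x6db8) (.leaf 0x6859))) (.node (.node (.leaf 0x1018) (.leaf 0x522f)) (.node (.leaf 0x251b) (.leaf 0x0)))))) (.node (.node (.node (.node (.node (.leaf 0x2be) (.leaf 0x2f6a)) (.node (.leaf 0x1b27) (.leaf 0x5a36))) (.node (.node (.leaf 0x757) (.leaf 0x468a)) (.node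 (.leaf 0x4841) (.leaf 0x6f58)))) (.node (.node (.node (.leaf 0x36c5) (.leaf 0x4e19)) (.node (.leaf 0x50d2) (.leaf 0x651a))) (.node (.node (.leaf 0xbe2) (.leaf 0x4f9a)) (.node (.leaf 0x23e8) (.leaf 0x0))))) (.node (.node (.node (.node (.leaf 0x6149) (.leaf 0x3aaf)) (.node (.leaf 0x6917) (.leaf 0x6104))) (.node (.node (.leaf 0x3404) (.leaf 0x4c0b)) (.node (.leaf 0x212f) (.leaf 0x7441)))) (.node (.node (.node (.leaf 0x10fc) (.leaf 0x4057)) (.node (.leaf 0x1a13) (.leaf 0x6aaf))) (.node (.node (.leaf 0xdd3) (.leaf 0x5528)) (.node (.leaf 0x284a) (.leaf 0x0))))))) (.node (.node (.node (.node (.node (.node (.leaf 0x0) (.leaf 0x0)) (.node (.leaf 0x0) (.leaf 0x0))) (.node (.node (.leaf 0x0) (.leaf 0x0)) (.node (.leaf 0x0) (.leaf 0x0)))) (.node (.node (.node (.leaf 0x0) (.leaf 0x0)) (.node (.leaf 0x0) (.leaf 0x0))) (.node (.node (.leaf 0x0) (.leaf 0x0)) (.node (.leaf 0x0) (.leaf 0x0))))) (.node (.node (.node (.node (.leaf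 0x0) (.leaf 0x0)) (.node (.leaf 0x0) (.leaf 0x0))) (.node (.node (.leaf 0x0) (.leaf 0x0)) (.node (.leaf 0x0) (.leaf 0x0)))) (.node (.node (.node (.leaf 0x0) (.leaf 0x0)) (.node (.leaf 0x0) (.leaf 0x0))) (.node (.node (.leaf 0x0) (.leaf 0x0)) (.node (.leaf 0x0) (.leaf 0x0)))))) (.node (.node (.node (.node (.node (.leaf 0x0) (.leaf 0x0)) (.node (.leaf 0x0) (.leaf 0x0))) (.node (.node (.leaf 0x0) (.leaf 0x0)) (.node (.leaf 0x0) (.leaf 0x0)))) (.node (.node (.node (.leaf 0x0) (.leaf 0x0)) (.node (.leaf 0x0) (.leaf 0x0))) (.node (.node (.leaf 0x0) (.leaf 0x0)) (.node (.leaf 0x0) (.leaf 0x0))))) (.node (.node (.node (.node (.leaf 0x0) (.leaf 0x0)) (.node (.leaf 0x0) (.leaf 0x0))) (.node (.node (.leaf 0x0) (.leaf 0x0)) (.node (.leaf 0x0) (.leaf 0x0)))) (.node (.node (.node (.leaf 0x0) (.leaf 0x0)) (.node (.leaf 0x0) (.leaf 0x0))) (.node (.node (.leaf 0x0) (.leaf 0x0)) (.node (.leaf 0x0) (.leaf 0x0))))))))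

/-- Closure. -/
def clo144 : FTree := (.node (.node (.node (.node (.node (.node (.node (.leaf 0xe) (.leaf 0x2e88)) (.node (.leaf 0x2a74) (.leaf 0x5741))) (.node (.node (.leaf 0x5b98) (.leaf 0x43fb)) (.node (.leaf 0x1bc4) (.leaf 0x6c71)))) (.node (.node (.node (.leaf 0x38f) (.leaf 0x3972)) (.node (.leaf 0x1519) (.leaf 0x621a))) (.node (.node (.leaf 0xb22) (.leaf 0x4cac)) (.node (.leaf 0x22cb) (.leaf 0x75d9))))) (.node (.node (.node (.node (.leaf 0x12f6) (.leaf 0x31cb)) (.node (.leaf 0x4cde) (.leaf 0x5cb6))) (.node (.node (.leaf 0x13fb) (.leaf 0x4830)) (.node (.leaf 0x33fb) (.leaf 0x730c)))) (.node (.node (.node (.leaf 0x978) (.leaf 0x3cd2)) (.node (.leaf 0x175d) (.leaf 0x66cc))) (.node (.node (.leaf 0xdc6) (.leaf 0x5197)) (.node (.leaf 0x2554) (.leaf 0x0)))))) (.node (.node (.node (.node (.node (.leaf 0x350) (.leaf 0x6156)) (.node (.leaf 0x1dad) (.leaf 0x592e))) (.node (.node (.leaf 0x447d) (.leaf 0x678e)) (.node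 (.leaf 0x2812) (.leaf 0x70f7)))) (.node (.node (.node (.leaf 0x8ca) (.leaf 0x3b71)) (.node (.leaf 0x1614) (.leaf 0x665d))) (.node (.node (.leaf 0x6128) (.leaf 0x5ab7)) (.node (.leaf 0x24a5) (.leaf 0x0))))) (.node (.node (.node (.node (.leaf 0x486a) (.leaf 0x374e)) (.node (.leaf 0x13b5) (.leaf 0x610d))) (.node (.node (.leaf 0x3603) (.leaf 0x6897)) (.node (.leaf 0x2103) (.leaf 0x734a)))) (.node (.node (.node (.leaf 0x3ddf) (.leaf 0x412c)) (.node (.leaf 0x5dff) (.leaf 0x6b4a))) (.node (.node (.leaf 0x5c08) (.leaf 0x5511)) (.node (.leaf 0x38e6) (.leaf 0x0))))))) (.node (.node (.node (.node (.node (.node (.leaf 0xe4) (.leaf 0x2b85)) (.node (.leaf 0x1a0a) (.leaf 0x577c))) (.node (.node (.leaf 0x674) (.leaf 0x43de)) (.node (.leaf 0x1a7d) (.leaf 0x6d39)))) (.node (.node (.node (.leaf 0x84c) (.leaf 0x394d)) (.node (.leaf 0x14b7) (.leaf 0x63a9))) (.node (.node (.leaf 0xb93) (.leaf 0x6ec2)) (.node (.leaf 0x22a7) (.leaf 0x764f)))))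 (.node (.node (.node (.node (.leaf 0x2692) (.leaf 0x33ba)) (.node (.leaf 0x122a) (.leaf 0x5c15))) (.node (.node (.leaf 0x8b1) (.leaf 0x494c)) (.node (.leaf 0x2095) (.leaf 0x71f1)))) (.node (.node (.node (.leaf 0x1887) (.leaf 0x3f9c)) (.node (.leaf 0x54e2) (.leaf 0x69ac))) (.node (.node (.leaf 0x5603) (.leaf 0x5266)) (.node (.leaf 0x25a7) (.leaf 0x0)))))) (.node (.node (.node (.node (.node (.leaf 0x4d5) (.leaf 0x2ea4)) (.node (.leaf 0x5d3d) (.leaf 0x5a60))) (.node (.node (.leaf 0x72b) (.leaf 0x451d)) (.node (.leaf 0x1e51) (.leaf 0x7034)))) (.node (.node (.node (.leaf 0x27f2) (.leaf 0x3aff)) (.node (.leaf 0x2232) (.leaf 0x6545))) (.node (.node (.leaf 0x617c) (.leaf 0x4fb6)) (.node (.leaf 0x2388) (.leaf 0x0))))) (.node (.node (.node (.node (.leaf 0x2706) (.leaf 0x36e6)) (.node (.leaf 0x2e1c) (.leaf 0x60c4))) (.node (.node (.leaf 0x1b73) (.leaf 0x68c9)) (.node (.leaf 0x4451) (.leaf 0x7438)))) (.node (.node (.node (.leaf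 0x3f4e) (.leaf 0x400b)) (.node (.leaf 0x3c8d) (.leaf 0x6b53))) (.node (.node (.leaf 0x31b0) (.leaf 0x55b6)) (.node (.leaf 0x3263) (.leaf 0x0))))))))

/-- Closure. -/
def clo145 : FTree := (.node (.node (.node (.node (.node (.node (.node (.leaf 0x88) (.leaf 0x2a0e)) (.node (.leaf 0xef5) (.leaf 0x57bd))) (.node (.node (.leaf 0x1a55) (.leaf 0x431b)) (.node (.leaf 0x3547) (.leaf 0x6cf7)))) (.node (.node (.node (.leaf 0x372) (.leaf 0x3772)) (.node (.leaf 0x18b8) (.leaf 0x615d))) (.node (.node (.leaf 0x54df) (.leaf 0x4db6)) (.node (.leaf 0x2cf7) (.leaf 0x765a))))) (.node (.node (.node (.node (.leaf 0x7e9) (.leaf 0x30bd)) (.node (.leaf 0x1188) (.leaf 0x5b56))) (.node (.node (.leaf 0x80e) (.leaf 0x47dd)) (.node (.leaf 0x6ec4) (.leaf 0x7182)))) (.node (.node (.node (.leaf 0x172e) (.leaf 0x3df9)) (.node (.leaf 0x175e) (.leaf 0x69ee))) (.node (.node (.leaf 0xcc2) (.leaf 0x518d)) (.node (.leaf 0x5dda) (.leaf 0x0)))))) (.node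 (.node (.node (.node (.node (.leaf 0x20d) (.leaf 0x2cb6)) (.node (.leaf 0x65dc) (.leaf 0x589b))) (.node (.node (.leaf 0x6f4) (.leaf 0x46c5)) (.node (.leaf 0x1cbf) (.leaf 0x6f54)))) (.node (.node (.node (.leaf 0xa80) (.leaf 0x3e61)) (.node (.leaf 0x1606) (.leaf 0x63e4))) (.node (.node (.leaf 0xbdf) (.leaf 0x4fe3)) (.node (.leaf 0x2483) (.leaf 0x0))))) (.node (.node (.node (.node (.leaf 0x42c9) (.leaf 0x35ce)) (.node (.leaf 0x3e17) (.leaf 0x6060))) (.node (.node (.leaf 0x11ad) (.leaf 0x49d3)) (.node (.leaf 0x2104) (.leaf 0x738b)))) (.node (.node (.node (.leaf 0x562) (.leaf 0x4247)) (.node (.leaf 0x1a0d) (.leaf 0x6aa8))) (.node (.node (.leaf 0x317e) (.leaf 0x54a5)) (.node (.leaf 0x26b4) (.leaf 0x0))))))) (.node (.node (.node (.node (.node (.node (.leaf 0x1a7) (.leaf 0x2b00)) (.node (.leaf 0xf9e) (.leaf 0x57bc))) (.node (.node (.leaf 0xdde) (.leaf 0x43da)) (.node (.leaf 0x33de) (.leaf 0x6df0)))) (.node (.node (.node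 (.leaf 0x83c) (.leaf 0x3864)) (.node (.leaf 0x344f) (.leaf 0x63c7))) (.node (.node (.leaf 0x2b01) (.leaf 0x4d7f)) (.node (.leaf 0x41d1) (.leaf 0x7656))))) (.node (.node (.node (.node (.leaf 0x39d4) (.leaf 0x3491)) (.node (.leaf 0x2c1b) (.leaf 0x62e2))) (.node (.node (.leaf 0x2918) (.leaf 0x4962)) (.node (.leaf 0x424e) (.leaf 0x7161)))) (.node (.node (.node (.leaf 0x4af) (.leaf 0x3e2b)) (.node (.leaf 0x54a1) (.leaf 0x6877))) (.node (.node (.leaf 0xd0b) (.leaf 0x51bb)) (.node (.leaf 0x4e36) (.leaf 0x0)))))) (.node (.node (.node (.node (.node (.leaf 0x50f) (.leaf 0x3e8f)) (.node (.leaf 0x28c2) (.leaf 0x5973))) (.node (.node (.leaf 0x3c1b) (.leaf 0x45f4)) (.node (.leaf 0x1efc) (.leaf 0x706a)))) (.node (.node (.node (.leaf 0x1756) (.leaf 0x3a3a)) (.node (.leaf 0x1622) (.leaf 0x6424))) (.node (.node (.leaf 0x3595) (.leaf 0x4e91)) (.node (.leaf 0x2f9d) (.leaf 0x0))))) (.node (.node (.node (.node (.leaf 0x1b44) (.leaf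 0x36d8)) (.node (.leaf 0x1373) (.leaf 0x6609))) (.node (.node (.leaf 0x965) (.leaf 0x4a0c)) (.node (.leaf 0x28e3) (.leaf 0x73c9)))) (.node (.node (.node (.leaf 0x2b97) (.leaf 0x3ff8)) (.node (.leaf 0x1bf6) (.leaf 0x6a55))) (.node (.node (.leaf 0x6817) (.leaf 0x5373)) (.node (.leaf 0x6840) (.leaf 0x0))))))))

/-- Closure. -/
def clo146 : FTree := (.node (.node (.node (.node (.node (.node (.node (.leaf 0x6a) (.leaf 0x2b71)) (.node (.leaf 0x16fb) (.leaf 0x5805))) (.node (.node (.leaf 0x1331) (.leaf 0x4491)) (.node (.leaf 0x1a59) (.leaf 0x6e91)))) (.node (.node (.node (.leaf 0x171c) (.leaf 0x399b)) (.node (.leaf 0x14d9) (.leaf 0x62f6))) (.node (.node (.leaf 0x2f2c) (.leaf 0x4d29)) (.node (.leaf 0x54cb) (.leaf 0x75c3))))) (.node (.node (.node (.node (.leaf 0x1c6b) (.leaf 0x3422)) (.node (.leaf 0x12e9) (.leaf 0x5b4e))) (.node (.node (.leaf 0x4a49) (.leaf 0x4917)) (.node (.leaf 0x2093) (.leaf 0x7145)))) (.node (.node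 (.node (.leaf 0x6c31) (.leaf 0x3e35)) (.node (.leaf 0x1794) (.leaf 0x66c5))) (.node (.node (.leaf 0x5cf0) (.leaf 0x513f)) (.node (.leaf 0x4979) (.leaf 0x0)))))) (.node (.node (.node (.node (.node (.leaf 0xba8) (.leaf 0x2e69)) (.node (.leaf 0x12e1) (.leaf 0x58e7))) (.node (.node (.leaf 0x124b) (.leaf 0x45a1)) (.node (.leaf 0x3fed) (.leaf 0x70c0)))) (.node (.node (.node (.leaf 0x2a52) (.leaf 0x3a71)) (.node (.leaf 0x34af) (.leaf 0x6645))) (.node (.node (.leaf 0xc49) (.leaf 0x4e96)) (.node (.leaf 0x2429) (.leaf 0x0))))) (.node (.node (.node (.node (.leaf 0x421) (.leaf 0x35c0)) (.node (.leaf 0x5005) (.leaf 0x5f40))) (.node (.node (.leaf 0x989) (.leaf 0x4a0a)) (.node (.leaf 0x213f) (.leaf 0x737f)))) (.node (.node (.node (.leaf 0x5da) (.leaf 0x43ea)) (.node (.leaf 0x19bc) (.leaf 0x6ac0))) (.node (.node (.leaf 0x2d72) (.leaf 0x547d)) (.node (.leaf 0x2735) (.leaf 0x0))))))) (.node (.node (.node (.node (.node (.node (.leaf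 0x16d) (.leaf 0x53a9)) (.node (.leaf 0x31e8) (.leaf 0x56cc))) (.node (.node (.leaf 0xb06) (.leaf 0x5029)) (.node (.leaf 0x2a95) (.leaf 0x6e11)))) (.node (.node (.node (.leaf 0x52c) (.leaf 0x5953)) (.node (.leaf 0x148a) (.leaf 0x63a7))) (.node (.node (.leaf 0xac7) (.leaf 0x4cda)) (.node (.leaf 0x2cee) (.leaf 0x7691))))) (.node (.node (.node (.node (.leaf 0x657) (.leaf 0x34bc)) (.node (.leaf 0x3c65) (.leaf 0x5ba5))) (.node (.node (.leaf 0x3245) (.leaf 0x4997)) (.node (.leaf 0x350f) (.leaf 0x718c)))) (.node (.node (.node (.leaf 0x11eb) (.leaf 0x3cf1)) (.node (.leaf 0x339d) (.leaf 0x684d))) (.node (.node (.leaf 0x169d) (.leaf 0x5271)) (.node (.leaf 0x3546) (.leaf 0x0)))))) (.node (.node (.node (.node (.node (.leaf 0x787) (.leaf 0x6942)) (.node (.leaf 0x2bea) (.leaf 0x59a6))) (.node (.node (.leaf 0x3323) (.leaf 0x4713)) (.node (.leaf 0x2dda) (.leaf 0x7072)))) (.node (.node (.node (.leaf 0x473) (.leaf 0x3bf5)) (.node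 (.leaf 0x166b) (.leaf 0x684e))) (.node (.node (.leaf 0x305a) (.leaf 0x50aa)) (.node (.leaf 0x2470) (.leaf 0x0))))) (.node (.node (.node (.node (.leaf 0x30e9) (.leaf 0x37fe)) (.node (.leaf 0x687a) (.leaf 0x6041))) (.node (.node (.leaf 0x9c0) (.leaf 0x4bc0)) (.node (.leaf 0x217c) (.leaf 0x74f2)))) (.node (.node (.node (.leaf 0xacb) (.leaf 0x41f1)) (.node (.leaf 0x1b5b) (.leaf 0x6a42))) (.node (.node (.leaf 0xe84) (.leaf 0x53ad)) (.node (.leaf 0x5840) (.leaf 0x0))))))))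

/-- Closure. -/
def clo147 : FTree := (.node (.node (.node (.node (.node (.node (.node (.leaf 0xf6) (.leaf 0x3115)) (.node (.leaf 0x5d8e) (.leaf 0x5687))) (.node (.node (.leaf 0xdc0) (.leaf 0x72b1)) (.node (.leaf 0x31b2) (.leaf 0x6ef0)))) (.node (.node (.node (.leaf 0x389) (.leaf 0x38c1)) (.node (.leaf 0x1aeb) (.leaf 0x620f))) (.node (.node (.leaf 0x380e) (.leaf 0x4d67)) (.node (.leaf 0x3090) (.leaf 0x752e))))) (.node (.node (.node (.node (.leaf 0x412) (.leaf 0x5067)) (.node (.leaf 0x11e5) (.leaf 0x5c6f))) (.node (.node (.leaf 0x1ead) (.leaf 0x505a)) (.node (.leaf 0x1fd5) (.leaf 0x71fa)))) (.node (.node (.node (.leaf 0x32ee) (.leaf 0x3de9)) (.node (.leaf 0x17ec) (.leaf 0x68d4))) (.node (.node (.leaf 0xd37) (.leaf 0x74e8)) (.node (.leaf 0x25f0) (.leaf 0x0)))))) (.node (.node (.node (.node (.node (.leaf 0x248) (.leaf 0x34e9)) (.node (.leaf 0x496b) (.leaf 0x59d4))) (.node (.node (.leaf 0x64a5) (.leaf 0x4573)) (.node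 (.leaf 0x3f07) (.leaf 0x6fac)))) (.node (.node (.node (.leaf 0xa6c) (.leaf 0x3c72)) (.node (.leaf 0x15df) (.leaf 0x65de))) (.node (.node (.leaf 0xbf5) (.leaf 0x5098)) (.node (.leaf 0x23a6) (.leaf 0x0))))) (.node (.node (.node (.node (.leaf 0x3024) (.leaf 0x53c4)) (.node (.leaf 0x13ae) (.leaf 0x5f8a))) (.node (.node (.leaf 0x90b) (.leaf 0x4bcd)) (.node (.leaf 0x2166) (.leaf 0x7388)))) (.node (.node (.node (.leaf 0x27b5) (.leaf 0x40b6)) (.node (.leaf 0x19c5) (.leaf 0x6bf0))) (.node (.node (.leaf 0x1be7) (.leaf 0x536a)) (.node (.leaf 0x2724) (.leaf 0x0))))))) (.node (.node (.node (.node (.node (.node (.leaf 0x1ec) (.leaf 0x395a)) (.node (.leaf 0x5faf) (.leaf 0x60d9))) (.node (.node (.leaf 0x45d0) (.leaf 0x42f0)) (.node (.leaf 0x21b1) (.leaf 0x6df9)))) (.node (.node (.node (.leaf 0x13f3) (.leaf 0x393a)) (.node (.leaf 0x15f1) (.leaf 0x63ba))) (.node (.node (.leaf 0xb08) (.leaf 0x4d9c)) (.node (.leaf 0x6632) (.leaf 0x7696)))))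 (.node (.node (.node (.node (.leaf 0x3ccf) (.leaf 0x3353)) (.node (.leaf 0x1d00) (.leaf 0x5ad2))) (.node (.node (.leaf 0x1848) (.leaf 0x4890)) (.node (.leaf 0x220c) (.leaf 0x7262)))) (.node (.node (.node (.leaf 0x73a) (.leaf 0x3d2e)) (.node (.leaf 0x615b) (.leaf 0x67b4))) (.node (.node (.leaf 0x1e5a) (.leaf 0x523b)) (.node (.leaf 0x256e) (.leaf 0x0)))))) (.node (.node (.node (.node (.node (.leaf 0x2fd) (.leaf 0x2f0b)) (.node (.leaf 0x25e7) (.leaf 0x58f8))) (.node (.node (.leaf 0x6cbb) (.leaf 0x45a9)) (.node (.leaf 0x2620) (.leaf 0x7112)))) (.node (.node (.node (.leaf 0x26e3) (.leaf 0x3ad0)) (.node (.leaf 0x34b3) (.leaf 0x6490))) (.node (.node (.leaf 0xbdc) (.leaf 0x4eea)) (.node (.leaf 0x24a9) (.leaf 0x0))))) (.node (.node (.node (.node (.leaf 0x2992) (.leaf 0x35ba)) (.node (.leaf 0x1409) (.leaf 0x608c))) (.node (.node (.leaf 0x183c) (.leaf 0x4a32)) (.node (.leaf 0x20d8) (.leaf 0x7456)))) (.node (.node (.node (.leaf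 0x3636) (.leaf 0x4219)) (.node (.leaf 0x1e40) (.leaf 0x6b02))) (.node (.node (.leaf 0x1cfc) (.leaf 0x53fc)) (.node (.leaf 0x28ae) (.leaf 0x0))))))))

/-- Closure. -/
def clo148 : FTree := (.node (.node (.node (.node (.node (.node (.node (.leaf 0x2d) (.leaf 0x35ac)) (.node (.leaf 0xf18) (.leaf 0x56f5))) (.node (.node (.leaf 0x6d5) (.leaf 0x64af)) (.node (.leaf 0x1fca) (.leaf 0x6c7b)))) (.node (.node (.node (.leaf 0x2e03) (.leaf 0x384b)) (.node (.leaf 0x14f2) (.leaf 0x6303))) (.node (.node (.leaf 0xa4f) (.leaf 0x4d63)) (.node (.leaf 0x2322) (.leaf 0x76dc))))) (.node (.node (.node (.node (.leaf 0x2fb6) (.leaf 0x3001)) (.node (.leaf 0x115d) (.leaf 0x5c6d))) (.node (.node (.leaf 0x3015) (.leaf 0x48dd)) (.node (.leaf 0x4903) (.leaf 0x7134)))) (.node (.node (.node (.leaf 0x1089) (.leaf 0x3e05)) (.node (.leaf 0x180a) (.leaf 0x693b))) (.node (.node (.leaf 0x2a13) (.leaf 0x5259)) (.node (.leaf 0x60c8) (.leaf 0x0)))))) (.node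 (.node (.node (.node (.node (.leaf 0x25f) (.leaf 0x2f6e)) (.node (.leaf 0x110c) (.leaf 0x5a0c))) (.node (.node (.leaf 0x1def) (.leaf 0x4656)) (.node (.leaf 0x1ea8) (.leaf 0x70a8)))) (.node (.node (.node (.leaf 0x1745) (.leaf 0x3aa5)) (.node (.leaf 0x1619) (.leaf 0x658e))) (.node (.node (.leaf 0xc5e) (.leaf 0x4fce)) (.node (.leaf 0x3e2c) (.leaf 0x0))))) (.node (.node (.node (.node (.leaf 0x574) (.leaf 0x4693)) (.node (.leaf 0x1362) (.leaf 0x6047))) (.node (.node (.leaf 0x900) (.leaf 0x6ccd)) (.node (.leaf 0x3db1) (.leaf 0x7330)))) (.node (.node (.node (.leaf 0x1dea) (.leaf 0x3ff4)) (.node (.leaf 0x3470) (.leaf 0x6a89))) (.node (.node (.leaf 0xe54) (.leaf 0x54c3)) (.node (.leaf 0x2769) (.leaf 0x0))))))) (.node (.node (.node (.node (.node (.node (.leaf 0x14d) (.leaf 0x2985)) (.node (.leaf 0x5656) (.leaf 0x5760))) (.node (.node (.leaf 0x67e) (.leaf 0x4405)) (.node (.leaf 0x1c5f) (.leaf 0x6ee0)))) (.node (.node (.node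 (.leaf 0x13dd) (.leaf 0x392a)) (.node (.leaf 0x4d57) (.leaf 0x630a))) (.node (.node (.leaf 0x1b3c) (.leaf 0x4d7b)) (.node (.leaf 0x6e41) (.leaf 0x754c))))) (.node (.node (.node (.node (.leaf 0x437) (.leaf 0x31b4)) (.node (.leaf 0x1af2) (.leaf 0x5caa))) (.node (.node (.leaf 0x5d26) (.leaf 0x47a8)) (.node (.leaf 0x4906) (.leaf 0x718e)))) (.node (.node (.node (.leaf 0x91c) (.leaf 0x3f0a)) (.node (.leaf 0x2935) (.leaf 0x6706))) (.node (.node (.leaf 0x2a16) (.leaf 0x528b)) (.node (.leaf 0x2584) (.leaf 0x0)))))) (.node (.node (.node (.node (.node (.leaf 0x4c9) (.leaf 0x2ee5)) (.node (.leaf 0x10d7) (.leaf 0x59fc))) (.node (.node (.leaf 0x353f) (.leaf 0x4604)) (.node (.leaf 0x2ddb) (.leaf 0x70f0)))) (.node (.node (.node (.leaf 0x1a51) (.leaf 0x3b9e)) (.node (.leaf 0x164a) (.leaf 0x659f))) (.node (.node (.leaf 0xc4f) (.leaf 0x679a)) (.node (.leaf 0x23f6) (.leaf 0x0))))) (.node (.node (.node (.node (.leaf 0xaef) (.leaf 0x3843))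 (.node (.leaf 0x13ba) (.leaf 0x605f))) (.node (.node (.leaf 0x98c) (.leaf 0x4acc)) (.node (.leaf 0x20de) (.leaf 0x73be)))) (.node (.node (.node (.leaf 0x3f33) (.leaf 0x414f)) (.node (.leaf 0x18e4) (.leaf 0x6bd1))) (.node (.node (.leaf 0x6df1) (.leaf 0x53a2)) (.node (.leaf 0x293b) (.leaf 0x0))))))))

/-- Closure. -/
def clo149 : FTree := (.node (.node (.node (.node (.node (.node (.node (.leaf 0xb8) (.leaf 0x2c27)) (.node (.leaf 0xfb6) (.leaf 0x69cc))) (.node (.node (.leaf 0x1811) (.leaf 0x434f)) (.node (.leaf 0x1bac) (.leaf 0x6d30)))) (.node (.node (.node (.leaf 0x4672) (.leaf 0x3f2a)) (.node (.leaf 0x14d0) (.leaf 0x63d8))) (.node (.node (.leaf 0x57e3) (.leaf 0x5ed2)) (.node (.leaf 0x61a0) (.leaf 0x75b2))))) (.node (.node (.node (.node (.leaf 0x2696) (.leaf 0x354a)) (.node (.leaf 0x1217) (.leaf 0x6aa6))) (.node (.node (.leaf 0x1eab) (.leaf 0x570f)) (.node (.leaf 0x2135) (.leaf 0x72ff)))) (.node (.node (.node (.leaf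 0x459e) (.leaf 0x3f15)) (.node (.leaf 0x34a7) (.leaf 0x690a))) (.node (.node (.leaf 0xd32) (.leaf 0x5258)) (.node (.leaf 0x261e) (.leaf 0x0)))))) (.node (.node (.node (.node (.node (.leaf 0x4d9) (.leaf 0x2eaa)) (.node (.leaf 0xfdb) (.leaf 0x598e))) (.node (.node (.leaf 0xd45) (.leaf 0x4635)) (.node (.leaf 0x1ec7) (.leaf 0x6fdc)))) (.node (.node (.node (.leaf 0x38d6) (.leaf 0x3a3c)) (.node (.leaf 0x16b9) (.leaf 0x6491))) (.node (.node (.leaf 0xbff) (.leaf 0x55d1)) (.node (.leaf 0x2473) (.leaf 0x0))))) (.node (.node (.node (.node (.leaf 0x3f7) (.leaf 0x3b98)) (.node (.leaf 0x2793) (.leaf 0x60b0))) (.node (.node (.leaf 0x564b) (.leaf 0x4df0)) (.node (.leaf 0x2505) (.leaf 0x73e7)))) (.node (.node (.node (.leaf 0x2eb1) (.leaf 0x4117)) (.node (.leaf 0x5613) (.leaf 0x6c16))) (.node (.node (.leaf 0x43f6) (.leaf 0x5451)) (.node (.leaf 0x653c) (.leaf 0x0))))))) (.node (.node (.node (.node (.node (.node (.leaf 0x1bf) (.leaf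 0x29cd)) (.node (.leaf 0x2608) (.leaf 0x5701))) (.node (.node (.leaf 0x1d2e) (.leaf 0x50c2)) (.node (.leaf 0x2072) (.leaf 0x6d04)))) (.node (.node (.node (.leaf 0x1ca5) (.leaf 0x37b6)) (.node (.leaf 0x14ae) (.leaf 0x6324))) (.node (.node (.leaf 0xaec) (.leaf 0x4c2d)) (.node (.leaf 0x2af4) (.leaf 0x75d3))))) (.node (.node (.node (.node (.leaf 0x8ec) (.leaf 0x3279)) (.node (.leaf 0x3f96) (.leaf 0x5d07))) (.node (.node (.leaf 0x324b) (.leaf 0x4837)) (.node (.leaf 0x2043) (.leaf 0x71ca)))) (.node (.node (.node (.leaf 0x11c8) (.leaf 0x3e4e)) (.node (.leaf 0x257b) (.leaf 0x6758))) (.node (.node (.leaf 0xd31) (.leaf 0x52f9)) (.node (.leaf 0x2534) (.leaf 0x0)))))) (.node (.node (.node (.node (.node (.leaf 0xeef) (.leaf 0x2d9d)) (.node (.leaf 0x10a9) (.leaf 0x5970))) (.node (.node (.leaf 0x731) (.leaf 0x5a23)) (.node (.leaf 0x1f07) (.leaf 0x6fb6)))) (.node (.node (.node (.leaf 0x17d4) (.leaf 0x3b45)) (.node (.leaf 0x160b)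 (.leaf 0x65b5))) (.node (.node (.leaf 0x306c) (.leaf 0x4e8d)) (.node (.leaf 0x2ab0) (.leaf 0x0))))) (.node (.node (.node (.node (.leaf 0xa9b) (.leaf 0x3ecb)) (.node (.leaf 0x2791) (.leaf 0x5ffa))) (.node (.node (.leaf 0x67ce) (.leaf 0x4bd2)) (.node (.leaf 0x3cb8) (.leaf 0x74c8)))) (.node (.node (.node (.leaf 0x1895) (.leaf 0x4023)) (.node (.leaf 0x1910) (.leaf 0x6b05))) (.node (.node (.leaf 0xde1) (.leaf 0x53ea)) (.node (.leaf 0x28c4) (.leaf 0x0))))))))

/-- Closure. -/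
def clo150 : FTree := (.node (.node (.node (.node (.node (.node (.node (.leaf 0x9d) (.leaf 0x32f4)) (.node (.leaf 0x3162) (.leaf 0x586b))) (.node (.node (.leaf 0x670) (.leaf 0x4922)) (.node (.leaf 0x1b38) (.leaf 0x6e87)))) (.node (.node (.node (.leaf 0x2dff) (.leaf 0x3790)) (.node (.leaf 0x14dd) (.leaf 0x6294))) (.node (.node (.leaf 0xab2) (.leaf 0x4cb2)) (.node (.leaf 0x3096) (.leaf 0x75bb))))) (.node (.node (.node (.node (.leaf 0x12fd) (.leaf 0x347c)) (.node (.leaf 0x1212) (.leaf 0x5adb))) (.node (.node (.leaf 0x29e6) (.leaf 0x48fe)) (.node (.leaf 0x1f99) (.leaf 0x720a)))) (.node (.node (.node (.leaf 0x100e) (.leaf 0x3e73)) (.node (.leaf 0x1883) (.leaf 0x67da))) (.node (.node (.leaf 0xd5a) (.leaf 0x51e2)) (.node (.leaf 0x25db) (.leaf 0x0)))))) (.node (.node (.node (.node (.node (.leaf 0x2c7) (.leaf 0x2e57)) (.node (.leaf 0x10d9) (.leaf 0x5a7a))) (.node (.node (.leaf 0x6d7) (.leaf 0x4567)) (.node (.leaf 0x372d)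 (.leaf 0x6ff8)))) (.node (.node (.node (.leaf 0x1118) (.leaf 0x3c24)) (.node (.leaf 0x15a7) (.leaf 0x6da4))) (.node (.node (.leaf 0x358b) (.leaf 0x4f6d)) (.node (.leaf 0x245e) (.leaf 0x0))))) (.node (.node (.node (.node (.leaf 0x5b1) (.leaf 0x364e)) (.node (.leaf 0x137c) (.leaf 0x5fa8))) (.node (.node (.leaf 0x1228) (.leaf 0x4a83)) (.node (.leaf 0x21bb) (.leaf 0x73a9)))) (.node (.node (.node (.leaf 0xa64) (.leaf 0x4224)) (.node (.leaf 0x1a11) (.leaf 0x6a8c))) (.node (.node (.leaf 0x1be8) (.leaf 0x55ee)) (.node (.leaf 0x6e23) (.leaf 0x0))))))) (.node (.node (.node (.node (.node (.node (.leaf 0x1a8) (.leaf 0x2aad)) (.node (.leaf 0x5d8f) (.leaf 0x5673))) (.node (.node (.leaf 0x2746) (.leaf 0x4351)) (.node (.leaf 0x1aa7) (.leaf 0x6ccf)))) (.node (.node (.node (.leaf 0x382) (.leaf 0x38d1)) (.node (.leaf 0x3fdb) (.leaf 0x622e))) (.node (.node (.leaf 0x1252) (.leaf 0x4d47)) (.node (.leaf 0x53ca) (.leaf 0x758f))))) (.node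 (.node (.node (.node (.leaf 0x2d20) (.leaf 0x350d)) (.node (.leaf 0x5c06) (.leaf 0x5c8e))) (.node (.node (.leaf 0x7fd) (.leaf 0x4845)) (.node (.leaf 0x2c66) (.leaf 0x71d7)))) (.node (.node (.node (.leaf 0xa7d) (.leaf 0x3f5e)) (.node (.leaf 0x187d) (.leaf 0x6827))) (.node (.node (.leaf 0x1da8) (.leaf 0x51ab)) (.node (.leaf 0x257f) (.leaf 0x0)))))) (.node (.node (.node (.node (.node (.leaf 0x24d) (.leaf 0x3b19)) (.node (.leaf 0x1007) (.leaf 0x59c7))) (.node (.node (.leaf 0x3c19) (.leaf 0x44e3)) (.node (.leaf 0x1e07) (.leaf 0x70db)))) (.node (.node (.node (.leaf 0x6400) (.leaf 0x3ad6)) (.node (.leaf 0x5ee9) (.leaf 0x6582))) (.node (.node (.leaf 0xbef) (.leaf 0x4f09)) (.node (.leaf 0x23b2) (.leaf 0x0))))) (.node (.node (.node (.node (.leaf 0x328) (.leaf 0x36cc)) (.node (.leaf 0x2e27) (.leaf 0x60e8))) (.node (.node (.leaf 0x9c6) (.leaf 0x6c44)) (.node (.leaf 0x21d3) (.leaf 0x73c1)))) (.node (.node (.node (.leaf 0x2e11)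 (.leaf 0x4046)) (.node (.leaf 0x1f0b) (.leaf 0x6b35))) (.node (.node (.leaf 0x69ef) (.leaf 0x5559)) (.node (.leaf 0x2b28) (.leaf 0x0))))))))

/-- Closure. -/
def clo151 : FTree := (.node (.node (.node (.node (.node (.node (.node (.leaf 0x114) (.leaf 0x49d4)) (.node (.leaf 0x10be) (.leaf 0x5679))) (.node (.node (.leaf 0x680) (.leaf 0x43e4)) (.node (.leaf 0x1c10) (.leaf 0x6d20)))) (.node (.node (.node (.leaf 0x393) (.leaf 0x3967)) (.node (.leaf 0x3455) (.leaf 0x6286))) (.node (.node (.leaf 0xab6) (.leaf 0x4ce2)) (.node (.leaf 0x2cf2) (.leaf 0x7617))))) (.node (.node (.node (.node (.leaf 0xa86) (.leaf 0x3488)) (.node (.leaf 0x1edd) (.leaf 0x5ce3))) (.node (.node (.leaf 0x46ba) (.leaf 0x4862)) (.node (.leaf 0x1f54) (.leaf 0x72d7)))) (.node (.node (.node (.leaf 0x969) (.leaf 0x3d52)) (.node (.leaf 0x1775) (.leaf 0x66fe))) (.node (.node (.leaf 0xd8a) (.leaf 0x514a)) (.node (.leaf 0x261d) (.leaf 0x0)))))) (.node (.node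 (.node (.node (.node (.leaf 0x7a6) (.leaf 0x37f3)) (.node (.leaf 0x36fc) (.leaf 0x5921))) (.node (.node (.leaf 0x16dd) (.leaf 0x4745)) (.node (.leaf 0x263f) (.leaf 0x6f51)))) (.node (.node (.node (.leaf 0x2d94) (.leaf 0x3bad)) (.node (.leaf 0x1637) (.leaf 0x640e))) (.node (.node (.leaf 0xc9f) (.leaf 0x4f87)) (.node (.leaf 0x24b3) (.leaf 0x0))))) (.node (.node (.node (.node (.leaf 0xd99) (.leaf 0x41e7)) (.node (.leaf 0x1d58) (.leaf 0x6140))) (.node (.node (.leaf 0x3778) (.leaf 0x4b00)) (.node (.leaf 0x21d1) (.leaf 0x7460)))) (.node (.node (.node (.leaf 0x3226) (.leaf 0x4215)) (.node (.leaf 0x637e) (.leaf 0x6aa5))) (.node (.node (.leaf 0x6386) (.leaf 0x549c)) (.node (.leaf 0x279d) (.leaf 0x0))))))) (.node (.node (.node (.node (.node (.node (.leaf 0x1f4) (.leaf 0x2a0f)) (.node (.leaf 0xf7d) (.leaf 0x57b5))) (.node (.node (.leaf 0x2ede) (.leaf 0x449d)) (.node (.leaf 0x1bf7) (.leaf 0x6c87)))) (.node (.node (.node (.leaf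 0x3d16) (.leaf 0x381e)) (.node (.leaf 0x14e9) (.leaf 0x6321))) (.node (.node (.leaf 0x2a5b) (.leaf 0x4d06)) (.node (.leaf 0x5887) (.leaf 0x767e))))) (.node (.node (.node (.node (.leaf 0x608) (.leaf 0x343d)) (.node (.leaf 0x12ef) (.leaf 0x5db7))) (.node (.node (.leaf 0x4c05) (.leaf 0x4929)) (.node (.leaf 0x33f9) (.leaf 0x72ab)))) (.node (.node (.node (.leaf 0x204f) (.leaf 0x3e31)) (.node (.leaf 0x1828) (.leaf 0x6967))) (.node (.node (.leaf 0x141b) (.leaf 0x563c)) (.node (.leaf 0x2596) (.leaf 0x0)))))) (.node (.node (.node (.node (.node (.leaf 0x2bf) (.leaf 0x54bc)) (.node (.leaf 0x1027) (.leaf 0x596a))) (.node (.node (.leaf 0x6ee) (.leaf 0x4718)) (.node (.leaf 0x2cae) (.leaf 0x6fff)))) (.node (.node (.node (.leaf 0x116b) (.leaf 0x3aec)) (.node (.leaf 0x6f31) (.leaf 0x6566))) (.node (.node (.leaf 0x4aa2) (.leaf 0x4fe1)) (.node (.leaf 0x246d) (.leaf 0x0))))) (.node (.node (.node (.node (.leaf 0x2976) (.leaf 0x3627))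 (.node (.leaf 0x4727) (.leaf 0x606e))) (.node (.node (.leaf 0x3402) (.leaf 0x49e9)) (.node (.leaf 0x223d) (.leaf 0x74e5)))) (.node (.node (.node (.leaf 0x5ef) (.leaf 0x4222)) (.node (.leaf 0x18d4) (.leaf 0x6b3e))) (.node (.node (.leaf 0xe60) (.leaf 0x54eb)) (.node (.leaf 0x6842) (.leaf 0x0))))))))

/-- Closure. -/
def clo152 : FTree := (.node (.node (.node (.node (.node (.node (.node (.leaf 0x31) (.leaf 0x296b)) (.node (.leaf 0xf79) (.leaf 0x5e34))) (.node (.node (.leaf 0x1a4d) (.leaf 0x544f)) (.node (.leaf 0x614d) (.leaf 0x6c65)))) (.node (.node (.node (.leaf 0x4666) (.leaf 0x37e1)) (.node (.leaf 0x3454) (.leaf 0x61c1))) (.node (.node (.leaf 0xa62) (.leaf 0x4d08)) (.node (.leaf 0x6194) (.leaf 0x763f))))) (.node (.node (.node (.node (.leaf 0x2a6b) (.leaf 0x3150)) (.node (.leaf 0x119b) (.leaf 0x5fe0))) (.node (.node (.leaf 0x1666) (.leaf 0x47bf)) (.node (.leaf 0x207f) (.leaf 0x72bc)))) (.node (.node (.node (.leaf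 0x117f) (.leaf 0x3d4b)) (.node (.leaf 0x54e0) (.leaf 0x6896))) (.node (.node (.leaf 0x31a7) (.leaf 0x5171)) (.node (.leaf 0x5dde) (.leaf 0x0)))))) (.node (.node (.node (.node (.node (.leaf 0x2e6) (.leaf 0x2f86)) (.node (.leaf 0xff1) (.leaf 0x5a59))) (.node (.node (.leaf 0x65ef) (.leaf 0x45f5)) (.node (.leaf 0x4cec) (.leaf 0x6f45)))) (.node (.node (.node (.leaf 0x6492) (.leaf 0x3bf1)) (.node (.leaf 0x16da) (.leaf 0x6688))) (.node (.node (.leaf 0x612c) (.leaf 0x4f4f)) (.node (.leaf 0x402b) (.leaf 0x0))))) (.node (.node (.node (.node (.leaf 0x1b4b) (.leaf 0x3804)) (.node (.leaf 0x3e4f) (.leaf 0x602a))) (.node (.node (.leaf 0x55f8) (.leaf 0x4bba)) (.node (.leaf 0x24a2) (.leaf 0x73ed)))) (.node (.node (.node (.leaf 0x3adf) (.leaf 0x4189)) (.node (.leaf 0x18d7) (.leaf 0x6b98))) (.node (.node (.leaf 0xdff) (.leaf 0x5621)) (.node (.leaf 0x27a4) (.leaf 0x0))))))) (.node (.node (.node (.node (.node (.node (.leaf 0x115) (.leaf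 0x2c8e)) (.node (.leaf 0x10b1) (.leaf 0x5817))) (.node (.node (.leaf 0x1d8e) (.leaf 0x43cf)) (.node (.leaf 0x1dd5) (.leaf 0x6cb0)))) (.node (.node (.node (.leaf 0x38e) (.leaf 0x3f6b)) (.node (.leaf 0x1576) (.leaf 0x61f5))) (.node (.node (.leaf 0xa3f) (.leaf 0x4d59)) (.node (.leaf 0x6629) (.leaf 0x762e))))) (.node (.node (.node (.node (.leaf 0x660) (.leaf 0x34ab)) (.node (.leaf 0x14e4) (.leaf 0x5bc4))) (.node (.node (.leaf 0x16f4) (.leaf 0x48f2)) (.node (.leaf 0x424f) (.leaf 0x715d)))) (.node (.node (.node (.leaf 0x1e03) (.leaf 0x3fc2)) (.node (.leaf 0x236c) (.leaf 0x6926))) (.node (.node (.leaf 0x188e) (.leaf 0x52c1)) (.node (.leaf 0x48b8) (.leaf 0x0)))))) (.node (.node (.node (.node (.node (.leaf 0x76e) (.leaf 0x2dcf)) (.node (.leaf 0x101c) (.leaf 0x59c5))) (.node (.node (.leaf 0x71d) (.leaf 0x44cc)) (.node (.leaf 0x4f23) (.leaf 0x701a)))) (.node (.node (.node (.leaf 0x3dc9) (.leaf 0x3b7f)) (.node (.leaf 0x16ac)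 (.leaf 0x6676))) (.node (.node (.leaf 0x6a59) (.leaf 0x4ec6)) (.node (.leaf 0x3c3b) (.leaf 0x0))))) (.node (.node (.node (.node (.leaf 0x6cf4) (.leaf 0x36c3)) (.node (.leaf 0x2e2a) (.leaf 0x6608))) (.node (.node (.leaf 0x1043) (.leaf 0x6cce)) (.node (.leaf 0x21ea) (.leaf 0x744f)))) (.node (.node (.node (.leaf 0x23f0) (.leaf 0x4082)) (.node (.leaf 0x19c0) (.leaf 0x6a43))) (.node (.node (.leaf 0x55ab) (.leaf 0x5591)) (.node (.leaf 0x2801) (.leaf 0x0))))))))

/-- Closure. -/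
def clo153 : FTree := (.node (.node (.node (.node (.node (.node (.node (.leaf 0x94) (.leaf 0x2c73)) (.node (.leaf 0xef8) (.leaf 0x5718))) (.node (.node (.leaf 0x6b0) (.leaf 0x42b6)) (.node (.leaf 0x1a25) (.leaf 0x6d48)))) (.node (.node (.node (.leaf 0x811) (.leaf 0x37ab)) (.node (.leaf 0x4be3) (.leaf 0x6243))) (.node (.node (.leaf 0xa9f) (.leaf 0x4c2a)) (.node (.leaf 0x308f) (.leaf 0x75b1))))) (.node (.node (.node (.node (.leaf 0x289) (.leaf 0x3044)) (.node (.leaf 0x1137) (.leaf 0x5dcf))) (.node (.node (.leaf 0x7cc) (.leaf 0x47c7)) (.node (.leaf 0x1f1c) (.leaf 0x7173)))) (.node (.node (.node (.leaf 0x62d) (.leaf 0x3edf)) (.node (.leaf 0x30b0) (.leaf 0x6774))) (.node (.node (.leaf 0xcdd) (.leaf 0x5177)) (.node (.leaf 0x2905) (.leaf 0x0)))))) (.node (.node (.node (.node (.node (.leaf 0x20a) (.leaf 0x2e61)) (.node (.leaf 0xfbc) (.leaf 0x58d1))) (.node (.node (.leaf 0x71c) (.leaf 0x46e7)) (.node (.leaf 0x1ceb) (.leaf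 0x6f34)))) (.node (.node (.node (.leaf 0x61d4) (.leaf 0x39f1)) (.node (.leaf 0x1702) (.leaf 0x664b))) (.node (.node (.leaf 0xbf3) (.leaf 0x504d)) (.node (.leaf 0x4f7f) (.leaf 0x0))))) (.node (.node (.node (.node (.leaf 0x2cc4) (.leaf 0x361a)) (.node (.leaf 0x30c5) (.leaf 0x5fa0))) (.node (.node (.leaf 0x40a0) (.leaf 0x49db)) (.node (.leaf 0x4135) (.leaf 0x74ec)))) (.node (.node (.node (.leaf 0xbeb) (.leaf 0x4105)) (.node (.leaf 0x19f0) (.leaf 0x6b41))) (.node (.node (.leaf 0x27f0) (.leaf 0x53a6)) (.node (.leaf 0x26ca) (.leaf 0x0))))))) (.node (.node (.node (.node (.node (.node (.leaf 0x152) (.leaf 0x2c92)) (.node (.leaf 0xf6e) (.leaf 0x56c7))) (.node (.node (.leaf 0x67a) (.leaf 0x445e)) (.node (.leaf 0x1b0a) (.leaf 0x6d5a)))) (.node (.node (.node (.leaf 0x1c89) (.leaf 0x3881)) (.node (.leaf 0x14ee) (.leaf 0x6318))) (.node (.node (.leaf 0x285c) (.leaf 0x4dcd)) (.node (.leaf 0x537b) (.leaf 0x7658))))) (.node (.node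 (.node (.node (.leaf 0x56b) (.leaf 0x34f1)) (.node (.leaf 0x3b6a) (.leaf 0x5c34))) (.node (.node (.leaf 0x8ae) (.leaf 0x4852)) (.node (.leaf 0x2018) (.leaf 0x72e6)))) (.node (.node (.node (.leaf 0x3de3) (.leaf 0x3dd6)) (.node (.leaf 0x17dc) (.leaf 0x677b))) (.node (.node (.leaf 0xd2e) (.leaf 0x52a4)) (.node (.leaf 0x6d61) (.leaf 0x0)))))) (.node (.node (.node (.node (.node (.leaf 0x2f5) (.leaf 0x49d0)) (.node (.leaf 0x10a5) (.leaf 0x5906))) (.node (.node (.leaf 0x73f) (.leaf 0x4572)) (.node (.leaf 0x1ec2) (.leaf 0x6f19)))) (.node (.node (.node (.leaf 0xe0d) (.leaf 0x3a76)) (.node (.leaf 0x16a5) (.leaf 0x64d7))) (.node (.node (.leaf 0x6170) (.leaf 0x50a5)) (.node (.leaf 0x24d1) (.leaf 0x0))))) (.node (.node (.node (.node (.leaf 0x2d6f) (.leaf 0x375c)) (.node (.leaf 0x2700) (.leaf 0x60b1))) (.node (.node (.leaf 0xde2) (.leaf 0x4a23)) (.node (.leaf 0x21d0) (.leaf 0x7424)))) (.node (.node (.node (.leaf 0x2971) (.leaf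 0x419e)) (.node (.leaf 0x560e) (.leaf 0x6bf4))) (.node (.node (.leaf 0x6a09) (.leaf 0x5427)) (.node (.leaf 0x2861) (.leaf 0x0))))))))

/-- Closure. -/
def clo154 : FTree := (.node (.node (.node (.node (.node (.node (.node (.leaf 0x93) (.leaf 0x40ad)) (.node (.leaf 0x57d3) (.leaf 0x5733))) (.node (.node (.leaf 0x64d) (.leaf 0x446f)) (.node (.leaf 0x1b16) (.leaf 0x6eac)))) (.node (.node (.node (.leaf 0x4679) (.leaf 0x393e)) (.node (.leaf 0x3fe8) (.leaf 0x63da))) (.node (.node (.leaf 0x3b6e) (.leaf 0x4d1a)) (.node (.leaf 0x22a1) (.leaf 0x76c1))))) (.node (.node (.node (.node (.leaf 0x26c7) (.leaf 0x34c6)) (.node (.leaf 0x28cc) (.leaf 0x681d))) (.node (.node (.leaf 0x2c9a) (.leaf 0x4789)) (.node (.leaf 0x2063) (.leaf 0x71e5)))) (.node (.node (.node (.leaf 0xfdd) (.leaf 0x3f89)) (.node (.leaf 0x2d8f) (.leaf 0x6734))) (.node (.node (.leaf 0xd60) (.leaf 0x523e)) (.node (.leaf 0x271d) (.leaf 0x0)))))) (.node (.node (.node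 (.node (.node (.leaf 0x4f8) (.leaf 0x2ecb)) (.node (.leaf 0x2f4d) (.leaf 0x5972))) (.node (.node (.leaf 0x1689) (.leaf 0x4619)) (.node (.leaf 0x1f00) (.leaf 0x6f8b)))) (.node (.node (.node (.leaf 0x602) (.leaf 0x3ad8)) (.node (.leaf 0x44d1) (.leaf 0x6476))) (.node (.node (.leaf 0xc0d) (.leaf 0x50e9)) (.node (.leaf 0x23f7) (.leaf 0x0))))) (.node (.node (.node (.node (.leaf 0x340) (.leaf 0x3700)) (.node (.leaf 0x1d5f) (.leaf 0x6134))) (.node (.node (.leaf 0x5749) (.leaf 0x4b25)) (.node (.leaf 0x2154) (.leaf 0x73bc)))) (.node (.node (.node (.leaf 0x2d57) (.leaf 0x4070)) (.node (.leaf 0x6381) (.leaf 0x6b69))) (.node (.node (.leaf 0x6086) (.leaf 0x534d)) (.node (.leaf 0x290d) (.leaf 0x0))))))) (.node (.node (.node (.node (.node (.node (.leaf 0x173) (.leaf 0x2a38)) (.node (.leaf 0x2a84) (.leaf 0x56a9))) (.node (.node (.leaf 0xe6c) (.leaf 0x4432)) (.node (.leaf 0x5e09) (.leaf 0x6de6)))) (.node (.node (.node (.leaf 0x3d23)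 (.leaf 0x3835)) (.node (.leaf 0x1573) (.leaf 0x6274))) (.node (.node (.leaf 0x3159) (.leaf 0x4c95)) (.node (.leaf 0x6f02) (.leaf 0x76da))))) (.node (.node (.node (.node (.leaf 0x12f3) (.leaf 0x32dd)) (.node (.leaf 0x1644) (.leaf 0x5e47))) (.node (.node (.leaf 0x2c9d) (.leaf 0x48ea)) (.node (.leaf 0x5645) (.leaf 0x7266)))) (.node (.node (.node (.leaf 0x87f) (.leaf 0x3ef4)) (.node (.leaf 0x186f) (.leaf 0x68db))) (.node (.node (.leaf 0xd38) (.leaf 0x5303)) (.node (.leaf 0x25a3) (.leaf 0x0)))))) (.node (.node (.node (.node (.node (.leaf 0x353) (.leaf 0x584d)) (.node (.leaf 0x24d3) (.leaf 0x58cd))) (.node (.node (.leaf 0x1239) (.leaf 0x4587)) (.node (.leaf 0x1e71) (.leaf 0x7023)))) (.node (.node (.node (.leaf 0x422) (.leaf 0x3c75)) (.node (.leaf 0x157d) (.leaf 0x6d9e))) (.node (.node (.leaf 0xc0c) (.leaf 0x4fcb)) (.node (.leaf 0x42d8) (.leaf 0x0))))) (.node (.node (.node (.node (.leaf 0x2991) (.leaf 0x4238)) (.node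 (.leaf 0x2b13) (.leaf 0x5f6c))) (.node (.node (.leaf 0x62fa) (.leaf 0x4a22)) (.node (.leaf 0x224a) (.leaf 0x750c)))) (.node (.node (.node (.leaf 0x5b5) (.leaf 0x416d)) (.node (.leaf 0x18f2) (.leaf 0x6c01))) (.node (.node (.leaf 0x1bb0) (.leaf 0x5346)) (.node (.leaf 0x2ad3) (.leaf 0x0))))))))

/-- Closure. -/
def clo155 : FTree := (.node (.node (.node (.node (.node (.node (.node (.leaf 0xe1) (.leaf 0x2ab6)) (.node (.leaf 0x2a82) (.leaf 0x57f7))) (.node (.node (.leaf 0xab8) (.leaf 0x6903)) (.node (.leaf 0x1a34) (.leaf 0x6cb7)))) (.node (.node (.node (.leaf 0x13cb) (.leaf 0x5419)) (.node (.leaf 0x1459) (.leaf 0x637a))) (.node (.node (.leaf 0x2a8e) (.leaf 0x4c9d)) (.node (.leaf 0x4a62) (.leaf 0x75e2))))) (.node (.node (.node (.node (.leaf 0x320) (.leaf 0x32fd)) (.node (.leaf 0x1248) (.leaf 0x5d57))) (.node (.node (.leaf 0x805) (.leaf 0x4771)) (.node (.leaf 0x34a3) (.leaf 0x716b)))) (.node (.node (.node (.leaf 0x9c8)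 (.leaf 0x3d9e)) (.node (.leaf 0x1c16) (.leaf 0x6966))) (.node (.node (.leaf 0x3501) (.leaf 0x562c)) (.node (.leaf 0x25bf) (.leaf 0x0)))))) (.node (.node (.node (.node (.node (.leaf 0x364) (.leaf 0x2f7a)) (.node (.leaf 0x1eee) (.leaf 0x5a03))) (.node (.node (.leaf 0x1b8c) (.leaf 0x44f0)) (.node (.leaf 0x4525) (.leaf 0x7068)))) (.node (.node (.node (.leaf 0x6137) (.leaf 0x3b0d)) (.node (.leaf 0x160e) (.leaf 0x666e))) (.node (.node (.leaf 0xc1d) (.leaf 0x5065)) (.node (.leaf 0x511b) (.leaf 0x0))))) (.node (.node (.node (.node (.leaf 0x864) (.leaf 0x36e3)) (.node (.leaf 0x2e1d) (.leaf 0x6108))) (.node (.node (.leaf 0x91d) (.leaf 0x4b3f)) (.node (.leaf 0x553b) (.leaf 0x735e)))) (.node (.node (.node (.leaf 0x3615) (.leaf 0x41a0)) (.node (.leaf 0x5077) (.leaf 0x6a1f))) (.node (.node (.leaf 0x5123) (.leaf 0x5de0)) (.node (.leaf 0x26c6) (.leaf 0x0))))))) (.node (.node (.node (.node (.node (.node (.leaf 0x1e2) (.leaf 0x3a5e))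 (.node (.leaf 0x12c1) (.leaf 0x56e4))) (.node (.node (.leaf 0x8bb) (.leaf 0x64aa)) (.node (.leaf 0x1a83) (.leaf 0x6ecd)))) (.node (.node (.node (.leaf 0x2df4) (.leaf 0x4e51)) (.node (.leaf 0x14ca) (.leaf 0x6203))) (.node (.node (.leaf 0xb0a) (.leaf 0x4da9)) (.node (.leaf 0x2adc) (.leaf 0x7670))))) (.node (.node (.node (.node (.leaf 0x7e8) (.leaf 0x30e7)) (.node (.leaf 0x117c) (.leaf 0x5d3a))) (.node (.node (.leaf 0xa06) (.leaf 0x4895)) (.node (.leaf 0x2044) (.leaf 0x716e)))) (.node (.node (.node (.leaf 0x1ab6) (.leaf 0x46fd)) (.node (.leaf 0x1784) (.leaf 0x6810))) (.node (.node (.leaf 0x5d1c) (.leaf 0x5272)) (.node (.leaf 0x28a2) (.leaf 0x0)))))) (.node (.node (.node (.node (.node (.leaf 0x270) (.leaf 0x2ddd)) (.node (.leaf 0x19f4) (.leaf 0x58e2))) (.node (.node (.leaf 0x758) (.leaf 0x4735)) (.node (.leaf 0x1dab) (.leaf 0x6f35)))) (.node (.node (.node (.leaf 0x5b46) (.leaf 0x3bc6)) (.node (.leaf 0x1610) (.leaf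 0x65ae))) (.node (.node (.leaf 0xc73) (.leaf 0x506a)) (.node (.leaf 0x2400) (.leaf 0x0))))) (.node (.node (.node (.node (.leaf 0x5ab) (.leaf 0x361b)) (.node (.leaf 0x26bb) (.leaf 0x60cb))) (.node (.node (.leaf 0x1f15) (.leaf 0x4b0d)) (.node (.leaf 0x20e4) (.leaf 0x733c)))) (.node (.node (.node (.leaf 0x584) (.leaf 0x4980)) (.node (.leaf 0x18e3) (.leaf 0x6bc6))) (.node (.node (.leaf 0xea0) (.leaf 0x55be)) (.node (.leaf 0x27da) (.leaf 0x0))))))))

/-- Closure. -/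
def clo156 : FTree := (.node (.node (.node (.node (.node (.node (.node (.leaf 0x2b) (.leaf 0x2c0f)) (.node (.leaf 0xf68) (.leaf 0x56e3))) (.node (.node (.leaf 0x4319) (.leaf 0x43e5)) (.node (.leaf 0x333d) (.leaf 0x6deb)))) (.node (.node (.node (.leaf 0x467a) (.leaf 0x398b)) (.node (.leaf 0x1495) (.leaf 0x6188))) (.node (.node (.leaf 0x5cbd) (.leaf 0x4d14)) (.node (.leaf 0x6199) (.leaf 0x770e))))) (.node (.node (.node (.node (.leaf 0x12fa) (.leaf 0x34e8)) (.node (.leaf 0x39a3) (.leaf 0x5eb3))) (.node (.node (.leaf 0x3e78) (.leaf 0x52d6)) (.node (.leaf 0x1f79) (.leaf 0x7144)))) (.node (.node (.node (.leaf 0x340a) (.leaf 0x3fb7)) (.node (.leaf 0x20bc) (.leaf 0x67c3))) (.node (.node (.leaf 0x10e9) (.leaf 0x51ea)) (.node (.leaf 0x5455) (.leaf 0x0)))))) (.node (.node (.node (.node (.node (.leaf 0x2b8) (.leaf 0x320e)) (.node (.leaf 0x2be3) (.leaf 0x5aa5))) (.node (.node (.leaf 0x48e6) (.leaf 0x463d)) (.node (.leaf 0x1cec)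 (.leaf 0x6f76)))) (.node (.node (.node (.leaf 0x470) (.leaf 0x3c20)) (.node (.leaf 0x15ba) (.leaf 0x65b2))) (.node (.node (.leaf 0x299c) (.leaf 0x4f00)) (.node (.leaf 0x5c28) (.leaf 0x0))))) (.node (.node (.node (.node (.leaf 0x33a) (.leaf 0x3649)) (.node (.leaf 0x1348) (.leaf 0x5f9a))) (.node (.node (.leaf 0x929) (.leaf 0x4ada)) (.node (.leaf 0x2498) (.leaf 0x7368)))) (.node (.node (.node (.leaf 0x10f2) (.leaf 0x4202)) (.node (.leaf 0x18eb) (.leaf 0x6a5e))) (.node (.node (.leaf 0x3278) (.leaf 0x5415)) (.node (.leaf 0x325a) (.leaf 0x0))))))) (.node (.node (.node (.node (.node (.node (.leaf 0x12a) (.leaf 0x5c31)) (.node (.leaf 0x31e3) (.leaf 0x56e9))) (.node (.node (.leaf 0x34e2) (.leaf 0x44ae)) (.node (.leaf 0x54b8) (.leaf 0x6ecc)))) (.node (.node (.node (.leaf 0x7f3) (.leaf 0x38d0)) (.node (.leaf 0x14b6) (.leaf 0x667a))) (.node (.node (.leaf 0xa66) (.leaf 0x4dd8)) (.node (.leaf 0x6e47) (.leaf 0x766a))))) (.node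 (.node (.node (.node (.leaf 0xa84) (.leaf 0x31d7)) (.node (.leaf 0x1bf0) (.leaf 0x5b44))) (.node (.node (.leaf 0x2349) (.leaf 0x47b2)) (.node (.leaf 0x1f84) (.leaf 0x71e7)))) (.node (.node (.node (.leaf 0x6b4) (.leaf 0x678b)) (.node (.leaf 0x2960) (.leaf 0x675d))) (.node (.node (.leaf 0xd21) (.leaf 0x52de)) (.node (.leaf 0x25f9) (.leaf 0x0)))))) (.node (.node (.node (.node (.node (.leaf 0x7be) (.leaf 0x671a)) (.node (.leaf 0x1e09) (.leaf 0x5912))) (.node (.node (.leaf 0xd5b) (.leaf 0x45f0)) (.node (.leaf 0x392b) (.leaf 0x7015)))) (.node (.node (.node (.leaf 0x49cc) (.leaf 0x3c96)) (.node (.leaf 0x4141) (.leaf 0x6850))) (.node (.node (.leaf 0xc94) (.leaf 0x4ee0)) (.node (.leaf 0x5c25) (.leaf 0x0))))) (.node (.node (.node (.node (.leaf 0x1cbe) (.leaf 0x38a2)) (.node (.leaf 0x30d4) (.leaf 0x5f47))) (.node (.node (.leaf 0xa19) (.leaf 0x4ae4)) (.node (.leaf 0x2155) (.leaf 0x74c3)))) (.node (.node (.node (.leaf 0x6764)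 (.leaf 0x40b8)) (.node (.leaf 0x198e) (.leaf 0x6afb))) (.node (.node (.leaf 0xecc) (.leaf 0x685a)) (.node (.leaf 0x6306) (.leaf 0x0))))))))

/-- Closure. -/
def clo157 : FTree := (.node (.node (.node (.node (.node (.node (.node (.leaf 0xc7) (.leaf 0x2956)) (.node (.leaf 0x12c8) (.leaf 0x56bd))) (.node (.node (.leaf 0x6830) (.leaf 0x544c)) (.node (.leaf 0x5e5b) (.leaf 0x6d10)))) (.node (.node (.node (.leaf 0x7e1) (.leaf 0x3894)) (.node (.leaf 0x4519) (.leaf 0x6214))) (.node (.node (.leaf 0xb50) (.leaf 0x4c98)) (.node (.leaf 0x2cfa) (.leaf 0x7527))))) (.node (.node (.node (.node (.leaf 0x2a5e) (.leaf 0x31a2)) (.node (.leaf 0x290c) (.leaf 0x5d4e))) (.node (.node (.leaf 0x3d3d) (.leaf 0x479e)) (.node (.leaf 0x202e) (.leaf 0x72b0)))) (.node (.node (.node (.leaf 0xb49) (.leaf 0x3d86)) (.node (.leaf 0x1741) (.leaf 0x66f0))) (.node (.node (.leaf 0x5f48) (.leaf 0x515e)) (.node (.leaf 0x2674) (.leaf 0x0)))))) (.node (.node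 (.node (.node (.node (.leaf 0x256) (.leaf 0x5c45)) (.node (.leaf 0x1074) (.leaf 0x592a))) (.node (.node (.leaf 0x5ee0) (.leaf 0x463b)) (.node (.leaf 0x3465) (.leaf 0x6f43)))) (.node (.node (.node (.leaf 0x9eb) (.leaf 0x3c36)) (.node (.leaf 0x1673) (.leaf 0x6666))) (.node (.node (.leaf 0x6173) (.leaf 0x4e34)) (.node (.leaf 0x402d) (.leaf 0x0))))) (.node (.node (.node (.node (.leaf 0x452) (.leaf 0x3ec6)) (.node (.leaf 0x469e) (.leaf 0x6119))) (.node (.node (.leaf 0x2a1a) (.leaf 0x4a14)) (.node (.leaf 0x216b) (.leaf 0x73f9)))) (.node (.node (.node (.leaf 0x2739) (.leaf 0x4245)) (.node (.leaf 0x19b2) (.leaf 0x6bb7))) (.node (.node (.leaf 0x4f92) (.leaf 0x558f)) (.node (.leaf 0x279f) (.leaf 0x0))))))) (.node (.node (.node (.node (.node (.node (.leaf 0x1ca) (.leaf 0x2986)) (.node (.leaf 0xf21) (.leaf 0x5875))) (.node (.node (.leaf 0x6d4) (.leaf 0x5e56)) (.node (.leaf 0x1bfe) (.leaf 0x6eb5)))) (.node (.node (.node (.leaf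 0x52e) (.leaf 0x390d)) (.node (.leaf 0x1483) (.leaf 0x6215))) (.node (.node (.leaf 0x4fc4) (.leaf 0x4e16)) (.node (.leaf 0x2cfb) (.leaf 0x758d))))) (.node (.node (.node (.node (.leaf 0x2fc0) (.leaf 0x3218)) (.node (.leaf 0x1159) (.leaf 0x5c6e))) (.node (.node (.leaf 0x1847) (.leaf 0x499c)) (.node (.leaf 0x350c) (.leaf 0x7185)))) (.node (.node (.node (.leaf 0x475c) (.leaf 0x3f3f)) (.node (.leaf 0x2a37) (.leaf 0x681a))) (.node (.node (.leaf 0x11f8) (.leaf 0x51fe)) (.node (.leaf 0x2585) (.leaf 0x0)))))) (.node (.node (.node (.node (.node (.leaf 0x284) (.leaf 0x2f4e)) (.node (.leaf 0x10d8) (.leaf 0x5974))) (.node (.node (.leaf 0x493a) (.leaf 0x46af)) (.node (.leaf 0x4ec2) (.leaf 0x70be)))) (.node (.node (.node (.leaf 0x277f) (.leaf 0x3a7f)) (.node (.leaf 0x15ce) (.leaf 0x64da))) (.node (.node (.leaf 0xbd4) (.leaf 0x4fef)) (.node (.leaf 0x32d0) (.leaf 0x0))))) (.node (.node (.node (.node (.leaf 0x33c) (.leaf 0x36b1))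 (.node (.leaf 0x2ef5) (.leaf 0x5f2d))) (.node (.node (.leaf 0x1034) (.leaf 0x4c0a)) (.node (.leaf 0x20d7) (.leaf 0x7446)))) (.node (.node (.node (.leaf 0x27b9) (.leaf 0x4185)) (.node (.leaf 0x585b) (.leaf 0x6a69))) (.node (.node (.leaf 0xe58) (.leaf 0x548c)) (.node (.leaf 0x27c4) (.leaf 0x0))))))))

/-- Closure. -/
def clo158 : FTree := (.node (.node (.node (.node (.node (.node (.node (.leaf 0x95) (.leaf 0x2c70)) (.node (.leaf 0xf71) (.leaf 0x57db))) (.node (.node (.leaf 0x157e) (.leaf 0x4444)) (.node (.leaf 0x343e) (.leaf 0x6d2c)))) (.node (.node (.node (.leaf 0x467b) (.leaf 0x5bcd)) (.node (.leaf 0x1574) (.leaf 0x625d))) (.node (.node (.leaf 0x6461) (.leaf 0x4d8c)) (.node (.leaf 0x22d9) (.leaf 0x7631))))) (.node (.node (.node (.node (.leaf 0x2fb3) (.leaf 0x3202)) (.node (.leaf 0x2465) (.leaf 0x5e2c))) (.node (.node (.leaf 0x10ce) (.leaf 0x4a7a)) (.node (.leaf 0x6ec5) (.leaf 0x71c9)))) (.node (.node (.node (.leaf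 0x26af) (.leaf 0x3dc3)) (.node (.leaf 0x6c37) (.leaf 0x698e))) (.node (.node (.leaf 0xd5f) (.leaf 0x51bf)) (.node (.leaf 0x2678) (.leaf 0x0)))))) (.node (.node (.node (.node (.node (.leaf 0x2da) (.leaf 0x2d31)) (.node (.leaf 0x102d) (.leaf 0x58c2))) (.node (.node (.leaf 0x71a) (.leaf 0x44fd)) (.node (.leaf 0x5c21) (.leaf 0x6f63)))) (.node (.node (.node (.leaf 0x29d6) (.leaf 0x3b02)) (.node (.leaf 0x223a) (.leaf 0x6499))) (.node (.node (.leaf 0x307e) (.leaf 0x53f9)) (.node (.leaf 0x244d) (.leaf 0x0))))) (.node (.node (.node (.node (.leaf 0x933) (.leaf 0x369e)) (.node (.leaf 0x1d5e) (.leaf 0x6044))) (.node (.node (.leaf 0x4244) (.leaf 0x4bd9)) (.node (.leaf 0x34d4) (.leaf 0x73ef)))) (.node (.node (.node (.leaf 0x38f5) (.leaf 0x4163)) (.node (.leaf 0x1929) (.leaf 0x6b68))) (.node (.node (.leaf 0xed4) (.leaf 0x548f)) (.node (.leaf 0x2730) (.leaf 0x0))))))) (.node (.node (.node (.node (.node (.node (.leaf 0x197) (.leaf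 0x2b1e)) (.node (.leaf 0xf91) (.leaf 0x57ae))) (.node (.node (.leaf 0xa3b) (.leaf 0x43bf)) (.node (.leaf 0x1ae2) (.leaf 0x6ef4)))) (.node (.node (.node (.leaf 0x840) (.leaf 0x3797)) (.node (.leaf 0x18b0) (.leaf 0x6399))) (.node (.node (.leaf 0x33aa) (.leaf 0x4e1d)) (.node (.leaf 0x2328) (.leaf 0x754f))))) (.node (.node (.node (.node (.leaf 0x268f) (.leaf 0x339e)) (.node (.leaf 0x1181) (.leaf 0x5d61))) (.node (.node (.leaf 0x1cc8) (.leaf 0x47a3)) (.node (.leaf 0x1f5f) (.leaf 0x71f4)))) (.node (.node (.node (.leaf 0x38f9) (.leaf 0x3f4b)) (.node (.leaf 0x183e) (.leaf 0x6779))) (.node (.node (.leaf 0xd85) (.leaf 0x563a)) (.node (.leaf 0x3900) (.leaf 0x0)))))) (.node (.node (.node (.node (.node (.leaf 0x4e8) (.leaf 0x2e10)) (.node (.leaf 0x21be) (.leaf 0x5a5a))) (.node (.node (.leaf 0x9c4) (.leaf 0x45e6)) (.node (.leaf 0x1dd2) (.leaf 0x7013)))) (.node (.node (.node (.leaf 0x38d5) (.leaf 0x3a5d)) (.node (.leaf 0x1fa1)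 (.leaf 0x6541))) (.node (.node (.leaf 0x617f) (.leaf 0x5ff1)) (.node (.leaf 0x23de) (.leaf 0x0))))) (.node (.node (.node (.node (.leaf 0x2fc9) (.leaf 0x36eb)) (.node (.leaf 0x1394) (.leaf 0x5f7a))) (.node (.node (.leaf 0x1691) (.leaf 0x4be2)) (.node (.leaf 0x445b) (.leaf 0x7492)))) (.node (.node (.node (.leaf 0x67d1) (.leaf 0x659e)) (.node (.leaf 0x19fa) (.leaf 0x6ae4))) (.node (.node (.leaf 0x2ab3) (.leaf 0x5abe)) (.node (.leaf 0x3f74) (.leaf 0x0))))))))

/-- Closure. -/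
def clo159 : FTree := (.node (.node (.node (.node (.node (.node (.node (.leaf 0xfa) (.leaf 0x2bb6)) (.node (.leaf 0x5662) (.leaf 0x5691))) (.node (.node (.leaf 0xa3a) (.leaf 0x43c1)) (.node (.leaf 0x4d18) (.leaf 0x6da1)))) (.node (.node (.node (.leaf 0x53b) (.leaf 0x5416)) (.node (.leaf 0x2bf9) (.leaf 0x6228))) (.node (.node (.leaf 0xaa2) (.leaf 0x4d04)) (.node (.leaf 0x2316) (.leaf 0x7608))))) (.node (.node (.node (.node (.leaf 0x2693) (.leaf 0x34a6)) (.node (.leaf 0x11fa) (.leaf 0x5d62))) (.node (.node (.leaf 0x2dc0) (.leaf 0x4946)) (.node (.leaf 0x20aa) (.leaf 0x726a)))) (.node (.node (.node (.leaf 0x33da) (.leaf 0x3d5c)) (.node (.leaf 0x2d8d) (.leaf 0x6799))) (.node (.node (.leaf 0xd26) (.leaf 0x51ba)) (.node (.leaf 0x2685) (.leaf 0x0)))))) (.node (.node (.node (.node (.node (.leaf 0x4db) (.leaf 0x2e6d)) (.node (.leaf 0x1bae) (.leaf 0x5a64))) (.node (.node (.leaf 0x256a) (.leaf 0x46cc)) (.node (.leaf 0x217b)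 (.leaf 0x706f)))) (.node (.node (.node (.leaf 0x426) (.leaf 0x3a3d)) (.node (.leaf 0x15e2) (.leaf 0x656f))) (.node (.node (.leaf 0x3580) (.leaf 0x4f11)) (.node (.leaf 0x2451) (.leaf 0x0))))) (.node (.node (.node (.node (.leaf 0x356a) (.leaf 0x389c)) (.node (.leaf 0x139d) (.leaf 0x601d))) (.node (.node (.leaf 0x2c0b) (.leaf 0x4bcc)) (.node (.leaf 0x4131) (.leaf 0x744a)))) (.node (.node (.node (.leaf 0x2d52) (.leaf 0x412d)) (.node (.leaf 0x1e3b) (.leaf 0x6c10))) (.node (.node (.leaf 0xe86) (.leaf 0x5578)) (.node (.leaf 0x2db2) (.leaf 0x0))))))) (.node (.node (.node (.node (.node (.node (.leaf 0x0) (.leaf 0x0)) (.node (.leaf 0x0) (.leaf 0x0))) (.node (.node (.leaf 0x0) (.leaf 0x0)) (.node (.leaf 0x0) (.leaf 0x0)))) (.node (.node (.node (.leaf 0x0) (.leaf 0x0)) (.node (.leaf 0x0) (.leaf 0x0))) (.node (.node (.leaf 0x0) (.leaf 0x0)) (.node (.leaf 0x0) (.leaf 0x0))))) (.node (.node (.node (.node (.leaf 0x0) (.leaf 0x0))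 (.node (.leaf 0x0) (.leaf 0x0))) (.node (.node (.leaf 0x0) (.leaf 0x0)) (.node (.leaf 0x0) (.leaf 0x0)))) (.node (.node (.node (.leaf 0x0) (.leaf 0x0)) (.node (.leaf 0x0) (.leaf 0x0))) (.node (.node (.leaf 0x0) (.leaf 0x0)) (.node (.leaf 0x0) (.leaf 0x0)))))) (.node (.node (.node (.node (.node (.leaf 0x0) (.leaf 0x0)) (.node (.leaf 0x0) (.leaf 0x0))) (.node (.node (.leaf 0x0) (.leaf 0x0)) (.node (.leaf 0x0) (.leaf 0x0)))) (.node (.node (.node (.leaf 0x0) (.leaf 0x0)) (.node (.leaf 0x0) (.leaf 0x0))) (.node (.node (.leaf 0x0) (.leaf 0x0)) (.node (.leaf 0x0) (.leaf 0x0))))) (.node (.node (.node (.node (.leaf 0x0) (.leaf 0x0)) (.node (.leaf 0x0) (.leaf 0x0))) (.node (.node (.leaf 0x0) (.leaf 0x0)) (.node (.leaf 0x0) (.leaf 0x0)))) (.node (.node (.node (.leaf 0x0) (.leaf 0x0)) (.node (.leaf 0x0) (.leaf 0x0))) (.node (.node (.leaf 0x0) (.leaf 0x0)) (.node (.leaf 0x0) (.leaf 0x0))))))))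

/-- Closure. -/
def clo160 : FTree := (.node (.node (.node (.node (.node (.node (.node (.leaf 0xd) (.leaf 0x2ac5)) (.node (.leaf 0xf94) (.leaf 0x586e))) (.node (.node (.leaf 0x1d89) (.leaf 0x5cb3)) (.node (.leaf 0x1aa1) (.leaf 0x6e79)))) (.node (.node (.node (.leaf 0x13d6) (.leaf 0x37bb)) (.node (.leaf 0x443b) (.leaf 0x6677))) (.node (.node (.leaf 0xb23) (.leaf 0x4c1f)) (.node (.leaf 0x6745) (.leaf 0x7712))))) (.node (.node (.node (.node (.leaf 0x1c61) (.leaf 0x314c)) (.node (.leaf 0x11ee) (.leaf 0x68f6))) (.node (.node (.leaf 0x5d29) (.leaf 0x4777)) (.node (.leaf 0x254d) (.leaf 0x71d8)))) (.node (.node (.node (.leaf 0xb18) (.leaf 0x3da0)) (.node (.leaf 0x615c) (.leaf 0x684b))) (.node (.node (.leaf 0x1e83) (.leaf 0x521b)) (.node (.leaf 0x252c) (.leaf 0x0)))))) (.node (.node (.node (.node (.node (.leaf 0x4bd) (.leaf 0x2ea8)) (.node (.leaf 0x1dce) (.leaf 0x594e))) (.node (.node (.leaf 0xa11) (.leaf 0x4526)) (.node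 (.leaf 0x4d9e) (.leaf 0x7107)))) (.node (.node (.node (.leaf 0x5b73) (.leaf 0x66f4)) (.node (.leaf 0x1d6c) (.leaf 0x65d6))) (.node (.node (.leaf 0xc55) (.leaf 0x6046)) (.node (.leaf 0x240a) (.leaf 0x0))))) (.node (.node (.node (.node (.leaf 0x1141) (.leaf 0x361c)) (.node (.leaf 0x13b9) (.leaf 0x6026))) (.node (.node (.leaf 0x2b7f) (.leaf 0x4ae7)) (.node (.leaf 0x2114) (.leaf 0x748e)))) (.node (.node (.node (.leaf 0x59bb) (.leaf 0x4257)) (.node (.leaf 0x556a) (.leaf 0x6b04))) (.node (.node (.leaf 0x5e2e) (.leaf 0x5449)) (.node (.leaf 0x26d4) (.leaf 0x0))))))) (.node (.node (.node (.node (.node (.node (.leaf 0xbc) (.leaf 0x2c19)) (.node (.leaf 0xef7) (.leaf 0x566e))) (.node (.node (.leaf 0x636) (.leaf 0x42f2)) (.node (.leaf 0x2c50) (.leaf 0x6de2)))) (.node (.node (.node (.leaf 0x519) (.leaf 0x37c6)) (.node (.leaf 0x3fdf) (.leaf 0x6290))) (.node (.node (.leaf 0xb4e) (.leaf 0x4d4b)) (.node (.leaf 0x225f) (.leaf 0x76c4)))))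 (.node (.node (.node (.node (.leaf 0x254) (.leaf 0x2fef)) (.node (.leaf 0x3622) (.leaf 0x5ad1))) (.node (.node (.leaf 0xef9) (.leaf 0x47b5)) (.node (.leaf 0x4227) (.leaf 0x711c)))) (.node (.node (.node (.leaf 0x1ce5) (.leaf 0x3eb2)) (.node (.leaf 0x1747) (.leaf 0x68e1))) (.node (.node (.leaf 0xcf9) (.leaf 0x5168)) (.node (.leaf 0x2644) (.leaf 0x0)))))) (.node (.node (.node (.node (.node (.leaf 0x215) (.leaf 0x417a)) (.node (.leaf 0xfd1) (.leaf 0x58b7))) (.node (.node (.leaf 0x72a) (.leaf 0x46ed)) (.node (.leaf 0x26df) (.leaf 0x6f0e)))) (.node (.node (.node (.leaf 0x6a21) (.leaf 0x3a22)) (.node (.leaf 0x19ab) (.leaf 0x6668))) (.node (.node (.leaf 0xc1f) (.leaf 0x50a2)) (.node (.leaf 0x47c1) (.leaf 0x0))))) (.node (.node (.node (.node (.leaf 0x2cba) (.leaf 0x357a)) (.node (.leaf 0x1358) (.leaf 0x5fc2))) (.node (.node (.leaf 0x1a57) (.leaf 0x4a3e)) (.node (.leaf 0x2223) (.leaf 0x7470)))) (.node (.node (.node (.leaf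 0x57a) (.leaf 0x476d)) (.node (.leaf 0x194b) (.leaf 0x6bad))) (.node (.node (.leaf 0x285f) (.leaf 0x5447)) (.node (.leaf 0x26e7) (.leaf 0x0))))))))

/-- Closure. -/
def clo161 : FTree := (.node (.node (.node (.node (.node (.node (.node (.leaf 0x6d) (.leaf 0x2a18)) (.node (.leaf 0x50de) (.leaf 0x577f))) (.node (.node (.leaf 0xe09) (.leaf 0x43a2)) (.node (.leaf 0x1b2b) (.leaf 0x6d80)))) (.node (.node (.node (.leaf 0x54f) (.leaf 0x44e9)) (.node (.leaf 0x39bb) (.leaf 0x61fc))) (.node (.node (.leaf 0xfd0) (.leaf 0x4cc4)) (.node (.leaf 0x2cf3) (.leaf 0x76eb))))) (.node (.node (.node (.node (.leaf 0x449) (.leaf 0x3444)) (.node (.leaf 0x28ba) (.leaf 0x5ca5))) (.node (.node (.leaf 0x1d1f) (.leaf 0x4c3e)) (.node (.leaf 0x5dd3) (.leaf 0x7187)))) (.node (.node (.node (.leaf 0xade) (.leaf 0x3e9c)) (.node (.leaf 0x30b2) (.leaf 0x6983))) (.node (.node (.leaf 0xd7a) (.leaf 0x5273)) (.node (.leaf 0x25ba) (.leaf 0x0)))))) (.node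 (.node (.node (.node (.node (.leaf 0x7bc) (.leaf 0x5d64)) (.node (.leaf 0x1b0c) (.leaf 0x5a6f))) (.node (.node (.leaf 0x8d3) (.leaf 0x463c)) (.node (.leaf 0x1e2a) (.leaf 0x6fbc)))) (.node (.node (.node (.leaf 0x2db9) (.leaf 0x3a79)) (.node (.leaf 0x15f6) (.leaf 0x65f5))) (.node (.node (.leaf 0x29a9) (.leaf 0x4f82)) (.node (.leaf 0x2ba4) (.leaf 0x0))))) (.node (.node (.node (.node (.leaf 0x5c90) (.leaf 0x3ab3)) (.node (.leaf 0x66b3) (.leaf 0x5f71))) (.node (.node (.leaf 0x9db) (.leaf 0x4adb)) (.node (.leaf 0x20d6) (.leaf 0x7362)))) (.node (.node (.node (.leaf 0x5c10) (.leaf 0x4161)) (.node (.leaf 0x1987) (.leaf 0x6bc2))) (.node (.node (.leaf 0xe59) (.leaf 0x5596)) (.node (.leaf 0x4f2e) (.leaf 0x0))))))) (.node (.node (.node (.node (.node (.node (.leaf 0x18b) (.leaf 0x2c09)) (.node (.leaf 0x31df) (.leaf 0x5825))) (.node (.node (.leaf 0x5dc3) (.leaf 0x4395)) (.node (.leaf 0x33e3) (.leaf 0x6e58)))) (.node (.node (.node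 (.leaf 0x2df3) (.leaf 0x398a)) (.node (.leaf 0x1524) (.leaf 0x6339))) (.node (.node (.leaf 0xad0) (.leaf 0x4db9)) (.node (.leaf 0x22b6) (.leaf 0x76c6))))) (.node (.node (.node (.node (.leaf 0x21dd) (.leaf 0x31af)) (.node (.leaf 0x129e) (.leaf 0x5b80))) (.node (.node (.leaf 0x87b) (.leaf 0x49ae)) (.node (.leaf 0x1fe9) (.leaf 0x71a2)))) (.node (.node (.node (.leaf 0x6a8) (.leaf 0x41cc)) (.node (.leaf 0x1bc9) (.leaf 0x6878))) (.node (.node (.leaf 0xd08) (.leaf 0x52a9)) (.node (.leaf 0x5cd3) (.leaf 0x0)))))) (.node (.node (.node (.node (.node (.leaf 0x7ae) (.leaf 0x2dde)) (.node (.leaf 0x3cb4) (.leaf 0x5a2f))) (.node (.node (.leaf 0x40bc) (.leaf 0x4c74)) (.node (.leaf 0x3c10) (.leaf 0x7047)))) (.node (.node (.node (.leaf 0x1754) (.leaf 0x3a99)) (.node (.leaf 0x1669) (.leaf 0x6555))) (.node (.node (.leaf 0x643b) (.leaf 0x4ea7)) (.node (.leaf 0x28d6) (.leaf 0x0))))) (.node (.node (.node (.node (.leaf 0x3141) (.leaf 0x3716))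 (.node (.leaf 0x6880) (.leaf 0x5f4d))) (.node (.node (.leaf 0x1f46) (.leaf 0x4b44)) (.node (.leaf 0x2120) (.leaf 0x7337)))) (.node (.node (.node (.leaf 0x2a44) (.leaf 0x4751)) (.node (.leaf 0x18e5) (.leaf 0x6a49))) (.node (.node (.leaf 0x5c8a) (.leaf 0x53e4)) (.node (.leaf 0x5c88) (.leaf 0x0))))))))

/-- Closure. -/
def clo162 : FTree := (.node (.node (.node (.node (.node (.node (.node (.leaf 0x3f) (.leaf 0x3239)) (.node (.leaf 0x319a) (.leaf 0x5866))) (.node (.node (.leaf 0xb8a) (.leaf 0x437f)) (.node (.leaf 0x3516) (.leaf 0x6e2d)))) (.node (.node (.node (.leaf 0x82e) (.leaf 0x392f)) (.node (.leaf 0x1ae4) (.leaf 0x6218))) (.node (.node (.leaf 0x2764) (.leaf 0x4ddb)) (.node (.leaf 0x6f08) (.leaf 0x76b5))))) (.node (.node (.node (.node (.leaf 0x49c0) (.leaf 0x3360)) (.node (.leaf 0x112a) (.leaf 0x5eb8))) (.node (.node (.leaf 0x3018) (.leaf 0x48b3)) (.node (.leaf 0x1f21) (.leaf 0x7146)))) (.node (.node (.node (.leaf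 0x458) (.leaf 0x3f8b)) (.node (.leaf 0x2870) (.leaf 0x6708))) (.node (.node (.leaf 0x2832) (.leaf 0x527e)) (.node (.leaf 0x48b9) (.leaf 0x0)))))) (.node (.node (.node (.node (.node (.leaf 0xbbb) (.leaf 0x3705)) (.node (.leaf 0x5e22) (.leaf 0x5a73))) (.node (.node (.leaf 0x1683) (.leaf 0x4560)) (.node (.leaf 0x5e68) (.leaf 0x6f1c)))) (.node (.node (.node (.leaf 0x3f6) (.leaf 0x406a)) (.node (.leaf 0x162f) (.leaf 0x657d))) (.node (.node (.leaf 0xc61) (.leaf 0x4e90)) (.node (.leaf 0x2462) (.leaf 0x0))))) (.node (.node (.node (.node (.leaf 0x2cb3) (.leaf 0x36ce)) (.node (.leaf 0x1401) (.leaf 0x6043))) (.node (.node (.leaf 0x4440) (.leaf 0x4ac7)) (.node (.leaf 0x21b3) (.leaf 0x745c)))) (.node (.node (.node (.leaf 0x44ba) (.leaf 0x4066)) (.node (.leaf 0x1926) (.leaf 0x6a4a))) (.node (.node (.leaf 0x55ba) (.leaf 0x5572)) (.node (.leaf 0x273c) (.leaf 0x0))))))) (.node (.node (.node (.node (.node (.node (.leaf 0x10f) (.leaf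 0x2bcc)) (.node (.leaf 0xf8c) (.leaf 0x5802))) (.node (.node (.leaf 0x752) (.leaf 0x432e)) (.node (.leaf 0x1b12) (.leaf 0x6d67)))) (.node (.node (.node (.leaf 0x53c) (.leaf 0x3866)) (.node (.leaf 0x14d6) (.leaf 0x61bf))) (.node (.node (.leaf 0x6848) (.leaf 0x69f3)) (.node (.leaf 0x5384) (.leaf 0x760f))))) (.node (.node (.node (.node (.leaf 0x2694) (.leaf 0x32da)) (.node (.leaf 0x1273) (.leaf 0x5e5d))) (.node (.node (.leaf 0x399f) (.leaf 0x492a)) (.node (.leaf 0x24e8) (.leaf 0x7155)))) (.node (.node (.node (.leaf 0x6bf) (.leaf 0x3fb5)) (.node (.leaf 0x17df) (.leaf 0x6941))) (.node (.node (.leaf 0x2a17) (.leaf 0x525f)) (.node (.leaf 0x25a2) (.leaf 0x0)))))) (.node (.node (.node (.node (.node (.leaf 0x4f2) (.leaf 0x3127)) (.node (.leaf 0x2fa8) (.leaf 0x5a6a))) (.node (.node (.leaf 0x74c) (.leaf 0x45a8)) (.node (.leaf 0x3be5) (.leaf 0x70e1)))) (.node (.node (.node (.leaf 0x8ff) (.leaf 0x3b20)) (.node (.leaf 0x21ec)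 (.leaf 0x6466))) (.node (.node (.leaf 0x3592) (.leaf 0x4f76)) (.node (.leaf 0x23a5) (.leaf 0x0))))) (.node (.node (.node (.node (.leaf 0x1d16) (.leaf 0x366d)) (.node (.leaf 0x135d) (.leaf 0x5ff7))) (.node (.node (.leaf 0x6369) (.leaf 0x4b84)) (.node (.leaf 0x249d) (.leaf 0x73ea)))) (.node (.node (.node (.leaf 0x1d0d) (.leaf 0x4149)) (.node (.leaf 0x18fd) (.leaf 0x6bb4))) (.node (.node (.leaf 0x1bd7) (.leaf 0x557e)) (.node (.leaf 0x2932) (.leaf 0x0))))))))

/-- Closure. -/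
def clo163 : FTree := (.node (.node (.node (.node (.node (.node (.node (.leaf 0xe2) (.leaf 0x2bce)) (.node (.leaf 0xf82) (.leaf 0x5729))) (.node (.node (.leaf 0x67f) (.leaf 0x4467)) (.node (.leaf 0x1afd) (.leaf 0x6d06)))) (.node (.node (.node (.leaf 0x1ca2) (.leaf 0x3ba4)) (.node (.leaf 0x14e0) (.leaf 0x63db))) (.node (.node (.leaf 0x1db3) (.leaf 0x4cbf)) (.node (.leaf 0x22eb) (.leaf 0x769c))))) (.node (.node (.node (.node (.leaf 0x664) (.leaf 0x3529)) (.node (.leaf 0x3f9d) (.leaf 0x5ce4))) (.node (.node (.leaf 0x8a1) (.leaf 0x485d)) (.node (.leaf 0x2078) (.leaf 0x7178)))) (.node (.node (.node (.leaf 0x4a6a) (.leaf 0x3ee9)) (.node (.leaf 0x180e) (.leaf 0x6831))) (.node (.node (.leaf 0x33b2) (.leaf 0x5311)) (.node (.leaf 0x2527) (.leaf 0x0)))))) (.node (.node (.node (.node (.node (.leaf 0xee6) (.leaf 0x69a7)) (.node (.leaf 0x2c82) (.leaf 0x597b))) (.node (.node (.leaf 0x734) (.leaf 0x45b9)) (.node (.leaf 0x6e0f)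 (.leaf 0x6f80)))) (.node (.node (.node (.leaf 0x3a73) (.leaf 0x3c91)) (.node (.leaf 0x1671) (.leaf 0x653a))) (.node (.node (.leaf 0x3073) (.leaf 0x4f5f)) (.node (.leaf 0x24c7) (.leaf 0x0))))) (.node (.node (.node (.node (.leaf 0xa97) (.leaf 0x39e9)) (.node (.leaf 0x46a4) (.leaf 0x6b42))) (.node (.node (.leaf 0x5db6) (.leaf 0x4b5f)) (.node (.leaf 0x2195) (.leaf 0x734f)))) (.node (.node (.node (.leaf 0x90c) (.leaf 0x416b)) (.node (.leaf 0x5566) (.leaf 0x6a4d))) (.node (.node (.leaf 0x17b5) (.leaf 0x536b)) (.node (.leaf 0x5bcf) (.leaf 0x0))))))) (.node (.node (.node (.node (.node (.node (.leaf 0x1c1) (.leaf 0x2b7e)) (.node (.leaf 0x1c34) (.leaf 0x572b))) (.node (.node (.leaf 0x2e5d) (.leaf 0x449c)) (.node (.leaf 0x1b8f) (.leaf 0x6d51)))) (.node (.node (.node (.leaf 0x826) (.leaf 0x3793)) (.node (.leaf 0x14ec) (.leaf 0x6b64))) (.node (.node (.leaf 0x321d) (.leaf 0x4d3f)) (.node (.leaf 0x6751) (.leaf 0x7569))))) (.node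 (.node (.node (.node (.leaf 0x12f4) (.leaf 0x3338)) (.node (.leaf 0x1636) (.leaf 0x5cc0))) (.node (.node (.leaf 0x2ffd) (.leaf 0x4881)) (.node (.leaf 0x1fd1) (.leaf 0x71dc)))) (.node (.node (.node (.leaf 0x70f) (.leaf 0x3f9b)) (.node (.leaf 0x1877) (.leaf 0x67df))) (.node (.node (.leaf 0x4aa4) (.leaf 0x51cd)) (.node (.leaf 0x25b7) (.leaf 0x0)))))) (.node (.node (.node (.node (.node (.leaf 0x2e5) (.leaf 0x2e92)) (.node (.leaf 0x1019) (.leaf 0x5a9c))) (.node (.node (.leaf 0x11a7) (.leaf 0x4989)) (.node (.leaf 0x34ed) (.leaf 0x7002)))) (.node (.node (.node (.leaf 0x3686) (.leaf 0x3cb5)) (.node (.leaf 0x1677) (.leaf 0x6d9d))) (.node (.node (.leaf 0x305e) (.leaf 0x5e51)) (.node (.leaf 0x4168) (.leaf 0x0))))) (.node (.node (.node (.node (.leaf 0x2cc2) (.leaf 0x3707)) (.node (.leaf 0x158f) (.leaf 0x6115))) (.node (.node (.leaf 0x9ac) (.leaf 0x4ace)) (.node (.leaf 0x2222) (.leaf 0x74a2)))) (.node (.node (.node (.leaf 0x2e40)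 (.leaf 0x664c)) (.node (.leaf 0x3c1e) (.leaf 0x6af3))) (.node (.node (.leaf 0x501a) (.leaf 0x53db)) (.node (.leaf 0x68b5) (.leaf 0x0))))))))

/-- Closure. -/
def clo164 : FTree := (.node (.node (.node (.node (.node (.node (.node (.leaf 0x33) (.leaf 0x359f)) (.node (.leaf 0xf97) (.leaf 0x57ec))) (.node (.node (.leaf 0x66b) (.leaf 0x438f)) (.node (.leaf 0x2060) (.leaf 0x6d42)))) (.node (.node (.node (.leaf 0x13d2) (.leaf 0x378c)) (.node (.leaf 0x3453) (.leaf 0x62d4))) (.node (.node (.leaf 0xa98) (.leaf 0x4c6e)) (.node (.leaf 0x2afa) (.leaf 0x75d6))))) (.node (.node (.node (.node (.leaf 0x1c62) (.leaf 0x3521)) (.node (.leaf 0x28ac) (.leaf 0x5d11))) (.node (.node (.leaf 0x5d28) (.leaf 0x47ba)) (.node (.leaf 0x422b) (.leaf 0x7202)))) (.node (.node (.node (.leaf 0x91f) (.leaf 0x3ed0)) (.node (.leaf 0x2ca2) (.leaf 0x6837))) (.node (.node (.leaf 0x6992) (.leaf 0x5255)) (.node (.leaf 0x3550) (.leaf 0x0)))))) (.node (.node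 (.node (.node (.node (.leaf 0x4b8) (.leaf 0x2ed3)) (.node (.leaf 0x3427) (.leaf 0x5914))) (.node (.node (.leaf 0x40f5) (.leaf 0x4757)) (.node (.leaf 0x6997) (.leaf 0x6f41)))) (.node (.node (.node (.leaf 0x1d9b) (.leaf 0x3c14)) (.node (.leaf 0x15bf) (.leaf 0x6652))) (.node (.node (.leaf 0xc53) (.leaf 0x4f27)) (.node (.leaf 0x2377) (.leaf 0x0))))) (.node (.node (.node (.node (.leaf 0xaf0) (.leaf 0x3748)) (.node (.leaf 0x140a) (.leaf 0x5f28))) (.node (.node (.leaf 0x999) (.leaf 0x4acb)) (.node (.leaf 0x3760) (.leaf 0x74fb)))) (.node (.node (.node (.leaf 0x59ba) (.leaf 0x403a)) (.node (.leaf 0x18a5) (.leaf 0x6be2))) (.node (.node (.leaf 0x102b) (.leaf 0x550f)) (.node (.leaf 0x293c) (.leaf 0x0))))))) (.node (.node (.node (.node (.node (.node (.leaf 0x148) (.leaf 0x2b21)) (.node (.leaf 0x5fa3) (.leaf 0x57ba))) (.node (.node (.leaf 0x21d9) (.leaf 0x42ef)) (.node (.leaf 0x1ba0) (.leaf 0x6cf3)))) (.node (.node (.node (.leaf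 0x13df) (.leaf 0x386d)) (.node (.leaf 0x1526) (.leaf 0x630e))) (.node (.node (.leaf 0xb1b) (.leaf 0x4dec)) (.node (.leaf 0x22ec) (.leaf 0x75a5))))) (.node (.node (.node (.node (.leaf 0x438) (.leaf 0x3539)) (.node (.leaf 0x124d) (.leaf 0x5e01))) (.node (.node (.leaf 0x4c08) (.leaf 0x4952)) (.node (.leaf 0x218e) (.leaf 0x729d)))) (.node (.node (.node (.leaf 0x20c1) (.leaf 0x3fa1)) (.node (.leaf 0x5cd9) (.leaf 0x68ae))) (.node (.node (.leaf 0xd6a) (.leaf 0x5254)) (.node (.leaf 0x2523) (.leaf 0x0)))))) (.node (.node (.node (.node (.node (.leaf 0x2d4) (.leaf 0x4e47)) (.node (.leaf 0x1005) (.leaf 0x5a3d))) (.node (.node (.leaf 0x1210) (.leaf 0x4c79)) (.node (.leaf 0x1e6b) (.leaf 0x70fa)))) (.node (.node (.node (.leaf 0x2a1c) (.leaf 0x3a61)) (.node (.leaf 0x1674) (.leaf 0x64dd))) (.node (.node (.leaf 0x4a9e) (.leaf 0x4e75)) (.node (.leaf 0x23cf) (.leaf 0x0))))) (.node (.node (.node (.node (.leaf 0x606c) (.leaf 0x3601))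 (.node (.leaf 0x4a2b) (.leaf 0x5f4e))) (.node (.node (.leaf 0x1a66) (.leaf 0x4a31)) (.node (.leaf 0x2244) (.leaf 0x742f)))) (.node (.node (.node (.leaf 0x5de) (.leaf 0x4060)) (.node (.leaf 0x18cc) (.leaf 0x6bf9))) (.node (.node (.leaf 0xe25) (.leaf 0x545e)) (.node (.leaf 0x5c87) (.leaf 0x0))))))))

/-- Closure. -/
def clo165 : FTree := (.node (.node (.node (.node (.node (.node (.node (.leaf 0xb5) (.leaf 0x43d4)) (.node (.leaf 0xf47) (.leaf 0x5852))) (.node (.node (.leaf 0x3035) (.leaf 0x439d)) (.node (.leaf 0x4f86) (.leaf 0x6cea)))) (.node (.node (.node (.leaf 0x3cec) (.leaf 0x3852)) (.node (.leaf 0x32a0) (.leaf 0x61ba))) (.node (.node (.leaf 0x2b02) (.leaf 0x5ed9)) (.node (.leaf 0x76cb) (.leaf 0x76e7))))) (.node (.node (.node (.node (.leaf 0x2d2b) (.leaf 0x325f)) (.node (.leaf 0x28eb) (.leaf 0x5ca9))) (.node (.node (.leaf 0x12a9) (.leaf 0x496e)) (.node (.leaf 0x2f54) (.leaf 0x716a)))) (.node (.node (.node (.leaf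 0x696) (.leaf 0x3f21)) (.node (.leaf 0x1c54) (.leaf 0x6832))) (.node (.node (.leaf 0x5828) (.leaf 0x5167)) (.node (.leaf 0x25b0) (.leaf 0x0)))))) (.node (.node (.node (.node (.node (.leaf 0x23c) (.leaf 0x3177)) (.node (.leaf 0x1093) (.leaf 0x5a5c))) (.node (.node (.leaf 0x40be) (.leaf 0x4563)) (.node (.leaf 0x4527) (.leaf 0x6f82)))) (.node (.node (.node (.leaf 0x419) (.leaf 0x3ba8)) (.node (.leaf 0x50d3) (.leaf 0x65b1))) (.node (.node (.leaf 0x29b9) (.leaf 0x4ff4)) (.node (.leaf 0x2ba5) (.leaf 0x0))))) (.node (.node (.node (.node (.leaf 0x1767) (.leaf 0x3605)) (.node (.leaf 0x2efc) (.leaf 0x60f7))) (.node (.node (.leaf 0xdcd) (.leaf 0x4bbe)) (.node (.leaf 0x222a) (.leaf 0x7405)))) (.node (.node (.node (.leaf 0x1170) (.leaf 0x4035)) (.node (.leaf 0x1969) (.leaf 0x6ba5))) (.node (.node (.leaf 0x351e) (.leaf 0x551f)) (.node (.leaf 0x2784) (.leaf 0x0))))))) (.node (.node (.node (.node (.node (.node (.leaf 0x1bc) (.leaf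 0x295c)) (.node (.leaf 0xf03) (.leaf 0x56e2))) (.node (.node (.leaf 0x6fc) (.leaf 0x510f)) (.node (.leaf 0x1c1f) (.leaf 0x6cd3)))) (.node (.node (.node (.leaf 0x7d2) (.leaf 0x3781)) (.node (.leaf 0x14ac) (.leaf 0x6154))) (.node (.node (.leaf 0xabc) (.leaf 0x4cbc)) (.node (.leaf 0x2262) (.leaf 0x7525))))) (.node (.node (.node (.node (.leaf 0xbc4) (.leaf 0x2fe7)) (.node (.leaf 0x1284) (.leaf 0x5c1d))) (.node (.node (.leaf 0x7c9) (.leaf 0x47b3)) (.node (.leaf 0x2547) (.leaf 0x7165)))) (.node (.node (.node (.leaf 0x2fe0) (.leaf 0x3d67)) (.node (.leaf 0x39e5) (.leaf 0x6990))) (.node (.node (.leaf 0xcf8) (.leaf 0x58b0)) (.node (.leaf 0x25fe) (.leaf 0x0)))))) (.node (.node (.node (.node (.node (.leaf 0x21a) (.leaf 0x2e98)) (.node (.leaf 0x1044) (.leaf 0x58b1))) (.node (.node (.leaf 0x8d2) (.leaf 0x458c)) (.node (.leaf 0x1cd1) (.leaf 0x6f94)))) (.node (.node (.node (.leaf 0x4fd7) (.leaf 0x3a12)) (.node (.leaf 0x1695) (.leaf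 0x65d1))) (.node (.node (.leaf 0xc11) (.leaf 0x4ebd)) (.node (.leaf 0x23df) (.leaf 0x0))))) (.node (.node (.node (.node (.leaf 0x31e) (.leaf 0x3709)) (.node (.leaf 0x1311) (.leaf 0x6018))) (.node (.node (.leaf 0x3ab8) (.leaf 0x49ed)) (.node (.leaf 0x216a) (.leaf 0x7415)))) (.node (.node (.node (.leaf 0x563) (.leaf 0x411f)) (.node (.leaf 0x3484) (.leaf 0x6a66))) (.node (.node (.leaf 0xdc8) (.leaf 0x549e)) (.node (.leaf 0x26a4) (.leaf 0x0))))))))

/-- Closure. -/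
def clo166 : FTree := (.node (.node (.node (.node (.node (.node (.node (.leaf 0x80) (.leaf 0x2cad)) (.node (.leaf 0xf1a) (.leaf 0x57d9))) (.node (.node (.leaf 0x4e58) (.leaf 0x4373)) (.node (.leaf 0x41a3) (.leaf 0x6cde)))) (.node (.node (.node (.leaf 0x520) (.leaf 0x4e50)) (.node (.leaf 0x15e9) (.leaf 0x6250))) (.node (.node (.leaf 0xb35) (.leaf 0x4cc8)) (.node (.leaf 0x6190) (.leaf 0x760e))))) (.node (.node (.node (.node (.leaf 0x858) (.leaf 0x321b)) (.node (.leaf 0x12ad) (.leaf 0x5c83))) (.node (.node (.leaf 0x2e42) (.leaf 0x47d8)) (.node (.leaf 0x5586) (.leaf 0x7268)))) (.node (.node (.node (.leaf 0x1cf1) (.leaf 0x3fb9)) (.node (.leaf 0x54e4) (.leaf 0x68de))) (.node (.node (.leaf 0x2598) (.leaf 0x5634)) (.node (.leaf 0x2555) (.leaf 0x0)))))) (.node (.node (.node (.node (.node (.leaf 0x275) (.leaf 0x2f29)) (.node (.leaf 0x221e) (.leaf 0x73d6))) (.node (.node (.leaf 0x11a4) (.leaf 0x4c1a)) (.node (.leaf 0x1dd3)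 (.leaf 0x6ffb)))) (.node (.node (.node (.leaf 0x1337) (.leaf 0x3bfd)) (.node (.leaf 0x44a3) (.leaf 0x6569))) (.node (.node (.leaf 0x4a95) (.leaf 0x5019)) (.node (.leaf 0x2450) (.leaf 0x0))))) (.node (.node (.node (.node (.leaf 0x33f) (.leaf 0x41e4)) (.node (.leaf 0x138c) (.leaf 0x5fc4))) (.node (.node (.leaf 0x63e0) (.leaf 0x4ba0)) (.node (.leaf 0x214d) (.leaf 0x7350)))) (.node (.node (.node (.leaf 0x2fee) (.leaf 0x40fe)) (.node (.leaf 0x1965) (.leaf 0x6af0))) (.node (.node (.leaf 0xe72) (.leaf 0x5558)) (.node (.leaf 0x27f6) (.leaf 0x0))))))) (.node (.node (.node (.node (.node (.node (.leaf 0x180) (.leaf 0x5ac4)) (.node (.leaf 0x318b) (.leaf 0x56aa))) (.node (.node (.leaf 0x19b8) (.leaf 0x5113)) (.node (.leaf 0x1af6) (.leaf 0x6c85)))) (.node (.node (.node (.leaf 0x52b) (.leaf 0x38b6)) (.node (.leaf 0x6977) (.leaf 0x61bb))) (.node (.node (.leaf 0x1db4) (.leaf 0x4c3b)) (.node (.leaf 0x54d8) (.leaf 0x7568))))) (.node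 (.node (.node (.node (.leaf 0x2358) (.leaf 0x347f)) (.node (.leaf 0x481a) (.leaf 0x6954))) (.node (.node (.leaf 0x6e51) (.leaf 0x48a7)) (.node (.leaf 0x1fbb) (.leaf 0x714b)))) (.node (.node (.node (.leaf 0x6556) (.leaf 0x3dac)) (.node (.leaf 0x410b) (.leaf 0x6891))) (.node (.node (.leaf 0xff7) (.leaf 0x52e2)) (.node (.leaf 0x497b) (.leaf 0x0)))))) (.node (.node (.node (.node (.node (.leaf 0xbb8) (.leaf 0x2d13)) (.node (.leaf 0x4c67) (.leaf 0x59c1))) (.node (.node (.leaf 0x27f8) (.leaf 0x46f8)) (.node (.leaf 0x1efb) (.leaf 0x70e3)))) (.node (.node (.node (.leaf 0x3dfb) (.leaf 0x3c13)) (.node (.leaf 0x4ef1) (.leaf 0x6535))) (.node (.node (.leaf 0xc74) (.leaf 0x5137)) (.node (.leaf 0x239c) (.leaf 0x0))))) (.node (.node (.node (.node (.leaf 0xb14) (.leaf 0x35bd)) (.node (.leaf 0x139b) (.leaf 0x5f41))) (.node (.node (.leaf 0x3877) (.leaf 0x4ab3)) (.node (.leaf 0x34d3) (.leaf 0x74aa)))) (.node (.node (.node (.leaf 0x594)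 (.leaf 0x419d)) (.node (.leaf 0x19d0) (.leaf 0x6b81))) (.node (.node (.leaf 0x1816) (.leaf 0x5370)) (.node (.leaf 0x274b) (.leaf 0x0))))))))

/-- Closure. -/
def clo167 : FTree := (.node (.node (.node (.node (.node (.node (.node (.leaf 0xed) (.leaf 0x5399)) (.node (.leaf 0x316d) (.leaf 0x5694))) (.node (.node (.leaf 0x1b63) (.leaf 0x5e52)) (.node (.leaf 0x2493) (.leaf 0x6c82)))) (.node (.node (.node (.leaf 0x52d) (.leaf 0x5b15)) (.node (.leaf 0x4beb) (.leaf 0x6362))) (.node (.node (.leaf 0x1b56) (.leaf 0x4db5)) (.node (.leaf 0x619b) (.leaf 0x75fe))))) (.node (.node (.node (.node (.leaf 0x1725) (.leaf 0x33c9)) (.node (.leaf 0x2630) (.leaf 0x5b1a))) (.node (.node (.leaf 0x2ffb) (.leaf 0x484e)) (.node (.leaf 0x213c) (.leaf 0x71ab)))) (.node (.node (.node (.leaf 0x4a7) (.leaf 0x3fa2)) (.node (.leaf 0x2127) (.leaf 0x686c))) (.node (.node (.leaf 0xd0c) (.leaf 0x51f4)) (.node (.leaf 0x2565) (.leaf 0x0)))))) (.node (.node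 (.node (.node (.node (.leaf 0x2d5) (.leaf 0x2f78)) (.node (.leaf 0x456b) (.leaf 0x5a63))) (.node (.node (.leaf 0x3eb8) (.leaf 0x46ae)) (.node (.leaf 0x3f0e) (.leaf 0x70e0)))) (.node (.node (.node (.leaf 0x3667) (.leaf 0x3c35)) (.node (.leaf 0x16db) (.leaf 0x6460))) (.node (.node (.leaf 0x3057) (.leaf 0x507d)) (.node (.leaf 0x32cc) (.leaf 0x0))))) (.node (.node (.node (.node (.leaf 0x2cc1) (.leaf 0x36dd)) (.node (.leaf 0x13a1) (.leaf 0x60ca))) (.node (.node (.leaf 0x949) (.leaf 0x4aa5)) (.node (.leaf 0x21c7) (.leaf 0x7386)))) (.node (.node (.node (.leaf 0x1d62) (.leaf 0x403d)) (.node (.leaf 0x3753) (.leaf 0x6b91))) (.node (.node (.leaf 0xe18) (.leaf 0x5532)) (.node (.leaf 0x2b1c) (.leaf 0x0))))))) (.node (.node (.node (.node (.node (.node (.leaf 0x1f2) (.leaf 0x2b3b)) (.node (.leaf 0xf9d) (.leaf 0x5769))) (.node (.node (.leaf 0x34cb) (.leaf 0x4420)) (.node (.leaf 0x340f) (.leaf 0x6e9a)))) (.node (.node (.node (.leaf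 0x3cff) (.leaf 0x386b)) (.node (.leaf 0x1516) (.leaf 0x63d5))) (.node (.node (.leaf 0x1055) (.leaf 0x4e02)) (.node (.leaf 0x22b9) (.leaf 0x76ed))))) (.node (.node (.node (.node (.leaf 0x171f) (.leaf 0x349a)) (.node (.leaf 0x1225) (.leaf 0x653e))) (.node (.node (.leaf 0xe9d) (.leaf 0x47e3)) (.node (.leaf 0x1ff2) (.leaf 0x723f)))) (.node (.node (.node (.leaf 0x6e6) (.leaf 0x3f0c)) (.node (.leaf 0x2b79) (.leaf 0x66fa))) (.node (.node (.leaf 0xd1e) (.leaf 0x5284)) (.node (.leaf 0x253b) (.leaf 0x0)))))) (.node (.node (.node (.node (.node (.leaf 0x50d) (.leaf 0x2e54)) (.node (.leaf 0x1f09) (.leaf 0x5a18))) (.node (.node (.leaf 0x1ec1) (.leaf 0x45c3)) (.node (.leaf 0x1ea2) (.leaf 0x6fcc)))) (.node (.node (.node (.leaf 0x8bf) (.leaf 0x3f40)) (.node (.leaf 0x1646) (.leaf 0x6416))) (.node (.node (.leaf 0xc71) (.leaf 0x4e70)) (.node (.leaf 0x24c1) (.leaf 0x0))))) (.node (.node (.node (.node (.leaf 0x3110) (.leaf 0x3712))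 (.node (.leaf 0x3e20) (.leaf 0x6227))) (.node (.node (.leaf 0x579a) (.leaf 0x5336)) (.node (.leaf 0x2149) (.leaf 0x73bd)))) (.node (.node (.node (.leaf 0x2b96) (.leaf 0x4047)) (.node (.leaf 0x19c7) (.leaf 0x6c1c))) (.node (.node (.leaf 0x6511) (.leaf 0x536d)) (.node (.leaf 0x4742) (.leaf 0x0))))))))

/-- Closure. -/
def clo168 : FTree := (.node (.node (.node (.node (.node (.node (.node (.leaf 0x1d) (.leaf 0x2b44)) (.node (.leaf 0x2d5d) (.leaf 0x5844))) (.node (.node (.leaf 0x4400) (.leaf 0x436d)) (.node (.leaf 0x1a64) (.leaf 0x6e07)))) (.node (.node (.node (.leaf 0x13d4) (.leaf 0x45eb)) (.node (.leaf 0x1471) (.leaf 0x6358))) (.node (.node (.leaf 0xd50) (.leaf 0x4df1)) (.node (.leaf 0x22bf) (.leaf 0x75be))))) (.node (.node (.node (.node (.leaf 0x331) (.leaf 0x330a)) (.node (.leaf 0x1176) (.leaf 0x5e57))) (.node (.node (.leaf 0x605a) (.leaf 0x47df)) (.node (.leaf 0x213a) (.leaf 0x71b0)))) (.node (.node (.node (.leaf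 0x1d34) (.leaf 0x3d31)) (.node (.leaf 0x2b7b) (.leaf 0x685c))) (.node (.node (.leaf 0xcdc) (.leaf 0x5267)) (.node (.leaf 0x354c) (.leaf 0x0)))))) (.node (.node (.node (.node (.node (.leaf 0x35e) (.leaf 0x2f7f)) (.node (.leaf 0x111f) (.leaf 0x5a02))) (.node (.node (.leaf 0x1b8b) (.leaf 0x44cb)) (.node (.leaf 0x1d12) (.leaf 0x6f42)))) (.node (.node (.node (.leaf 0x327e) (.leaf 0x3b95)) (.node (.leaf 0x1668) (.leaf 0x6542))) (.node (.node (.leaf 0xc24) (.leaf 0x5ab8)) (.node (.leaf 0x2471) (.leaf 0x0))))) (.node (.node (.node (.node (.leaf 0x113e) (.leaf 0x371a)) (.node (.leaf 0x4a2e) (.leaf 0x5f4a))) (.node (.node (.leaf 0x1121) (.leaf 0x4b9d)) (.node (.leaf 0x5d45) (.leaf 0x750e)))) (.node (.node (.node (.leaf 0x3e85) (.leaf 0x40bd)) (.node (.leaf 0x3473) (.leaf 0x6a1d))) (.node (.node (.leaf 0x63c5) (.leaf 0x5452)) (.node (.leaf 0x2767) (.leaf 0x0))))))) (.node (.node (.node (.node (.node (.node (.leaf 0x16e) (.leaf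 0x2c79)) (.node (.leaf 0xfb4) (.leaf 0x57aa))) (.node (.node (.leaf 0xe34) (.leaf 0x43b4)) (.node (.leaf 0x1bda) (.leaf 0x6ddc)))) (.node (.node (.node (.leaf 0x466e) (.leaf 0x5b14)) (.node (.leaf 0x345b) (.leaf 0x62ff))) (.node (.node (.leaf 0xb05) (.leaf 0x5ec1)) (.node (.leaf 0x537e) (.leaf 0x7678))))) (.node (.node (.node (.node (.leaf 0x2690) (.leaf 0x3123)) (.node (.leaf 0x5d5d) (.leaf 0x5bb7))) (.node (.node (.leaf 0x1eaa) (.leaf 0x4965)) (.node (.leaf 0x1f40) (.leaf 0x722c)))) (.node (.node (.node (.leaf 0x6ad) (.leaf 0x3ed3)) (.node (.leaf 0x26d8) (.leaf 0x675b))) (.node (.node (.leaf 0xd16) (.leaf 0x5220)) (.node (.leaf 0x2d88) (.leaf 0x0)))))) (.node (.node (.node (.node (.node (.leaf 0x4e3) (.leaf 0x2e59)) (.node (.leaf 0x3f59) (.leaf 0x5992))) (.node (.node (.leaf 0x40ce) (.leaf 0x46ad)) (.node (.leaf 0x3dd1) (.leaf 0x6fe8)))) (.node (.node (.node (.leaf 0x3265) (.leaf 0x3b54)) (.node (.leaf 0x15c7)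 (.leaf 0x6428))) (.node (.node (.leaf 0xc04) (.leaf 0x503c)) (.node (.leaf 0x63b2) (.leaf 0x0))))) (.node (.node (.node (.node (.leaf 0x2fca) (.leaf 0x3714)) (.node (.leaf 0x2ef8) (.leaf 0x5f91))) (.node (.node (.leaf 0x67db) (.leaf 0x63f1)) (.node (.leaf 0x214e) (.leaf 0x7499)))) (.node (.node (.node (.leaf 0x2eb0) (.leaf 0x40ef)) (.node (.leaf 0x2c4e) (.leaf 0x6b74))) (.node (.node (.leaf 0x57f0) (.leaf 0x53eb)) (.node (.leaf 0x6edb) (.leaf 0x0))))))))

/-- Closure. -/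
def clo169 : FTree := (.node (.node (.node (.node (.node (.node (.node (.leaf 0xac) (.leaf 0x2ba7)) (.node (.leaf 0xf29) (.leaf 0x5695))) (.node (.node (.leaf 0x2e5b) (.leaf 0x4330)) (.node (.leaf 0x260a) (.leaf 0x6e4c)))) (.node (.node (.node (.leaf 0x7dc) (.leaf 0x39c3)) (.node (.leaf 0x14ea) (.leaf 0x6223))) (.node (.node (.leaf 0x1e54) (.leaf 0x4dcb)) (.node (.leaf 0x6752) (.leaf 0x76ba))))) (.node (.node (.node (.node (.leaf 0x2d3b) (.leaf 0x5521)) (.node (.leaf 0x3535) (.leaf 0x5cbf))) (.node (.node (.leaf 0x855) (.leaf 0x478a)) (.node (.leaf 0x2079) (.leaf 0x7263)))) (.node (.node (.node (.leaf 0x67c) (.leaf 0x3d3a)) (.node (.leaf 0x49f2) (.leaf 0x67af))) (.node (.node (.leaf 0xcd6) (.leaf 0x51e3)) (.node (.leaf 0x3285) (.leaf 0x0)))))) (.node (.node (.node (.node (.node (.leaf 0x266) (.leaf 0x2db5)) (.node (.leaf 0x33f6) (.leaf 0x5942))) (.node (.node (.leaf 0xd74) (.leaf 0x44c4)) (.node (.leaf 0x265a)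 (.leaf 0x7084)))) (.node (.node (.node (.leaf 0x6401) (.leaf 0x3b5b)) (.node (.leaf 0x16ee) (.leaf 0x650f))) (.node (.node (.leaf 0xc23) (.leaf 0x50e0)) (.node (.leaf 0x27d9) (.leaf 0x0))))) (.node (.node (.node (.node (.leaf 0x323) (.leaf 0x3721)) (.node (.leaf 0x469c) (.leaf 0x6114))) (.node (.node (.leaf 0xb1f) (.leaf 0x6c45)) (.node (.leaf 0x21f4) (.leaf 0x7354)))) (.node (.node (.node (.leaf 0x132d) (.leaf 0x4197)) (.node (.leaf 0x398f) (.leaf 0x6af1))) (.node (.node (.leaf 0xdea) (.leaf 0x540a)) (.node (.leaf 0x2744) (.leaf 0x0))))))) (.node (.node (.node (.node (.node (.node (.leaf 0x1b1) (.leaf 0x6767)) (.node (.leaf 0x57d0) (.leaf 0x56b7))) (.node (.node (.leaf 0xfd6) (.leaf 0x5e6d)) (.node (.leaf 0x1c45) (.leaf 0x6e50)))) (.node (.node (.node (.leaf 0x13d7) (.leaf 0x3827)) (.node (.leaf 0x1461) (.leaf 0x6ea8))) (.node (.node (.leaf 0x27ae) (.leaf 0x4c6c)) (.node (.leaf 0x2329) (.leaf 0x7677))))) (.node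 (.node (.node (.node (.leaf 0x1d4b) (.leaf 0x5e89)) (.node (.leaf 0x11ea) (.leaf 0x5b7c))) (.node (.node (.leaf 0xe99) (.leaf 0x47ec)) (.node (.leaf 0x1f81) (.leaf 0x723e)))) (.node (.node (.node (.leaf 0xcfc) (.leaf 0x3d68)) (.node (.leaf 0x331f) (.leaf 0x6816))) (.node (.node (.leaf 0x3500) (.leaf 0x5248)) (.node (.leaf 0x25d4) (.leaf 0x0)))))) (.node (.node (.node (.node (.node (.leaf 0x510) (.leaf 0x5c04)) (.node (.leaf 0x3bb0) (.leaf 0x592d))) (.node (.node (.leaf 0x32c4) (.leaf 0x46f2)) (.node (.leaf 0x3257) (.leaf 0x710d)))) (.node (.node (.node (.leaf 0x2fde) (.leaf 0x3b3d)) (.node (.leaf 0x164e) (.leaf 0x67b5))) (.node (.node (.leaf 0xc67) (.leaf 0x5110)) (.node (.leaf 0x2444) (.leaf 0x0))))) (.node (.node (.node (.node (.leaf 0x376c) (.leaf 0x35bb)) (.node (.leaf 0x2e19) (.leaf 0x5f05))) (.node (.node (.leaf 0x35ca) (.leaf 0x4ac4)) (.node (.leaf 0x4d78) (.leaf 0x7505)))) (.node (.node (.node (.leaf 0x5d3)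 (.leaf 0x41c3)) (.node (.leaf 0x34d7) (.leaf 0x6a2b))) (.node (.node (.leaf 0x63c8) (.leaf 0x53be)) (.node (.leaf 0x2e99) (.leaf 0x0))))))))

/-- Closure. -/
def clo170 : FTree := (.node (.node (.node (.node (.node (.node (.node (.leaf 0x5e) (.leaf 0x2b82)) (.node (.leaf 0xf39) (.leaf 0x586d))) (.node (.node (.leaf 0x2b45) (.leaf 0x4860)) (.node (.leaf 0x5736) (.leaf 0x6c84)))) (.node (.node (.node (.leaf 0x466b) (.leaf 0x386c)) (.node (.leaf 0x1540) (.leaf 0x62a0))) (.node (.node (.leaf 0x3e12) (.leaf 0x4c77)) (.node (.leaf 0x41db) (.leaf 0x75ac))))) (.node (.node (.node (.node (.leaf 0x3b0) (.leaf 0x4dac)) (.node (.leaf 0x12da) (.leaf 0x5e5a))) (.node (.node (.leaf 0x89d) (.leaf 0x4937)) (.node (.leaf 0x2f52) (.leaf 0x72df)))) (.node (.node (.node (.leaf 0x3336) (.leaf 0x3f91)) (.node (.leaf 0x2d8c) (.leaf 0x66a4))) (.node (.node (.leaf 0x2831) (.leaf 0x5200)) (.node (.leaf 0x2581) (.leaf 0x0)))))) (.node (.node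 (.node (.node (.node (.leaf 0x24e) (.leaf 0x2d82)) (.node (.leaf 0x102c) (.leaf 0x59a1))) (.node (.node (.leaf 0x151e) (.leaf 0x4580)) (.node (.leaf 0x1e04) (.leaf 0x6f91)))) (.node (.node (.node (.leaf 0x4fd6) (.leaf 0x3a26)) (.node (.leaf 0x163e) (.leaf 0x64e9))) (.node (.node (.leaf 0x4a88) (.leaf 0x4f6c)) (.node (.leaf 0x242b) (.leaf 0x0))))) (.node (.node (.node (.node (.leaf 0x61f3) (.leaf 0x35f3)) (.node (.leaf 0x1428) (.leaf 0x5fe4))) (.node (.node (.leaf 0x5583) (.leaf 0x49f0)) (.node (.leaf 0x249e) (.leaf 0x7390)))) (.node (.node (.node (.leaf 0x17a8) (.leaf 0x4ede)) (.node (.leaf 0x2c21) (.leaf 0x6bb9))) (.node (.node (.leaf 0x5348) (.leaf 0x5480)) (.node (.leaf 0x2821) (.leaf 0x0))))))) (.node (.node (.node (.node (.node (.node (.leaf 0x18c) (.leaf 0x57e6)) (.node (.leaf 0x5d93) (.leaf 0x5845))) (.node (.node (.leaf 0x68d5) (.leaf 0x4863)) (.node (.leaf 0x1b28) (.leaf 0x6e18)))) (.node (.node (.node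 (.leaf 0x381) (.leaf 0x37ea)) (.node (.leaf 0x153f) (.leaf 0x61f2))) (.node (.node (.leaf 0x4769) (.leaf 0x4ccf)) (.node (.leaf 0x6e45) (.leaf 0x7669))))) (.node (.node (.node (.node (.leaf 0x2d24) (.leaf 0x33f8)) (.node (.leaf 0x12a4) (.leaf 0x5d0b))) (.node (.node (.leaf 0x7fe) (.leaf 0x47f3)) (.node (.leaf 0x1f5c) (.leaf 0x7183)))) (.node (.node (.node (.leaf 0x472) (.leaf 0x3eeb)) (.node (.leaf 0x174c) (.leaf 0x680a))) (.node (.node (.leaf 0xcd1) (.leaf 0x51b2)) (.node (.leaf 0x25a8) (.leaf 0x0)))))) (.node (.node (.node (.node (.node (.leaf 0x244) (.leaf 0x2e8d)) (.node (.leaf 0x250e) (.leaf 0x59bd))) (.node (.node (.leaf 0x1246) (.leaf 0x4801)) (.node (.leaf 0x337b) (.leaf 0x7063)))) (.node (.node (.node (.leaf 0x418e) (.leaf 0x3ba7)) (.node (.leaf 0x163b) (.leaf 0x6455))) (.node (.node (.leaf 0xbf1) (.leaf 0x4f5c)) (.node (.leaf 0x23b4) (.leaf 0x0))))) (.node (.node (.node (.node (.leaf 0x329) (.leaf 0x3734))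 (.node (.leaf 0x1d57) (.leaf 0x613e))) (.node (.node (.leaf 0xd35) (.leaf 0x4a7d)) (.node (.leaf 0x2204) (.leaf 0x7355)))) (.node (.node (.node (.leaf 0x2e0f) (.leaf 0x4085)) (.node (.leaf 0x3c1f) (.leaf 0x6baa))) (.node (.node (.leaf 0xe1d) (.leaf 0x55b8)) (.node (.leaf 0x272c) (.leaf 0x0))))))))

/-- Closure. -/
def clo171 : FTree := (.node (.node (.node (.node (.node (.node (.node (.leaf 0xbd) (.leaf 0x2b2a)) (.node (.leaf 0x2606) (.leaf 0x578e))) (.node (.node (.leaf 0x94b) (.leaf 0x5bb3)) (.node (.leaf 0x2d81) (.leaf 0x6e22)))) (.node (.node (.node (.leaf 0x2de6) (.leaf 0x391b)) (.node (.leaf 0x149f) (.leaf 0x631b))) (.node (.node (.leaf 0x11d1) (.leaf 0x4cc7)) (.node (.leaf 0x2307) (.leaf 0x7641))))) (.node (.node (.node (.node (.leaf 0x663) (.leaf 0x3361)) (.node (.leaf 0x1219) (.leaf 0x5e4d))) (.node (.node (.leaf 0x8a2) (.leaf 0x4918)) (.node (.leaf 0x1f39) (.leaf 0x7306)))) (.node (.node (.node (.leaf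 0x106b) (.leaf 0x3cfb)) (.node (.leaf 0x1c59) (.leaf 0x69b5))) (.node (.node (.leaf 0x5602) (.leaf 0x521e)) (.node (.leaf 0x43af) (.leaf 0x0)))))) (.node (.node (.node (.node (.node (.leaf 0xee3) (.leaf 0x4fcf)) (.node (.leaf 0x110b) (.leaf 0x5a8e))) (.node (.node (.leaf 0x680d) (.leaf 0x468e)) (.node (.leaf 0x337c) (.leaf 0x70b5)))) (.node (.node (.node (.leaf 0x4376) (.leaf 0x3c93)) (.node (.leaf 0x16e0) (.leaf 0x67f5))) (.node (.node (.leaf 0x307c) (.leaf 0x506e)) (.node (.leaf 0x49b1) (.leaf 0x0))))) (.node (.node (.node (.node (.leaf 0xa9a) (.leaf 0x3736)) (.node (.leaf 0x2702) (.leaf 0x610b))) (.node (.node (.leaf 0x1799) (.leaf 0x4aaa)) (.node (.leaf 0x2216) (.leaf 0x740d)))) (.node (.node (.node (.leaf 0x18de) (.leaf 0x41a9)) (.node (.leaf 0x3992) (.leaf 0x6a77))) (.node (.node (.leaf 0x1d83) (.leaf 0x53fd)) (.node (.leaf 0x3ac3) (.leaf 0x0))))))) (.node (.node (.node (.node (.node (.node (.leaf 0x1da)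 (.leaf 0x677e)) (.node (.leaf 0x3189) (.leaf 0x69da))) (.node (.node (.leaf 0x654) (.leaf 0x43bb)) (.node (.leaf 0x5bdf) (.leaf 0x6e66)))) (.node (.node (.node (.leaf 0x1c7e) (.leaf 0x3896)) (.node (.leaf 0x2bfc) (.leaf 0x6355))) (.node (.node (.leaf 0x502f) (.leaf 0x4cf3)) (.node (.leaf 0x41d3) (.leaf 0x7556))))) (.node (.node (.node (.node (.leaf 0x2fd2) (.leaf 0x3461)) (.node (.leaf 0x1d94) (.leaf 0x5cf5))) (.node (.node (.leaf 0x86b) (.leaf 0x4e69)) (.node (.leaf 0x1f98) (.leaf 0x7147)))) (.node (.node (.node (.leaf 0x478) (.leaf 0x3e47)) (.node (.leaf 0x1d99) (.leaf 0x6987))) (.node (.node (.leaf 0x582b) (.leaf 0x513b)) (.node (.leaf 0x4972) (.leaf 0x0)))))) (.node (.node (.node (.node (.node (.leaf 0xbc2) (.leaf 0x6703)) (.node (.leaf 0x3c53) (.leaf 0x5a25))) (.node (.node (.leaf 0x740) (.leaf 0x4805)) (.node (.leaf 0x1e5d) (.leaf 0x7004)))) (.node (.node (.node (.leaf 0x111e) (.leaf 0x3b89)) (.node (.leaf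 0x19a9) (.leaf 0x65a7))) (.node (.node (.leaf 0xc46) (.leaf 0x4e9c)) (.node (.leaf 0x24c0) (.leaf 0x0))))) (.node (.node (.node (.node (.leaf 0x560) (.leaf 0x3eca)) (.node (.leaf 0x1398) (.leaf 0x5f04))) (.node (.node (.leaf 0x988) (.leaf 0x4a79)) (.node (.leaf 0x20ff) (.leaf 0x7334)))) (.node (.node (.node (.leaf 0x58b) (.leaf 0x47d1)) (.node (.leaf 0x1927) (.leaf 0x6bac))) (.node (.node (.leaf 0x34fc) (.leaf 0x5508)) (.node (.leaf 0x272b) (.leaf 0x0))))))))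

/-- Closure. -/
def clo172 : FTree := (.node (.node (.node (.node (.node (.node (.node (.leaf 0x41) (.leaf 0x2c89)) (.node (.leaf 0xf95) (.leaf 0x56d2))) (.node (.node (.leaf 0x2c07) (.leaf 0x430d)) (.node (.leaf 0x2609) (.leaf 0x6dcc)))) (.node (.node (.node (.leaf 0x545) (.leaf 0x39a9)) (.node (.leaf 0x18a8) (.leaf 0x61df))) (.node (.node (.leaf 0xfcf) (.leaf 0x4ce5)) (.node (.leaf 0x6639) (.leaf 0x7579))))) (.node (.node (.node (.node (.leaf 0x1d48) (.leaf 0x33d2)) (.node (.leaf 0x31fe) (.leaf 0x5b1c))) (.node (.node (.leaf 0x2c96) (.leaf 0x4c47)) (.node (.leaf 0x1f68) (.leaf 0x72c4)))) (.node (.node (.node (.leaf 0x3351) (.leaf 0x3d03)) (.node (.leaf 0x2285) (.leaf 0x68d2))) (.node (.node (.leaf 0x188d) (.leaf 0x5227)) (.node (.leaf 0x5cd4) (.leaf 0x0)))))) (.node (.node (.node (.node (.node (.leaf 0x513) (.leaf 0x2de3)) (.node (.leaf 0x3499) (.leaf 0x59da))) (.node (.node (.leaf 0x326d) (.leaf 0x4602)) (.node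 (.leaf 0x265b) (.leaf 0x7038)))) (.node (.node (.node (.leaf 0x6458) (.leaf 0x3b58)) (.node (.leaf 0x5ee8) (.leaf 0x647e))) (.node (.node (.leaf 0xc08) (.leaf 0x4f08)) (.node (.leaf 0x24af) (.leaf 0x0))))) (.node (.node (.node (.node (.leaf 0x33e) (.leaf 0x35c4)) (.node (.leaf 0x66b1) (.leaf 0x5f6f))) (.node (.node (.leaf 0x9c2) (.leaf 0x4bca)) (.node (.leaf 0x21aa) (.leaf 0x7469)))) (.node (.node (.node (.leaf 0x5e8) (.leaf 0x4172)) (.node (.leaf 0x18df) (.leaf 0x6a74))) (.node (.node (.leaf 0x2a94) (.leaf 0x6200)) (.node (.leaf 0x3ee6) (.leaf 0x0))))))) (.node (.node (.node (.node (.node (.node (.leaf 0x108) (.leaf 0x29e3)) (.node (.leaf 0x2a87) (.leaf 0x56b6))) (.node (.node (.leaf 0x62a) (.leaf 0x4308)) (.node (.leaf 0x1beb) (.leaf 0x6c60)))) (.node (.node (.node (.leaf 0x13f4) (.leaf 0x3915)) (.node (.leaf 0x146d) (.leaf 0x62a4))) (.node (.node (.leaf 0x384f) (.leaf 0x4d32)) (.node (.leaf 0x4a65) (.leaf 0x76d3)))))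 (.node (.node (.node (.node (.leaf 0x3644) (.leaf 0x3532)) (.node (.leaf 0x1169) (.leaf 0x5e7b))) (.node (.node (.leaf 0x35d1) (.leaf 0x4990)) (.node (.leaf 0x1f77) (.leaf 0x72bd)))) (.node (.node (.node (.leaf 0x1095) (.leaf 0x3cee)) (.node (.leaf 0x1872) (.leaf 0x6700))) (.node (.node (.leaf 0xd61) (.leaf 0x5633)) (.node (.leaf 0x25b2) (.leaf 0x0)))))) (.node (.node (.node (.node (.node (.leaf 0x354) (.leaf 0x2f35)) (.node (.leaf 0x1085) (.leaf 0x5967))) (.node (.node (.leaf 0x50b1) (.leaf 0x4614)) (.node (.leaf 0x1d7b) (.leaf 0x6fa0)))) (.node (.node (.node (.leaf 0x53f6) (.leaf 0x3a1e)) (.node (.leaf 0x1639) (.leaf 0x663e))) (.node (.node (.leaf 0x3579) (.leaf 0x4ec7)) (.node (.leaf 0x24b0) (.leaf 0x0))))) (.node (.node (.node (.node (.leaf 0x6072) (.leaf 0x35b3)) (.node (.leaf 0x5bf5) (.leaf 0x5f82))) (.node (.node (.leaf 0x30bc) (.leaf 0x49ea)) (.node (.leaf 0x2228) (.leaf 0x741b)))) (.node (.node (.node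 (.leaf 0x5b3) (.leaf 0x5f62)) (.node (.leaf 0x5e03) (.leaf 0x6aa3))) (.node (.node (.leaf 0xed8) (.leaf 0x546a)) (.node (.leaf 0x3dc2) (.leaf 0x0))))))))

/-- Closure. -/
def clo173 : FTree := (.node (.node (.node (.node (.node (.node (.node (.leaf 0xa5) (.leaf 0x4f7a)) (.node (.leaf 0xf19) (.leaf 0x5724))) (.node (.node (.leaf 0xfbb) (.leaf 0x43f2)) (.node (.leaf 0x4012) (.leaf 0x6c97)))) (.node (.node (.node (.leaf 0x2dfc) (.leaf 0x38c3)) (.node (.leaf 0x1ae8) (.leaf 0x62d5))) (.node (.node (.leaf 0xb8b) (.leaf 0x4d89)) (.node (.leaf 0x22c2) (.leaf 0x7618))))) (.node (.node (.node (.node (.leaf 0x2fbd) (.leaf 0x301a)) (.node (.leaf 0x1921) (.leaf 0x5e80))) (.node (.node (.leaf 0x3013) (.leaf 0x48ef)) (.node (.leaf 0x1fef) (.leaf 0x7148)))) (.node (.node (.node (.leaf 0x1a9d) (.leaf 0x3d4c)) (.node (.leaf 0x1808) (.leaf 0x6d91))) (.node (.node (.leaf 0x4f03) (.leaf 0x5226)) (.node (.leaf 0x2656) (.leaf 0x0))))))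 (.node (.node (.node (.node (.node (.leaf 0x267) (.leaf 0x2dbb)) (.node (.leaf 0x2b5c) (.leaf 0x5a1b))) (.node (.node (.leaf 0x16bb) (.leaf 0x44dc)) (.node (.leaf 0x3031) (.leaf 0x6fa8)))) (.node (.node (.node (.leaf 0x26e9) (.leaf 0x3a7e)) (.node (.leaf 0x1631) (.leaf 0x6501))) (.node (.node (.leaf 0xc57) (.leaf 0x5d70)) (.node (.leaf 0x234c) (.leaf 0x0))))) (.node (.node (.node (.node (.leaf 0x806) (.leaf 0x36f5)) (.node (.leaf 0x173d) (.leaf 0x5fe3))) (.node (.node (.leaf 0x1282) (.leaf 0x5338)) (.node (.leaf 0x2107) (.leaf 0x73da)))) (.node (.node (.node (.leaf 0x1de9) (.leaf 0x426c)) (.node (.leaf 0x1e3c) (.leaf 0x6a46))) (.node (.node (.leaf 0xec0) (.leaf 0x54ce)) (.node (.leaf 0x284f) (.leaf 0x0))))))) (.node (.node (.node (.node (.node (.node (.leaf 0x1c8) (.leaf 0x2b69)) (.node (.leaf 0x50d5) (.leaf 0x57e9))) (.node (.node (.leaf 0x687) (.leaf 0x4397)) (.node (.leaf 0x1bab) (.leaf 0x6cb4)))) (.node (.node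 (.node (.leaf 0x2df1) (.leaf 0x37ca)) (.node (.leaf 0x4514) (.leaf 0x6357))) (.node (.node (.leaf 0x4f34) (.leaf 0x4d74)) (.node (.leaf 0x22fe) (.leaf 0x75f1))))) (.node (.node (.node (.node (.leaf 0x3ab) (.leaf 0x31b8)) (.node (.leaf 0x291d) (.leaf 0x5c73))) (.node (.node (.leaf 0x861) (.leaf 0x47cb)) (.node (.leaf 0x2027) (.leaf 0x7150)))) (.node (.node (.node (.leaf 0xb3a) (.leaf 0x3e8b)) (.node (.leaf 0x1881) (.leaf 0x6824))) (.node (.node (.leaf 0xd17) (.leaf 0x52aa)) (.node (.leaf 0x2657) (.leaf 0x0)))))) (.node (.node (.node (.node (.node (.leaf 0x796) (.leaf 0x2e7c)) (.node (.leaf 0x25e8) (.leaf 0x5985))) (.node (.node (.leaf 0x1b77) (.leaf 0x4741)) (.node (.leaf 0x1db7) (.leaf 0x6fca)))) (.node (.node (.node (.leaf 0x2373) (.leaf 0x4241)) (.node (.leaf 0x15b1) (.leaf 0x64b2))) (.node (.node (.leaf 0xbf4) (.leaf 0x4fcc)) (.node (.leaf 0x2383) (.leaf 0x0))))) (.node (.node (.node (.node (.leaf 0x577) (.leaf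 0x59df)) (.node (.leaf 0x134e) (.leaf 0x5f98))) (.node (.node (.leaf 0x698b) (.leaf 0x4c00)) (.node (.leaf 0x3cb9) (.leaf 0x749e)))) (.node (.node (.node (.leaf 0x1ed3) (.leaf 0x4050)) (.node (.leaf 0x199d) (.leaf 0x6bb8))) (.node (.node (.leaf 0xe01) (.leaf 0x55c8)) (.node (.leaf 0x2937) (.leaf 0x0))))))))

/-- Closure. -/
def clo174 : FTree := (.node (.node (.node (.node (.node (.node (.node (.leaf 0x91) (.leaf 0x29dd)) (.node (.leaf 0x57ca) (.leaf 0x5df4))) (.node (.node (.leaf 0x5035) (.leaf 0x5cb2)) (.node (.leaf 0x1c46) (.leaf 0x6cdf)))) (.node (.node (.node (.leaf 0x13de) (.leaf 0x62ce)) (.node (.leaf 0x1488) (.leaf 0x6245))) (.node (.node (.leaf 0xb7d) (.leaf 0x6ebc)) (.node (.leaf 0x2304) (.leaf 0x76e3))))) (.node (.node (.node (.node (.leaf 0x39cb) (.leaf 0x3403)) (.node (.leaf 0x1c44) (.leaf 0x5da4))) (.node (.node (.leaf 0x44d5) (.leaf 0x493b)) (.node (.leaf 0x4249) (.leaf 0x728e)))) (.node (.node (.node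 (.leaf 0x2a9a) (.leaf 0x3fbc)) (.node (.leaf 0x1c55) (.leaf 0x6914))) (.node (.node (.leaf 0x3128) (.leaf 0x524d)) (.node (.leaf 0x2560) (.leaf 0x0)))))) (.node (.node (.node (.node (.node (.leaf 0x4d3) (.leaf 0x2ebd)) (.node (.leaf 0x2c83) (.leaf 0x5a44))) (.node (.node (.leaf 0x462a) (.leaf 0x45ef)) (.node (.leaf 0x1e9c) (.leaf 0x70f3)))) (.node (.node (.node (.leaf 0x66f5) (.leaf 0x3bdf)) (.node (.leaf 0x16e9) (.leaf 0x684f))) (.node (.node (.leaf 0xca3) (.leaf 0x5032)) (.node (.leaf 0x27d8) (.leaf 0x0))))) (.node (.node (.node (.node (.leaf 0x30fe) (.leaf 0x36a1)) (.node (.leaf 0x4a34) (.leaf 0x603d))) (.node (.node (.leaf 0x503e) (.leaf 0x4ae6)) (.node (.leaf 0x21fd) (.leaf 0x7419)))) (.node (.node (.node (.leaf 0xb29) (.leaf 0x409e)) (.node (.leaf 0x3755) (.leaf 0x6af6))) (.node (.node (.leaf 0x68ab) (.leaf 0x5548)) (.node (.leaf 0x2844) (.leaf 0x0))))))) (.node (.node (.node (.node (.node (.node (.leaf 0x193)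 (.leaf 0x37af)) (.node (.leaf 0x50dd) (.leaf 0x5e90))) (.node (.node (.leaf 0xa1c) (.leaf 0x5cb1)) (.node (.leaf 0x1c17) (.leaf 0x6d03)))) (.node (.node (.node (.leaf 0x2dec) (.leaf 0x38da)) (.node (.leaf 0x4be9) (.leaf 0x6235))) (.node (.node (.leaf 0x28ff) (.leaf 0x5ec3)) (.node (.leaf 0x2cf4) (.leaf 0x765c))))) (.node (.node (.node (.node (.leaf 0x2fd6) (.leaf 0x31fb)) (.node (.leaf 0x506f) (.leaf 0x5e1e))) (.node (.node (.leaf 0x2591) (.leaf 0x4967)) (.node (.leaf 0x350a) (.leaf 0x71b3)))) (.node (.node (.node (.leaf 0x23fe) (.leaf 0x3f28)) (.node (.leaf 0x3183) (.leaf 0x68c1))) (.node (.node (.leaf 0x1e82) (.leaf 0x5274)) (.node (.leaf 0x2616) (.leaf 0x0)))))) (.node (.node (.node (.node (.node (.leaf 0x77e) (.leaf 0x2f80)) (.node (.leaf 0x1be1) (.leaf 0x59ec))) (.node (.node (.leaf 0x43b9) (.leaf 0x69b9)) (.node (.leaf 0x1e0c) (.leaf 0x6fb4)))) (.node (.node (.node (.leaf 0x5b9c) (.leaf 0x66f1)) (.node (.leaf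 0x160d) (.leaf 0x6510))) (.node (.node (.leaf 0xc33) (.leaf 0x504e)) (.node (.leaf 0x2ba9) (.leaf 0x0))))) (.node (.node (.node (.node (.leaf 0x2981) (.leaf 0x36e4)) (.node (.leaf 0x26fc) (.leaf 0x6105))) (.node (.node (.leaf 0x3370) (.leaf 0x4b43)) (.node (.leaf 0x20d1) (.leaf 0x7406)))) (.node (.node (.node (.leaf 0x6761) (.leaf 0x4139)) (.node (.leaf 0x348c) (.leaf 0x6b32))) (.node (.node (.leaf 0x16ad) (.leaf 0x55b1)) (.node (.leaf 0x4ef3) (.leaf 0x0))))))))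

/-- Closure. -/
def clo175 : FTree := (.node (.node (.node (.node (.node (.node (.node (.leaf 0x119) (.leaf 0x2c05)) (.node (.leaf 0xf5a) (.leaf 0x5730))) (.node (.node (.leaf 0x1136) (.leaf 0x448b)) (.node (.leaf 0x5476) (.leaf 0x6e0e)))) (.node (.node (.node (.leaf 0x1cb0) (.leaf 0x3996)) (.node (.leaf 0x2bfa) (.leaf 0x6390))) (.node (.node (.leaf 0xae6) (.leaf 0x4c9e)) (.node (.leaf 0x6e4b) (.leaf 0x75f5))))) (.node (.node (.node (.node (.leaf 0x2fd7) (.leaf 0x320a)) (.node (.leaf 0x11c4) (.leaf 0x5b01))) (.node (.node (.leaf 0xb6d) (.leaf 0x4939)) (.node (.leaf 0x422f) (.leaf 0x71c2)))) (.node (.node (.node (.leaf 0x5afd) (.leaf 0x3dd8)) (.node (.leaf 0x17fa) (.leaf 0x69b1))) (.node (.node (.leaf 0x6994) (.leaf 0x517d)) (.node (.leaf 0x263c) (.leaf 0x0)))))) (.node (.node (.node (.node (.node (.leaf 0x7bf) (.leaf 0x2f09)) (.node (.leaf 0x10fb) (.leaf 0x59e3))) (.node (.node (.leaf 0x129b) (.leaf 0x471e)) (.node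 (.leaf 0x1e05) (.leaf 0x7021)))) (.node (.node (.node (.leaf 0xa17) (.leaf 0x39fb)) (.node (.leaf 0x4140) (.leaf 0x666a))) (.node (.node (.leaf 0x6451) (.leaf 0x50b7)) (.node (.leaf 0x241b) (.leaf 0x0))))) (.node (.node (.node (.node (.leaf 0xa95) (.leaf 0x3662)) (.node (.leaf 0x1359) (.leaf 0x5f42))) (.node (.node (.leaf 0xa0a) (.leaf 0x4a11)) (.node (.leaf 0x425a) (.leaf 0x74ee)))) (.node (.node (.node (.leaf 0x3228) (.leaf 0x4003)) (.node (.leaf 0x18f4) (.leaf 0x6c17))) (.node (.node (.leaf 0x332a) (.leaf 0x5550)) (.node (.leaf 0x2845) (.leaf 0x0))))))) (.node (.node (.node (.node (.node (.node (.leaf 0x0) (.leaf 0x0)) (.node (.leaf 0x0) (.leaf 0x0))) (.node (.node (.leaf 0x0) (.leaf 0x0)) (.node (.leaf 0x0) (.leaf 0x0)))) (.node (.node (.node (.leaf 0x0) (.leaf 0x0)) (.node (.leaf 0x0) (.leaf 0x0))) (.node (.node (.leaf 0x0) (.leaf 0x0)) (.node (.leaf 0x0) (.leaf 0x0))))) (.node (.node (.node (.node (.leaf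 0x0) (.leaf 0x0)) (.node (.leaf 0x0) (.leaf 0x0))) (.node (.node (.leaf 0x0) (.leaf 0x0)) (.node (.leaf 0x0) (.leaf 0x0)))) (.node (.node (.node (.leaf 0x0) (.leaf 0x0)) (.node (.leaf 0x0) (.leaf 0x0))) (.node (.node (.leaf 0x0) (.leaf 0x0)) (.node (.leaf 0x0) (.leaf 0x0)))))) (.node (.node (.node (.node (.node (.leaf 0x0) (.leaf 0x0)) (.node (.leaf 0x0) (.leaf 0x0))) (.node (.node (.leaf 0x0) (.leaf 0x0)) (.node (.leaf 0x0) (.leaf 0x0)))) (.node (.node (.node (.leaf 0x0) (.leaf 0x0)) (.node (.leaf 0x0) (.leaf 0x0))) (.node (.node (.leaf 0x0) (.leaf 0x0)) (.node (.leaf 0x0) (.leaf 0x0))))) (.node (.node (.node (.node (.leaf 0x0) (.leaf 0x0)) (.node (.leaf 0x0) (.leaf 0x0))) (.node (.node (.leaf 0x0) (.leaf 0x0)) (.node (.leaf 0x0) (.leaf 0x0)))) (.node (.node (.node (.leaf 0x0) (.leaf 0x0)) (.node (.leaf 0x0) (.leaf 0x0))) (.node (.node (.leaf 0x0) (.leaf 0x0)) (.node (.leaf 0x0) (.leaf 0x0))))))))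

/-- Closure. -/
def clo176 : FTree := (.node (.node (.node (.node (.node (.node (.node (.leaf 0x15) (.leaf 0x2b4a)) (.node (.leaf 0x5f9e) (.leaf 0x5709))) (.node (.node (.leaf 0x6c5) (.leaf 0x4425)) (.node (.leaf 0x31b3) (.leaf 0x6db1)))) (.node (.node (.node (.leaf 0x2e07) (.leaf 0x3815)) (.node (.leaf 0x14f8) (.leaf 0x6327))) (.node (.node (.leaf 0x321c) (.leaf 0x4d64)) (.node (.leaf 0x4a5d) (.leaf 0x757d))))) (.node (.node (.node (.node (.leaf 0x60c) (.leaf 0x3440)) (.node (.leaf 0x4004) (.leaf 0x5d38))) (.node (.node (.leaf 0x879) (.leaf 0x5058)) (.node (.leaf 0x20a4) (.leaf 0x71bd)))) (.node (.node (.node (.leaf 0x20b1) (.leaf 0x4612)) (.node (.leaf 0x257a) (.leaf 0x69cf))) (.node (.node (.leaf 0x31a8) (.leaf 0x51d6)) (.node (.leaf 0x25fc) (.leaf 0x0)))))) (.node (.node (.node (.node (.node (.leaf 0x2af) (.leaf 0x671c)) (.node (.leaf 0x4181) (.leaf 0x592b))) (.node (.node (.leaf 0x5ee5) (.leaf 0x4551)) (.node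 (.leaf 0x3d5f) (.leaf 0x7020)))) (.node (.node (.node (.leaf 0x1af8) (.leaf 0x3b60)) (.node (.leaf 0x164f) (.leaf 0x6489))) (.node (.node (.leaf 0x643f) (.leaf 0x4f8f)) (.node (.leaf 0x3e40) (.leaf 0x0))))) (.node (.node (.node (.node (.leaf 0x297f) (.leaf 0x3668)) (.node (.leaf 0x13a0) (.leaf 0x604d))) (.node (.node (.leaf 0x8d1) (.leaf 0x6c49)) (.node (.leaf 0x20fe) (.leaf 0x73af)))) (.node (.node (.node (.leaf 0x2868) (.leaf 0x4271)) (.node (.leaf 0x3993) (.leaf 0x6b37))) (.node (.node (.leaf 0x2647) (.leaf 0x539e)) (.node (.leaf 0x2879) (.leaf 0x0))))))) (.node (.node (.node (.node (.node (.node (.leaf 0x10b) (.leaf 0x2a9e)) (.node (.leaf 0xf74) (.leaf 0x5768))) (.node (.node (.leaf 0x2ea1) (.leaf 0x43c6)) (.node (.leaf 0x1a76) (.leaf 0x6dc8)))) (.node (.node (.node (.leaf 0x1709) (.leaf 0x3958)) (.node (.leaf 0x14db) (.leaf 0x6311))) (.node (.node (.leaf 0xa7e) (.leaf 0x4c33)) (.node (.leaf 0x22d6) (.leaf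 0x75bd))))) (.node (.node (.node (.node (.leaf 0x314) (.leaf 0x64e6)) (.node (.leaf 0x1183) (.leaf 0x5bde))) (.node (.node (.leaf 0x87c) (.leaf 0x4847)) (.node (.leaf 0x1f2c) (.leaf 0x71ed)))) (.node (.node (.node (.leaf 0x47a) (.leaf 0x6788)) (.node (.leaf 0x5f8c) (.leaf 0x6895))) (.node (.node (.leaf 0xeb9) (.leaf 0x52f0)) (.node (.leaf 0x266b) (.leaf 0x0)))))) (.node (.node (.node (.node (.node (.leaf 0x2ac) (.leaf 0x2ea9)) (.node (.leaf 0x103c) (.leaf 0x5a52))) (.node (.node (.leaf 0x4f0b) (.leaf 0x4754)) (.node (.leaf 0x1cde) (.leaf 0x7035)))) (.node (.node (.node (.leaf 0xe92) (.leaf 0x3ca3)) (.node (.leaf 0x15c2) (.leaf 0x666b))) (.node (.node (.leaf 0x6432) (.leaf 0x4e8e)) (.node (.leaf 0x42dd) (.leaf 0x0))))) (.node (.node (.node (.node (.leaf 0x297b) (.leaf 0x36ed)) (.node (.leaf 0x30c8) (.leaf 0x5f14))) (.node (.node (.leaf 0x1ae0) (.leaf 0x4b7d)) (.node (.leaf 0x2179) (.leaf 0x74cb)))) (.node (.node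 (.node (.leaf 0x3691) (.leaf 0x401b)) (.node (.leaf 0x1924) (.leaf 0x6b3d))) (.node (.node (.leaf 0x5bb5) (.leaf 0x535c)) (.node (.leaf 0x27f9) (.leaf 0x0))))))))

/-- Closure. -/
def clo177 : FTree := (.node (.node (.node (.node (.node (.node (.node (.leaf 0xa1) (.leaf 0x2965)) (.node (.leaf 0x3199) (.leaf 0x57c4))) (.node (.node (.leaf 0xa0c) (.leaf 0x42bb)) (.node (.leaf 0x34e5) (.leaf 0x6d0e)))) (.node (.node (.node (.leaf 0x4650) (.leaf 0x380c)) (.node (.leaf 0x4be0) (.leaf 0x6305))) (.node (.node (.leaf 0x188b) (.leaf 0x4c66)) (.node (.leaf 0x22b8) (.leaf 0x76b7))))) (.node (.node (.node (.node (.leaf 0x2357) (.leaf 0x335a)) (.node (.leaf 0x115a) (.leaf 0x5dc9))) (.node (.node (.leaf 0x88e) (.leaf 0x479c)) (.node (.leaf 0x20a2) (.leaf 0x72dc)))) (.node (.node (.node (.leaf 0x475b) (.leaf 0x58bb)) (.node (.leaf 0x3340) (.leaf 0x6726))) (.node (.node (.leaf 0xd9e) (.leaf 0x5185)) (.node (.leaf 0x28a4) (.leaf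 0x0)))))) (.node (.node (.node (.node (.node (.leaf 0xbb6) (.leaf 0x2f1f)) (.node (.leaf 0x1119) (.leaf 0x59d0))) (.node (.node (.leaf 0x5c7b) (.leaf 0x459c)) (.node (.leaf 0x1ea3) (.leaf 0x70a4)))) (.node (.node (.node (.leaf 0x6df) (.leaf 0x3c12)) (.node (.leaf 0x6f2b) (.leaf 0x6657))) (.node (.node (.leaf 0x6a31) (.leaf 0x4e43)) (.node (.leaf 0x58d2) (.leaf 0x0))))) (.node (.node (.node (.node (.leaf 0x3fd) (.leaf 0x3624)) (.node (.leaf 0x472c) (.leaf 0x606b))) (.node (.node (.leaf 0x1bbb) (.leaf 0x6cd1)) (.node (.leaf 0x2113) (.leaf 0x744d)))) (.node (.node (.node (.leaf 0x5d9) (.leaf 0x41a8)) (.node (.leaf 0x556d) (.leaf 0x6b8e))) (.node (.node (.leaf 0xe41) (.leaf 0x5362)) (.node (.leaf 0x45a0) (.leaf 0x0))))))) (.node (.node (.node (.node (.node (.node (.leaf 0x1cd) (.leaf 0x2bdb)) (.node (.leaf 0xef6) (.leaf 0x5774))) (.node (.node (.leaf 0x669a) (.leaf 0x42e1)) (.node (.leaf 0x1c1c) (.leaf 0x6c8d)))) (.node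 (.node (.node (.leaf 0x7ef) (.leaf 0x5bca)) (.node (.leaf 0x1602) (.leaf 0x61f4))) (.node (.node (.leaf 0x5ac1) (.leaf 0x4d95)) (.node (.leaf 0x228c) (.leaf 0x76f2))))) (.node (.node (.node (.node (.leaf 0x370) (.leaf 0x303d)) (.node (.leaf 0x44dd) (.leaf 0x5b52))) (.node (.node (.leaf 0x865) (.leaf 0x4768)) (.node (.leaf 0x1ffe) (.leaf 0x7131)))) (.node (.node (.node (.leaf 0x2957) (.leaf 0x3e7f)) (.node (.leaf 0x1773) (.leaf 0x69dc))) (.node (.node (.leaf 0xcbe) (.leaf 0x513c)) (.node (.leaf 0x2502) (.leaf 0x0)))))) (.node (.node (.node (.node (.node (.leaf 0x209) (.leaf 0x2cc9)) (.node (.leaf 0x4409) (.leaf 0x58a3))) (.node (.node (.leaf 0x3a52) (.leaf 0x45b3)) (.node (.leaf 0x42de) (.leaf 0x708e)))) (.node (.node (.node (.leaf 0xa76) (.leaf 0x3a03)) (.node (.leaf 0x1579) (.leaf 0x63f0))) (.node (.node (.leaf 0xbd9) (.leaf 0x4efc)) (.node (.leaf 0x24e0) (.leaf 0x0))))) (.node (.node (.node (.node (.leaf 0x39e)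 (.leaf 0x35bc)) (.node (.leaf 0x1301) (.leaf 0x6099))) (.node (.node (.leaf 0x1802) (.leaf 0x49f4)) (.node (.leaf 0x2207) (.leaf 0x74b4)))) (.node (.node (.node (.leaf 0x55c) (.leaf 0x4217)) (.node (.leaf 0x1971) (.leaf 0x6a18))) (.node (.node (.leaf 0x5b6c) (.leaf 0x54ba)) (.node (.leaf 0x2b4b) (.leaf 0x0))))))))

/-- Closure. -/
def clo178 : FTree := (.node (.node (.node (.node (.node (.node (.node (.leaf 0x46) (.leaf 0x3aef)) (.node (.leaf 0x19fd) (.leaf 0x5813))) (.node (.node (.leaf 0x2ac1) (.leaf 0x4302)) (.node (.leaf 0x1af3) (.leaf 0x6c9e)))) (.node (.node (.node (.leaf 0x3d1e) (.leaf 0x383b)) (.node (.leaf 0x1470) (.leaf 0x6366))) (.node (.node (.leaf 0x4f69) (.leaf 0x4db8)) (.node (.leaf 0x54d5) (.leaf 0x75d0))))) (.node (.node (.node (.node (.leaf 0x43c) (.leaf 0x33b9)) (.node (.leaf 0x125f) (.leaf 0x5b2a))) (.node (.node (.leaf 0x12d6) (.leaf 0x498b)) (.node (.leaf 0x51d0) (.leaf 0x7286)))) (.node (.node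 (.node (.leaf 0x1e48) (.leaf 0x3eec)) (.node (.leaf 0x1853) (.leaf 0x69ba))) (.node (.node (.leaf 0x33ae) (.leaf 0x52b4)) (.node (.leaf 0x25ca) (.leaf 0x0)))))) (.node (.node (.node (.node (.node (.leaf 0x4b5) (.leaf 0x3da2)) (.node (.leaf 0x10f5) (.leaf 0x59f6))) (.node (.node (.leaf 0x1285) (.leaf 0x5997)) (.node (.leaf 0x24ca) (.leaf 0x7064)))) (.node (.node (.node (.leaf 0x269b) (.leaf 0x49da)) (.node (.leaf 0x15c4) (.leaf 0x660e))) (.node (.node (.leaf 0xca4) (.leaf 0x4f2b)) (.node (.leaf 0x4169) (.leaf 0x0))))) (.node (.node (.node (.node (.leaf 0x6142) (.leaf 0x369f)) (.node (.leaf 0x688c) (.leaf 0x5f4f))) (.node (.node (.leaf 0x9dc) (.leaf 0x6cc6)) (.node (.leaf 0x25c8) (.leaf 0x7392)))) (.node (.node (.node (.leaf 0x2d58) (.leaf 0x3ff7)) (.node (.leaf 0x18c2) (.leaf 0x6a4f))) (.node (.node (.leaf 0x69bc) (.leaf 0x53de)) (.node (.leaf 0x2ef2) (.leaf 0x0))))))) (.node (.node (.node (.node (.node (.node (.leaf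 0x170) (.leaf 0x2bbc)) (.node (.leaf 0xf07) (.leaf 0x5716))) (.node (.node (.leaf 0x6af) (.leaf 0x42be)) (.node (.leaf 0x1b99) (.leaf 0x6c30)))) (.node (.node (.node (.leaf 0x7d0) (.leaf 0x3767)) (.node (.leaf 0x148f) (.leaf 0x624e))) (.node (.node (.leaf 0xae7) (.leaf 0x4d4d)) (.node (.leaf 0x226c) (.leaf 0x767a))))) (.node (.node (.node (.node (.leaf 0x286) (.leaf 0x2fc7)) (.node (.leaf 0x1171) (.leaf 0x5dce))) (.node (.node (.leaf 0x7c8) (.leaf 0x4762)) (.node (.leaf 0x1fcf) (.leaf 0x7166)))) (.node (.node (.node (.leaf 0x42f) (.leaf 0x3ef0)) (.node (.leaf 0x1730) (.leaf 0x692f))) (.node (.node (.leaf 0xcd4) (.leaf 0x5158)) (.node (.leaf 0x250d) (.leaf 0x0)))))) (.node (.node (.node (.node (.node (.leaf 0x219) (.leaf 0x2d17)) (.node (.leaf 0xfb9) (.leaf 0x5933))) (.node (.node (.leaf 0x6da) (.leaf 0x456c)) (.node (.leaf 0x1cca) (.leaf 0x6f47)))) (.node (.node (.node (.leaf 0x3ef) (.leaf 0x3a16)) (.node (.leaf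 0x1583) (.leaf 0x65a1))) (.node (.node (.leaf 0xc13) (.leaf 0x5057)) (.node (.leaf 0x248d) (.leaf 0x0))))) (.node (.node (.node (.node (.leaf 0x322) (.leaf 0x3611)) (.node (.leaf 0x131e) (.leaf 0x5f97))) (.node (.node (.leaf 0x8bd) (.leaf 0x49ec)) (.node (.leaf 0x21f5) (.leaf 0x7495)))) (.node (.node (.node (.leaf 0x556) (.leaf 0x412a)) (.node (.leaf 0x196a) (.leaf 0x6b4e))) (.node (.node (.leaf 0xdf2) (.leaf 0x5525)) (.node (.leaf 0x26a7) (.leaf 0x0))))))))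

/-- Closure. -/
def clo179 : FTree := (.node (.node (.node (.node (.node (.node (.node (.leaf 0xfb) (.leaf 0x2bdc)) (.node (.leaf 0x50ef) (.leaf 0x57d7))) (.node (.node (.leaf 0x1bb9) (.leaf 0x65bc)) (.node (.leaf 0x1a82) (.leaf 0x6daf)))) (.node (.node (.node (.leaf 0x2def) (.leaf 0x38fc)) (.node (.leaf 0x1e14) (.leaf 0x61a6))) (.node (.node (.leaf 0xb61) (.leaf 0x4cc6)) (.node (.leaf 0x53d2) (.leaf 0x75a0))))) (.node (.node (.node (.node (.leaf 0x21db) (.leaf 0x47ef)) (.node (.leaf 0x3b57) (.leaf 0x5e07))) (.node (.node (.leaf 0xb6a) (.leaf 0x487e)) (.node (.leaf 0x2037) (.leaf 0x717c)))) (.node (.node (.node (.leaf 0x2dc6) (.leaf 0x4c62)) (.node (.leaf 0x1867) (.leaf 0x674a))) (.node (.node (.leaf 0x3304) (.leaf 0x52fc)) (.node (.leaf 0x2675) (.leaf 0x0)))))) (.node (.node (.node (.node (.node (.leaf 0x79e) (.leaf 0x6940)) (.node (.leaf 0x208f) (.leaf 0x5a28))) (.node (.node (.leaf 0x17e9) (.leaf 0x455b)) (.node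 (.leaf 0x1d90) (.leaf 0x6fe7)))) (.node (.node (.node (.leaf 0xaff) (.leaf 0x3c46)) (.node (.leaf 0x33f0) (.leaf 0x640a))) (.node (.node (.leaf 0x644e) (.leaf 0x4f94)) (.node (.leaf 0x2438) (.leaf 0x0))))) (.node (.node (.node (.node (.leaf 0xa96) (.leaf 0x36ee)) (.node (.leaf 0x1374) (.leaf 0x60a1))) (.node (.node (.leaf 0xcf6) (.leaf 0x4b22)) (.node (.leaf 0x20e8) (.leaf 0x73cd)))) (.node (.node (.node (.leaf 0x322e) (.leaf 0x40cd)) (.node (.leaf 0x198a) (.leaf 0x6b7b))) (.node (.node (.leaf 0x6dee) (.leaf 0x5609)) (.node (.leaf 0x2765) (.leaf 0x0))))))) (.node (.node (.node (.node (.node (.node (.leaf 0x1ee) (.leaf 0x532b)) (.node (.leaf 0x1a09) (.leaf 0x5d7c))) (.node (.node (.leaf 0x6c2) (.leaf 0x43ef)) (.node (.leaf 0x1b66) (.leaf 0x6cc4)))) (.node (.node (.node (.leaf 0x3d00) (.leaf 0x387a)) (.node (.leaf 0x14dc) (.leaf 0x6ea6))) (.node (.node (.leaf 0x2c04) (.leaf 0x4d0d)) (.node (.leaf 0x537d) (.leaf 0x7554)))))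 (.node (.node (.node (.node (.leaf 0x1d4a) (.leaf 0x34c4)) (.node (.leaf 0x31bd) (.leaf 0x5c99))) (.node (.node (.leaf 0x3c04) (.leaf 0x570e)) (.node (.leaf 0x5dd4) (.leaf 0x72e1)))) (.node (.node (.node (.leaf 0x334a) (.leaf 0x46dd)) (.node (.leaf 0x1813) (.leaf 0x68b8))) (.node (.node (.leaf 0x5d1b) (.leaf 0x530a)) (.node (.leaf 0x2907) (.leaf 0x0)))))) (.node (.node (.node (.node (.node (.leaf 0x503) (.leaf 0x5d71)) (.node (.leaf 0x1ee7) (.leaf 0x5903))) (.node (.node (.leaf 0x1b80) (.leaf 0x45a7)) (.node (.leaf 0x3e36) (.leaf 0x7001)))) (.node (.node (.node (.leaf 0x45ad) (.leaf 0x3be0)) (.node (.leaf 0x16b3) (.leaf 0x65f7))) (.node (.node (.leaf 0xcb9) (.leaf 0x4edf)) (.node (.leaf 0x24c2) (.leaf 0x0))))) (.node (.node (.node (.node (.leaf 0x376d) (.leaf 0x3625)) (.node (.leaf 0x26bd) (.leaf 0x6030))) (.node (.node (.leaf 0x335d) (.leaf 0x5335)) (.node (.leaf 0x20ea) (.leaf 0x7478)))) (.node (.node (.node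 (.leaf 0x5fb) (.leaf 0x426e)) (.node (.leaf 0x18fa) (.leaf 0x6bc0))) (.node (.node (.leaf 0xe19) (.leaf 0x55ca)) (.node (.leaf 0x28e0) (.leaf 0x0))))))))

/-- Closure. -/
def clo180 : FTree := (.node (.node (.node (.node (.node (.node (.node (.leaf 0x3c) (.leaf 0x2c72)) (.node (.leaf 0xef2) (.leaf 0x5653))) (.node (.node (.leaf 0x54ad) (.leaf 0x42ba)) (.node (.leaf 0x1b8e) (.leaf 0x6d32)))) (.node (.node (.node (.leaf 0x51f) (.leaf 0x38ea)) (.node (.leaf 0x6d5d) (.leaf 0x6272))) (.node (.node (.leaf 0xaaa) (.leaf 0x4cfc)) (.node (.leaf 0x2286) (.leaf 0x7633))))) (.node (.node (.node (.node (.leaf 0x57e) (.leaf 0x2ffe)) (.node (.leaf 0x12de) (.leaf 0x5cc4))) (.node (.node (.leaf 0x7fb) (.leaf 0x47f4)) (.node (.leaf 0x1f66) (.leaf 0x71c3)))) (.node (.node (.node (.leaf 0x485) (.leaf 0x3da9)) (.node (.leaf 0x2283) (.leaf 0x6723))) (.node (.node (.leaf 0x1da7) (.leaf 0x5178)) (.node (.leaf 0x2617) (.leaf 0x0))))))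 (.node (.node (.node (.node (.node (.leaf 0x210) (.leaf 0x2ec7)) (.node (.leaf 0x3492) (.leaf 0x58bd))) (.node (.node (.leaf 0x3a54) (.leaf 0x4510)) (.node (.leaf 0x303b) (.leaf 0x700c)))) (.node (.node (.node (.leaf 0x1cd4) (.leaf 0x39ff)) (.node (.leaf 0x5eed) (.leaf 0x655d))) (.node (.node (.leaf 0xbed) (.leaf 0x508c)) (.node (.leaf 0x233b) (.leaf 0x0))))) (.node (.node (.node (.node (.leaf 0x317) (.leaf 0x36b9)) (.node (.leaf 0x2e37) (.leaf 0x600a))) (.node (.node (.leaf 0x1afc) (.leaf 0x4a1e)) (.node (.leaf 0x2506) (.leaf 0x7496)))) (.node (.node (.node (.leaf 0x569) (.leaf 0x40f7)) (.node (.leaf 0x3bca) (.leaf 0x6b27))) (.node (.node (.leaf 0xdbc) (.leaf 0x53da)) (.node (.leaf 0x296c) (.leaf 0x0))))))) (.node (.node (.node (.node (.node (.node (.leaf 0xdd) (.leaf 0x2bae)) (.node (.leaf 0x1c23) (.leaf 0x570b))) (.node (.node (.leaf 0x4210) (.leaf 0x4441)) (.node (.leaf 0x243c) (.leaf 0x6dfc)))) (.node (.node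 (.node (.leaf 0x3ceb) (.leaf 0x3943)) (.node (.leaf 0x18a6) (.leaf 0x63cb))) (.node (.node (.leaf 0xe1a) (.leaf 0x4cc3)) (.node (.leaf 0x22ef) (.leaf 0x760a))))) (.node (.node (.node (.node (.leaf 0x606) (.leaf 0x3497)) (.node (.leaf 0x12e7) (.leaf 0x5b8b))) (.node (.node (.leaf 0x810) (.leaf 0x49b4)) (.node (.leaf 0x424c) (.leaf 0x7277)))) (.node (.node (.node (.leaf 0x715) (.leaf 0x3f29)) (.node (.leaf 0x1c15) (.leaf 0x67e6))) (.node (.node (.leaf 0x1545) (.leaf 0x5253)) (.node (.leaf 0x2556) (.leaf 0x0)))))) (.node (.node (.node (.node (.node (.leaf 0x2d6) (.leaf 0x391a)) (.node (.leaf 0x1001) (.leaf 0x598c))) (.node (.node (.leaf 0x1211) (.leaf 0x45bd)) (.node (.leaf 0x1e94) (.leaf 0x703f)))) (.node (.node (.node (.leaf 0x1184) (.leaf 0x3ae1)) (.node (.leaf 0x1659) (.leaf 0x6426))) (.node (.node (.leaf 0xbe0) (.leaf 0x507a)) (.node (.leaf 0x2440) (.leaf 0x0))))) (.node (.node (.node (.node (.leaf 0x32c) (.leaf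 0x3608)) (.node (.leaf 0x1355) (.leaf 0x60f4))) (.node (.node (.leaf 0x5015) (.leaf 0x4c07)) (.node (.leaf 0x2231) (.leaf 0x7443)))) (.node (.node (.node (.leaf 0x8d6) (.leaf 0x419c)) (.node (.leaf 0x195f) (.leaf 0x6a7c))) (.node (.node (.leaf 0xe30) (.leaf 0x540c)) (.node (.leaf 0x45c1) (.leaf 0x0))))))))

/-- Closure. -/
def clo181 : FTree := (.node (.node (.node (.node (.node (.node (.node (.leaf 0xdc) (.leaf 0x2b49)) (.node (.leaf 0x57d1) (.leaf 0x5e8d))) (.node (.node (.leaf 0x3833) (.leaf 0x4321)) (.node (.leaf 0x3515) (.leaf 0x6c5e)))) (.node (.node (.node (.leaf 0x13ce) (.leaf 0x37b2)) (.node (.leaf 0x18b5) (.leaf 0x627f))) (.node (.node (.leaf 0x5db2) (.leaf 0x4e22)) (.node (.leaf 0x22cd) (.leaf 0x75a3))))) (.node (.node (.node (.node (.leaf 0x1d4e) (.leaf 0x3425)) (.node (.leaf 0x31bf) (.leaf 0x5ced))) (.node (.node (.leaf 0xe9e) (.leaf 0x499b)) (.node (.leaf 0x1f55) (.leaf 0x72c0)))) (.node (.node (.node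 (.leaf 0x3fd4) (.leaf 0x41c8)) (.node (.leaf 0x183b) (.leaf 0x68b0))) (.node (.node (.leaf 0x3bc7) (.leaf 0x522d)) (.node (.leaf 0x354e) (.leaf 0x0)))))) (.node (.node (.node (.node (.node (.leaf 0x516) (.leaf 0x2ed7)) (.node (.leaf 0x4021) (.leaf 0x5922))) (.node (.node (.leaf 0x75b) (.leaf 0x473c)) (.node (.leaf 0x1e76) (.leaf 0x6f6f)))) (.node (.node (.node (.leaf 0x45b2) (.leaf 0x3c32)) (.node (.leaf 0x16f7) (.leaf 0x6480))) (.node (.node (.leaf 0xc5a) (.leaf 0x4ed7)) (.node (.leaf 0x23ff) (.leaf 0x0))))) (.node (.node (.node (.node (.leaf 0x310b) (.leaf 0x3746)) (.node (.leaf 0x1349) (.leaf 0x60e0))) (.node (.node (.leaf 0x11ac) (.leaf 0x4b66)) (.node (.leaf 0x21df) (.leaf 0x73de)))) (.node (.node (.node (.leaf 0x5d2) (.leaf 0x4291)) (.node (.leaf 0x3475) (.leaf 0x6a2a))) (.node (.node (.leaf 0x19c8) (.leaf 0x55c2)) (.node (.leaf 0x3ef6) (.leaf 0x0))))))) (.node (.node (.node (.node (.node (.node (.leaf 0x1e4)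 (.leaf 0x2a33)) (.node (.leaf 0xf90) (.leaf 0x5794))) (.node (.node (.leaf 0x1810) (.leaf 0x43b6)) (.node (.leaf 0x4e45) (.leaf 0x6d70)))) (.node (.node (.node (.leaf 0x547) (.leaf 0x388b)) (.node (.leaf 0x1486) (.leaf 0x638f))) (.node (.node (.leaf 0x1d80) (.leaf 0x4e03)) (.node (.leaf 0x619f) (.leaf 0x76d4))))) (.node (.node (.node (.node (.leaf 0x2691) (.leaf 0x31d4)) (.node (.leaf 0x1214) (.leaf 0x6aa7))) (.node (.node (.leaf 0x399e) (.leaf 0x4855)) (.node (.leaf 0x349f) (.leaf 0x7265)))) (.node (.node (.node (.leaf 0x5e1) (.leaf 0x3d47)) (.node (.leaf 0x1b7d) (.leaf 0x69e0))) (.node (.node (.leaf 0x33b1) (.leaf 0x520f)) (.node (.leaf 0x44ac) (.leaf 0x0)))))) (.node (.node (.node (.node (.node (.leaf 0x4dc) (.leaf 0x2d18)) (.node (.leaf 0x11b9) (.leaf 0x5a77))) (.node (.node (.leaf 0x2b2c) (.leaf 0x4640)) (.node (.leaf 0x1e26) (.leaf 0x6ff5)))) (.node (.node (.node (.leaf 0x5aad) (.leaf 0x3ad9)) (.node (.leaf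 0x16ea) (.leaf 0x64bc))) (.node (.node (.leaf 0x3590) (.leaf 0x4f4a)) (.node (.leaf 0x6e5e) (.leaf 0x0))))) (.node (.node (.node (.node (.leaf 0x4fae) (.leaf 0x36de)) (.node (.leaf 0x6883) (.leaf 0x60c7))) (.node (.node (.leaf 0x2cb0) (.leaf 0x4bce)) (.node (.leaf 0x21ab) (.leaf 0x745f)))) (.node (.node (.node (.leaf 0x1d0c) (.leaf 0x4230)) (.node (.leaf 0x2c93) (.leaf 0x6b67))) (.node (.node (.leaf 0x27dd) (.leaf 0x5435)) (.node (.leaf 0x2ed0) (.leaf 0x0))))))))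

/-- Closure. -/
def clo182 : FTree := (.node (.node (.node (.node (.node (.node (.node (.leaf 0x56) (.leaf 0x62a5)) (.node (.leaf 0x31f0) (.leaf 0x5707))) (.node (.node (.leaf 0x6c4) (.leaf 0x43a6)) (.node (.leaf 0x3348) (.leaf 0x6c61)))) (.node (.node (.node (.leaf 0x4654) (.leaf 0x38c2)) (.node (.leaf 0x150d) (.leaf 0x6b13))) (.node (.node (.leaf 0xb5e) (.leaf 0x4c9b)) (.node (.leaf 0x22ba) (.leaf 0x75c0))))) (.node (.node (.node (.node (.leaf 0x612) (.leaf 0x3368)) (.node (.leaf 0x1917) (.leaf 0x5d37))) (.node (.node (.leaf 0x882) (.leaf 0x4936)) (.node (.leaf 0x2057) (.leaf 0x730e)))) (.node (.node (.node (.leaf 0x1186) (.leaf 0x3ee3)) (.node (.leaf 0x17a1) (.leaf 0x685f))) (.node (.node (.leaf 0x259d) (.leaf 0x52ff)) (.node (.leaf 0x5459) (.leaf 0x0)))))) (.node (.node (.node (.node (.node (.leaf 0x77a) (.leaf 0x2e66)) (.node (.leaf 0x4968) (.leaf 0x59b5))) (.node (.node (.leaf 0x1263) (.leaf 0x498a)) (.node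 (.leaf 0x1d39) (.leaf 0x705a)))) (.node (.node (.node (.leaf 0x2711) (.leaf 0x3b07)) (.node (.leaf 0x34b7) (.leaf 0x65e4))) (.node (.node (.leaf 0x3082) (.leaf 0x4ff2)) (.node (.leaf 0x42da) (.leaf 0x0))))) (.node (.node (.node (.node (.leaf 0x4f52) (.leaf 0x5145)) (.node (.leaf 0x138a) (.leaf 0x5f1f))) (.node (.node (.leaf 0x3512) (.leaf 0x4bd0)) (.node (.leaf 0x2c2f) (.leaf 0x7404)))) (.node (.node (.node (.leaf 0x2cbc) (.leaf 0x4110)) (.node (.leaf 0x1940) (.leaf 0x6b34))) (.node (.node (.leaf 0xe22) (.leaf 0x54b1)) (.node (.leaf 0x281d) (.leaf 0x0))))))) (.node (.node (.node (.node (.node (.node (.leaf 0x127) (.leaf 0x2a92)) (.node (.leaf 0x31e1) (.leaf 0x56da))) (.node (.node (.leaf 0xdbf) (.leaf 0x4342)) (.node (.leaf 0x22b7) (.leaf 0x6c69)))) (.node (.node (.node (.leaf 0x2df5) (.leaf 0x3912)) (.node (.leaf 0x14a1) (.leaf 0x61b0))) (.node (.node (.leaf 0xb46) (.leaf 0x4caa)) (.node (.leaf 0x22a4) (.leaf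 0x76db))))) (.node (.node (.node (.node (.leaf 0x21e0) (.leaf 0x3364)) (.node (.leaf 0x1e4e) (.leaf 0x5c70))) (.node (.node (.leaf 0x878) (.leaf 0x4925)) (.node (.leaf 0x209b) (.leaf 0x7309)))) (.node (.node (.node (.leaf 0x3b04) (.leaf 0x4700)) (.node (.leaf 0x206f) (.leaf 0x6a0a))) (.node (.node (.leaf 0x4336) (.leaf 0x52a8)) (.node (.leaf 0x2663) (.leaf 0x0)))))) (.node (.node (.node (.node (.node (.leaf 0x7a2) (.leaf 0x2f7e)) (.node (.leaf 0x1110) (.leaf 0x5a27))) (.node (.node (.leaf 0x290a) (.leaf 0x462c)) (.node (.leaf 0x1e66) (.leaf 0x6fd4)))) (.node (.node (.node (.leaf 0x681) (.leaf 0x3c78)) (.node (.leaf 0x16dc) (.leaf 0x666d))) (.node (.node (.leaf 0x6445) (.leaf 0x5061)) (.node (.leaf 0x47b8) (.leaf 0x0))))) (.node (.node (.node (.node (.leaf 0x297e) (.leaf 0x3b96)) (.node (.leaf 0x26b6) (.leaf 0x60cd))) (.node (.node (.leaf 0x5f51) (.leaf 0x4b1d)) (.node (.leaf 0x218c) (.leaf 0x7412)))) (.node (.node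 (.node (.leaf 0x2a43) (.leaf 0x4176)) (.node (.leaf 0x1f0c) (.leaf 0x6ba9))) (.node (.node (.leaf 0xe40) (.leaf 0x5445)) (.node (.leaf 0x27f4) (.leaf 0x0))))))))

/-- Closure. -/
def clo183 : FTree := (.node (.node (.node (.node (.node (.node (.node (.leaf 0x116) (.leaf 0x29c7)) (.node (.leaf 0x31f4) (.leaf 0x585e))) (.node (.node (.leaf 0x603c) (.leaf 0x4328)) (.node (.leaf 0x325e) (.leaf 0x6efc)))) (.node (.node (.node (.leaf 0x466a) (.leaf 0x38a4)) (.node (.leaf 0x32a9) (.leaf 0x625e))) (.node (.node (.leaf 0xf23) (.leaf 0x4d69)) (.node (.leaf 0x673c) (.leaf 0x75eb))))) (.node (.node (.node (.node (.leaf 0x49c7) (.leaf 0x4e3e)) (.node (.leaf 0x114d) (.leaf 0x5d20))) (.node (.node (.leaf 0x1d20) (.leaf 0x48da)) (.node (.leaf 0x1fe5) (.leaf 0x71ce)))) (.node (.node (.node (.leaf 0xaa7) (.leaf 0x3de0)) (.node (.leaf 0x20bb) (.leaf 0x68ea))) (.node (.node (.leaf 0x1221) (.leaf 0x5245)) (.node (.leaf 0x2589) (.leaf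 0x0)))))) (.node (.node (.node (.node (.node (.leaf 0x797) (.leaf 0x30c3)) (.node (.leaf 0x105c) (.leaf 0x5910))) (.node (.node (.leaf 0x1df0) (.leaf 0x46d3)) (.node (.leaf 0x1ecd) (.leaf 0x70a7)))) (.node (.node (.node (.leaf 0x4a9) (.leaf 0x3cbc)) (.node (.leaf 0x1701) (.leaf 0x66dc))) (.node (.node (.leaf 0x29a8) (.leaf 0x5085)) (.node (.leaf 0x23a2) (.leaf 0x0))))) (.node (.node (.node (.node (.leaf 0x5c91) (.leaf 0x3ab1)) (.node (.leaf 0x2b16) (.leaf 0x5ee3))) (.node (.node (.leaf 0x8fd) (.leaf 0x4b2e)) (.node (.leaf 0x39db) (.leaf 0x74da)))) (.node (.node (.node (.leaf 0xd63) (.leaf 0x4123)) (.node (.leaf 0x18f0) (.leaf 0x6b57))) (.node (.node (.leaf 0xdd9) (.leaf 0x550d)) (.node (.leaf 0x27a0) (.leaf 0x0))))))) (.node (.node (.node (.node (.node (.node (.leaf 0x1fe) (.leaf 0x3ac9)) (.node (.leaf 0xf93) (.leaf 0x57fa))) (.node (.node (.leaf 0x3573) (.leaf 0x4412)) (.node (.leaf 0x1b53) (.leaf 0x6dc4)))) (.node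 (.node (.node (.leaf 0x3d25) (.leaf 0x3811)) (.node (.leaf 0x443a) (.leaf 0x636b))) (.node (.node (.leaf 0xb2f) (.leaf 0x4d0e)) (.node (.leaf 0x6742) (.leaf 0x76dd))))) (.node (.node (.node (.node (.leaf 0x439) (.leaf 0x3305)) (.node (.leaf 0x2181) (.leaf 0x6906))) (.node (.node (.leaf 0x46b3) (.leaf 0x4921)) (.node (.leaf 0x1fb9) (.leaf 0x7222)))) (.node (.node (.node (.leaf 0x54a3) (.leaf 0x3df8)) (.node (.leaf 0x6344) (.leaf 0x6974))) (.node (.node (.leaf 0xd33) (.leaf 0x52fa)) (.node (.leaf 0x50a6) (.leaf 0x0)))))) (.node (.node (.node (.node (.node (.leaf 0x4c5) (.leaf 0x3efd)) (.node (.leaf 0x111a) (.leaf 0x59e9))) (.node (.node (.leaf 0x2158) (.leaf 0x4608)) (.node (.leaf 0x1e60) (.leaf 0x6fda)))) (.node (.node (.node (.leaf 0x6773) (.leaf 0x49dc)) (.node (.leaf 0x46e1) (.leaf 0x65e8))) (.node (.node (.leaf 0xcaf) (.leaf 0x50fd)) (.node (.leaf 0x24ec) (.leaf 0x0))))) (.node (.node (.node (.node (.leaf 0x2fe5)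 (.leaf 0x641d)) (.node (.leaf 0x3e19) (.leaf 0x6022))) (.node (.node (.leaf 0x34c2) (.leaf 0x4afb)) (.node (.leaf 0x2132) (.leaf 0x7486)))) (.node (.node (.node (.leaf 0x298b) (.leaf 0x407d)) (.node (.leaf 0x19c4) (.leaf 0x6a7b))) (.node (.node (.leaf 0x5dbc) (.leaf 0x5524)) (.node (.leaf 0x27bd) (.leaf 0x0))))))))

/-- Closure. -/
def clo184 : FTree := (.node (.node (.node (.node (.node (.node (.node (.leaf 0x35) (.leaf 0x4ee2)) (.node (.leaf 0x3171) (.leaf 0x56ba))) (.node (.node (.leaf 0x3956) (.leaf 0x4323)) (.node (.leaf 0x5654) (.leaf 0x6e7a)))) (.node (.node (.node (.leaf 0x2e01) (.leaf 0x37c0)) (.node (.leaf 0x14c1) (.leaf 0x6253))) (.node (.node (.leaf 0x3652) (.leaf 0x4c28)) (.node (.leaf 0x587c) (.leaf 0x7672))))) (.node (.node (.node (.node (.leaf 0x373f) (.leaf 0x6012)) (.node (.leaf 0x45da) (.leaf 0x5b4c))) (.node (.node (.leaf 0x258b) (.leaf 0x49ac)) (.node (.leaf 0x34a2) (.leaf 0x71c0)))) (.node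 (.node (.node (.leaf 0xa72) (.leaf 0x3cf5)) (.node (.leaf 0x5f8d) (.leaf 0x67ca))) (.node (.node (.leaf 0x1958) (.leaf 0x5231)) (.node (.leaf 0x25b1) (.leaf 0x0)))))) (.node (.node (.node (.node (.node (.leaf 0x303) (.leaf 0x2d35)) (.node (.leaf 0x1289) (.leaf 0x5901))) (.node (.node (.leaf 0x43c8) (.leaf 0x4986)) (.node (.leaf 0x1ea1) (.leaf 0x70de)))) (.node (.node (.node (.leaf 0x61f) (.leaf 0x3b6f)) (.node (.leaf 0x1688) (.leaf 0x64d1))) (.node (.node (.leaf 0xc38) (.leaf 0x510a)) (.node (.leaf 0x23bf) (.leaf 0x0))))) (.node (.node (.node (.node (.leaf 0x3139) (.leaf 0x35b5)) (.node (.leaf 0x13a8) (.leaf 0x5f06))) (.node (.node (.leaf 0x676d) (.leaf 0x6c47)) (.node (.leaf 0x4958) (.leaf 0x74af)))) (.node (.node (.node (.leaf 0x3630) (.leaf 0x41c5)) (.node (.leaf 0x1946) (.leaf 0x6b33))) (.node (.node (.leaf 0x63ab) (.leaf 0x539a)) (.node (.leaf 0x28c7) (.leaf 0x0))))))) (.node (.node (.node (.node (.node (.node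 (.leaf 0x11b) (.leaf 0x2bbb)) (.node (.leaf 0xf6a) (.leaf 0x575b))) (.node (.node (.leaf 0x5c4c) (.leaf 0x5199)) (.node (.leaf 0x1bbc) (.leaf 0x6d89)))) (.node (.node (.node (.leaf 0x1c9c) (.leaf 0x37c8)) (.node (.leaf 0x6d5f) (.leaf 0x6212))) (.node (.node (.leaf 0x125c) (.leaf 0x4ce7)) (.node (.leaf 0x6630) (.leaf 0x756e))))) (.node (.node (.node (.node (.leaf 0x2a67) (.leaf 0x3154)) (.node (.leaf 0x128e) (.leaf 0x5e36))) (.node (.node (.leaf 0x1510) (.leaf 0x47d9)) (.node (.leaf 0x1f67) (.leaf 0x721d)))) (.node (.node (.node (.leaf 0x275a) (.leaf 0x3fc4)) (.node (.leaf 0x240e) (.leaf 0x67bf))) (.node (.node (.leaf 0xd13) (.leaf 0x5302)) (.node (.leaf 0x2638) (.leaf 0x0)))))) (.node (.node (.node (.node (.node (.leaf 0x2cc) (.leaf 0x2d99)) (.node (.leaf 0x341e) (.leaf 0x59f0))) (.node (.node (.leaf 0x4b26) (.leaf 0x46f5)) (.node (.leaf 0x3563) (.leaf 0x701e)))) (.node (.node (.node (.leaf 0x381d) (.leaf 0x3bf2))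 (.node (.leaf 0x16e5) (.leaf 0x6410))) (.node (.node (.leaf 0x643e) (.leaf 0x5089)) (.node (.leaf 0x3bbb) (.leaf 0x0))))) (.node (.node (.node (.node (.leaf 0x5d32) (.leaf 0x3725)) (.node (.leaf 0x1d59) (.leaf 0x6234))) (.node (.node (.leaf 0x1943) (.leaf 0x4a43)) (.node (.leaf 0x425f) (.leaf 0x7503)))) (.node (.node (.node (.leaf 0x624) (.leaf 0x442a)) (.node (.leaf 0x1925) (.leaf 0x6b9b))) (.node (.node (.leaf 0x2fad) (.leaf 0x538d)) (.node (.leaf 0x2786) (.leaf 0x0))))))))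

/-- Closure. -/
def clo185 : FTree := (.node (.node (.node (.node (.node (.node (.node (.leaf 0xc1) (.leaf 0x3863)) (.node (.leaf 0xf7a) (.leaf 0x56a5))) (.node (.node (.leaf 0x1ab9) (.leaf 0x4401)) (.node (.leaf 0x1b02) (.leaf 0x6efe)))) (.node (.node (.node (.leaf 0x170f) (.leaf 0x393c)) (.node (.leaf 0x14c5) (.leaf 0x61cd))) (.node (.node (.leaf 0x2f1c) (.leaf 0x4dda)) (.node (.leaf 0x6f03) (.leaf 0x7598))))) (.node (.node (.node (.node (.leaf 0x12fe) (.leaf 0x32f8)) (.node (.leaf 0x123e) (.leaf 0x5cce))) (.node (.node (.leaf 0x8ac) (.leaf 0x48a3)) (.node (.leaf 0x2049) (.leaf 0x72e9)))) (.node (.node (.node (.leaf 0x617) (.leaf 0x3d02)) (.node (.leaf 0x1783) (.leaf 0x66f9))) (.node (.node (.leaf 0xcea) (.leaf 0x5224)) (.node (.leaf 0x4de9) (.leaf 0x0)))))) (.node (.node (.node (.node (.node (.leaf 0x300) (.leaf 0x2db3)) (.node (.leaf 0x18bd) (.leaf 0x5a7e))) (.node (.node (.leaf 0x1950) (.leaf 0x453e)) (.node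 (.leaf 0x2640) (.leaf 0x7086)))) (.node (.node (.node (.leaf 0x63e3) (.leaf 0x3a88)) (.node (.leaf 0x165c) (.leaf 0x6527))) (.node (.node (.leaf 0x616c) (.leaf 0x4f75)) (.node (.leaf 0x24b1) (.leaf 0x0))))) (.node (.node (.node (.node (.leaf 0x2d68) (.leaf 0x35fd)) (.node (.leaf 0x30d0) (.leaf 0x6001))) (.node (.node (.leaf 0x4f3d) (.leaf 0x4b91)) (.node (.leaf 0x2219) (.leaf 0x7451)))) (.node (.node (.node (.leaf 0x286b) (.leaf 0x402e)) (.node (.leaf 0x39ae) (.leaf 0x6bcc))) (.node (.node (.leaf 0x2722) (.leaf 0x61fe)) (.node (.leaf 0x2874) (.leaf 0x0))))))) (.node (.node (.node (.node (.node (.node (.leaf 0x187) (.leaf 0x2c41)) (.node (.leaf 0x5660) (.leaf 0x5e33))) (.node (.node (.leaf 0x2881) (.leaf 0x43b7)) (.node (.leaf 0x5cff) (.leaf 0x6d7b)))) (.node (.node (.node (.leaf 0x548) (.leaf 0x5bcb)) (.node (.leaf 0x50fa) (.leaf 0x6249))) (.node (.node (.leaf 0xa83) (.leaf 0x4c65)) (.node (.leaf 0x2af0) (.leaf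 0x756b))))) (.node (.node (.node (.node (.leaf 0x1c6d) (.leaf 0x31db)) (.node (.leaf 0x12ec) (.leaf 0x5b1f))) (.node (.node (.leaf 0x2927) (.leaf 0x494b)) (.node (.leaf 0x667c) (.leaf 0x71c5)))) (.node (.node (.node (.leaf 0x678) (.leaf 0x3e0f)) (.node (.leaf 0x5ab3) (.leaf 0x68c6))) (.node (.node (.leaf 0xebb) (.leaf 0x5257)) (.node (.leaf 0x5cd2) (.leaf 0x0)))))) (.node (.node (.node (.node (.node (.leaf 0x4c1) (.leaf 0x2d0a)) (.node (.leaf 0x17c6) (.leaf 0x59d8))) (.node (.node (.leaf 0x200f) (.leaf 0x4753)) (.node (.leaf 0x1e00) (.leaf 0x6f62)))) (.node (.node (.node (.leaf 0xac4) (.leaf 0x3a00)) (.node (.leaf 0x1704) (.leaf 0x664d))) (.node (.node (.leaf 0xc0e) (.leaf 0x4e77)) (.node (.leaf 0x23aa) (.leaf 0x0))))) (.node (.node (.node (.node (.leaf 0x30e5) (.leaf 0x35cd)) (.node (.leaf 0x1393) (.leaf 0x5f34))) (.node (.node (.leaf 0x2c58) (.leaf 0x6c46)) (.node (.leaf 0x4138) (.leaf 0x74db)))) (.node (.node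 (.node (.leaf 0x5d4) (.leaf 0x40d5)) (.node (.leaf 0x18c5) (.leaf 0x6c0b))) (.node (.node (.leaf 0x1bee) (.leaf 0x54a6)) (.node (.leaf 0x285d) (.leaf 0x0))))))))

/-- Closure. -/
def clo186 : FTree := (.node (.node (.node (.node (.node (.node (.node (.leaf 0x89) (.leaf 0x3362)) (.node (.leaf 0xf86) (.leaf 0x5773))) (.node (.node (.leaf 0x640) (.leaf 0x444d)) (.node (.leaf 0x24b2) (.leaf 0x6d18)))) (.node (.node (.node (.leaf 0x83a) (.leaf 0x3867)) (.node (.leaf 0x14f7) (.leaf 0x63a4))) (.node (.node (.leaf 0x2e67) (.leaf 0x4d21)) (.node (.leaf 0x6636) (.leaf 0x75a1))))) (.node (.node (.node (.node (.leaf 0x3c6) (.leaf 0x5ead)) (.node (.leaf 0x20dc) (.leaf 0x5b9e))) (.node (.node (.leaf 0xea6) (.leaf 0x4791)) (.node (.leaf 0x1f7e) (.leaf 0x7272)))) (.node (.node (.node (.leaf 0x6e1) (.leaf 0x3e5f)) (.node (.leaf 0x3385) (.leaf 0x68f7))) (.node (.node (.leaf 0xda1) (.leaf 0x51f5)) (.node (.leaf 0x2654) (.leaf 0x0))))))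 (.node (.node (.node (.node (.node (.leaf 0x507) (.leaf 0x2f7d)) (.node (.leaf 0x106e) (.leaf 0x59ae))) (.node (.node (.leaf 0x1b98) (.leaf 0x4706)) (.node (.leaf 0x1de8) (.leaf 0x70b9)))) (.node (.node (.node (.leaf 0x1d52) (.leaf 0x3c0f)) (.node (.leaf 0x1d74) (.leaf 0x652b))) (.node (.node (.leaf 0x6433) (.leaf 0x690c)) (.node (.leaf 0x3a1a) (.leaf 0x0))))) (.node (.node (.node (.node (.leaf 0x2704) (.leaf 0x37d0)) (.node (.leaf 0x2e1a) (.leaf 0x6056))) (.node (.node (.leaf 0x9c1) (.leaf 0x4b9c)) (.node (.leaf 0x217f) (.leaf 0x74fa)))) (.node (.node (.node (.leaf 0x5fe) (.leaf 0x4011)) (.node (.leaf 0x19d8) (.leaf 0x6b6f))) (.node (.node (.leaf 0x1f88) (.leaf 0x535d)) (.node (.leaf 0x43d6) (.leaf 0x0))))))) (.node (.node (.node (.node (.node (.node (.leaf 0x1a4) (.leaf 0x2b50)) (.node (.leaf 0x50ec) (.leaf 0x5831))) (.node (.node (.leaf 0xb2b) (.leaf 0x4452)) (.node (.leaf 0x351b) (.leaf 0x6dc2)))) (.node (.node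 (.node (.leaf 0x383) (.leaf 0x3901)) (.node (.leaf 0x14ff) (.leaf 0x61d8))) (.node (.node (.leaf 0x2763) (.leaf 0x4c26)) (.node (.leaf 0x2aec) (.leaf 0x7553))))) (.node (.node (.node (.node (.leaf 0x65b) (.leaf 0x347b)) (.node (.leaf 0x33d3) (.leaf 0x5b08))) (.node (.node (.leaf 0x20c6) (.leaf 0x49aa)) (.node (.leaf 0x28f9) (.leaf 0x722a)))) (.node (.node (.node (.leaf 0x3fc8) (.leaf 0x41b4)) (.node (.leaf 0x1858) (.leaf 0x6998))) (.node (.node (.leaf 0xda5) (.leaf 0x51b3)) (.node (.leaf 0x2542) (.leaf 0x0)))))) (.node (.node (.node (.node (.node (.leaf 0x7af) (.leaf 0x2d15)) (.node (.leaf 0xfde) (.leaf 0x59d3))) (.node (.node (.leaf 0x40d0) (.leaf 0x454f)) (.node (.leaf 0x1e30) (.leaf 0x70e6)))) (.node (.node (.node (.leaf 0x3f5) (.leaf 0x3c6c)) (.node (.leaf 0x169b) (.leaf 0x6495))) (.node (.node (.leaf 0xc86) (.leaf 0x4fd9)) (.node (.leaf 0x23c0) (.leaf 0x0))))) (.node (.node (.node (.node (.leaf 0x3a3) (.leaf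 0x35ff)) (.node (.leaf 0x13b3) (.leaf 0x5fd6))) (.node (.node (.leaf 0x960) (.leaf 0x4aae)) (.node (.leaf 0x2110) (.leaf 0x7341)))) (.node (.node (.node (.leaf 0x5ca) (.leaf 0x4283)) (.node (.leaf 0x1999) (.leaf 0x6bec))) (.node (.node (.leaf 0x17e3) (.leaf 0x6ea2)) (.node (.leaf 0x347d) (.leaf 0x0))))))))

/-- Closure. -/
def clo187 : FTree := (.node (.node (.node (.node (.node (.node (.node (.leaf 0x105) (.leaf 0x2b93)) (.node (.leaf 0x2d5f) (.leaf 0x5e32))) (.node (.node (.leaf 0x6924) (.leaf 0x441b)) (.node (.leaf 0x1a7c) (.leaf 0x6e7e)))) (.node (.node (.node (.leaf 0x13c3) (.leaf 0x3934)) (.node (.leaf 0x3fdc) (.leaf 0x75d8))) (.node (.node (.leaf 0x1d7f) (.leaf 0x4d93)) (.node (.leaf 0x2291) (.leaf 0x7667))))) (.node (.node (.node (.node (.leaf 0x3d84) (.leaf 0x696e)) (.node (.leaf 0x12cd) (.leaf 0x5b5b))) (.node (.node (.leaf 0x2dbc) (.leaf 0x47ea)) (.node (.leaf 0x5dd2) (.leaf 0x71bf)))) (.node (.node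 (.node (.leaf 0x497) (.leaf 0x3d62)) (.node (.leaf 0x186c) (.leaf 0x68fa))) (.node (.node (.leaf 0xd72) (.leaf 0x563d)) (.node (.leaf 0x25e9) (.leaf 0x0)))))) (.node (.node (.node (.node (.node (.leaf 0x368) (.leaf 0x578f)) (.node (.leaf 0x122d) (.leaf 0x5a31))) (.node (.node (.leaf 0x1477) (.leaf 0x4583)) (.node (.leaf 0x1e96) (.leaf 0x70c7)))) (.node (.node (.node (.leaf 0x1cb4) (.leaf 0x3b1f)) (.node (.leaf 0x44c7) (.leaf 0x645f))) (.node (.node (.leaf 0x357e) (.leaf 0x4f43)) (.node (.leaf 0x234d) (.leaf 0x0))))) (.node (.node (.node (.node (.leaf 0x29ff) (.leaf 0x3750)) (.node (.leaf 0x5be9) (.leaf 0x5fe6))) (.node (.node (.leaf 0x348f) (.leaf 0x4bdd)) (.node (.leaf 0x20cc) (.leaf 0x7476)))) (.node (.node (.node (.leaf 0x5c5) (.leaf 0x46ea)) (.node (.leaf 0x1b5e) (.leaf 0x6b66))) (.node (.node (.leaf 0xe4c) (.leaf 0x672e)) (.node (.leaf 0x2bbf) (.leaf 0x0))))))) (.node (.node (.node (.node (.node (.node (.leaf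 0x1e7) (.leaf 0x2c7c)) (.node (.leaf 0xf73) (.leaf 0x57cf))) (.node (.node (.leaf 0x63a) (.leaf 0x4461)) (.node (.leaf 0x1b8d) (.leaf 0x6c95)))) (.node (.node (.node (.leaf 0x1c94) (.leaf 0x378e)) (.node (.leaf 0x14f4) (.leaf 0x6336))) (.node (.node (.leaf 0x2f2d) (.leaf 0x5edb)) (.node (.leaf 0x6195) (.leaf 0x76f6))))) (.node (.node (.node (.node (.leaf 0x56a) (.leaf 0x5d84)) (.node (.leaf 0x39a2) (.leaf 0x5d5a))) (.node (.node (.leaf 0x8b0) (.leaf 0x4966)) (.node (.leaf 0x2029) (.leaf 0x7259)))) (.node (.node (.node (.leaf 0x340b) (.leaf 0x3fa0)) (.node (.leaf 0x1c06) (.leaf 0x68dd))) (.node (.node (.leaf 0xdc5) (.leaf 0x52a2)) (.node (.leaf 0x42a2) (.leaf 0x0)))))) (.node (.node (.node (.node (.node (.leaf 0x2f7) (.leaf 0x2f73)) (.node (.leaf 0x1230) (.leaf 0x5951))) (.node (.node (.leaf 0x75f) (.leaf 0x473b)) (.node (.leaf 0x3b23) (.leaf 0x6f71)))) (.node (.node (.node (.leaf 0x274a) (.leaf 0x3c4d)) (.node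 (.leaf 0x1d72) (.leaf 0x668d))) (.node (.node (.leaf 0x6169) (.leaf 0x4f33)) (.node (.leaf 0x2381) (.leaf 0x0))))) (.node (.node (.node (.node (.leaf 0x2d6d) (.leaf 0x3583)) (.node (.leaf 0x26b8) (.leaf 0x6037))) (.node (.node (.leaf 0xdbe) (.leaf 0x4a45)) (.node (.leaf 0x495a) (.leaf 0x74b5)))) (.node (.node (.node (.leaf 0x2970) (.leaf 0x41bc)) (.node (.leaf 0x193b) (.leaf 0x6b79))) (.node (.node (.leaf 0x1bd8) (.leaf 0x5359)) (.node (.leaf 0x40b3) (.leaf 0x0))))))))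

/-- Closure. -/
def clo188 : FTree := (.node (.node (.node (.node (.node (.node (.node (.leaf 0x3a) (.leaf 0x2c0a)) (.node (.leaf 0xf80) (.leaf 0x569d))) (.node (.node (.leaf 0x34e3) (.leaf 0x5020)) (.node (.leaf 0x24ad) (.leaf 0x6eb9)))) (.node (.node (.node (.leaf 0x1cac) (.leaf 0x400d)) (.node (.leaf 0x1487) (.leaf 0x6255))) (.node (.node (.leaf 0x2da0) (.leaf 0x4ca3)) (.node (.leaf 0x6739) (.leaf 0x7587))))) (.node (.node (.node (.node (.leaf 0x662) (.leaf 0x3367)) (.node (.leaf 0x1628) (.leaf 0x5b45))) (.node (.node (.leaf 0x1ba9) (.leaf 0x478f)) (.node (.leaf 0x552d) (.leaf 0x7288)))) (.node (.node (.node (.leaf 0x948) (.leaf 0x3d53)) (.node (.leaf 0x3182) (.leaf 0x6732))) (.node (.node (.leaf 0xd83) (.leaf 0x5269)) (.node (.leaf 0x311d) (.leaf 0x0)))))) (.node (.node (.node (.node (.node (.leaf 0xeda) (.leaf 0x2da5)) (.node (.leaf 0x10ee) (.leaf 0x5965))) (.node (.node (.leaf 0x16d0) (.leaf 0x4c1b)) (.node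 (.leaf 0x34f0) (.leaf 0x7083)))) (.node (.node (.node (.leaf 0x3f4) (.leaf 0x3c83)) (.node (.leaf 0x15b8) (.leaf 0x66dd))) (.node (.node (.leaf 0x307f) (.leaf 0x5e42)) (.node (.leaf 0x24f1) (.leaf 0x0))))) (.node (.node (.node (.node (.leaf 0x5ba6) (.leaf 0x35ee)) (.node (.leaf 0x1439) (.leaf 0x6011))) (.node (.node (.leaf 0x9ea) (.leaf 0x4bb5)) (.node (.leaf 0x495c) (.leaf 0x74cc)))) (.node (.node (.node (.leaf 0x9b8) (.leaf 0x4158)) (.node (.leaf 0x1f12) (.leaf 0x6b01))) (.node (.node (.leaf 0x62f1) (.leaf 0x53ce)) (.node (.leaf 0x5b43) (.leaf 0x0))))))) (.node (.node (.node (.node (.node (.node (.leaf 0x133) (.leaf 0x2ca8)) (.node (.leaf 0xfb1) (.leaf 0x5706))) (.node (.node (.leaf 0x96d) (.leaf 0x43e7)) (.node (.leaf 0x54b6) (.leaf 0x6cee)))) (.node (.node (.node (.leaf 0x13d1) (.leaf 0x3991)) (.node (.leaf 0x15ef) (.leaf 0x627c))) (.node (.node (.leaf 0xb2d) (.leaf 0x4d35)) (.node (.leaf 0x22a3) (.leaf 0x763e)))))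 (.node (.node (.node (.node (.leaf 0x3d81) (.leaf 0x3886)) (.node (.leaf 0x1229) (.leaf 0x5c6a))) (.node (.node (.leaf 0x3c06) (.leaf 0x4839)) (.node (.leaf 0x201c) (.leaf 0x72db)))) (.node (.node (.node (.leaf 0x1886) (.leaf 0x3e68)) (.node (.leaf 0x6db9) (.leaf 0x69e8))) (.node (.node (.leaf 0x1b94) (.leaf 0x5287)) (.node (.leaf 0x5c39) (.leaf 0x0)))))) (.node (.node (.node (.node (.node (.leaf 0x4fa) (.leaf 0x2f18)) (.node (.leaf 0x2bca) (.leaf 0x5a4c))) (.node (.node (.leaf 0x38bf) (.leaf 0x46a9)) (.node (.leaf 0x34ee) (.leaf 0x6ff1)))) (.node (.node (.node (.leaf 0x6733) (.leaf 0x3c27)) (.node (.leaf 0x7204) (.leaf 0x662a))) (.node (.node (.leaf 0xcb6) (.leaf 0x4fd8)) (.node (.leaf 0x24ae) (.leaf 0x0))))) (.node (.node (.node (.node (.leaf 0x3111) (.leaf 0x360b)) (.node (.leaf 0x1335) (.leaf 0x5f70))) (.node (.node (.leaf 0x9e3) (.leaf 0x4ac5)) (.node (.leaf 0x2242) (.leaf 0x7427)))) (.node (.node (.node (.leaf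 0x37dd) (.leaf 0x417f)) (.node (.leaf 0x189d) (.leaf 0x6a84))) (.node (.node (.leaf 0x6c52) (.leaf 0x5440)) (.node (.leaf 0x2e6c) (.leaf 0x0))))))))

/-- Closure. -/
def clo189 : FTree := (.node (.node (.node (.node (.node (.node (.node (.leaf 0xcb) (.leaf 0x2b1d)) (.node (.leaf 0xf1b) (.leaf 0x5e8b))) (.node (.node (.leaf 0x963) (.leaf 0x432f)) (.node (.leaf 0x4e44) (.leaf 0x6dae)))) (.node (.node (.node (.leaf 0x7d3) (.leaf 0x37e9)) (.node (.leaf 0x149e) (.leaf 0x667b))) (.node (.node (.leaf 0xa4c) (.leaf 0x4c4d)) (.node (.leaf 0x231c) (.leaf 0x765f))))) (.node (.node (.node (.node (.leaf 0x872) (.leaf 0x31a9)) (.node (.leaf 0x2c6a) (.leaf 0x5c3d))) (.node (.node (.leaf 0x3d3e) (.leaf 0x487d)) (.node (.leaf 0x254c) (.leaf 0x71e9)))) (.node (.node (.node (.leaf 0xb34) (.leaf 0x3e4a)) (.node (.leaf 0x39e8) (.leaf 0x690e))) (.node (.node (.leaf 0xcec) (.leaf 0x51dc)) (.node (.leaf 0x24fe) (.leaf 0x0)))))) (.node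 (.node (.node (.node (.node (.leaf 0x25a) (.leaf 0x6826)) (.node (.leaf 0xfcd) (.leaf 0x58fd))) (.node (.node (.leaf 0x1b76) (.leaf 0x46d4)) (.node (.leaf 0x1e67) (.leaf 0x6f4a)))) (.node (.node (.node (.leaf 0x6d82) (.leaf 0x41ef)) (.node (.leaf 0x413b) (.leaf 0x67b3))) (.node (.node (.leaf 0x616d) (.leaf 0x4f40)) (.node (.leaf 0x2baa) (.leaf 0x0))))) (.node (.node (.node (.node (.leaf 0x454) (.leaf 0x3d8a)) (.node (.leaf 0x1312) (.leaf 0x6013))) (.node (.node (.leaf 0x369b) (.leaf 0x4bc2)) (.node (.leaf 0x70da) (.leaf 0x74f9)))) (.node (.node (.node (.leaf 0x586) (.leaf 0x411c)) (.node (.leaf 0x19c2) (.leaf 0x6b4f))) (.node (.node (.leaf 0x10f6) (.leaf 0x55db)) (.node (.leaf 0x4f2c) (.leaf 0x0))))))) (.node (.node (.node (.node (.node (.node (.leaf 0x1f1) (.leaf 0x2ad6)) (.node (.leaf 0x31e4) (.leaf 0x5df5))) (.node (.node (.leaf 0x6714) (.leaf 0x4345)) (.node (.leaf 0x57c3) (.leaf 0x6cfa)))) (.node (.node (.node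 (.leaf 0x535) (.leaf 0x3889)) (.node (.leaf 0x1601) (.leaf 0x61b1))) (.node (.node (.leaf 0xb44) (.leaf 0x4c93)) (.node (.leaf 0x2cf6) (.leaf 0x7615))))) (.node (.node (.node (.node (.leaf 0x65a) (.leaf 0x3373)) (.node (.leaf 0x3784) (.leaf 0x5c3f))) (.node (.node (.leaf 0x3246) (.leaf 0x4940)) (.node (.leaf 0x1fde) (.leaf 0x72f8)))) (.node (.node (.node (.leaf 0x10eb) (.leaf 0x3f42)) (.node (.leaf 0x5517) (.leaf 0x66cd))) (.node (.node (.leaf 0xd9f) (.leaf 0x520d)) (.node (.leaf 0x5721) (.leaf 0x0)))))) (.node (.node (.node (.node (.node (.leaf 0x781) (.leaf 0x2e50)) (.node (.leaf 0x4182) (.leaf 0x59ab))) (.node (.node (.leaf 0x750) (.leaf 0x4712)) (.node (.leaf 0x2899) (.leaf 0x7094)))) (.node (.node (.node (.leaf 0x4a6) (.leaf 0x3b81)) (.node (.leaf 0x16d7) (.leaf 0x65d0))) (.node (.node (.leaf 0x304e) (.leaf 0x5ffd)) (.node (.leaf 0x47c0) (.leaf 0x0))))) (.node (.node (.node (.node (.leaf 0x4ed0) (.leaf 0x41df))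 (.node (.leaf 0x3e1b) (.leaf 0x610c))) (.node (.node (.leaf 0x320b) (.leaf 0x4bb0)) (.node (.leaf 0x20c7) (.leaf 0x7407)))) (.node (.node (.node (.leaf 0xaca) (.leaf 0x4221)) (.node (.leaf 0x5dfd) (.leaf 0x6a63))) (.node (.node (.leaf 0x4f90) (.leaf 0x559e)) (.node (.leaf 0x3a39) (.leaf 0x0))))))))

/-- Closure. -/
def clo190 : FTree := (.node (.node (.node (.node (.node (.node (.node (.leaf 0x7f) (.leaf 0x4ff9)) (.node (.leaf 0x50ed) (.leaf 0x5697))) (.node (.node (.leaf 0xae0) (.leaf 0x485f)) (.node (.leaf 0x6391) (.leaf 0x6e7d)))) (.node (.node (.node (.leaf 0x2dee) (.leaf 0x3a9b)) (.node (.leaf 0x1562) (.leaf 0x637c))) (.node (.node (.leaf 0x3d8d) (.leaf 0x4cef)) (.node (.leaf 0x6e3d) (.leaf 0x764d))))) (.node (.node (.node (.node (.leaf 0x21dc) (.leaf 0x5507)) (.node (.leaf 0x1dfa) (.leaf 0x5b61))) (.node (.node (.leaf 0xb6f) (.leaf 0x48ae)) (.node (.leaf 0x5dd6) (.leaf 0x7186)))) (.node (.node (.node (.leaf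 0x6c9f) (.leaf 0x3dfc)) (.node (.leaf 0x17fc) (.leaf 0x66ec))) (.node (.node (.leaf 0xd0d) (.leaf 0x5320)) (.node (.leaf 0x257c) (.leaf 0x0)))))) (.node (.node (.node (.node (.node (.leaf 0x790) (.leaf 0x2f4b)) (.node (.leaf 0x109d) (.leaf 0x5a2c))) (.node (.node (.leaf 0x107b) (.leaf 0x45e4)) (.node (.leaf 0x2922) (.leaf 0x6fae)))) (.node (.node (.node (.leaf 0x111c) (.leaf 0x3ae4)) (.node (.leaf 0x1599) (.leaf 0x6617))) (.node (.node (.leaf 0x644a) (.leaf 0x50f6)) (.node (.leaf 0x2406) (.leaf 0x0))))) (.node (.node (.node (.node (.leaf 0x643) (.leaf 0x3842)) (.node (.leaf 0x66a8) (.leaf 0x6602))) (.node (.node (.leaf 0x9f6) (.leaf 0x4dfa)) (.node (.leaf 0x4955) (.leaf 0x74b1)))) (.node (.node (.node (.leaf 0x322f) (.leaf 0x427d)) (.node (.leaf 0x190f) (.leaf 0x6aca))) (.node (.node (.leaf 0x55b4) (.leaf 0x5496)) (.node (.leaf 0x37e7) (.leaf 0x0))))))) (.node (.node (.node (.node (.node (.node (.leaf 0x19c) (.leaf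 0x3116)) (.node (.leaf 0x5d9a) (.leaf 0x571c))) (.node (.node (.leaf 0xb8f) (.leaf 0x42f7)) (.node (.leaf 0x1b90) (.leaf 0x6d1e)))) (.node (.node (.node (.leaf 0x13be) (.leaf 0x387d)) (.node (.leaf 0x1479) (.leaf 0x6354))) (.node (.node (.leaf 0x391d) (.leaf 0x4d37)) (.node (.leaf 0x41dc) (.leaf 0x7705))))) (.node (.node (.node (.node (.leaf 0x589c) (.leaf 0x40ff)) (.node (.leaf 0x1142) (.leaf 0x5aee))) (.node (.node (.leaf 0x1151) (.leaf 0x47ad)) (.node (.leaf 0x1f42) (.leaf 0x72b3)))) (.node (.node (.node (.leaf 0x1ace) (.leaf 0x41b5)) (.node (.leaf 0x6345) (.leaf 0x66d3))) (.node (.node (.leaf 0x1d43) (.leaf 0x52ca)) (.node (.leaf 0x3545) (.leaf 0x0)))))) (.node (.node (.node (.node (.node (.leaf 0x22e) (.leaf 0x2f6c)) (.node (.leaf 0x5766) (.leaf 0x58ef))) (.node (.node (.leaf 0x326c) (.leaf 0x45b0)) (.node (.leaf 0x3929) (.leaf 0x6f95)))) (.node (.node (.node (.leaf 0x416) (.leaf 0x4243)) (.node (.leaf 0x163f)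 (.leaf 0x647b))) (.node (.node (.leaf 0x29be) (.leaf 0x4e62)) (.node (.leaf 0x2370) (.leaf 0x0))))) (.node (.node (.node (.node (.leaf 0x3102) (.leaf 0x3574)) (.node (.leaf 0x5bea) (.leaf 0x5fe1))) (.node (.node (.leaf 0x33b6) (.leaf 0x689e)) (.node (.leaf 0x2115) (.leaf 0x7422)))) (.node (.node (.node (.leaf 0x29cb) (.leaf 0x4180)) (.node (.leaf 0x18d3) (.leaf 0x6a53))) (.node (.node (.leaf 0x53e0) (.leaf 0x53ee)) (.node (.leaf 0x293e) (.leaf 0x0))))))))

/-- Closure. -/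
def clo191 : FTree := (.node (.node (.node (.node (.node (.node (.node (.leaf 0xfd) (.leaf 0x2b90)) (.node (.leaf 0x50dc) (.leaf 0x5803))) (.node (.node (.leaf 0x405f) (.leaf 0x50c5)) (.node (.leaf 0x1c38) (.leaf 0x6dec)))) (.node (.node (.node (.leaf 0x842) (.leaf 0x3829)) (.node (.leaf 0x14a9) (.leaf 0x635f))) (.node (.node (.leaf 0x2cd2) (.leaf 0x6ebb)) (.node (.leaf 0x227e) (.leaf 0x7689))))) (.node (.node (.node (.node (.leaf 0x3a9) (.leaf 0x3267)) (.node (.leaf 0x11e2) (.leaf 0x5cf9))) (.node (.node (.leaf 0x893) (.leaf 0x4938)) (.node (.leaf 0x206c) (.leaf 0x7139)))) (.node (.node (.node (.leaf 0x971) (.leaf 0x3e6f)) (.node (.leaf 0x5b71) (.leaf 0x6794))) (.node (.node (.leaf 0xda0) (.leaf 0x52ba)) (.node (.leaf 0x260e) (.leaf 0x0)))))) (.node (.node (.node (.node (.node (.leaf 0x78e) (.leaf 0x3126)) (.node (.leaf 0x10a8) (.leaf 0x5aa1))) (.node (.node (.leaf 0xe15) (.leaf 0x45b1)) (.node (.leaf 0x1ee9)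 (.leaf 0x7105)))) (.node (.node (.node (.leaf 0x6293) (.leaf 0x3b0b)) (.node (.leaf 0x16a3) (.leaf 0x67f6))) (.node (.node (.leaf 0x3061) (.leaf 0x50a4)) (.node (.leaf 0x2aac) (.leaf 0x0))))) (.node (.node (.node (.node (.leaf 0x1d17) (.leaf 0x36c7)) (.node (.leaf 0x2e17) (.leaf 0x60c5))) (.node (.node (.leaf 0xe1c) (.leaf 0x68a4)) (.node (.leaf 0x28e6) (.leaf 0x7452)))) (.node (.node (.node (.leaf 0xacd) (.leaf 0x4132)) (.node (.leaf 0x3bd4) (.leaf 0x6a5f))) (.node (.node (.leaf 0x2860) (.leaf 0x5c52)) (.node (.leaf 0x28ca) (.leaf 0x0))))))) (.node (.node (.node (.node (.node (.node (.leaf 0x0) (.leaf 0x0)) (.node (.leaf 0x0) (.leaf 0x0))) (.node (.node (.leaf 0x0) (.leaf 0x0)) (.node (.leaf 0x0) (.leaf 0x0)))) (.node (.node (.node (.leaf 0x0) (.leaf 0x0)) (.node (.leaf 0x0) (.leaf 0x0))) (.node (.node (.leaf 0x0) (.leaf 0x0)) (.node (.leaf 0x0) (.leaf 0x0))))) (.node (.node (.node (.node (.leaf 0x0) (.leaf 0x0))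 (.node (.leaf 0x0) (.leaf 0x0))) (.node (.node (.leaf 0x0) (.leaf 0x0)) (.node (.leaf 0x0) (.leaf 0x0)))) (.node (.node (.node (.leaf 0x0) (.leaf 0x0)) (.node (.leaf 0x0) (.leaf 0x0))) (.node (.node (.leaf 0x0) (.leaf 0x0)) (.node (.leaf 0x0) (.leaf 0x0)))))) (.node (.node (.node (.node (.node (.leaf 0x0) (.leaf 0x0)) (.node (.leaf 0x0) (.leaf 0x0))) (.node (.node (.leaf 0x0) (.leaf 0x0)) (.node (.leaf 0x0) (.leaf 0x0)))) (.node (.node (.node (.leaf 0x0) (.leaf 0x0)) (.node (.leaf 0x0) (.leaf 0x0))) (.node (.node (.leaf 0x0) (.leaf 0x0)) (.node (.leaf 0x0) (.leaf 0x0))))) (.node (.node (.node (.node (.leaf 0x0) (.leaf 0x0)) (.node (.leaf 0x0) (.leaf 0x0))) (.node (.node (.leaf 0x0) (.leaf 0x0)) (.node (.leaf 0x0) (.leaf 0x0)))) (.node (.node (.node (.leaf 0x0) (.leaf 0x0)) (.node (.leaf 0x0) (.leaf 0x0))) (.node (.node (.leaf 0x0) (.leaf 0x0)) (.node (.leaf 0x0) (.leaf 0x0))))))))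

/-- Closure. -/
def clo192 : FTree := (.node (.node (.node (.node (.node (.node (.node (.leaf 0xa) (.leaf 0x2a1e)) (.node (.leaf 0x5d95) (.leaf 0x572e))) (.node (.node (.leaf 0x9a8) (.leaf 0x64a6)) (.node (.leaf 0x1b75) (.leaf 0x6c83)))) (.node (.node (.node (.leaf 0x13bd) (.leaf 0x64c5)) (.node (.leaf 0x14c9) (.leaf 0x6320))) (.node (.node (.leaf 0x1ab3) (.leaf 0x6ec0)) (.node (.leaf 0x2cf1) (.leaf 0x75ff))))) (.node (.node (.node (.node (.leaf 0x3c4) (.leaf 0x3030)) (.node (.leaf 0x124c) (.leaf 0x5e92))) (.node (.node (.leaf 0x2ffa) (.leaf 0x48eb)) (.node (.leaf 0x49b9) (.leaf 0x71df)))) (.node (.node (.node (.leaf 0x2100) (.leaf 0x3fbe)) (.node (.leaf 0x5cda) (.leaf 0x68fe))) (.node (.node (.leaf 0xd9d) (.leaf 0x5295)) (.node (.leaf 0x2588) (.leaf 0x0)))))) (.node (.node (.node (.node (.node (.leaf 0x253) (.leaf 0x2ea3)) (.node (.leaf 0x3968) (.leaf 0x5935))) (.node (.node (.leaf 0x8ab) (.leaf 0x4523)) (.node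 (.leaf 0x37eb) (.leaf 0x7104)))) (.node (.node (.node (.leaf 0x8cb) (.leaf 0x3afc)) (.node (.leaf 0x6f2e) (.leaf 0x6409))) (.node (.node (.leaf 0x304b) (.leaf 0x6208)) (.node (.leaf 0x3e25) (.leaf 0x0))))) (.node (.node (.node (.node (.leaf 0x862) (.leaf 0x3680)) (.node (.leaf 0x710e) (.leaf 0x6069))) (.node (.node (.leaf 0x2941) (.leaf 0x4b4b)) (.node (.leaf 0x2f69) (.leaf 0x73fa)))) (.node (.node (.node (.leaf 0x3b77) (.leaf 0x41ba)) (.node (.leaf 0x18db) (.leaf 0x6afa))) (.node (.node (.leaf 0xeb2) (.leaf 0x533b)) (.node (.leaf 0x3280) (.leaf 0x0))))))) (.node (.node (.node (.node (.node (.node (.leaf 0x146) (.leaf 0x2c42)) (.node (.leaf 0x5658) (.leaf 0x5782))) (.node (.node (.leaf 0x3152) (.leaf 0x437c)) (.node (.leaf 0x1ee5) (.leaf 0x6ea9)))) (.node (.node (.node (.leaf 0x13da) (.leaf 0x38d9)) (.node (.leaf 0x50f5) (.leaf 0x63a0))) (.node (.node (.leaf 0x2f84) (.leaf 0x4c70)) (.node (.leaf 0x2af9) (.leaf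 0x769f))))) (.node (.node (.node (.node (.leaf 0x39cc) (.leaf 0x3527)) (.node (.leaf 0x2b87) (.leaf 0x5dee))) (.node (.node (.leaf 0x46bb) (.leaf 0x48e7)) (.node (.leaf 0x20ab) (.leaf 0x71f0)))) (.node (.node (.node (.leaf 0x1a9a) (.leaf 0x3f23)) (.node (.leaf 0x6951) (.leaf 0x6833))) (.node (.node (.leaf 0x2850) (.leaf 0x5264)) (.node (.leaf 0x3906) (.leaf 0x0)))))) (.node (.node (.node (.node (.node (.leaf 0x4c7) (.leaf 0x2f42)) (.node (.leaf 0x55d6) (.leaf 0x5a46))) (.node (.node (.leaf 0x219b) (.leaf 0x455f)) (.node (.leaf 0x536f) (.leaf 0x7014)))) (.node (.node (.node (.leaf 0x131c) (.leaf 0x3bc2)) (.node (.leaf 0x15f5) (.leaf 0x64fa))) (.node (.node (.leaf 0xcb0) (.leaf 0x4e86)) (.node (.leaf 0x23dc) (.leaf 0x0))))) (.node (.node (.node (.node (.leaf 0x2fe4) (.leaf 0x5486)) (.node (.leaf 0x1379) (.leaf 0x6607))) (.node (.node (.leaf 0x94e) (.leaf 0x4aea)) (.node (.leaf 0x2148) (.leaf 0x739d)))) (.node (.node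 (.node (.leaf 0xa46) (.leaf 0x4122)) (.node (.leaf 0x3bcc) (.leaf 0x6b2a))) (.node (.node (.leaf 0xe5d) (.leaf 0x546e)) (.node (.leaf 0x3439) (.leaf 0x0))))))))

/-- Closure. -/
def clo193 : FTree := (.node (.node (.node (.node (.node (.node (.node (.leaf 0xbb) (.leaf 0x6a8d)) (.node (.leaf 0x3168) (.leaf 0x5d7a))) (.node (.node (.leaf 0x8f8) (.leaf 0x440c)) (.node (.leaf 0x3355) (.leaf 0x6de0)))) (.node (.node (.node (.leaf 0x1715) (.leaf 0x4641)) (.node (.leaf 0x4438) (.leaf 0x623e))) (.node (.node (.leaf 0xb5f) (.leaf 0x4e27)) (.node (.leaf 0x2294) (.leaf 0x76b4))))) (.node (.node (.node (.node (.leaf 0x432) (.leaf 0x5786)) (.node (.leaf 0x118c) (.leaf 0x5b96))) (.node (.node (.leaf 0x258c) (.leaf 0x4971)) (.node (.leaf 0x254e) (.leaf 0x72fc)))) (.node (.node (.node (.leaf 0x5c41) (.leaf 0x3d9d)) (.node (.leaf 0x257d) (.leaf 0x68a8))) (.node (.node (.leaf 0x2851) (.leaf 0x5203)) (.node (.leaf 0x2666) (.leaf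 0x0)))))) (.node (.node (.node (.node (.node (.leaf 0x2e7) (.leaf 0x2f95)) (.node (.leaf 0x1033) (.leaf 0x5a1e))) (.node (.node (.leaf 0x104e) (.leaf 0x4540)) (.node (.leaf 0x3032) (.leaf 0x70d4)))) (.node (.node (.node (.leaf 0xac5) (.leaf 0x3a62)) (.node (.leaf 0x15d3) (.leaf 0x649f))) (.node (.node (.leaf 0xc41) (.leaf 0x4e54)) (.node (.leaf 0x24de) (.leaf 0x0))))) (.node (.node (.node (.node (.leaf 0x313e) (.leaf 0x36fe)) (.node (.leaf 0x1340) (.leaf 0x6095))) (.node (.node (.leaf 0x48a9) (.leaf 0x4b7a)) (.node (.leaf 0x20ed) (.leaf 0x73e3)))) (.node (.node (.node (.leaf 0x270f) (.leaf 0x417c)) (.node (.leaf 0x1949) (.leaf 0x6bfb))) (.node (.node (.leaf 0xdbd) (.leaf 0x55bd)) (.node (.leaf 0x281c) (.leaf 0x0))))))) (.node (.node (.node (.node (.node (.node (.leaf 0x18f) (.leaf 0x2ab8)) (.node (.leaf 0x2a7f) (.leaf 0x577e))) (.node (.node (.leaf 0xaaf) (.leaf 0x441a)) (.node (.leaf 0x6df8) (.leaf 0x6ef5))))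 (.node (.node (.node (.leaf 0x13d3) (.leaf 0x39c1)) (.node (.leaf 0x1515) (.leaf 0x6397))) (.node (.node (.leaf 0x5cc2) (.leaf 0x4ddd)) (.node (.leaf 0x4a67) (.leaf 0x7612))))) (.node (.node (.node (.node (.leaf 0x324) (.leaf 0x32f9)) (.node (.leaf 0x1bef) (.leaf 0x5d4a))) (.node (.node (.leaf 0x807) (.leaf 0x4807)) (.node (.leaf 0x2025) (.leaf 0x71b4)))) (.node (.node (.node (.leaf 0x6b3) (.leaf 0x3eba)) (.node (.leaf 0x1b2e) (.leaf 0x6871))) (.node (.node (.leaf 0xce5) (.leaf 0x563f)) (.node (.leaf 0x5eb0) (.leaf 0x0)))))) (.node (.node (.node (.node (.node (.leaf 0x369) (.leaf 0x2e95)) (.node (.leaf 0x1047) (.leaf 0x5a0d))) (.node (.node (.leaf 0x564d) (.leaf 0x471c)) (.node (.leaf 0x1d63) (.leaf 0x7012)))) (.node (.node (.node (.leaf 0x53bf) (.leaf 0x39f7)) (.node (.leaf 0x413d) (.leaf 0x652f))) (.node (.node (.leaf 0xc20) (.leaf 0x4fe8)) (.node (.leaf 0x27d2) (.leaf 0x0))))) (.node (.node (.node (.node (.leaf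 0xf11) (.leaf 0x3715)) (.node (.leaf 0x136f) (.leaf 0x5ef8))) (.node (.node (.leaf 0x1db9) (.leaf 0x4b78)) (.node (.leaf 0x375e) (.leaf 0x74bb)))) (.node (.node (.node (.leaf 0x3610) (.leaf 0x4033)) (.node (.leaf 0x1a14) (.leaf 0x6b4b))) (.node (.node (.leaf 0x5ae7) (.leaf 0x55f5)) (.node (.leaf 0x3b28) (.leaf 0x0))))))))

/-- Closure. -/
def clo194 : FTree := (.node (.node (.node (.node (.node (.node (.node (.leaf 0x63) (.leaf 0x2bb2)) (.node (.leaf 0xf64) (.leaf 0x5761))) (.node (.node (.leaf 0xe28) (.leaf 0x4398)) (.node (.leaf 0x2f8f) (.leaf 0x6da6)))) (.node (.node (.node (.leaf 0x1c90) (.leaf 0x38dc)) (.node (.leaf 0x4516) (.leaf 0x63c6))) (.node (.node (.leaf 0xaa6) (.leaf 0x4cd1)) (.node (.leaf 0x22bb) (.leaf 0x7719))))) (.node (.node (.node (.node (.leaf 0x2d29) (.leaf 0x3397)) (.node (.leaf 0x126a) (.leaf 0x5e60))) (.node (.node (.leaf 0x292d) (.leaf 0x4943)) (.node (.leaf 0x24e3) (.leaf 0x7291)))) (.node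 (.node (.node (.leaf 0x2419) (.leaf 0x3f64)) (.node (.leaf 0x1abe) (.leaf 0x66c9))) (.node (.node (.leaf 0x1a2d) (.leaf 0x52a6)) (.node (.leaf 0x3289) (.leaf 0x0)))))) (.node (.node (.node (.node (.node (.leaf 0x7b4) (.leaf 0x68eb)) (.node (.leaf 0xfe3) (.leaf 0x58ad))) (.node (.node (.leaf 0x6e5) (.leaf 0x463a)) (.node (.leaf 0x1dbb) (.leaf 0x705e)))) (.node (.node (.node (.leaf 0x6f3) (.leaf 0x3a04)) (.node (.leaf 0x1594) (.leaf 0x63ff))) (.node (.node (.leaf 0xc0a) (.leaf 0x4ebe)) (.node (.leaf 0x24cf) (.leaf 0x0))))) (.node (.node (.node (.node (.leaf 0xa99) (.leaf 0x4698)) (.node (.leaf 0x1441) (.leaf 0x60a2))) (.node (.node (.leaf 0x5fc0) (.leaf 0x4a20)) (.node (.leaf 0x21bc) (.leaf 0x74b8)))) (.node (.node (.node (.leaf 0x4f9f) (.leaf 0x4097)) (.node (.leaf 0x348b) (.leaf 0x6c28))) (.node (.node (.leaf 0xead) (.leaf 0x5439)) (.node (.leaf 0x28ed) (.leaf 0x0))))))) (.node (.node (.node (.node (.node (.node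 (.leaf 0x167) (.leaf 0x2b4f)) (.node (.leaf 0x3185) (.leaf 0x5838))) (.node (.node (.leaf 0x1eb7) (.leaf 0x442b)) (.node (.leaf 0x3553) (.leaf 0x6c7a)))) (.node (.node (.node (.leaf 0x464f) (.leaf 0x3883)) (.node (.leaf 0x3fea) (.leaf 0x6385))) (.node (.node (.leaf 0x33be) (.leaf 0x4d5f)) (.node (.leaf 0x2ce8) (.leaf 0x7589))))) (.node (.node (.node (.node (.leaf 0x2fd3) (.leaf 0x416a)) (.node (.leaf 0x3c73) (.leaf 0x69a3))) (.node (.node (.leaf 0x6e55) (.leaf 0x48f5)) (.node (.leaf 0x24f5) (.leaf 0x715c)))) (.node (.node (.node (.leaf 0x1199) (.leaf 0x3f62)) (.node (.leaf 0x17bf) (.leaf 0x67d0))) (.node (.node (.leaf 0x4872) (.leaf 0x527c)) (.node (.leaf 0x32ae) (.leaf 0x0)))))) (.node (.node (.node (.node (.node (.leaf 0xbb5) (.leaf 0x2d3e)) (.node (.leaf 0x1086) (.leaf 0x58a1))) (.node (.node (.leaf 0x11a6) (.leaf 0x45e5)) (.node (.leaf 0x3252) (.leaf 0x6fc2)))) (.node (.node (.node (.leaf 0x3a55) (.leaf 0x4575))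 (.node (.leaf 0x162b) (.leaf 0x640c))) (.node (.node (.leaf 0xc8a) (.leaf 0x5e4f)) (.node (.leaf 0x3e2a) (.leaf 0x0))))) (.node (.node (.node (.node (.leaf 0x5b0c) (.leaf 0x367c)) (.node (.leaf 0x2246) (.leaf 0x613a))) (.node (.node (.leaf 0x109f) (.leaf 0x4bf2)) (.node (.leaf 0x2c32) (.leaf 0x7459)))) (.node (.node (.node (.leaf 0x6dcf) (.leaf 0x4081)) (.node (.leaf 0x398c) (.leaf 0x6ac3))) (.node (.node (.leaf 0x5e1d) (.leaf 0x533e)) (.node (.leaf 0x3ed8) (.leaf 0x0))))))))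

/-- Closure. -/
def clo195 : FTree := (.node (.node (.node (.node (.node (.node (.node (.leaf 0xd0) (.leaf 0x3b2c)) (.node (.leaf 0x12be) (.leaf 0x566c))) (.node (.node (.leaf 0x4f17) (.leaf 0x42e5)) (.node (.leaf 0x1bf1) (.leaf 0x6dcd)))) (.node (.node (.node (.leaf 0x1c78) (.leaf 0x3908)) (.node (.leaf 0x1a87) (.leaf 0x61d9))) (.node (.node (.leaf 0x4fc5) (.leaf 0x4cf7)) (.node (.leaf 0x231d) (.leaf 0x758c))))) (.node (.node (.node (.node (.leaf 0x2fbc) (.leaf 0x300a)) (.node (.leaf 0x198c) (.leaf 0x5d41))) (.node (.node (.leaf 0x20c3) (.leaf 0x496f)) (.node (.leaf 0x490d) (.leaf 0x72e3)))) (.node (.node (.node (.leaf 0x6c8) (.leaf 0x3d6b)) (.node (.leaf 0x1787) (.leaf 0x676f))) (.node (.node (.leaf 0x582a) (.leaf 0x5208)) (.node (.leaf 0x289e) (.leaf 0x0)))))) (.node (.node (.node (.node (.node (.leaf 0x262) (.leaf 0x37f5)) (.node (.leaf 0x5d3f) (.leaf 0x5a1d))) (.node (.node (.leaf 0x190d) (.leaf 0x4736))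 (.node (.leaf 0x5b86) (.leaf 0x70cd)))) (.node (.node (.node (.leaf 0x58d) (.leaf 0x3c4f)) (.node (.leaf 0x169c) (.leaf 0x659d))) (.node (.node (.leaf 0xc66) (.leaf 0x509a)) (.node (.leaf 0x24ef) (.leaf 0x0))))) (.node (.node (.node (.node (.leaf 0xc25) (.leaf 0x360a)) (.node (.leaf 0x2f00) (.leaf 0x5f5b))) (.node (.node (.leaf 0x1565) (.leaf 0x532d)) (.node (.leaf 0x219d) (.leaf 0x74d1)))) (.node (.node (.node (.leaf 0x132e) (.leaf 0x4120)) (.node (.leaf 0x1896) (.leaf 0x6bce))) (.node (.node (.leaf 0x6e6b) (.leaf 0x53d9)) (.node (.leaf 0x283e) (.leaf 0x0))))))) (.node (.node (.node (.node (.node (.node (.leaf 0x1b3) (.leaf 0x2c9f)) (.node (.leaf 0xf50) (.leaf 0x5d7b))) (.node (.node (.leaf 0x99f) (.leaf 0x4414)) (.node (.leaf 0x31d9) (.leaf 0x6e7f)))) (.node (.node (.node (.leaf 0x823) (.leaf 0x385a)) (.node (.leaf 0x1497) (.leaf 0x651e))) (.node (.node (.leaf 0x399a) (.leaf 0x4da5)) (.node (.leaf 0x54d4) (.leaf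 0x76a0))))) (.node (.node (.node (.node (.leaf 0x28f) (.leaf 0x36cf)) (.node (.leaf 0x1244) (.leaf 0x5ca4))) (.node (.node (.leaf 0x898) (.leaf 0x48d7)) (.node (.leaf 0x34a4) (.leaf 0x720f)))) (.node (.node (.node (.leaf 0x33b8) (.leaf 0x3e71)) (.node (.leaf 0x2a35) (.leaf 0x68d6))) (.node (.node (.leaf 0x1829) (.leaf 0x51c5)) (.node (.leaf 0x25f7) (.leaf 0x0)))))) (.node (.node (.node (.node (.node (.leaf 0x79f) (.leaf 0x66b9)) (.node (.leaf 0x105b) (.leaf 0x5929))) (.node (.node (.leaf 0xa2f) (.leaf 0x45c9)) (.node (.leaf 0x1d8c) (.leaf 0x70c2)))) (.node (.node (.node (.leaf 0x3e9) (.leaf 0x3cab)) (.node (.leaf 0x1680) (.leaf 0x64bd))) (.node (.node (.leaf 0x305c) (.leaf 0x4f37)) (.node (.leaf 0x511c) (.leaf 0x0))))) (.node (.node (.node (.node (.leaf 0x1d1a) (.leaf 0x3654)) (.node (.leaf 0x30d5) (.leaf 0x60a9))) (.node (.node (.leaf 0x2172) (.leaf 0x4abe)) (.node (.leaf 0x2129) (.leaf 0x74cf)))) (.node (.node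 (.node (.leaf 0x2a47) (.leaf 0x4112)) (.node (.leaf 0x1928) (.leaf 0x6a5c))) (.node (.node (.leaf 0x11a1) (.leaf 0x5c51)) (.node (.leaf 0x2ab9) (.leaf 0x0))))))))

/-- Closure. -/
def clo196 : FTree := (.node (.node (.node (.node (.node (.node (.node (.leaf 0x3e) (.leaf 0x3b64)) (.node (.leaf 0x10b0) (.leaf 0x57eb))) (.node (.node (.leaf 0x5375) (.leaf 0x4314)) (.node (.leaf 0x1ab5) (.leaf 0x6d46)))) (.node (.node (.node (.leaf 0x550) (.leaf 0x3909)) (.node (.leaf 0x345c) (.leaf 0x63c3))) (.node (.node (.leaf 0x482f) (.leaf 0x4cb1)) (.node (.leaf 0x22a5) (.leaf 0x76e4))))) (.node (.node (.node (.node (.leaf 0xa8c) (.leaf 0x3430)) (.node (.leaf 0x1218) (.leaf 0x5bc7))) (.node (.node (.leaf 0x12ac) (.leaf 0x4796)) (.node (.leaf 0x220b) (.leaf 0x7199)))) (.node (.node (.node (.leaf 0x106c) (.leaf 0x3e32)) (.node (.leaf 0x1b7b) (.leaf 0x68a6))) (.node (.node (.leaf 0xda3) (.leaf 0x530d)) (.node (.leaf 0x50a7) (.leaf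 0x0)))))) (.node (.node (.node (.node (.node (.leaf 0x78c) (.leaf 0x2ee1)) (.node (.leaf 0x5728) (.leaf 0x5a96))) (.node (.node (.leaf 0x6fb) (.leaf 0x44ec)) (.node (.leaf 0x1df6) (.leaf 0x709d)))) (.node (.node (.node (.leaf 0xa74) (.leaf 0x3baf)) (.node (.leaf 0x50cd) (.leaf 0x6500))) (.node (.node (.leaf 0x29ae) (.leaf 0x5012)) (.node (.leaf 0x2460) (.leaf 0x0))))) (.node (.node (.node (.node (.leaf 0x5d68) (.leaf 0x36b3)) (.node (.leaf 0x13ab) (.leaf 0x6100))) (.node (.node (.leaf 0x255b) (.leaf 0x4b30)) (.node (.leaf 0x33c1) (.leaf 0x738a)))) (.node (.node (.node (.leaf 0x1cf7) (.leaf 0x4063)) (.node (.leaf 0x2c8f) (.leaf 0x6aa4))) (.node (.node (.leaf 0xe35) (.leaf 0x5570)) (.node (.leaf 0x28b9) (.leaf 0x0))))))) (.node (.node (.node (.node (.node (.node (.leaf 0x11d) (.leaf 0x2c51)) (.node (.leaf 0x5659) (.leaf 0x57a2))) (.node (.node (.leaf 0x251d) (.leaf 0x430c)) (.node (.leaf 0x5d00) (.leaf 0x6e6a))))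 (.node (.node (.node (.leaf 0x52f) (.leaf 0x38de)) (.node (.leaf 0x1e12) (.leaf 0x6374))) (.node (.node (.leaf 0xb70) (.leaf 0x4c82)) (.node (.leaf 0x23cb) (.leaf 0x7682))))) (.node (.node (.node (.node (.leaf 0x1729) (.leaf 0x34d0)) (.node (.leaf 0x1922) (.leaf 0x5de6))) (.node (.node (.leaf 0x69e5) (.leaf 0x48ec)) (.node (.leaf 0x1fd7) (.leaf 0x713b)))) (.node (.node (.node (.leaf 0x1a9e) (.leaf 0x4610)) (.node (.leaf 0x17be) (.leaf 0x672d))) (.node (.node (.leaf 0xd92) (.leaf 0x51ee)) (.node (.leaf 0x3288) (.leaf 0x0)))))) (.node (.node (.node (.node (.node (.leaf 0x4f0) (.leaf 0x66b6)) (.node (.leaf 0x1869) (.leaf 0x594d))) (.node (.node (.leaf 0x1aa9) (.leaf 0x46cb)) (.node (.leaf 0x1e01) (.leaf 0x6fbf)))) (.node (.node (.node (.leaf 0xcc0) (.leaf 0x4627)) (.node (.leaf 0x1615) (.leaf 0x6618))) (.node (.node (.leaf 0x644d) (.leaf 0x4e79)) (.node (.leaf 0x2421) (.leaf 0x0))))) (.node (.node (.node (.node (.leaf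 0x1d14) (.leaf 0x367b)) (.node (.leaf 0x26b9) (.leaf 0x60c3))) (.node (.node (.leaf 0x9ad) (.leaf 0x4bc8)) (.node (.leaf 0x212a) (.leaf 0x738d)))) (.node (.node (.node (.leaf 0x274f) (.leaf 0x403e)) (.node (.leaf 0x1e89) (.leaf 0x6bae))) (.node (.node (.leaf 0x1f83) (.leaf 0x5465)) (.node (.leaf 0x2bc0) (.leaf 0x0))))))))

/-- Closure. -/
def clo197 : FTree := (.node (.node (.node (.node (.node (.node (.node (.leaf 0x98) (.leaf 0x29f3)) (.node (.leaf 0xf81) (.leaf 0x69cd))) (.node (.node (.leaf 0x95e) (.leaf 0x4465)) (.node (.leaf 0x2abe) (.leaf 0x6d90)))) (.node (.node (.node (.leaf 0x1c98) (.leaf 0x3a6a)) (.node (.leaf 0x1508) (.leaf 0x6251))) (.node (.node (.leaf 0x3c03) (.leaf 0x4cb9)) (.node (.leaf 0x2308) (.leaf 0x7606))))) (.node (.node (.node (.node (.leaf 0x661) (.leaf 0x5f20)) (.node (.leaf 0x1231) (.leaf 0x5b85))) (.node (.node (.leaf 0x8a0) (.leaf 0x49a2)) (.node (.leaf 0x1fe7) (.leaf 0x7301)))) (.node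 (.node (.node (.leaf 0x1068) (.leaf 0x3e6e)) (.node (.leaf 0x5f87) (.leaf 0x66e8))) (.node (.node (.leaf 0x336b) (.leaf 0x52f3)) (.node (.leaf 0x5ea1) (.leaf 0x0)))))) (.node (.node (.node (.node (.node (.leaf 0xee5) (.leaf 0x2ece)) (.node (.leaf 0x1045) (.leaf 0x596f))) (.node (.node (.leaf 0x9e8) (.leaf 0x44cd)) (.node (.leaf 0x1d50) (.leaf 0x70cc)))) (.node (.node (.node (.leaf 0x495) (.leaf 0x3bfb)) (.node (.leaf 0x1adf) (.leaf 0x6411))) (.node (.node (.leaf 0x3085) (.leaf 0x4fc9)) (.node (.leaf 0x24d0) (.leaf 0x0))))) (.node (.node (.node (.node (.leaf 0x646) (.leaf 0x4235)) (.node (.leaf 0x2b08) (.leaf 0x5ef3))) (.node (.node (.leaf 0x25cc) (.leaf 0x4bd7)) (.node (.leaf 0x396b) (.leaf 0x73a6)))) (.node (.node (.node (.leaf 0x90d) (.leaf 0x426f)) (.node (.leaf 0x18fe) (.leaf 0x6b4d))) (.node (.node (.leaf 0x5b3f) (.leaf 0x5488)) (.node (.leaf 0x4779) (.leaf 0x0))))))) (.node (.node (.node (.node (.node (.node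 (.leaf 0x1ba) (.leaf 0x46c8)) (.node (.leaf 0x19e2) (.leaf 0x5747))) (.node (.node (.leaf 0x5599) (.leaf 0x4421)) (.node (.leaf 0x1a80) (.leaf 0x6e36)))) (.node (.node (.node (.leaf 0x3d1d) (.leaf 0x384c)) (.node (.leaf 0x3fda) (.leaf 0x61c3))) (.node (.node (.leaf 0xb97) (.leaf 0x4d71)) (.node (.leaf 0x6e3b) (.leaf 0x7541))))) (.node (.node (.node (.node (.leaf 0xa8e) (.leaf 0x4dbd)) (.node (.leaf 0x1613) (.leaf 0x5b5e))) (.node (.node (.leaf 0x12d1) (.leaf 0x47eb)) (.node (.leaf 0x28f8) (.leaf 0x72b8)))) (.node (.node (.node (.leaf 0x6ba) (.leaf 0x3d89)) (.node (.leaf 0x2d37) (.leaf 0x6720))) (.node (.node (.leaf 0xd55) (.leaf 0x5292)) (.node (.leaf 0x5ea5) (.leaf 0x0)))))) (.node (.node (.node (.node (.node (.leaf 0x508) (.leaf 0x2d75)) (.node (.leaf 0x106a) (.leaf 0x59ed))) (.node (.node (.leaf 0xf70) (.leaf 0x4536)) (.node (.leaf 0x3466) (.leaf 0x70b6)))) (.node (.node (.node (.leaf 0x3220) (.leaf 0x3c64))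 (.node (.leaf 0x15c5) (.leaf 0x6498))) (.node (.node (.leaf 0xcb7) (.leaf 0x4f8d)) (.node (.leaf 0x2497) (.leaf 0x0))))) (.node (.node (.node (.node (.leaf 0x6143) (.leaf 0x35f1)) (.node (.leaf 0x6915) (.leaf 0x5f6d))) (.node (.node (.leaf 0x9dd) (.leaf 0x4bf7)) (.node (.leaf 0x25be) (.leaf 0x7322)))) (.node (.node (.node (.leaf 0x2d4e) (.leaf 0x41b0)) (.node (.leaf 0x3757) (.leaf 0x6b84))) (.node (.node (.leaf 0x6260) (.leaf 0x6334)) (.node (.leaf 0x2846) (.leaf 0x0))))))))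

/-- Closure. -/
def clo198 : FTree := (.node (.node (.node (.node (.node (.node (.node (.leaf 0x66) (.leaf 0x2b43)) (.node (.leaf 0x2601) (.leaf 0x5820))) (.node (.node (.leaf 0x5502) (.leaf 0x5021)) (.node (.leaf 0x1c11) (.leaf 0x6c4c)))) (.node (.node (.node (.leaf 0x1caa) (.leaf 0x385c)) (.node (.leaf 0x4517) (.leaf 0x63be))) (.node (.node (.leaf 0x6d6e) (.leaf 0x4e15)) (.node (.leaf 0x22d3) (.leaf 0x76ac))))) (.node (.node (.node (.node (.leaf 0x8e1) (.leaf 0x3549)) (.node (.leaf 0x1e62) (.leaf 0x5bd6))) (.node (.node (.leaf 0x1ba6) (.leaf 0x4c44)) (.node (.leaf 0x213b) (.leaf 0x72a4)))) (.node (.node (.node (.leaf 0x3a8c) (.leaf 0x3e8d)) (.node (.leaf 0x17cd) (.leaf 0x68ee))) (.node (.node (.leaf 0xcff) (.leaf 0x5262)) (.node (.leaf 0x25f6) (.leaf 0x0)))))) (.node (.node (.node (.node (.node (.leaf 0xedd) (.leaf 0x6894)) (.node (.leaf 0x4589) (.leaf 0x597f))) (.node (.node (.leaf 0x1ea0) (.leaf 0x4630)) (.node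 (.leaf 0x393f) (.leaf 0x7017)))) (.node (.node (.node (.leaf 0x1197) (.leaf 0x3acc)) (.node (.leaf 0x1686) (.leaf 0x648e))) (.node (.node (.leaf 0x3086) (.leaf 0x4eab)) (.node (.leaf 0x24b9) (.leaf 0x0))))) (.node (.node (.node (.node (.leaf 0x462) (.leaf 0x58b9)) (.node (.leaf 0x137d) (.leaf 0x609e))) (.node (.node (.leaf 0x5ccc) (.leaf 0x4b33)) (.node (.leaf 0x20fd) (.leaf 0x73a4)))) (.node (.node (.node (.leaf 0x5830) (.leaf 0x4038)) (.node (.leaf 0x19d2) (.leaf 0x6c14))) (.node (.node (.leaf 0xe8c) (.leaf 0x5379)) (.node (.leaf 0x27e8) (.leaf 0x0))))))) (.node (.node (.node (.node (.node (.node (.leaf 0x1ab) (.leaf 0x2ac9)) (.node (.leaf 0x1c28) (.leaf 0x56f4))) (.node (.node (.leaf 0x63b) (.leaf 0x5195)) (.node (.leaf 0x1a4e) (.leaf 0x6cb3)))) (.node (.node (.node (.leaf 0x1c8e) (.leaf 0x3959)) (.node (.leaf 0x2bf3) (.leaf 0x63c9))) (.node (.node (.leaf 0x125a) (.leaf 0x4d19)) (.node (.leaf 0x22fc) (.leaf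 0x768a))))) (.node (.node (.node (.node (.leaf 0x373d) (.leaf 0x353d)) (.node (.leaf 0x46f1) (.leaf 0x5e7c))) (.node (.node (.leaf 0x1162) (.leaf 0x4960)) (.node (.leaf 0x201a) (.leaf 0x715a)))) (.node (.node (.node (.leaf 0x67c7) (.leaf 0x3daa)) (.node (.leaf 0x17fe) (.leaf 0x67c0))) (.node (.node (.leaf 0x5823) (.leaf 0x52ec)) (.node (.leaf 0x49a9) (.leaf 0x0)))))) (.node (.node (.node (.node (.node (.leaf 0x2eb) (.leaf 0x6d25)) (.node (.leaf 0x1293) (.leaf 0x5936))) (.node (.node (.leaf 0x4f0d) (.leaf 0x4581)) (.node (.leaf 0x1e7a) (.leaf 0x6f72)))) (.node (.node (.node (.leaf 0xafe) (.leaf 0x3b9f)) (.node (.leaf 0x1654) (.leaf 0x6661))) (.node (.node (.leaf 0x6160) (.leaf 0x4ea5)) (.node (.leaf 0x241f) (.leaf 0x0))))) (.node (.node (.node (.node (.leaf 0x460) (.leaf 0x3642)) (.node (.leaf 0x139c) (.leaf 0x6003))) (.node (.node (.leaf 0xda8) (.leaf 0x4a12)) (.node (.leaf 0x221a) (.leaf 0x743e)))) (.node (.node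 (.node (.leaf 0x540e) (.leaf 0x41f3)) (.node (.leaf 0x1a15) (.leaf 0x6ba6))) (.node (.node (.leaf 0x2299) (.leaf 0x5462)) (.node (.leaf 0x27cc) (.leaf 0x0))))))))

/-- Closure. -/
def clo199 : FTree := (.node (.node (.node (.node (.node (.node (.node (.leaf 0xc8) (.leaf 0x2977)) (.node (.leaf 0x3163) (.leaf 0x69d6))) (.node (.node (.leaf 0x67d) (.leaf 0x5025)) (.node (.leaf 0x3389) (.leaf 0x6e6d)))) (.node (.node (.node (.leaf 0x3cfe) (.leaf 0x3839)) (.node (.leaf 0x14bd) (.leaf 0x61ad))) (.node (.node (.leaf 0x29d3) (.leaf 0x5ec5)) (.node (.leaf 0x5385) (.leaf 0x76b9))))) (.node (.node (.node (.node (.leaf 0x8df) (.leaf 0x34df)) (.node (.leaf 0x1b67) (.leaf 0x5cab))) (.node (.node (.leaf 0x184b) (.leaf 0x48cd)) (.node (.leaf 0x1f48) (.leaf 0x7251)))) (.node (.node (.node (.leaf 0x30b6) (.leaf 0x3d90)) (.node (.leaf 0x2ca3) (.leaf 0x69ad))) (.node (.node (.leaf 0xd93) (.leaf 0x5234)) (.node (.leaf 0x255d) (.leaf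 0x0)))))) (.node (.node (.node (.node (.node (.leaf 0x2cb) (.leaf 0x2fa6)) (.node (.leaf 0x335f) (.leaf 0x5984))) (.node (.node (.leaf 0x728) (.leaf 0x4555)) (.node (.leaf 0x1d13) (.leaf 0x7046)))) (.node (.node (.node (.leaf 0x1db1) (.leaf 0x3b7e)) (.node (.leaf 0x1d7a) (.leaf 0x655a))) (.node (.node (.leaf 0xbe4) (.leaf 0x5008)) (.node (.leaf 0x24bd) (.leaf 0x0))))) (.node (.node (.node (.node (.leaf 0x2a02) (.leaf 0x4236)) (.node (.leaf 0x3e57) (.leaf 0x605e))) (.node (.node (.leaf 0x4e2f) (.leaf 0x4ab7)) (.node (.leaf 0x2f36) (.leaf 0x7447)))) (.node (.node (.node (.leaf 0x3a92) (.leaf 0x41ac)) (.node (.leaf 0x19ed) (.leaf 0x6bed))) (.node (.node (.leaf 0xff9) (.leaf 0x55e2)) (.node (.leaf 0x28f4) (.leaf 0x0))))))) (.node (.node (.node (.node (.node (.node (.leaf 0x1f5) (.leaf 0x657b)) (.node (.leaf 0x5da0) (.leaf 0x5800))) (.node (.node (.leaf 0x1135) (.leaf 0x4478)) (.node (.leaf 0x5b58) (.leaf 0x6eee))))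 (.node (.node (.node (.leaf 0x822) (.leaf 0x3f17)) (.node (.leaf 0x1464) (.leaf 0x62ef))) (.node (.node (.leaf 0xafc) (.leaf 0x4e2b)) (.node (.leaf 0x228d) (.leaf 0x753b))))) (.node (.node (.node (.node (.leaf 0x3c1) (.leaf 0x5cb8)) (.node (.leaf 0x1e35) (.leaf 0x5b02))) (.node (.node (.leaf 0x1857) (.leaf 0x488f)) (.node (.leaf 0x2137) (.leaf 0x725a)))) (.node (.node (.node (.leaf 0x4009) (.leaf 0x3cef)) (.node (.leaf 0x17c0) (.leaf 0x681e))) (.node (.node (.leaf 0xcda) (.leaf 0x5249)) (.node (.leaf 0x2536) (.leaf 0x0)))))) (.node (.node (.node (.node (.node (.leaf 0x23f) (.leaf 0x2e63)) (.node (.leaf 0x3359) (.leaf 0x59b1))) (.node (.node (.leaf 0x1077) (.leaf 0x45e8)) (.node (.leaf 0x5c59) (.leaf 0x70af)))) (.node (.node (.node (.leaf 0x701) (.leaf 0x3a57)) (.node (.leaf 0x15d9) (.leaf 0x65c3))) (.node (.node (.leaf 0xc17) (.leaf 0x506d)) (.node (.leaf 0x53b5) (.leaf 0x0))))) (.node (.node (.node (.node (.leaf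 0x4f4b) (.leaf 0x35de)) (.node (.leaf 0x1418) (.leaf 0x65fd))) (.node (.node (.leaf 0x2481) (.leaf 0x6f68)) (.node (.leaf 0x21cb) (.leaf 0x73f2)))) (.node (.node (.node (.leaf 0x27b2) (.leaf 0x40f6)) (.node (.leaf 0x346c) (.leaf 0x6af4))) (.node (.node (.leaf 0xe4d) (.leaf 0x53f5)) (.node (.leaf 0x2893) (.leaf 0x0))))))))

/-- Closure. -/
def clo200 : FTree := (.node (.node (.node (.node (.node (.node (.node (.leaf 0x22) (.leaf 0x2bdf)) (.node (.leaf 0x50df) (.leaf 0x579b))) (.node (.node (.leaf 0x1655) (.leaf 0x44ab)) (.node (.leaf 0x351c) (.leaf 0x6e78)))) (.node (.node (.node (.leaf 0x38b) (.leaf 0x4648)) (.node (.leaf 0x1568) (.leaf 0x63a1))) (.node (.node (.leaf 0xe62) (.leaf 0x4d8d)) (.node (.leaf 0x6e4a) (.leaf 0x7572))))) (.node (.node (.node (.node (.leaf 0x60f) (.leaf 0x3321)) (.node (.leaf 0x4005) (.leaf 0x5d18))) (.node (.node (.leaf 0x4206) (.leaf 0x4951)) (.node (.leaf 0x24ea) (.leaf 0x71bc)))) (.node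 (.node (.node (.leaf 0x20b0) (.leaf 0x3f6c)) (.node (.leaf 0x1801) (.leaf 0x67d9))) (.node (.node (.leaf 0x3bc8) (.leaf 0x52d9)) (.node (.leaf 0x25c0) (.leaf 0x0)))))) (.node (.node (.node (.node (.node (.leaf 0x763) (.leaf 0x2d61)) (.node (.leaf 0x106f) (.leaf 0x59cc))) (.node (.node (.leaf 0xfff) (.leaf 0x461b)) (.node (.leaf 0x1ef7) (.leaf 0x7016)))) (.node (.node (.node (.leaf 0x385d) (.leaf 0x3b08)) (.node (.leaf 0x1f97) (.leaf 0x6d9f))) (.node (.node (.leaf 0xc6e) (.leaf 0x50b3)) (.node (.leaf 0x2aa9) (.leaf 0x0))))) (.node (.node (.node (.node (.leaf 0xd98) (.leaf 0x641e)) (.node (.leaf 0x2e2f) (.leaf 0x660b))) (.node (.node (.leaf 0x24b8) (.leaf 0x4c11)) (.node (.leaf 0x20f9) (.leaf 0x73e1)))) (.node (.node (.node (.leaf 0x3214) (.leaf 0x4162)) (.node (.leaf 0x1e8b) (.leaf 0x6b2d))) (.node (.node (.leaf 0x1874) (.leaf 0x5c9f)) (.node (.leaf 0x2779) (.leaf 0x0))))))) (.node (.node (.node (.node (.node (.node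 (.leaf 0x111) (.leaf 0x57e5)) (.node (.leaf 0x5d99) (.leaf 0x578a))) (.node (.node (.leaf 0x32b5) (.leaf 0x5bad)) (.node (.leaf 0x1b9b) (.leaf 0x6c42)))) (.node (.node (.node (.leaf 0x819) (.leaf 0x37c5)) (.node (.leaf 0x1499) (.leaf 0x61a9))) (.node (.node (.leaf 0xa5c) (.leaf 0x4ca1)) (.node (.leaf 0x229c) (.leaf 0x762b))))) (.node (.node (.node (.node (.leaf 0x297) (.leaf 0x314b)) (.node (.leaf 0x2f6d) (.leaf 0x5b76))) (.node (.node (.leaf 0x130c) (.leaf 0x47cc)) (.node (.leaf 0x1f2b) (.leaf 0x718d)))) (.node (.node (.node (.leaf 0x475) (.leaf 0x3f71)) (.node (.leaf 0x1b7a) (.leaf 0x684a))) (.node (.node (.leaf 0x1fbf) (.leaf 0x524e)) (.node (.leaf 0x2572) (.leaf 0x0)))))) (.node (.node (.node (.node (.node (.leaf 0x21d) (.leaf 0x2eaf)) (.node (.leaf 0x1ff1) (.leaf 0x73d2))) (.node (.node (.leaf 0x17e8) (.leaf 0x462f)) (.node (.leaf 0x1ebc) (.leaf 0x707c)))) (.node (.node (.node (.leaf 0x4e53) (.leaf 0x3af2))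 (.node (.leaf 0x50ce) (.leaf 0x64ea))) (.node (.node (.leaf 0x4a8d) (.leaf 0x56b9)) (.node (.leaf 0x23bb) (.leaf 0x0))))) (.node (.node (.node (.node (.leaf 0x405) (.leaf 0x3ec8)) (.node (.leaf 0x30c6) (.leaf 0x5fb2))) (.node (.node (.leaf 0x3396) (.leaf 0x6f69)) (.node (.leaf 0x2184) (.leaf 0x74e7)))) (.node (.node (.node (.leaf 0x59a) (.leaf 0x5365)) (.node (.leaf 0x19a1) (.leaf 0x6ac7))) (.node (.node (.leaf 0x650c) (.leaf 0x5352)) (.node (.leaf 0x6537) (.leaf 0x0))))))))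

/-- Closure. -/
def clo201 : FTree := (.node (.node (.node (.node (.node (.node (.node (.leaf 0xab) (.leaf 0x4fc3)) (.node (.leaf 0xefb) (.leaf 0x581c))) (.node (.node (.leaf 0x679) (.leaf 0x4311)) (.node (.leaf 0x25b4) (.leaf 0x6d37)))) (.node (.node (.node (.leaf 0x51d) (.leaf 0x3875)) (.node (.leaf 0x14a7) (.leaf 0x614b))) (.node (.node (.leaf 0x5ce9) (.leaf 0x5ec7)) (.node (.leaf 0x2272) (.leaf 0x75dd))))) (.node (.node (.node (.node (.leaf 0x31f) (.leaf 0x30b8)) (.node (.leaf 0x126b) (.leaf 0x5c33))) (.node (.node (.leaf 0x7cd) (.leaf 0x5714)) (.node (.leaf 0x202d) (.leaf 0x71a8)))) (.node (.node (.node (.leaf 0x2ebe) (.leaf 0x3dc7)) (.node (.leaf 0x20bd) (.leaf 0x68ad))) (.node (.node (.leaf 0xd30) (.leaf 0x515d)) (.node (.leaf 0x25f2) (.leaf 0x0)))))) (.node (.node (.node (.node (.node (.leaf 0x208) (.leaf 0x32e6)) (.node (.leaf 0x11ef) (.leaf 0x589a))) (.node (.node (.leaf 0x3322) (.leaf 0x453a)) (.node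 (.leaf 0x1c72) (.leaf 0x701d)))) (.node (.node (.node (.leaf 0x53f4) (.leaf 0x3a1d)) (.node (.leaf 0x16ba) (.leaf 0x6427))) (.node (.node (.leaf 0xbf0) (.leaf 0x501e)) (.node (.leaf 0x245c) (.leaf 0x0))))) (.node (.node (.node (.node (.leaf 0x2cc6) (.leaf 0x36e1)) (.node (.leaf 0x26b0) (.leaf 0x60b5))) (.node (.node (.leaf 0x8c0) (.leaf 0x49d6)) (.node (.leaf 0x40c9) (.leaf 0x73f7)))) (.node (.node (.node (.leaf 0x7ca) (.leaf 0x40df)) (.node (.leaf 0x2c90) (.leaf 0x6a62))) (.node (.node (.leaf 0x5f7f) (.leaf 0x55f9)) (.node (.leaf 0x26aa) (.leaf 0x0))))))) (.node (.node (.node (.node (.node (.node (.leaf 0x1d7) (.leaf 0x39d7)) (.node (.leaf 0x12b6) (.leaf 0x5726))) (.node (.node (.leaf 0x118f) (.leaf 0x44a1)) (.node (.leaf 0x1c01) (.leaf 0x6df2)))) (.node (.node (.node (.leaf 0x467f) (.leaf 0x40d4)) (.node (.leaf 0x1a98) (.leaf 0x631f))) (.node (.node (.leaf 0xb5b) (.leaf 0x4cdd)) (.node (.leaf 0x2268) (.leaf 0x7528)))))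 (.node (.node (.node (.node (.leaf 0x2fbf) (.leaf 0x377a)) (.node (.leaf 0x2019) (.leaf 0x6e85))) (.node (.node (.leaf 0x2e43) (.leaf 0x4900)) (.node (.leaf 0x2006) (.leaf 0x7135)))) (.node (.node (.node (.leaf 0x1b34) (.leaf 0x3d61)) (.node (.leaf 0x17d1) (.leaf 0x68d0))) (.node (.node (.leaf 0x338e) (.leaf 0x5144)) (.node (.leaf 0x5cd7) (.leaf 0x0)))))) (.node (.node (.node (.node (.node (.leaf 0x26b) (.leaf 0x2de1)) (.node (.leaf 0x2f0c) (.leaf 0x5958))) (.node (.node (.leaf 0x4916) (.leaf 0x4725)) (.node (.leaf 0x41fe) (.leaf 0x6f22)))) (.node (.node (.node (.leaf 0x6798) (.leaf 0x3c4e)) (.node (.leaf 0x1652) (.leaf 0x65e9))) (.node (.node (.leaf 0x4a94) (.leaf 0x4e71)) (.node (.leaf 0x4167) (.leaf 0x0))))) (.node (.node (.node (.node (.leaf 0x33b) (.leaf 0x4239)) (.node (.leaf 0x2ef7) (.leaf 0x5f67))) (.node (.node (.leaf 0x34bd) (.leaf 0x4a06)) (.node (.leaf 0x249f) (.leaf 0x747d)))) (.node (.node (.node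 (.leaf 0x2737) (.leaf 0x408f)) (.node (.leaf 0x5614) (.leaf 0x6bd4))) (.node (.node (.leaf 0x63e6) (.leaf 0x5644)) (.node (.leaf 0x5b42) (.leaf 0x0))))))))

/-- Closure. -/
def clo202 : FTree := (.node (.node (.node (.node (.node (.node (.node (.leaf 0x49) (.leaf 0x2bd1)) (.node (.leaf 0x12c3) (.leaf 0x5821))) (.node (.node (.leaf 0x6c6) (.leaf 0x4348)) (.node (.leaf 0x1eec) (.leaf 0x6d14)))) (.node (.node (.node (.leaf 0x7e4) (.leaf 0x37e3)) (.node (.leaf 0x150e) (.leaf 0x6b51))) (.node (.node (.leaf 0xe63) (.leaf 0x4d87)) (.node (.leaf 0x231e) (.leaf 0x76a7))))) (.node (.node (.node (.node (.leaf 0x85a) (.leaf 0x4347)) (.node (.leaf 0x1d93) (.leaf 0x5dab))) (.node (.node (.leaf 0x3a0c) (.leaf 0x48f1)) (.node (.leaf 0x49bd) (.leaf 0x724f)))) (.node (.node (.node (.leaf 0x477) (.leaf 0x3ef8)) (.node (.leaf 0x39e7) (.leaf 0x6980))) (.node (.node (.leaf 0x1d40) (.leaf 0x51df)) (.node (.leaf 0x4dd6) (.leaf 0x0))))))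 (.node (.node (.node (.node (.node (.leaf 0x26f) (.leaf 0x2cc0)) (.node (.leaf 0x5c6b) (.leaf 0x58b6))) (.node (.node (.leaf 0x8c6) (.leaf 0x4592)) (.node (.leaf 0x5b87) (.leaf 0x7024)))) (.node (.node (.node (.leaf 0x3809) (.leaf 0x3bff)) (.node (.leaf 0x162a) (.leaf 0x63e8))) (.node (.node (.leaf 0xc3c) (.leaf 0x5082)) (.node (.leaf 0x28d4) (.leaf 0x0))))) (.node (.node (.node (.node (.leaf 0x632) (.leaf 0x366a)) (.node (.leaf 0x1d5a) (.leaf 0x6139))) (.node (.node (.leaf 0x3b5a) (.leaf 0x49fc)) (.node (.leaf 0x2171) (.leaf 0x7449)))) (.node (.node (.node (.leaf 0x5b8) (.leaf 0x56f8)) (.node (.leaf 0x3c1c) (.leaf 0x6ae5))) (.node (.node (.leaf 0xe44) (.leaf 0x53e2)) (.node (.leaf 0x282f) (.leaf 0x0))))))) (.node (.node (.node (.node (.node (.node (.leaf 0x15b) (.leaf 0x2a3f)) (.node (.leaf 0x1c22) (.leaf 0x57f1))) (.node (.node (.leaf 0xe0a) (.leaf 0x4464)) (.node (.leaf 0x1b0b) (.leaf 0x6d8a)))) (.node (.node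 (.node (.leaf 0x1c95) (.leaf 0x45f7)) (.node (.leaf 0x155d) (.leaf 0x6340))) (.node (.node (.leaf 0x31d5) (.leaf 0x4c52)) (.node (.leaf 0x22c6) (.leaf 0x76fe))))) (.node (.node (.node (.node (.leaf 0x44e) (.leaf 0x312f)) (.node (.leaf 0x2811) (.leaf 0x5ca6))) (.node (.node (.leaf 0x4d90) (.leaf 0x4835)) (.node (.leaf 0x3400) (.leaf 0x7221)))) (.node (.node (.node (.leaf 0x2aa1) (.leaf 0x3df6)) (.node (.leaf 0x1fd4) (.leaf 0x6a06))) (.node (.node (.leaf 0x3ebf) (.leaf 0x52a5)) (.node (.leaf 0x264a) (.leaf 0x0)))))) (.node (.node (.node (.node (.node (.leaf 0x2cd) (.leaf 0x2dca)) (.node (.leaf 0x32b9) (.leaf 0x5a12))) (.node (.node (.leaf 0x716) (.leaf 0x46da)) (.node (.leaf 0x1ea9) (.leaf 0x6f30)))) (.node (.node (.node (.leaf 0x3243) (.leaf 0x3a50)) (.node (.leaf 0x1642) (.leaf 0x656b))) (.node (.node (.leaf 0x359e) (.leaf 0x4ef9)) (.node (.leaf 0x28da) (.leaf 0x0))))) (.node (.node (.node (.node (.leaf 0x5d34)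 (.leaf 0x468d)) (.node (.leaf 0x1432) (.leaf 0x607f))) (.node (.node (.leaf 0x9bb) (.leaf 0x4a03)) (.node (.leaf 0x3db2) (.leaf 0x732b)))) (.node (.node (.node (.leaf 0x1a2c) (.leaf 0x4292)) (.node (.leaf 0x18cd) (.leaf 0x6b97))) (.node (.node (.leaf 0x6e6c) (.leaf 0x5533)) (.node (.leaf 0x27e7) (.leaf 0x0))))))))

/-- Closure. -/
def clo203 : FTree := (.node (.node (.node (.node (.node (.node (.node (.leaf 0x11c) (.leaf 0x2f3e)) (.node (.leaf 0x10ac) (.leaf 0x584f))) (.node (.node (.leaf 0x2bc2) (.leaf 0x4493)) (.node (.leaf 0x6eaf) (.leaf 0x6cbc)))) (.node (.node (.node (.leaf 0x1713) (.leaf 0x399d)) (.node (.leaf 0x1535) (.leaf 0x63bc))) (.node (.node (.leaf 0x189e) (.leaf 0x4d98)) (.node (.leaf 0x53cc) (.leaf 0x7654))))) (.node (.node (.node (.node (.leaf 0x3d9) (.leaf 0x345e)) (.node (.leaf 0x27ff) (.leaf 0x624d))) (.node (.node (.leaf 0x877) (.leaf 0x498c)) (.node (.leaf 0x2010) (.leaf 0x71f5)))) (.node (.node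 (.node (.leaf 0xa51) (.leaf 0x3f38)) (.node (.leaf 0x17d9) (.leaf 0x680c))) (.node (.node (.leaf 0xeb8) (.leaf 0x517f)) (.node (.leaf 0x2539) (.leaf 0x0)))))) (.node (.node (.node (.node (.node (.leaf 0x7c2) (.leaf 0x2fb1)) (.node (.leaf 0x3be6) (.leaf 0x598b))) (.node (.node (.leaf 0x741) (.leaf 0x4637)) (.node (.leaf 0x1e9e) (.leaf 0x70a2)))) (.node (.node (.node (.leaf 0x6e1a) (.leaf 0x3c98)) (.node (.leaf 0x1ad5) (.leaf 0x64d3))) (.node (.node (.leaf 0x6444) (.leaf 0x4e76)) (.node (.leaf 0x2386) (.leaf 0x0))))) (.node (.node (.node (.node (.leaf 0x2980) (.leaf 0x39ea)) (.node (.leaf 0x30cb) (.leaf 0x6004))) (.node (.node (.leaf 0x5cc9) (.leaf 0x4a1a)) (.node (.leaf 0x218a) (.leaf 0x7347)))) (.node (.node (.node (.leaf 0x669d) (.leaf 0x4124)) (.node (.leaf 0x1a17) (.leaf 0x6b39))) (.node (.node (.leaf 0xec2) (.leaf 0x54e5)) (.node (.leaf 0x27dc) (.leaf 0x0))))))) (.node (.node (.node (.node (.node (.node (.leaf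 0x1ed) (.leaf 0x36da)) (.node (.leaf 0xf7b) (.leaf 0x5797))) (.node (.node (.leaf 0x2ecd) (.leaf 0x43f3)) (.node (.leaf 0x1a65) (.leaf 0x6d93)))) (.node (.node (.node (.leaf 0x3d21) (.leaf 0x40d2)) (.node (.leaf 0x1529) (.leaf 0x62b8))) (.node (.node (.leaf 0xb76) (.leaf 0x4c8a)) (.node (.leaf 0x5877) (.leaf 0x760b))))) (.node (.node (.node (.node (.leaf 0x60b) (.leaf 0x33e7)) (.node (.leaf 0x12ee) (.leaf 0x5be2))) (.node (.node (.leaf 0x4c04) (.leaf 0x4934)) (.node (.leaf 0x2005) (.leaf 0x7223)))) (.node (.node (.node (.leaf 0x204a) (.leaf 0x3f98)) (.node (.leaf 0x615a) (.leaf 0x66fc))) (.node (.node (.leaf 0xd8d) (.leaf 0x5632)) (.node (.leaf 0x3537) (.leaf 0x0)))))) (.node (.node (.node (.node (.node (.leaf 0x2b7) (.leaf 0x2eb8)) (.node (.leaf 0x11f0) (.leaf 0x598a))) (.node (.node (.leaf 0x3ca4) (.leaf 0x4c75)) (.node (.leaf 0x1dc5) (.leaf 0x6feb)))) (.node (.node (.node (.leaf 0x29f1) (.leaf 0x4576)) (.node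 (.leaf 0x16cc) (.leaf 0x6412))) (.node (.node (.leaf 0x4a9f) (.leaf 0x4eb5)) (.node (.leaf 0x249c) (.leaf 0x0))))) (.node (.node (.node (.node (.leaf 0x606f) (.leaf 0x53c5)) (.node (.leaf 0x3b10) (.leaf 0x602b))) (.node (.node (.leaf 0x9d7) (.leaf 0x49e6)) (.node (.leaf 0x2f33) (.leaf 0x73b3)))) (.node (.node (.node (.leaf 0x5ee) (.leaf 0x43ed)) (.node (.leaf 0x2c8a) (.leaf 0x6a75))) (.node (.node (.leaf 0x6ae3) (.leaf 0x54f1)) (.node (.leaf 0x27a7) (.leaf 0x0))))))))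

/-- Closure. -/
def clo204 : FTree := (.node (.node (.node (.node (.node (.node (.node (.leaf 0x32) (.leaf 0x2a0d)) (.node (.leaf 0x1c27) (.leaf 0x5816))) (.node (.node (.leaf 0xabb) (.leaf 0x449e)) (.node (.leaf 0x1bd6) (.leaf 0x6d3b)))) (.node (.node (.node (.leaf 0x817) (.leaf 0x3821)) (.node (.leaf 0x1501) (.leaf 0x63bf))) (.node (.node (.leaf 0x3435) (.leaf 0x4e29)) (.node (.leaf 0x2311) (.leaf 0x76f0))))) (.node (.node (.node (.node (.leaf 0x3cca) (.leaf 0x3551)) (.node (.leaf 0x1eca) (.leaf 0x5e30))) (.node (.node (.leaf 0x1667) (.leaf 0x4973)) (.node (.leaf 0x2081) (.leaf 0x728a)))) (.node (.node (.node (.leaf 0x2819) (.leaf 0x3db9)) (.node (.leaf 0x17d5) (.leaf 0x68d9))) (.node (.node (.leaf 0xcdf) (.leaf 0x51c4)) (.node (.leaf 0x2514) (.leaf 0x0)))))) (.node (.node (.node (.node (.node (.leaf 0x2c2) (.leaf 0x2e87)) (.node (.leaf 0x1edb) (.leaf 0x590c))) (.node (.node (.leaf 0x15a3) (.leaf 0x4717)) (.node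 (.leaf 0x1ecf) (.leaf 0x7091)))) (.node (.node (.node (.leaf 0x272e) (.leaf 0x3ace)) (.node (.leaf 0x1f9e) (.leaf 0x6625))) (.node (.node (.leaf 0x612f) (.leaf 0x4f85)) (.node (.leaf 0x247b) (.leaf 0x0))))) (.node (.node (.node (.node (.leaf 0x1b4a) (.leaf 0x3742)) (.node (.leaf 0x133d) (.leaf 0x6120))) (.node (.node (.leaf 0xa2a) (.leaf 0x689b)) (.node (.leaf 0x21a7) (.leaf 0x73ec)))) (.node (.node (.node (.leaf 0x2972) (.leaf 0x41cd)) (.node (.leaf 0x1a16) (.leaf 0x6b08))) (.node (.node (.leaf 0xed5) (.leaf 0x5ca0)) (.node (.leaf 0x27ee) (.leaf 0x0))))))) (.node (.node (.node (.node (.node (.node (.leaf 0x12c) (.leaf 0x2987)) (.node (.leaf 0x3195) (.leaf 0x568c))) (.node (.node (.leaf 0x4e59) (.leaf 0x6c2a)) (.node (.leaf 0x1a6d) (.leaf 0x6e40)))) (.node (.node (.node (.leaf 0x833) (.leaf 0x64c2)) (.node (.leaf 0x14cc) (.leaf 0x6322))) (.node (.node (.leaf 0x2a5c) (.leaf 0x4c72)) (.node (.leaf 0x41de) (.leaf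 0x7581))))) (.node (.node (.node (.node (.leaf 0x582) (.leaf 0x635a)) (.node (.leaf 0x4419) (.leaf 0x5c84))) (.node (.node (.leaf 0x2344) (.leaf 0x47f5)) (.node (.leaf 0x209a) (.leaf 0x7249)))) (.node (.node (.node (.leaf 0x407a) (.leaf 0x3f35)) (.node (.leaf 0x339c) (.leaf 0x688e))) (.node (.node (.leaf 0x433a) (.leaf 0x52e1)) (.node (.leaf 0x4c57) (.leaf 0x0)))))) (.node (.node (.node (.node (.node (.leaf 0xbb4) (.leaf 0x2f83)) (.node (.leaf 0x47e6) (.leaf 0x5a90))) (.node (.node (.leaf 0x5097) (.leaf 0x4624)) (.node (.leaf 0x237f) (.leaf 0x70fc)))) (.node (.node (.node (.leaf 0x68a) (.leaf 0x3ca2)) (.node (.leaf 0x161e) (.leaf 0x6599))) (.node (.node (.leaf 0xc7f) (.leaf 0x55d2)) (.node (.leaf 0x3745) (.leaf 0x0))))) (.node (.node (.node (.node (.leaf 0x3fe) (.leaf 0x365c)) (.node (.leaf 0x2e20) (.leaf 0x6054))) (.node (.node (.leaf 0x289d) (.leaf 0x4aee)) (.node (.leaf 0x211a) (.leaf 0x7360)))) (.node (.node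 (.node (.leaf 0x5e6) (.leaf 0x40ed)) (.node (.leaf 0x507c) (.leaf 0x6c00))) (.node (.node (.leaf 0x27fb) (.leaf 0x534c)) (.node (.leaf 0x2783) (.leaf 0x0))))))))

/-- Closure. -/
def clo205 : FTree := (.node (.node (.node (.node (.node (.node (.node (.leaf 0xa2) (.leaf 0x296f)) (.node (.leaf 0x2a80) (.leaf 0x5881))) (.node (.node (.leaf 0xce7) (.leaf 0x43f9)) (.node (.leaf 0x1c39) (.leaf 0x6ed7)))) (.node (.node (.node (.leaf 0x390) (.leaf 0x5c97)) (.node (.leaf 0x18a9) (.leaf 0x6277))) (.node (.node (.leaf 0x33e1) (.leaf 0x4c6b)) (.node (.leaf 0x22c3) (.leaf 0x752a))))) (.node (.node (.node (.node (.leaf 0x3d7d) (.leaf 0x34f6)) (.node (.leaf 0x1204) (.leaf 0x5af3))) (.node (.node (.leaf 0x3df1) (.leaf 0x47ee)) (.node (.leaf 0x552e) (.leaf 0x71ba)))) (.node (.node (.node (.leaf 0x1d88) (.leaf 0x3d60)) (.node (.leaf 0x4ba2) (.leaf 0x69f2))) (.node (.node (.leaf 0x1957) (.leaf 0x5194)) (.node (.leaf 0x5ddf) (.leaf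 0x0)))))) (.node (.node (.node (.node (.node (.leaf 0x347) (.leaf 0x2cfc)) (.node (.leaf 0x1020) (.leaf 0x58f4))) (.node (.node (.leaf 0xaab) (.leaf 0x455c)) (.node (.leaf 0x324f) (.leaf 0x7108)))) (.node (.node (.node (.leaf 0x5368) (.leaf 0x3a40)) (.node (.leaf 0x16c5) (.leaf 0x66db))) (.node (.node (.leaf 0x29a5) (.leaf 0x4e7f)) (.node (.leaf 0x23d4) (.leaf 0x0))))) (.node (.node (.node (.node (.leaf 0x42cc) (.leaf 0x36a2)) (.node (.leaf 0x1412) (.leaf 0x5f36))) (.node (.node (.leaf 0x946) (.leaf 0x4acf)) (.node (.leaf 0x4f67) (.leaf 0x73c4)))) (.node (.node (.node (.leaf 0x1416) (.leaf 0x41e8)) (.node (.leaf 0x5835) (.leaf 0x6ada))) (.node (.node (.leaf 0x2ab4) (.leaf 0x5478)) (.node (.leaf 0x2f93) (.leaf 0x0))))))) (.node (.node (.node (.node (.node (.node (.leaf 0x19d) (.leaf 0x32f3)) (.node (.leaf 0x2d62) (.leaf 0x56db))) (.node (.node (.leaf 0x5493) (.leaf 0x6902)) (.node (.leaf 0x1bde) (.leaf 0x6c63))))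 (.node (.node (.node (.leaf 0x13ca) (.leaf 0x38b7)) (.node (.leaf 0x18b7) (.leaf 0x61a2))) (.node (.node (.leaf 0xb73) (.leaf 0x4d34)) (.node (.leaf 0x2296) (.leaf 0x7622))))) (.node (.node (.node (.node (.leaf 0x3d7f) (.leaf 0x339a)) (.node (.leaf 0x1280) (.leaf 0x5abb))) (.node (.node (.leaf 0x2dbe) (.leaf 0x48db)) (.node (.leaf 0x558c) (.leaf 0x72d8)))) (.node (.node (.node (.leaf 0x5f0) (.leaf 0x3eb7)) (.node (.leaf 0x1854) (.leaf 0x696b))) (.node (.node (.leaf 0x221d) (.leaf 0x563b)) (.node (.leaf 0x30e2) (.leaf 0x0)))))) (.node (.node (.node (.node (.node (.leaf 0x361) (.leaf 0x44c1)) (.node (.leaf 0x224c) (.leaf 0x5a33))) (.node (.node (.leaf 0x3c56) (.leaf 0x46f6)) (.node (.leaf 0x33a0) (.leaf 0x6f4d)))) (.node (.node (.node (.leaf 0x2749) (.leaf 0x3b24)) (.node (.leaf 0x5eeb) (.leaf 0x656a))) (.node (.node (.leaf 0x3586) (.leaf 0x503f)) (.node (.leaf 0x4f7b) (.leaf 0x0))))) (.node (.node (.node (.node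 (.leaf 0x2993) (.leaf 0x3764)) (.node (.leaf 0x1421) (.leaf 0x60e7))) (.node (.node (.leaf 0x4f35) (.leaf 0x4b92)) (.node (.leaf 0x2f65) (.leaf 0x7433)))) (.node (.node (.node (.leaf 0x5c0) (.leaf 0x5f60)) (.node (.leaf 0x34dc) (.leaf 0x6a28))) (.node (.node (.leaf 0x2b41) (.leaf 0x53a4)) (.node (.leaf 0x36e7) (.leaf 0x0))))))))

/-- Closure. -/
def clo206 : FTree := (.node (.node (.node (.node (.node (.node (.node (.leaf 0x76) (.leaf 0x2ba1)) (.node (.leaf 0x10b6) (.leaf 0x60d8))) (.node (.node (.leaf 0x133f) (.leaf 0x4399)) (.node (.leaf 0x28db) (.leaf 0x6c70)))) (.node (.node (.node (.leaf 0x1716) (.leaf 0x3f19)) (.node (.leaf 0x1aea) (.leaf 0x632b))) (.node (.node (.leaf 0xb2a) (.leaf 0x4d94)) (.node (.leaf 0x54d9) (.leaf 0x75cb))))) (.node (.node (.node (.node (.leaf 0x3a7) (.leaf 0x67a8)) (.node (.leaf 0x12db) (.leaf 0x5b4d))) (.node (.node (.leaf 0x1f2f) (.leaf 0x47fc)) (.node (.leaf 0x202a) (.leaf 0x72e4))))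 (.node (.node (.node (.leaf 0x4067) (.leaf 0x3de4)) (.node (.leaf 0x184f) (.leaf 0x6849))) (.node (.node (.leaf 0xdb0) (.leaf 0x5322)) (.node (.leaf 0x25ed) (.leaf 0x0)))))) (.node (.node (.node (.node (.node (.leaf 0x77f) (.leaf 0x2eba)) (.node (.leaf 0x5c6c) (.leaf 0x5971))) (.node (.node (.leaf 0x1580) (.leaf 0x473d)) (.node (.leaf 0x1ef8) (.leaf 0x70d5)))) (.node (.node (.node (.leaf 0x593) (.leaf 0x3a13)) (.node (.leaf 0x3e6a) (.leaf 0x652c))) (.node (.node (.leaf 0x6446) (.leaf 0x4fc6)) (.node (.leaf 0x41f8) (.leaf 0x0))))) (.node (.node (.node (.node (.leaf 0x6a10) (.leaf 0x35eb)) (.node (.leaf 0x5bee) (.leaf 0x5fea))) (.node (.node (.leaf 0x33d7) (.leaf 0x4a6d)) (.node (.leaf 0x4956) (.leaf 0x747a)))) (.node (.node (.node (.leaf 0x2cbe) (.leaf 0x405d)) (.node (.leaf 0x3468) (.leaf 0x6c25))) (.node (.node (.leaf 0x5349) (.leaf 0x535a)) (.node (.leaf 0x27c7) (.leaf 0x0))))))) (.node (.node (.node (.node (.node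 (.node (.leaf 0x188) (.leaf 0x2bd7)) (.node (.leaf 0x16fe) (.leaf 0x56ed))) (.node (.node (.leaf 0x1ccd) (.leaf 0x658d)) (.node (.leaf 0x1c0b) (.leaf 0x6c67)))) (.node (.node (.node (.leaf 0x464a) (.leaf 0x37dc)) (.node (.leaf 0x1457) (.leaf 0x618f))) (.node (.node (.leaf 0xe24) (.leaf 0x4c59)) (.node (.leaf 0x632c) (.leaf 0x7713))))) (.node (.node (.node (.node (.leaf 0x86e) (.leaf 0x314a)) (.node (.leaf 0x3bec) (.leaf 0x5c5c))) (.node (.node (.leaf 0x16f2) (.leaf 0x4998)) (.node (.leaf 0x2008) (.leaf 0x721a)))) (.node (.node (.node (.leaf 0x1e21) (.leaf 0x4c5f)) (.node (.leaf 0x2353) (.leaf 0x673b))) (.node (.node (.leaf 0x342a) (.leaf 0x528d)) (.node (.leaf 0x25d1) (.leaf 0x0)))))) (.node (.node (.node (.node (.node (.leaf 0xba1) (.leaf 0x2dcb)) (.node (.leaf 0x1057) (.leaf 0x59c2))) (.node (.node (.leaf 0x75d) (.leaf 0x5996)) (.node (.leaf 0x1dd6) (.leaf 0x6f6b)))) (.node (.node (.node (.leaf 0x3f2) (.leaf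 0x3bf4)) (.node (.leaf 0x33eb) (.leaf 0x65f1))) (.node (.node (.leaf 0x6a3c) (.leaf 0x4ecd)) (.node (.leaf 0x32ca) (.leaf 0x0))))) (.node (.node (.node (.node (.leaf 0x226d) (.leaf 0x35ae)) (.node (.leaf 0x1357) (.leaf 0x5f1c))) (.node (.node (.leaf 0xa29) (.leaf 0x4b15)) (.node (.leaf 0x4809) (.leaf 0x73ba)))) (.node (.node (.node (.leaf 0x235f) (.leaf 0x40b9)) (.node (.leaf 0x1909) (.leaf 0x6a51))) (.node (.node (.leaf 0xe75) (.leaf 0x5534)) (.node (.leaf 0x2815) (.leaf 0x0))))))))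

/-- Closure. -/
def clo207 : FTree := (.node (.node (.node (.node (.node (.node (.node (.leaf 0xe7) (.leaf 0x6d3e)) (.node (.leaf 0x50e3) (.leaf 0x56be))) (.node (.node (.leaf 0x4e6d) (.leaf 0x43b5)) (.node (.leaf 0x2876) (.leaf 0x6e08)))) (.node (.node (.node (.leaf 0x2de9) (.leaf 0x37e6)) (.node (.leaf 0x3458) (.leaf 0x6314))) (.node (.node (.leaf 0xafd) (.leaf 0x4c56)) (.node (.leaf 0x2cde) (.leaf 0x7542))))) (.node (.node (.node (.node (.leaf 0x2fdb) (.leaf 0x3382)) (.node (.leaf 0x1e61) (.leaf 0x5dc0))) (.node (.node (.leaf 0x2590) (.leaf 0x4822)) (.node (.leaf 0x1f7d) (.leaf 0x71d5)))) (.node (.node (.node (.leaf 0x3a8d) (.leaf 0x3cf3)) (.node (.leaf 0x17ce) (.leaf 0x6970))) (.node (.node (.leaf 0xd05) (.leaf 0x522a)) (.node (.leaf 0x2904) (.leaf 0x0)))))) (.node (.node (.node (.node (.node (.leaf 0x776) (.leaf 0x2e13)) (.node (.leaf 0x10df) (.leaf 0x59e0))) (.node (.node (.leaf 0x2c43) (.leaf 0x46e4)) (.node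 (.leaf 0x1d3a) (.leaf 0x7011)))) (.node (.node (.node (.leaf 0x382d) (.leaf 0x3b83)) (.node (.leaf 0x1682) (.leaf 0x652d))) (.node (.node (.leaf 0xc2f) (.leaf 0x5093)) (.node (.leaf 0x23a1) (.leaf 0x0))))) (.node (.node (.node (.node (.leaf 0x313f) (.leaf 0x36dc)) (.node (.leaf 0x2b05) (.leaf 0x60fd))) (.node (.node (.leaf 0x44b4) (.leaf 0x4b1c)) (.node (.leaf 0x217a) (.leaf 0x74f7)))) (.node (.node (.node (.leaf 0x6763) (.leaf 0x40b2)) (.node (.leaf 0x18c1) (.leaf 0x6b2c))) (.node (.node (.leaf 0x2b9b) (.leaf 0x53ac)) (.node (.leaf 0x28a7) (.leaf 0x0))))))) (.node (.node (.node (.node (.node (.node (.leaf 0x0) (.leaf 0x0)) (.node (.leaf 0x0) (.leaf 0x0))) (.node (.node (.leaf 0x0) (.leaf 0x0)) (.node (.leaf 0x0) (.leaf 0x0)))) (.node (.node (.node (.leaf 0x0) (.leaf 0x0)) (.node (.leaf 0x0) (.leaf 0x0))) (.node (.node (.leaf 0x0) (.leaf 0x0)) (.node (.leaf 0x0) (.leaf 0x0))))) (.node (.node (.node (.node (.leaf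 0x0) (.leaf 0x0)) (.node (.leaf 0x0) (.leaf 0x0))) (.node (.node (.leaf 0x0) (.leaf 0x0)) (.node (.leaf 0x0) (.leaf 0x0)))) (.node (.node (.node (.leaf 0x0) (.leaf 0x0)) (.node (.leaf 0x0) (.leaf 0x0))) (.node (.node (.leaf 0x0) (.leaf 0x0)) (.node (.leaf 0x0) (.leaf 0x0)))))) (.node (.node (.node (.node (.node (.leaf 0x0) (.leaf 0x0)) (.node (.leaf 0x0) (.leaf 0x0))) (.node (.node (.leaf 0x0) (.leaf 0x0)) (.node (.leaf 0x0) (.leaf 0x0)))) (.node (.node (.node (.leaf 0x0) (.leaf 0x0)) (.node (.leaf 0x0) (.leaf 0x0))) (.node (.node (.leaf 0x0) (.leaf 0x0)) (.node (.leaf 0x0) (.leaf 0x0))))) (.node (.node (.node (.node (.leaf 0x0) (.leaf 0x0)) (.node (.leaf 0x0) (.leaf 0x0))) (.node (.node (.leaf 0x0) (.leaf 0x0)) (.node (.leaf 0x0) (.leaf 0x0)))) (.node (.node (.node (.leaf 0x0) (.leaf 0x0)) (.node (.leaf 0x0) (.leaf 0x0))) (.node (.node (.leaf 0x0) (.leaf 0x0)) (.node (.leaf 0x0) (.leaf 0x0))))))))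

/-- Closure. -/
def clo208 : FTree := (.node (.node (.node (.node (.node (.node (.node (.leaf 0x14) (.leaf 0x2be0)) (.node (.leaf 0xfaa) (.leaf 0x56fc))) (.node (.node (.leaf 0x9da) (.leaf 0x64a8)) (.node (.leaf 0x1bc8) (.leaf 0x6cd8)))) (.node (.node (.node (.leaf 0x849) (.leaf 0x38e1)) (.node (.leaf 0x14cb) (.leaf 0x630c))) (.node (.node (.leaf 0x36a5) (.leaf 0x4c71)) (.node (.leaf 0x23c8) (.leaf 0x755f))))) (.node (.node (.node (.node (.leaf 0x1d4c) (.leaf 0x30f5)) (.node (.leaf 0x31be) (.leaf 0x5d02))) (.node (.node (.leaf 0x8af) (.leaf 0x488a)) (.node (.leaf 0x4bfe) (.leaf 0x72d2)))) (.node (.node (.node (.leaf 0x3fd5) (.leaf 0x3f0b)) (.node (.leaf 0x17d2) (.leaf 0x69ed))) (.node (.node (.leaf 0x31a6) (.leaf 0x531e)) (.node (.leaf 0x2649) (.leaf 0x0)))))) (.node (.node (.node (.node (.node (.leaf 0x4ec) (.leaf 0x2dd4)) (.node (.leaf 0xff0) (.leaf 0x59cb))) (.node (.node (.leaf 0x1acb) (.leaf 0x44fa)) (.node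 (.leaf 0x3c48) (.leaf 0x6f6d)))) (.node (.node (.node (.leaf 0x64f4) (.leaf 0x3b3c)) (.node (.leaf 0x1608) (.leaf 0x665f))) (.node (.node (.leaf 0x617b) (.leaf 0x4ecc)) (.node (.leaf 0x23f4) (.leaf 0x0))))) (.node (.node (.node (.node (.leaf 0x2705) (.leaf 0x35e6)) (.node (.leaf 0x2e1f) (.leaf 0x6049))) (.node (.node (.leaf 0x987) (.leaf 0x49ff)) (.node (.leaf 0x2c16) (.leaf 0x73c7)))) (.node (.node (.node (.leaf 0x601) (.leaf 0x40e1)) (.node (.leaf 0x34db) (.leaf 0x6a29))) (.node (.node (.leaf 0x34c8) (.leaf 0x5649)) (.node (.leaf 0x5af1) (.leaf 0x0))))))) (.node (.node (.node (.node (.node (.node (.leaf 0x104) (.leaf 0x2c57)) (.node (.leaf 0x50ee) (.leaf 0x5677))) (.node (.node (.leaf 0x64d9) (.leaf 0x4457)) (.node (.leaf 0x1b6d) (.leaf 0x6cc8)))) (.node (.node (.node (.leaf 0x37f) (.leaf 0x3c79)) (.node (.leaf 0x4513) (.leaf 0x61e9))) (.node (.node (.leaf 0xb3c) (.leaf 0x4c85)) (.node (.leaf 0x5886) (.leaf 0x762f)))))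 (.node (.node (.node (.node (.leaf 0x2d2d) (.leaf 0x338d)) (.node (.leaf 0x45d5) (.leaf 0x5b90))) (.node (.node (.leaf 0x46bd) (.leaf 0x4870)) (.node (.leaf 0x554f) (.leaf 0x72dd)))) (.node (.node (.node (.leaf 0xa71) (.leaf 0x3e9a)) (.node (.leaf 0x17ed) (.leaf 0x68b1))) (.node (.node (.leaf 0x342e) (.leaf 0x51b5)) (.node (.leaf 0x2571) (.leaf 0x0)))))) (.node (.node (.node (.node (.node (.leaf 0x788) (.leaf 0x5c60)) (.node (.leaf 0x4391) (.leaf 0x590d))) (.node (.node (.leaf 0x3496) (.leaf 0x4638)) (.node (.leaf 0x4278) (.leaf 0x70e4)))) (.node (.node (.node (.leaf 0x3a56) (.leaf 0x3a06)) (.node (.leaf 0x15a4) (.leaf 0x65cc))) (.node (.node (.leaf 0xca5) (.leaf 0x5023)) (.node (.leaf 0x24a7) (.leaf 0x0))))) (.node (.node (.node (.node (.leaf 0xb91) (.leaf 0x59dc)) (.node (.leaf 0x1329) (.leaf 0x5fb3))) (.node (.node (.leaf 0x3394) (.leaf 0x4c12)) (.node (.leaf 0x2202) (.leaf 0x74b3)))) (.node (.node (.node (.leaf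 0x62b) (.leaf 0x4279)) (.node (.leaf 0x346d) (.leaf 0x6c2b))) (.node (.node (.leaf 0x6adc) (.leaf 0x5513)) (.node (.leaf 0x287f) (.leaf 0x0))))))))

/-- Closure. -/
def clo209 : FTree := (.node (.node (.node (.node (.node (.node (.node (.leaf 0x8b) (.leaf 0x2b78)) (.node (.leaf 0x316b) (.leaf 0x57c0))) (.node (.node (.leaf 0x3151) (.leaf 0x43c4)) (.node (.leaf 0x1ae1) (.leaf 0x6e8e)))) (.node (.node (.node (.leaf 0x170d) (.leaf 0x37d9)) (.node (.leaf 0x147f) (.leaf 0x630f))) (.node (.node (.leaf 0x2a2a) (.leaf 0x4d38)) (.node (.leaf 0x2397) (.leaf 0x7693))))) (.node (.node (.node (.node (.leaf 0x294e) (.leaf 0x326f)) (.node (.leaf 0x116d) (.leaf 0x5def))) (.node (.node (.leaf 0x3d43) (.leaf 0x47da)) (.node (.leaf 0x203c) (.leaf 0x72a3)))) (.node (.node (.node (.leaf 0x2866) (.leaf 0x3fa9)) (.node (.leaf 0x1bcb) (.leaf 0x68e0))) (.node (.node (.leaf 0xd4f) (.leaf 0x52e6)) (.node (.leaf 0x262b) (.leaf 0x0)))))) (.node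 (.node (.node (.node (.node (.leaf 0x2ba) (.leaf 0x2da9)) (.node (.leaf 0x1c5d) (.leaf 0x5a78))) (.node (.node (.leaf 0x2569) (.leaf 0x45ae)) (.node (.leaf 0x1d9f) (.leaf 0x6f8f)))) (.node (.node (.node (.leaf 0x642) (.leaf 0x3b43)) (.node (.leaf 0x1632) (.leaf 0x6686))) (.node (.node (.leaf 0x616b) (.leaf 0x4eb7)) (.node (.leaf 0x235a) (.leaf 0x0))))) (.node (.node (.node (.node (.leaf 0x3cf) (.leaf 0x372a)) (.node (.leaf 0x5beb) (.leaf 0x5fec))) (.node (.node (.leaf 0x951) (.leaf 0x68cc)) (.node (.leaf 0x2144) (.leaf 0x735d)))) (.node (.node (.node (.leaf 0x5ed) (.leaf 0x4231)) (.node (.leaf 0x52ac) (.leaf 0x6ade))) (.node (.node (.leaf 0xe6b) (.leaf 0x536c)) (.node (.leaf 0x4d0a) (.leaf 0x0))))))) (.node (.node (.node (.node (.node (.node (.leaf 0x1cc) (.leaf 0x6768)) (.node (.leaf 0x31f1) (.leaf 0x57c1))) (.node (.node (.leaf 0x1004) (.leaf 0x42fe)) (.node (.leaf 0x1ac5) (.leaf 0x6e10)))) (.node (.node (.node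 (.leaf 0x540) (.leaf 0x391c)) (.node (.leaf 0x1e0d) (.leaf 0x63d9))) (.node (.node (.leaf 0x1b52) (.leaf 0x4d6d)) (.node (.leaf 0x41d6) (.leaf 0x767b))))) (.node (.node (.node (.node (.leaf 0x2332) (.leaf 0x55c9)) (.node (.leaf 0x1990) (.leaf 0x5b12))) (.node (.node (.leaf 0x9f2) (.leaf 0x47e8)) (.node (.leaf 0x2210) (.leaf 0x71e1)))) (.node (.node (.node (.leaf 0x6c9) (.leaf 0x3e04)) (.node (.leaf 0x183d) (.leaf 0x693e))) (.node (.node (.leaf 0x2b64) (.leaf 0x51c7)) (.node (.leaf 0x43b0) (.leaf 0x0)))))) (.node (.node (.node (.node (.node (.leaf 0x7c3) (.leaf 0x2f11)) (.node (.leaf 0x3f20) (.leaf 0x599e))) (.node (.node (.leaf 0x3923) (.leaf 0x457c)) (.node (.leaf 0x1dfd) (.leaf 0x70d2)))) (.node (.node (.node (.leaf 0x235d) (.leaf 0x3a35)) (.node (.leaf 0x164d) (.leaf 0x64ec))) (.node (.node (.leaf 0x304c) (.leaf 0x4ea0)) (.node (.leaf 0x2469) (.leaf 0x0))))) (.node (.node (.node (.node (.leaf 0xb12) (.leaf 0x362c))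 (.node (.leaf 0x2796) (.leaf 0x60c1))) (.node (.node (.leaf 0x93f) (.leaf 0x4ade)) (.node (.leaf 0x2121) (.leaf 0x737c)))) (.node (.node (.node (.leaf 0x4f9e) (.leaf 0x5a35)) (.node (.leaf 0x1bf8) (.leaf 0x6b58))) (.node (.node (.leaf 0x433d) (.leaf 0x5470)) (.node (.leaf 0x2822) (.leaf 0x0))))))))

/-- Closure. -/
def clo210 : FTree := (.node (.node (.node (.node (.node (.node (.node (.leaf 0x36) (.leaf 0x6580)) (.node (.leaf 0x3164) (.leaf 0x5839))) (.node (.node (.leaf 0x9bf) (.leaf 0x4402)) (.node (.leaf 0x343b) (.leaf 0x6cdb)))) (.node (.node (.node (.leaf 0x1718) (.leaf 0x386a)) (.node (.leaf 0x4be4) (.leaf 0x63dc))) (.node (.node (.leaf 0x1b55) (.leaf 0x4e01)) (.node (.leaf 0x2290) (.leaf 0x76a8))))) (.node (.node (.node (.node (.leaf 0x435) (.leaf 0x5683)) (.node (.leaf 0x1e36) (.leaf 0x663b))) (.node (.node (.leaf 0x258f) (.leaf 0x47a6)) (.node (.leaf 0x49bb) (.leaf 0x7174)))) (.node (.node (.node (.leaf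 0x4008) (.leaf 0x3f56)) (.node (.leaf 0x1806) (.leaf 0x6721))) (.node (.node (.leaf 0x3129) (.leaf 0x526c)) (.node (.leaf 0x252b) (.leaf 0x0)))))) (.node (.node (.node (.node (.node (.leaf 0x2f0) (.leaf 0x2ef9)) (.node (.leaf 0x10c3) (.leaf 0x5a17))) (.node (.node (.leaf 0x1247) (.leaf 0x459b)) (.node (.leaf 0x355f) (.leaf 0x7099)))) (.node (.node (.node (.leaf 0x6d9) (.leaf 0x3a6c)) (.node (.leaf 0x166e) (.leaf 0x6417))) (.node (.node (.leaf 0xc3a) (.leaf 0x4f5a)) (.node (.leaf 0x23f1) (.leaf 0x0))))) (.node (.node (.node (.node (.leaf 0x297d) (.leaf 0x38a1)) (.node (.leaf 0x1590) (.leaf 0x6126))) (.node (.node (.leaf 0x1b9e) (.leaf 0x4b98)) (.node (.leaf 0x2101) (.leaf 0x7420)))) (.node (.node (.node (.leaf 0x270e) (.leaf 0x4062)) (.node (.leaf 0x19b3) (.leaf 0x6a48))) (.node (.node (.leaf 0x34c1) (.leaf 0x5357)) (.node (.leaf 0x28b3) (.leaf 0x0))))))) (.node (.node (.node (.node (.node (.node (.leaf 0x1c9) (.leaf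 0x2bb8)) (.node (.leaf 0x50db) (.leaf 0x583c))) (.node (.node (.leaf 0x60c2) (.leaf 0x4331)) (.node (.leaf 0x1bc3) (.leaf 0x6d92)))) (.node (.node (.node (.leaf 0x835) (.leaf 0x3920)) (.node (.leaf 0x3449) (.leaf 0x6241))) (.node (.node (.leaf 0x1265) (.leaf 0x4d23)) (.node (.leaf 0x662d) (.leaf 0x7547))))) (.node (.node (.node (.node (.leaf 0x49ca) (.leaf 0x6695)) (.node (.leaf 0x114b) (.leaf 0x5bba))) (.node (.node (.leaf 0x3249) (.leaf 0x4877)) (.node (.leaf 0x3509) (.leaf 0x7303)))) (.node (.node (.node (.leaf 0x5ac7) (.leaf 0x3d2f)) (.node (.leaf 0x179c) (.leaf 0x66d1))) (.node (.node (.leaf 0x5cf3) (.leaf 0x528f)) (.node (.leaf 0x3134) (.leaf 0x0)))))) (.node (.node (.node (.node (.node (.leaf 0x7ad) (.leaf 0x2e70)) (.node (.leaf 0xfce) (.leaf 0x5911))) (.node (.node (.leaf 0xb5a) (.leaf 0x69b4)) (.node (.leaf 0x1db5) (.leaf 0x7114)))) (.node (.node (.node (.leaf 0x3671) (.leaf 0x41eb)) (.node (.leaf 0x167f)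 (.leaf 0x646a))) (.node (.node (.leaf 0x305b) (.leaf 0x5092)) (.node (.leaf 0x240b) (.leaf 0x0))))) (.node (.node (.node (.node (.leaf 0x30e6) (.leaf 0x3752)) (.node (.leaf 0x1347) (.leaf 0x5fcf))) (.node (.node (.leaf 0x4001) (.leaf 0x68a1)) (.node (.leaf 0x21ac) (.leaf 0x74f6)))) (.node (.node (.node (.leaf 0xaf6) (.leaf 0x40fc)) (.node (.leaf 0x2c1f) (.leaf 0x6b45))) (.node (.node (.leaf 0x287c) (.leaf 0x54fa)) (.node (.leaf 0x3a3b) (.leaf 0x0))))))))

/-- Closure. -/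
def clo211 : FTree := (.node (.node (.node (.node (.node (.node (.node (.leaf 0xb3) (.leaf 0x297a)) (.node (.leaf 0xf2e) (.leaf 0x5696))) (.node (.node (.leaf 0x2a0a) (.leaf 0x42c2)) (.node (.leaf 0x561b) (.leaf 0x6cf9)))) (.node (.node (.node (.leaf 0x2df6) (.leaf 0x3872)) (.node (.leaf 0x3297) (.leaf 0x62d0))) (.node (.node (.leaf 0x3aeb) (.leaf 0x4c2e)) (.node (.leaf 0x30a0) (.leaf 0x7710))))) (.node (.node (.node (.node (.leaf 0x5148) (.leaf 0x53a1)) (.node (.leaf 0x114e) (.leaf 0x5e13))) (.node (.node (.leaf 0x112d) (.leaf 0x47f9)) (.node (.leaf 0x2206) (.leaf 0x72eb)))) (.node (.node (.node (.leaf 0xaa8) (.leaf 0x3ec2)) (.node (.leaf 0x1c07) (.leaf 0x66f3))) (.node (.node (.leaf 0x312a) (.leaf 0x52fb)) (.node (.leaf 0x25d0) (.leaf 0x0)))))) (.node (.node (.node (.node (.node (.leaf 0x25b) (.leaf 0x2f64)) (.node (.leaf 0x10c2) (.leaf 0x58e4))) (.node (.node (.leaf 0x680b) (.leaf 0x4596)) (.node (.leaf 0x3f46)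 (.leaf 0x7093)))) (.node (.node (.node (.leaf 0x2a4e) (.leaf 0x3a45)) (.node (.leaf 0x1675) (.leaf 0x67b2))) (.node (.node (.leaf 0xc65) (.leaf 0x4f6f)) (.node (.leaf 0x402c) (.leaf 0x0))))) (.node (.node (.node (.node (.leaf 0x5bc1) (.leaf 0x35a5)) (.node (.leaf 0x6886) (.leaf 0x5f4c))) (.node (.node (.leaf 0x4358) (.leaf 0x4b05)) (.node (.leaf 0x219c) (.leaf 0x743c)))) (.node (.node (.node (.leaf 0x4fa6) (.leaf 0x4175)) (.node (.leaf 0x34da) (.leaf 0x6a8b))) (.node (.node (.leaf 0x6665) (.leaf 0x55e3)) (.node (.leaf 0x3f2e) (.leaf 0x0))))))) (.node (.node (.node (.node (.node (.node (.leaf 0x1d5) (.leaf 0x2c54)) (.node (.leaf 0x50e2) (.leaf 0x579c))) (.node (.node (.leaf 0x89b) (.leaf 0x5028)) (.node (.leaf 0x2a57) (.leaf 0x6c6f)))) (.node (.node (.node (.leaf 0x844) (.leaf 0x37f9)) (.node (.leaf 0x14c0) (.leaf 0x634d))) (.node (.node (.leaf 0xac3) (.leaf 0x4e1b)) (.node (.leaf 0x2278) (.leaf 0x75f3))))) (.node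 (.node (.node (.node (.leaf 0x3ac) (.leaf 0x3241)) (.node (.leaf 0x1290) (.leaf 0x5af8))) (.node (.node (.leaf 0x892) (.leaf 0x490f)) (.node (.leaf 0x1f60) (.leaf 0x7275)))) (.node (.node (.node (.leaf 0xb41) (.leaf 0x3e07)) (.node (.leaf 0x3341) (.leaf 0x69e1))) (.node (.node (.leaf 0x1b06) (.leaf 0x52c2)) (.node (.leaf 0x5105) (.leaf 0x0)))))) (.node (.node (.node (.node (.node (.leaf 0x785) (.leaf 0x2d54)) (.node (.leaf 0x2798) (.leaf 0x5a9a))) (.node (.node (.leaf 0x11c1) (.leaf 0x4739)) (.node (.leaf 0x1e6a) (.leaf 0x7043)))) (.node (.node (.node (.leaf 0x5d0) (.leaf 0x3a15)) (.node (.leaf 0x3c9b) (.leaf 0x664e))) (.node (.node (.leaf 0x3074) (.leaf 0x5004)) (.node (.leaf 0x24ee) (.leaf 0x0))))) (.node (.node (.node (.node (.leaf 0x4fb1) (.leaf 0x366c)) (.node (.leaf 0x135c) (.leaf 0x5f76))) (.node (.node (.leaf 0x34f3) (.leaf 0x4abc)) (.node (.leaf 0x2225) (.leaf 0x7487)))) (.node (.node (.node (.leaf 0xacc)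 (.leaf 0x40f8)) (.node (.leaf 0x3486) (.leaf 0x6c22))) (.node (.node (.leaf 0xdcf) (.leaf 0x5522)) (.node (.leaf 0x2b66) (.leaf 0x0))))))))

/-- Closure. -/
def clo212 : FTree := (.node (.node (.node (.node (.node (.node (.node (.leaf 0x2e) (.leaf 0x2b48)) (.node (.leaf 0xf7c) (.leaf 0x57b0))) (.node (.node (.leaf 0xe2d) (.leaf 0x5bb1)) (.node (.leaf 0x5e3e) (.leaf 0x6cb5)))) (.node (.node (.node (.leaf 0x1711) (.leaf 0x3910)) (.node (.leaf 0x15fd) (.leaf 0x651d))) (.node (.node (.leaf 0x5d81) (.leaf 0x4e24)) (.node (.leaf 0x22da) (.leaf 0x7703))))) (.node (.node (.node (.node (.leaf 0x44d) (.leaf 0x3381)) (.node (.leaf 0x2895) (.leaf 0x5b79))) (.node (.node (.leaf 0x3a05) (.leaf 0x499a)) (.node (.leaf 0x254b) (.leaf 0x716f)))) (.node (.node (.node (.leaf 0x67a6) (.leaf 0x3f78)) (.node (.leaf 0x178d) (.leaf 0x68ec))) (.node (.node (.leaf 0xd1c) (.leaf 0x51f0)) (.node (.leaf 0x25f8) (.leaf 0x0)))))) (.node (.node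 (.node (.node (.node (.leaf 0x2b9) (.leaf 0x693f)) (.node (.leaf 0x1103) (.leaf 0x5a15))) (.node (.node (.leaf 0x48dc) (.leaf 0x4691)) (.node (.leaf 0x1cd7) (.leaf 0x70bf)))) (.node (.node (.node (.leaf 0x6cb) (.leaf 0x3c8c)) (.node (.leaf 0x15b3) (.leaf 0x6552))) (.node (.node (.leaf 0xc40) (.leaf 0x5c67)) (.node (.leaf 0x63b4) (.leaf 0x0))))) (.node (.node (.node (.node (.leaf 0x3d3) (.leaf 0x38a0)) (.node (.leaf 0x133e) (.leaf 0x6097))) (.node (.node (.leaf 0x1771) (.leaf 0x4b3c)) (.node (.leaf 0x218d) (.leaf 0x74c0)))) (.node (.node (.node (.leaf 0x1d61) (.leaf 0x40de)) (.node (.leaf 0x192a) (.leaf 0x6a52))) (.node (.node (.leaf 0xe51) (.leaf 0x53e9)) (.node (.leaf 0x282b) (.leaf 0x0))))))) (.node (.node (.node (.node (.node (.node (.leaf 0x147) (.leaf 0x2b29)) (.node (.leaf 0x5d8b) (.leaf 0x5670))) (.node (.node (.leaf 0x6d6b) (.leaf 0x65bf)) (.node (.leaf 0x1b0e) (.leaf 0x6dd8)))) (.node (.node (.node (.leaf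 0x13cd) (.leaf 0x3828)) (.node (.leaf 0x1452) (.leaf 0x61aa))) (.node (.node (.leaf 0xa61) (.leaf 0x4c9c)) (.node (.leaf 0x4a61) (.leaf 0x76bd))))) (.node (.node (.node (.node (.leaf 0x2d21) (.leaf 0x53dd)) (.node (.leaf 0x2729) (.leaf 0x5ade))) (.node (.node (.leaf 0x5e77) (.leaf 0x4875)) (.node (.leaf 0x558d) (.leaf 0x7197)))) (.node (.node (.node (.leaf 0x2b35) (.leaf 0x3f10)) (.node (.leaf 0x20a8) (.leaf 0x68bf))) (.node (.node (.leaf 0x182d) (.leaf 0x518f)) (.node (.leaf 0x5f94) (.leaf 0x0)))))) (.node (.node (.node (.node (.node (.leaf 0x222) (.leaf 0x2e53)) (.node (.leaf 0x2090) (.leaf 0x5a62))) (.node (.node (.leaf 0xab3) (.leaf 0x46c7)) (.node (.leaf 0x1dec) (.leaf 0x70ea)))) (.node (.node (.node (.leaf 0x8c2) (.leaf 0x3a4e)) (.node (.leaf 0x15b2) (.leaf 0x65fa))) (.node (.node (.leaf 0x303f) (.leaf 0x4f1f)) (.node (.leaf 0x2434) (.leaf 0x0))))) (.node (.node (.node (.node (.leaf 0x1768) (.leaf 0x36cb))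 (.node (.leaf 0x1411) (.leaf 0x5f2b))) (.node (.node (.leaf 0x931) (.leaf 0x4b51)) (.node (.leaf 0x2f31) (.leaf 0x73cb)))) (.node (.node (.node (.leaf 0xb01) (.leaf 0x3fef)) (.node (.leaf 0x1b5c) (.leaf 0x6a98))) (.node (.node (.leaf 0x68cf) (.leaf 0x556e)) (.node (.leaf 0x2848) (.leaf 0x0))))))))

/-- Closure. -/
def clo213 : FTree := (.node (.node (.node (.node (.node (.node (.node (.leaf 0xb9) (.leaf 0x2c7d)) (.node (.leaf 0x10c1) (.leaf 0x5869))) (.node (.node (.leaf 0x4ff3) (.leaf 0x43c9)) (.node (.leaf 0x1c3f) (.leaf 0x6ca0)))) (.node (.node (.node (.leaf 0x465a) (.leaf 0x3921)) (.node (.leaf 0x1570) (.leaf 0x63c4))) (.node (.node (.leaf 0x1de6) (.leaf 0x4cab)) (.node (.leaf 0x632f) (.leaf 0x75b3))))) (.node (.node (.node (.node (.leaf 0x655) (.leaf 0x4116)) (.node (.leaf 0x124f) (.leaf 0x615f))) (.node (.node (.leaf 0x10c9) (.leaf 0x4828)) (.node (.leaf 0x2c60) (.leaf 0x724d)))) (.node (.node (.node (.leaf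 0x4a4) (.leaf 0x3f5c)) (.node (.leaf 0x17ca) (.leaf 0x6797))) (.node (.node (.leaf 0x1b05) (.leaf 0x52bd)) (.node (.leaf 0x49a6) (.leaf 0x0)))))) (.node (.node (.node (.node (.node (.leaf 0x7aa) (.leaf 0x2d02)) (.node (.leaf 0x1008) (.leaf 0x59b4))) (.node (.node (.leaf 0x719) (.leaf 0x6790)) (.node (.leaf 0x1eb9) (.leaf 0x6f79)))) (.node (.node (.node (.leaf 0x5a4) (.leaf 0x3c68)) (.node (.leaf 0x16aa) (.leaf 0x653b))) (.node (.node (.leaf 0x3083) (.leaf 0x4f3b)) (.node (.leaf 0x3c3e) (.leaf 0x0))))) (.node (.node (.node (.node (.leaf 0x5c8f) (.leaf 0x3762)) (.node (.leaf 0x66b0) (.leaf 0x6121))) (.node (.node (.leaf 0x3507) (.leaf 0x4bab)) (.node (.leaf 0x21c6) (.leaf 0x7411)))) (.node (.node (.node (.leaf 0x651) (.leaf 0x4125)) (.node (.leaf 0x1a18) (.leaf 0x6b9a))) (.node (.node (.leaf 0x55bb) (.leaf 0x53af)) (.node (.leaf 0x277e) (.leaf 0x0))))))) (.node (.node (.node (.node (.node (.node (.leaf 0x195) (.leaf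 0x2acc)) (.node (.leaf 0x318e) (.leaf 0x5855))) (.node (.node (.leaf 0x27a9) (.leaf 0x4382)) (.node (.leaf 0x1b40) (.leaf 0x6d38)))) (.node (.node (.node (.leaf 0x820) (.leaf 0x37c7)) (.node (.leaf 0x1490) (.leaf 0x651c))) (.node (.node (.leaf 0x3219) (.leaf 0x4df3)) (.node (.leaf 0x2ce5) (.leaf 0x76b1))))) (.node (.node (.node (.node (.leaf 0x1c6e) (.leaf 0x3346)) (.node (.leaf 0x125e) (.leaf 0x6934))) (.node (.node (.leaf 0x88a) (.leaf 0x489e)) (.node (.leaf 0x1fd2) (.leaf 0x718a)))) (.node (.node (.node (.leaf 0xa5f) (.leaf 0x3dfd)) (.node (.leaf 0x2a21) (.leaf 0x6711))) (.node (.node (.leaf 0xd36) (.leaf 0x5286)) (.node (.leaf 0x2500) (.leaf 0x0)))))) (.node (.node (.node (.node (.node (.leaf 0xbc1) (.leaf 0x2f7c)) (.node (.leaf 0x108b) (.leaf 0x591e))) (.node (.node (.leaf 0x755) (.leaf 0x45df)) (.node (.leaf 0x3022) (.leaf 0x6f56)))) (.node (.node (.node (.leaf 0x3a4a) (.leaf 0x3a6f)) (.node (.leaf 0x1ada)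 (.leaf 0x64cc))) (.node (.node (.leaf 0x6a38) (.leaf 0x4fe2)) (.node (.leaf 0x32c9) (.leaf 0x0))))) (.node (.node (.node (.node (.leaf 0x3fa) (.leaf 0x3d88)) (.node (.leaf 0x5006) (.leaf 0x60a3))) (.node (.node (.leaf 0x2086) (.leaf 0x4b6c)) (.node (.leaf 0x21a4) (.leaf 0x7510)))) (.node (.node (.node (.leaf 0x59e) (.leaf 0x4056)) (.node (.leaf 0x19bf) (.leaf 0x6ac9))) (.node (.node (.leaf 0x317d) (.leaf 0x5347)) (.node (.leaf 0x2940) (.leaf 0x0))))))))

/-- Closure. -/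
def clo214 : FTree := (.node (.node (.node (.node (.node (.node (.node (.leaf 0x6c) (.leaf 0x2c84)) (.node (.leaf 0x2604) (.leaf 0x567c))) (.node (.node (.leaf 0x743) (.leaf 0x4450)) (.node (.leaf 0x1b03) (.leaf 0x6e4f)))) (.node (.node (.node (.leaf 0x2de5) (.leaf 0x388e)) (.node (.leaf 0x1502) (.leaf 0x6240))) (.node (.node (.leaf 0x642c) (.leaf 0x4d5b)) (.node (.leaf 0x22de) (.leaf 0x7619))))) (.node (.node (.node (.node (.leaf 0x65e) (.leaf 0x3508)) (.node (.leaf 0x3b80) (.leaf 0x5e6a))) (.node (.node (.leaf 0x8a5) (.leaf 0x49be)) (.node (.leaf 0x2066) (.leaf 0x71c7)))) (.node (.node (.node (.leaf 0x468) (.leaf 0x3eb6)) (.node (.leaf 0x2579) (.leaf 0x695e))) (.node (.node (.leaf 0x188f) (.leaf 0x51f6)) (.node (.leaf 0x2576) (.leaf 0x0)))))) (.node (.node (.node (.node (.node (.leaf 0xedf) (.leaf 0x2d0f)) (.node (.leaf 0x2c7a) (.leaf 0x5a6e))) (.node (.node (.leaf 0x48e3) (.leaf 0x44f5)) (.node (.leaf 0x2384)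 (.leaf 0x70df)))) (.node (.node (.node (.leaf 0x482) (.leaf 0x3bfc)) (.node (.leaf 0x1fa5) (.leaf 0x6578))) (.node (.node (.leaf 0x3081) (.leaf 0x4fda)) (.node (.leaf 0x23c5) (.leaf 0x0))))) (.node (.node (.node (.node (.leaf 0x649) (.leaf 0x37d1)) (.node (.leaf 0x2e35) (.leaf 0x5f10))) (.node (.node (.leaf 0x3344) (.leaf 0x5eaa)) (.node (.leaf 0x4260) (.leaf 0x741c)))) (.node (.node (.node (.leaf 0x18e1) (.leaf 0x46eb)) (.node (.leaf 0x2c25) (.leaf 0x6b48))) (.node (.node (.leaf 0x6239) (.leaf 0x55e5)) (.node (.leaf 0x6098) (.leaf 0x0))))))) (.node (.node (.node (.node (.node (.node (.leaf 0x100) (.leaf 0x2b0f)) (.node (.leaf 0xf35) (.leaf 0x5e37))) (.node (.node (.leaf 0x975) (.leaf 0x65c0)) (.node (.leaf 0x1b72) (.leaf 0x6ca6)))) (.node (.node (.node (.leaf 0x13c4) (.leaf 0x670a)) (.node (.leaf 0x1456) (.leaf 0x6343))) (.node (.node (.leaf 0x3143) (.leaf 0x4de1)) (.node (.leaf 0x22d0) (.leaf 0x75b9))))) (.node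 (.node (.node (.node (.leaf 0x3b2) (.leaf 0x3333)) (.node (.leaf 0x11f5) (.leaf 0x60eb))) (.node (.node (.leaf 0x9f0) (.leaf 0x48c0)) (.node (.leaf 0x2076) (.leaf 0x7205)))) (.node (.node (.node (.leaf 0x2ec8) (.leaf 0x3eaa)) (.node (.leaf 0x1837) (.leaf 0x6936))) (.node (.node (.leaf 0xd1f) (.leaf 0x5193)) (.node (.leaf 0x25e3) (.leaf 0x0)))))) (.node (.node (.node (.node (.node (.leaf 0x22f) (.leaf 0x5b21)) (.node (.leaf 0x3a46) (.leaf 0x5920))) (.node (.node (.leaf 0x32c3) (.leaf 0x4561)) (.node (.leaf 0x3cd8) (.leaf 0x70ff)))) (.node (.node (.node (.leaf 0x4e41) (.leaf 0x3abb)) (.node (.leaf 0x166d) (.leaf 0x650e))) (.node (.node (.leaf 0x3050) (.leaf 0x6209)) (.node (.leaf 0x24c4) (.leaf 0x0))))) (.node (.node (.node (.node (.leaf 0x3104) (.leaf 0x67ff)) (.node (.leaf 0x4a33) (.leaf 0x6068))) (.node (.node (.leaf 0x8e2) (.leaf 0x4abf)) (.node (.leaf 0x3417) (.leaf 0x7367)))) (.node (.node (.node (.leaf 0x116f)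 (.leaf 0x40a7)) (.node (.leaf 0x398e) (.leaf 0x6a2d))) (.node (.node (.leaf 0x60bc) (.leaf 0x55c7)) (.node (.leaf 0x26e8) (.leaf 0x0))))))))

/-- Closure. -/
def clo215 : FTree := (.node (.node (.node (.node (.node (.node (.node (.leaf 0xce) (.leaf 0x6c38)) (.node (.leaf 0xfa4) (.leaf 0x582f))) (.node (.node (.leaf 0x4ff1) (.leaf 0x4f8b)) (.node (.leaf 0x1afa) (.leaf 0x6dca)))) (.node (.node (.node (.leaf 0x13ef) (.leaf 0x3862)) (.node (.leaf 0x1465) (.leaf 0x6356))) (.node (.node (.leaf 0xac6) (.leaf 0x4e1e)) (.node (.leaf 0x22ee) (.leaf 0x763c))))) (.node (.node (.node (.node (.leaf 0xa93) (.leaf 0x346b)) (.node (.leaf 0x1237) (.leaf 0x615e))) (.node (.node (.leaf 0x4208) (.leaf 0x4978)) (.node (.leaf 0x1fbd) (.leaf 0x72d9)))) (.node (.node (.node (.leaf 0x1de0) (.leaf 0x3cf0)) (.node (.leaf 0x1823) (.leaf 0x6975))) (.node (.node (.leaf 0xd5d) (.leaf 0x521a)) (.node (.leaf 0x266f) (.leaf 0x0)))))) (.node (.node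 (.node (.node (.node (.leaf 0x4c2) (.leaf 0x2d0b)) (.node (.leaf 0x3366) (.leaf 0x59f3))) (.node (.node (.leaf 0x50b2) (.leaf 0x46c6)) (.node (.leaf 0x5e69) (.leaf 0x6ff2)))) (.node (.node (.node (.leaf 0x47d) (.leaf 0x3b8b)) (.node (.leaf 0x16e7) (.leaf 0x66e2))) (.node (.node (.leaf 0xc62) (.leaf 0x5027)) (.node (.leaf 0x24f3) (.leaf 0x0))))) (.node (.node (.node (.node (.leaf 0x2fea) (.leaf 0x36d3)) (.node (.leaf 0x5bf7) (.leaf 0x60bb))) (.node (.node (.leaf 0x115f) (.leaf 0x4aef)) (.node (.leaf 0x5d49) (.leaf 0x73e6)))) (.node (.node (.node (.leaf 0x1d0b) (.leaf 0x40db)) (.node (.leaf 0x19b9) (.leaf 0x6aa1))) (.node (.node (.leaf 0x62eb) (.leaf 0x53f3)) (.node (.leaf 0x286a) (.leaf 0x0))))))) (.node (.node (.node (.node (.node (.node (.leaf 0x1fc) (.leaf 0x390e)) (.node (.leaf 0xfa7) (.leaf 0x5e35))) (.node (.node (.leaf 0x976) (.leaf 0x4488)) (.node (.leaf 0x1c3b) (.leaf 0x6ceb)))) (.node (.node (.node (.leaf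 0x3cf7) (.leaf 0x64c3)) (.node (.leaf 0x6d59) (.leaf 0x61dd))) (.node (.node (.leaf 0x3bfa) (.leaf 0x5ebd)) (.node (.leaf 0x22dc) (.leaf 0x76c0))))) (.node (.node (.node (.node (.leaf 0x1c63) (.leaf 0x4c23)) (.node (.leaf 0x126f) (.leaf 0x60ea))) (.node (.node (.leaf 0x12d3) (.leaf 0x4914)) (.node (.leaf 0x2c65) (.leaf 0x72c2)))) (.node (.node (.node (.leaf 0x49b) (.leaf 0x3dce)) (.node (.leaf 0x17a6) (.leaf 0x671b))) (.node (.node (.leaf 0xd15) (.leaf 0x5268)) (.node (.leaf 0x2651) (.leaf 0x0)))))) (.node (.node (.node (.node (.node (.leaf 0x4e2) (.leaf 0x2e72)) (.node (.leaf 0x4c68) (.leaf 0x5939))) (.node (.node (.leaf 0x123c) (.leaf 0x46f9)) (.node (.leaf 0x1e7b) (.leaf 0x6f36)))) (.node (.node (.node (.leaf 0x5b47) (.leaf 0x3af9)) (.node (.leaf 0x16c2) (.leaf 0x6536))) (.node (.node (.leaf 0xcb8) (.leaf 0x5051)) (.node (.leaf 0x511a) (.leaf 0x0))))) (.node (.node (.node (.node (.leaf 0x542d) (.leaf 0x3743))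 (.node (.leaf 0x2f03) (.leaf 0x60f5))) (.node (.node (.leaf 0xdda) (.leaf 0x6cca)) (.node (.leaf 0x215d) (.leaf 0x742c)))) (.node (.node (.node (.leaf 0x22c1) (.leaf 0x41a2)) (.node (.leaf 0x5610) (.leaf 0x6b7e))) (.node (.node (.leaf 0x6968) (.leaf 0x5c54)) (.node (.leaf 0x27ec) (.leaf 0x0))))))))

/-- Closure. -/
def clo216 : FTree := (.node (.node (.node (.node (.node (.node (.node (.leaf 0x29) (.leaf 0x4170)) (.node (.leaf 0xf44) (.leaf 0x56ee))) (.node (.node (.leaf 0x639) (.leaf 0x43ee)) (.node (.leaf 0x1a44) (.leaf 0x6dd9)))) (.node (.node (.node (.leaf 0x13b8) (.leaf 0x3796)) (.node (.leaf 0x1555) (.leaf 0x6270))) (.node (.node (.leaf 0xafb) (.leaf 0x4da4)) (.node (.leaf 0x53c9) (.leaf 0x76fd))))) (.node (.node (.node (.node (.leaf 0x36c) (.leaf 0x31d1)) (.node (.leaf 0x46a5) (.leaf 0x5cfd))) (.node (.node (.leaf 0x12a6) (.leaf 0x480d)) (.node (.leaf 0x422d) (.leaf 0x7167)))) (.node (.node (.node (.leaf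 0x901) (.leaf 0x3fba)) (.node (.leaf 0x5b34) (.leaf 0x67ec))) (.node (.node (.leaf 0x65d7) (.leaf 0x5280)) (.node (.leaf 0x3542) (.leaf 0x0)))))) (.node (.node (.node (.node (.node (.leaf 0x249) (.leaf 0x2f14)) (.node (.leaf 0x1b0d) (.leaf 0x58f1))) (.node (.node (.leaf 0x759) (.leaf 0x4755)) (.node (.leaf 0x1d8b) (.leaf 0x708a)))) (.node (.node (.node (.leaf 0x2710) (.leaf 0x3c58)) (.node (.leaf 0x15ff) (.leaf 0x667e))) (.node (.node (.leaf 0x29b8) (.leaf 0x4ee9)) (.node (.leaf 0x27d6) (.leaf 0x0))))) (.node (.node (.node (.node (.leaf 0x176a) (.leaf 0x35b1)) (.node (.leaf 0x141c) (.leaf 0x60e9))) (.node (.node (.leaf 0x9e4) (.leaf 0x4ad2)) (.node (.leaf 0x224d) (.leaf 0x74e2)))) (.node (.node (.node (.leaf 0x2a05) (.leaf 0x426b)) (.node (.leaf 0x196d) (.leaf 0x6b2f))) (.node (.node (.leaf 0x1875) (.leaf 0x554a)) (.node (.leaf 0x287a) (.leaf 0x0))))))) (.node (.node (.node (.node (.node (.node (.leaf 0x12d) (.leaf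 0x4fb8)) (.node (.leaf 0x50e7) (.leaf 0x56ae))) (.node (.node (.leaf 0x3260) (.leaf 0x4415)) (.node (.leaf 0x5e11) (.leaf 0x6d49)))) (.node (.node (.node (.leaf 0x837) (.leaf 0x3878)) (.node (.leaf 0x1a96) (.leaf 0x629a))) (.node (.node (.leaf 0x3240) (.leaf 0x4e20)) (.node (.leaf 0x6e44) (.leaf 0x7621))))) (.node (.node (.node (.node (.leaf 0xa8a) (.leaf 0x33a5)) (.node (.leaf 0x1249) (.leaf 0x5e43))) (.node (.node (.leaf 0x888) (.leaf 0x48f6)) (.node (.leaf 0x203b) (.leaf 0x7305)))) (.node (.node (.node (.leaf 0x9c7) (.leaf 0x3d01)) (.node (.leaf 0x1779) (.leaf 0x67e2))) (.node (.node (.leaf 0x1b93) (.leaf 0x51ce)) (.node (.leaf 0x2577) (.leaf 0x0)))))) (.node (.node (.node (.node (.node (.leaf 0x798) (.leaf 0x2e97)) (.node (.leaf 0x1c3d) (.leaf 0x5a92))) (.node (.node (.leaf 0x1048) (.leaf 0x4c78)) (.node (.leaf 0x1e28) (.leaf 0x7087)))) (.node (.node (.node (.leaf 0x41a) (.leaf 0x3bb3)) (.node (.leaf 0x16f5)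 (.leaf 0x6506))) (.node (.node (.leaf 0x3069) (.leaf 0x4ff5)) (.node (.leaf 0x4f7c) (.leaf 0x0))))) (.node (.node (.node (.node (.leaf 0x4f51) (.leaf 0x36fd)) (.node (.leaf 0x134c) (.leaf 0x6010))) (.node (.node (.leaf 0x9b2) (.leaf 0x4b54)) (.node (.leaf 0x2226) (.leaf 0x73f1)))) (.node (.node (.node (.leaf 0x2ccd) (.leaf 0x4216)) (.node (.leaf 0x1e3f) (.leaf 0x6bd6))) (.node (.node (.leaf 0x55e9) (.leaf 0x5407)) (.node (.leaf 0x67fb) (.leaf 0x0))))))))

/-- Closure. -/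
def clo217 : FTree := (.node (.node (.node (.node (.node (.node (.node (.leaf 0xb0) (.leaf 0x2b1a)) (.node (.leaf 0x12b4) (.leaf 0x5777))) (.node (.node (.leaf 0xad3) (.leaf 0x43c3)) (.node (.leaf 0x31ad) (.leaf 0x6d99)))) (.node (.node (.node (.leaf 0x1c76) (.leaf 0x38c9)) (.node (.leaf 0x1484) (.leaf 0x6360))) (.node (.node (.leaf 0x3651) (.leaf 0x4d52)) (.node (.leaf 0x309b) (.leaf 0x75c2))))) (.node (.node (.node (.node (.leaf 0x2a0) (.leaf 0x328a)) (.node (.leaf 0x1207) (.leaf 0x5e3d))) (.node (.node (.leaf 0x1131) (.leaf 0x47d2)) (.node (.leaf 0x1ffb) (.leaf 0x7120)))) (.node (.node (.node (.leaf 0x1dbf) (.leaf 0x3dbe)) (.node (.leaf 0x3181) (.leaf 0x67be))) (.node (.node (.leaf 0x1fc6) (.leaf 0x531b)) (.node (.leaf 0x260c) (.leaf 0x0)))))) (.node (.node (.node (.node (.node (.leaf 0x282) (.leaf 0x3b15)) (.node (.leaf 0x5010) (.leaf 0x58a7))) (.node (.node (.leaf 0xe56) (.leaf 0x461f)) (.node (.leaf 0x1dd7)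 (.leaf 0x702c)))) (.node (.node (.node (.leaf 0x629c) (.leaf 0x3ca7)) (.node (.leaf 0x19af) (.leaf 0x65b7))) (.node (.node (.leaf 0xc4e) (.leaf 0x639e)) (.node (.leaf 0x42db) (.leaf 0x0))))) (.node (.node (.node (.node (.leaf 0x5bc2) (.leaf 0x36c9)) (.node (.leaf 0x6911) (.leaf 0x5f37))) (.node (.node (.leaf 0x345d) (.leaf 0x4afd)) (.node (.leaf 0x21bf) (.leaf 0x7493)))) (.node (.node (.node (.leaf 0x2fed) (.leaf 0x419f)) (.node (.leaf 0x1931) (.leaf 0x6a9e))) (.node (.node (.leaf 0x6c05) (.leaf 0x54af)) (.node (.leaf 0x26cd) (.leaf 0x0))))))) (.node (.node (.node (.node (.node (.node (.leaf 0x153) (.leaf 0x2a4b)) (.node (.leaf 0xf37) (.leaf 0x57ee))) (.node (.node (.leaf 0x919) (.leaf 0x43cc)) (.node (.leaf 0x1c43) (.leaf 0x6d45)))) (.node (.node (.node (.leaf 0x13c5) (.leaf 0x5413)) (.node (.leaf 0x1566) (.leaf 0x639c))) (.node (.node (.leaf 0x66a3) (.leaf 0x4de7)) (.node (.leaf 0x22fd) (.leaf 0x76e6))))) (.node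 (.node (.node (.node (.leaf 0x3b5) (.leaf 0x3334)) (.node (.leaf 0x1257) (.leaf 0x5eb9))) (.node (.node (.leaf 0x9f5) (.leaf 0x49a1)) (.node (.leaf 0x205d) (.leaf 0x71ec)))) (.node (.node (.node (.leaf 0x2b57) (.leaf 0x3e03)) (.node (.leaf 0x1821) (.leaf 0x6945))) (.node (.node (.leaf 0xd0f) (.leaf 0x518b)) (.node (.leaf 0x2633) (.leaf 0x0)))))) (.node (.node (.node (.node (.node (.leaf 0x238) (.leaf 0x5562)) (.node (.leaf 0x10a1) (.leaf 0x5908))) (.node (.node (.leaf 0x1035) (.leaf 0x469d)) (.node (.leaf 0x1d5b) (.leaf 0x7003)))) (.node (.node (.node (.leaf 0x5d6) (.leaf 0x3a33)) (.node (.leaf 0x1fa3) (.leaf 0x6477))) (.node (.node (.leaf 0x304a) (.leaf 0x511e)) (.node (.leaf 0x3c3c) (.leaf 0x0))))) (.node (.node (.node (.node (.leaf 0x3003) (.leaf 0x36d5)) (.node (.leaf 0x141e) (.leaf 0x6124))) (.node (.node (.leaf 0x3cc2) (.leaf 0x68a3)) (.node (.leaf 0x375d) (.leaf 0x746a)))) (.node (.node (.node (.leaf 0x116e)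 (.leaf 0x4119)) (.node (.leaf 0x19c1) (.leaf 0x6b61))) (.node (.node (.leaf 0xdc3) (.leaf 0x54a9)) (.node (.leaf 0x2712) (.leaf 0x0))))))))

/-- Closure. -/
def clo218 : FTree := (.node (.node (.node (.node (.node (.node (.node (.leaf 0x7c) (.leaf 0x2be9)) (.node (.leaf 0x19eb) (.leaf 0x69fd))) (.node (.node (.leaf 0x91a) (.leaf 0x658f)) (.node (.leaf 0x1c42) (.leaf 0x6d36)))) (.node (.node (.node (.leaf 0x832) (.leaf 0x6285)) (.node (.leaf 0x145e) (.leaf 0x6395))) (.node (.node (.leaf 0x2984) (.leaf 0x4dee)) (.node (.leaf 0x2319) (.leaf 0x753a))))) (.node (.node (.node (.node (.leaf 0x1c64) (.leaf 0x31ba)) (.node (.leaf 0x1281) (.leaf 0x5eba))) (.node (.node (.leaf 0x1166) (.leaf 0x4800)) (.node (.leaf 0x5529) (.leaf 0x7294)))) (.node (.node (.node (.leaf 0x5f1) (.leaf 0x3f1b)) (.node (.leaf 0x17c8) (.leaf 0x69c4))) (.node (.node (.leaf 0xd6e) (.leaf 0x5625)) (.node (.leaf 0x2637) (.leaf 0x0)))))) (.node (.node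 (.node (.node (.node (.leaf 0x4ef) (.leaf 0x2d2a)) (.node (.leaf 0x341d) (.leaf 0x59d9))) (.node (.node (.leaf 0x14fb) (.leaf 0x46c4)) (.node (.leaf 0x1eb8) (.leaf 0x6f39)))) (.node (.node (.node (.leaf 0x5b9b) (.leaf 0x66f2)) (.node (.leaf 0x2238) (.leaf 0x67b6))) (.node (.node (.leaf 0x6168) (.leaf 0x5069)) (.node (.leaf 0x2463) (.leaf 0x0))))) (.node (.node (.node (.node (.leaf 0xdf8) (.leaf 0x375a)) (.node (.leaf 0x5bf9) (.leaf 0x60ba))) (.node (.node (.leaf 0xa10) (.leaf 0x49f6)) (.node (.leaf 0x4456) (.leaf 0x741f)))) (.node (.node (.node (.leaf 0x5fd) (.leaf 0x551a)) (.node (.leaf 0x19d4) (.leaf 0x6b00))) (.node (.node (.leaf 0x1435) (.leaf 0x55eb)) (.node (.leaf 0x26c9) (.leaf 0x0))))))) (.node (.node (.node (.node (.node (.node (.leaf 0x160) (.leaf 0x2c67)) (.node (.leaf 0x50f0) (.leaf 0x69d7))) (.node (.node (.leaf 0xcc7) (.leaf 0x436a)) (.node (.leaf 0x1b32) (.leaf 0x6ea7)))) (.node (.node (.node (.leaf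 0x37e) (.leaf 0x3945)) (.node (.leaf 0x15fa) (.leaf 0x62fe))) (.node (.node (.leaf 0x3b88) (.leaf 0x4cff)) (.node (.leaf 0x587e) (.leaf 0x766f))))) (.node (.node (.node (.node (.leaf 0x2d26) (.leaf 0x3395)) (.node (.leaf 0x6d34) (.leaf 0x5c53))) (.node (.node (.leaf 0x46bc) (.leaf 0x48e2)) (.node (.leaf 0x1fc1) (.leaf 0x71ac)))) (.node (.node (.node (.leaf 0x9bd) (.leaf 0x46de)) (.node (.leaf 0x26a3) (.leaf 0x6769))) (.node (.node (.leaf 0x23d0) (.leaf 0x51a5)) (.node (.leaf 0x253a) (.leaf 0x0)))))) (.node (.node (.node (.node (.node (.leaf 0x782) (.leaf 0x2ee3)) (.node (.leaf 0x2ca4) (.leaf 0x5949))) (.node (.node (.leaf 0x9fa) (.leaf 0x46b1)) (.node (.leaf 0x1e6f) (.leaf 0x700e)))) (.node (.node (.node (.leaf 0xe68) (.leaf 0x3c9d)) (.node (.leaf 0x15a5) (.leaf 0x66e1))) (.node (.node (.leaf 0xca6) (.leaf 0x4e73)) (.node (.leaf 0x2480) (.leaf 0x0))))) (.node (.node (.node (.node (.leaf 0xd9a) (.leaf 0x36fa)) (.node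 (.leaf 0x1318) (.leaf 0x60fe))) (.node (.node (.leaf 0x3406) (.leaf 0x4ab4)) (.node (.leaf 0x2252) (.leaf 0x7481)))) (.node (.node (.node (.leaf 0x629) (.leaf 0x40e3)) (.node (.leaf 0x2c3e) (.leaf 0x6a9f))) (.node (.node (.leaf 0xe64) (.leaf 0x5ca3)) (.node (.leaf 0x2891) (.leaf 0x0))))))))

/-- Closure. -/
def clo219 : FTree := (.node (.node (.node (.node (.node (.node (.node (.leaf 0xc4) (.leaf 0x2a98)) (.node (.leaf 0xf05) (.leaf 0x56b0))) (.node (.node (.leaf 0x61b) (.leaf 0x42bf)) (.node (.leaf 0x1be4) (.leaf 0x6d09)))) (.node (.node (.node (.leaf 0x7cf) (.leaf 0x37c9)) (.node (.leaf 0x154d) (.leaf 0x6b0e))) (.node (.node (.leaf 0xa52) (.leaf 0x4ce8)) (.node (.leaf 0x4a5a) (.leaf 0x75e9))))) (.node (.node (.node (.node (.leaf 0x29e) (.leaf 0x303e)) (.node (.leaf 0x12a3) (.leaf 0x5cfe))) (.node (.node (.leaf 0x7d1) (.leaf 0x47d4)) (.node (.leaf 0x207e) (.leaf 0x7244)))) (.node (.node (.node (.leaf 0x471) (.leaf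 0x3da7)) (.node (.leaf 0x49f1) (.leaf 0x66ed))) (.node (.node (.leaf 0xcd5) (.leaf 0x5157)) (.node (.leaf 0x2550) (.leaf 0x0)))))) (.node (.node (.node (.node (.node (.leaf 0x21c) (.leaf 0x2dc8)) (.node (.leaf 0xffa) (.leaf 0x58b2))) (.node (.node (.leaf 0x6e4) (.leaf 0x44b6)) (.node (.leaf 0x1cb2) (.leaf 0x7051)))) (.node (.node (.node (.leaf 0x42f8) (.leaf 0x39e4)) (.node (.leaf 0x16f6) (.leaf 0x6600))) (.node (.node (.leaf 0xc10) (.leaf 0x5011)) (.node (.leaf 0x2352) (.leaf 0x0))))) (.node (.node (.node (.node (.leaf 0xc12) (.leaf 0x35df)) (.node (.leaf 0x2e34) (.leaf 0x60da))) (.node (.node (.leaf 0x908) (.leaf 0x49de)) (.node (.leaf 0x216f) (.leaf 0x73d1)))) (.node (.node (.node (.leaf 0x7c7) (.leaf 0x40b1)) (.node (.leaf 0x1919) (.leaf 0x6b0a))) (.node (.node (.leaf 0xdb7) (.leaf 0x54f0)) (.node (.leaf 0x26ad) (.leaf 0x0))))))) (.node (.node (.node (.node (.node (.node (.leaf 0x1e5) (.leaf 0x49d5)) (.node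 (.leaf 0xf36) (.leaf 0x5d7d))) (.node (.node (.leaf 0x26a9) (.leaf 0x491c)) (.node (.leaf 0x1c1e) (.leaf 0x6e84)))) (.node (.node (.node (.leaf 0x4661) (.leaf 0x3969)) (.node (.leaf 0x1a8e) (.leaf 0x6268))) (.node (.node (.leaf 0xafa) (.leaf 0x4c87)) (.node (.leaf 0x3093) (.leaf 0x7562))))) (.node (.node (.node (.node (.leaf 0x3bc) (.leaf 0x31bb)) (.node (.leaf 0x122c) (.leaf 0x5dec))) (.node (.node (.leaf 0x1309) (.leaf 0x4851)) (.node (.leaf 0x220e) (.leaf 0x71e3)))) (.node (.node (.node (.leaf 0x547f) (.leaf 0x3d45)) (.node (.leaf 0x17e4) (.leaf 0x68af))) (.node (.node (.leaf 0x342d) (.leaf 0x515c)) (.node (.leaf 0x25f1) (.leaf 0x0)))))) (.node (.node (.node (.node (.node (.leaf 0x226) (.leaf 0x2db6)) (.node (.leaf 0x3c95) (.leaf 0x599d))) (.node (.node (.leaf 0x9a6) (.leaf 0x4531)) (.node (.leaf 0x5a75) (.leaf 0x702a)))) (.node (.node (.node (.leaf 0xebc) (.leaf 0x3adc)) (.node (.leaf 0x16c0) (.leaf 0x648a)))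 (.node (.node (.leaf 0x4a8b) (.leaf 0x4eaf)) (.node (.leaf 0x2f9b) (.leaf 0x0))))) (.node (.node (.node (.node (.leaf 0x4f4c) (.leaf 0x35c1)) (.node (.leaf 0x2b10) (.leaf 0x5f0f))) (.node (.node (.leaf 0xb66) (.leaf 0x4a13)) (.node (.leaf 0x28e5) (.leaf 0x73ce)))) (.node (.node (.node (.leaf 0x2838) (.leaf 0x4490)) (.node (.leaf 0x2c3d) (.leaf 0x6aed))) (.node (.node (.leaf 0x271b) (.leaf 0x5541)) (.node (.leaf 0x68b3) (.leaf 0x0))))))))

/-- Closure. -/
def clo220 : FTree := (.node (.node (.node (.node (.node (.node (.node (.leaf 0x38) (.leaf 0x2dab)) (.node (.leaf 0xf83) (.leaf 0x5837))) (.node (.node (.leaf 0x21d5) (.leaf 0x50c4)) (.node (.leaf 0x1f92) (.leaf 0x6e61)))) (.node (.node (.node (.leaf 0x1cb1) (.leaf 0x3974)) (.node (.leaf 0x14e6) (.leaf 0x6237))) (.node (.node (.leaf 0x2b25) (.leaf 0x5ece)) (.node (.leaf 0x22df) (.leaf 0x76c2))))) (.node (.node (.node (.node (.leaf 0x8ed) (.leaf 0x6246)) (.node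 (.leaf 0x3399) (.leaf 0x5e05))) (.node (.node (.leaf 0x1664) (.leaf 0x4844)) (.node (.leaf 0x200c) (.leaf 0x728b)))) (.node (.node (.node (.leaf 0x6ac) (.leaf 0x3e8e)) (.node (.leaf 0x4fed) (.leaf 0x6884))) (.node (.node (.leaf 0xe3a) (.leaf 0x530f)) (.node (.leaf 0x43ae) (.leaf 0x0)))))) (.node (.node (.node (.node (.node (.leaf 0xeed) (.leaf 0x39e2)) (.node (.leaf 0x3989) (.leaf 0x5a7c))) (.node (.node (.leaf 0x2bd9) (.leaf 0x460a)) (.node (.leaf 0x2433) (.leaf 0x7007)))) (.node (.node (.node (.leaf 0x5b8d) (.leaf 0x3b47)) (.node (.leaf 0x1648) (.leaf 0x65f0))) (.node (.node (.leaf 0x6131) (.leaf 0x4ea6)) (.node (.leaf 0x2aaf) (.leaf 0x0))))) (.node (.node (.node (.node (.leaf 0x45e) (.leaf 0x35e0)) (.node (.leaf 0x26f4) (.leaf 0x5efb))) (.node (.node (.leaf 0x17e0) (.leaf 0x4ba6)) (.node (.leaf 0x21a0) (.leaf 0x74d6)))) (.node (.node (.node (.leaf 0x90e) (.leaf 0x4040)) (.node (.leaf 0x19fb) (.leaf 0x6afe)))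 (.node (.node (.leaf 0xe31) (.leaf 0x5ca1)) (.node (.leaf 0x2901) (.leaf 0x0))))))) (.node (.node (.node (.node (.node (.node (.leaf 0x158) (.leaf 0x3a60)) (.node (.leaf 0xf5e) (.leaf 0x5739))) (.node (.node (.leaf 0x693) (.leaf 0x4300)) (.node (.leaf 0x489b) (.leaf 0x6d3c)))) (.node (.node (.node (.leaf 0x53f) (.leaf 0x3794)) (.node (.leaf 0x151a) (.leaf 0x6269))) (.node (.node (.leaf 0x3137) (.leaf 0x4c9a)) (.node (.leaf 0x53cd) (.leaf 0x7611))))) (.node (.node (.node (.node (.leaf 0x613) (.leaf 0x3409)) (.node (.leaf 0x12e6) (.leaf 0x5bfc))) (.node (.node (.leaf 0x5e76) (.leaf 0x4795)) (.node (.leaf 0x2007) (.leaf 0x72a6)))) (.node (.node (.node (.leaf 0x8f2) (.leaf 0x3ed7)) (.node (.leaf 0x6c33) (.leaf 0x6811))) (.node (.node (.leaf 0x3390) (.leaf 0x51c1)) (.node (.leaf 0x5723) (.leaf 0x0)))))) (.node (.node (.node (.node (.node (.leaf 0x7b8) (.leaf 0x2da4)) (.node (.leaf 0x104b) (.leaf 0x59ad))) (.node (.node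 (.leaf 0x8cd) (.leaf 0x4750)) (.node (.leaf 0x1eb5) (.leaf 0x6ff4)))) (.node (.node (.node (.leaf 0xd91) (.leaf 0x3b6b)) (.node (.leaf 0x33f1) (.leaf 0x6596))) (.node (.node (.leaf 0x3047) (.leaf 0x501c)) (.node (.leaf 0x23d1) (.leaf 0x0))))) (.node (.node (.node (.node (.leaf 0x5d6a) (.leaf 0x374c)) (.node (.leaf 0x13b1) (.leaf 0x5f12))) (.node (.node (.leaf 0x32e1) (.leaf 0x4bd5)) (.node (.leaf 0x40c5) (.leaf 0x74e1)))) (.node (.node (.node (.leaf 0x1ed5) (.leaf 0x4037)) (.node (.leaf 0x1961) (.leaf 0x6bfc))) (.node (.node (.leaf 0xe7c) (.leaf 0x55aa)) (.node (.leaf 0x28bd) (.leaf 0x0))))))))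

/-- Closure. -/
def clo221 : FTree := (.node (.node (.node (.node (.node (.node (.node (.leaf 0xc9) (.leaf 0x2968)) (.node (.leaf 0x5fb9) (.leaf 0x5e97))) (.node (.node (.leaf 0x4e82) (.leaf 0x5450)) (.node (.leaf 0x1a48) (.leaf 0x6e73)))) (.node (.node (.node (.leaf 0x467c) (.leaf 0x3898)) (.node (.leaf 0x50f9) (.leaf 0x61a4))) (.node (.node (.leaf 0x3bf8) (.leaf 0x5ed4)) (.node (.leaf 0x6197) (.leaf 0x75b7))))) (.node (.node (.node (.node (.leaf 0x2944) (.leaf 0x351d)) (.node (.leaf 0x1ee1) (.leaf 0x68f3))) (.node (.node (.leaf 0x1d23) (.leaf 0x495e)) (.node (.leaf 0x1fc3) (.leaf 0x7260)))) (.node (.node (.node (.leaf 0x699d) (.leaf 0x3d59)) (.node (.leaf 0x17dd) (.leaf 0x68e6))) (.node (.node (.leaf 0x2518) (.leaf 0x516f)) (.node (.leaf 0x2558) (.leaf 0x0)))))) (.node (.node (.node (.node (.node (.leaf 0x301) (.leaf 0x4c0e)) (.node (.leaf 0x1e0a) (.leaf 0x5a9e))) (.node (.node (.leaf 0x2bd8) (.leaf 0x4b76))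 (.node (.leaf 0x1d54) (.leaf 0x7055)))) (.node (.node (.node (.leaf 0x2733) (.leaf 0x3b30)) (.node (.leaf 0x15d0) (.leaf 0x6533))) (.node (.node (.leaf 0x29a0) (.leaf 0x4ef4)) (.node (.leaf 0x2490) (.leaf 0x0))))) (.node (.node (.node (.node (.leaf 0x937) (.leaf 0x365a)) (.node (.leaf 0x2efd) (.leaf 0x5f8f))) (.node (.node (.leaf 0xa31) (.leaf 0x4b61)) (.node (.leaf 0x33c3) (.leaf 0x73df)))) (.node (.node (.node (.leaf 0x1100) (.leaf 0x4034)) (.node (.leaf 0x1945) (.leaf 0x6be7))) (.node (.node (.leaf 0x32d6) (.leaf 0x6654)) (.node (.leaf 0x4aff) (.leaf 0x0))))))) (.node (.node (.node (.node (.node (.node (.leaf 0x1e8) (.leaf 0x2b75)) (.node (.leaf 0x50d6) (.leaf 0x57b4))) (.node (.node (.leaf 0x27aa) (.leaf 0x4344)) (.node (.leaf 0x484f) (.leaf 0x6ded)))) (.node (.node (.node (.leaf 0x2df7) (.leaf 0x3879)) (.node (.leaf 0x14be) (.leaf 0x6301))) (.node (.node (.leaf 0xa49) (.leaf 0x4d53)) (.node (.leaf 0x22f3)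 (.leaf 0x76d7))))) (.node (.node (.node (.node (.leaf 0x3a8) (.leaf 0x31b7)) (.node (.leaf 0x11fe) (.leaf 0x6933))) (.node (.node (.leaf 0x85f) (.leaf 0x4774)) (.node (.leaf 0x1fc2) (.leaf 0x713f)))) (.node (.node (.node (.leaf 0x33d9) (.leaf 0x3e02)) (.node (.leaf 0x181b) (.leaf 0x68df))) (.node (.node (.leaf 0xd78) (.leaf 0x52a1)) (.node (.leaf 0x25a1) (.leaf 0x0)))))) (.node (.node (.node (.node (.node (.leaf 0x780) (.leaf 0x458a)) (.node (.leaf 0x10ef) (.leaf 0x5980))) (.node (.node (.leaf 0x2168) (.leaf 0x44f3)) (.node (.leaf 0x1ede) (.leaf 0x7081)))) (.node (.node (.node (.leaf 0x6bb0) (.leaf 0x50ba)) (.node (.leaf 0x15aa) (.leaf 0x6565))) (.node (.node (.leaf 0xbf8) (.leaf 0x6c1a)) (.node (.leaf 0x24dc) (.leaf 0x0))))) (.node (.node (.node (.node (.leaf 0x809) (.leaf 0x3674)) (.node (.leaf 0x2e2c) (.leaf 0x5f73))) (.node (.node (.leaf 0xb84) (.leaf 0x63f4)) (.node (.leaf 0x396c) (.leaf 0x73a3)))) (.node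 (.node (.node (.leaf 0x1ed2) (.leaf 0x4109)) (.node (.leaf 0x556b) (.leaf 0x6a6a))) (.node (.node (.leaf 0x611f) (.leaf 0x55bf)) (.node (.leaf 0x26d1) (.leaf 0x0))))))))

/-- Closure. -/
def clo222 : FTree := (.node (.node (.node (.node (.node (.node (.node (.leaf 0xb1) (.leaf 0x3713)) (.node (.leaf 0xf76) (.leaf 0x56c3))) (.node (.node (.leaf 0xdfe) (.leaf 0x43d5)) (.node (.leaf 0x1a7b) (.leaf 0x6e32)))) (.node (.node (.node (.leaf 0x4670) (.leaf 0x3ba3)) (.node (.leaf 0x154e) (.leaf 0x6242))) (.node (.node (.leaf 0x2983) (.leaf 0x4daf)) (.node (.leaf 0x537f) (.leaf 0x7557))))) (.node (.node (.node (.node (.leaf 0x2a6e) (.leaf 0x5dc7)) (.node (.leaf 0x11b6) (.leaf 0x5bdc))) (.node (.node (.leaf 0x1665) (.leaf 0x49ab)) (.node (.leaf 0x6c8c) (.leaf 0x726f)))) (.node (.node (.node (.leaf 0xae5) (.leaf 0x3d51)) (.node (.leaf 0x5b6f) (.leaf 0x6800))) (.node (.node (.leaf 0xd24) (.leaf 0x516d)) (.node (.leaf 0x3902)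 (.leaf 0x0)))))) (.node (.node (.node (.node (.node (.leaf 0x2e3) (.leaf 0x5b4b)) (.node (.leaf 0x1e6d) (.leaf 0x5a5e))) (.node (.node (.leaf 0x75e) (.leaf 0x454d)) (.node (.leaf 0x2813) (.leaf 0x7070)))) (.node (.node (.node (.leaf 0x4ae2) (.leaf 0x3c5c)) (.node (.leaf 0x1add) (.leaf 0x64ca))) (.node (.node (.leaf 0x612d) (.leaf 0x4e4f)) (.node (.leaf 0x47bd) (.leaf 0x0))))) (.node (.node (.node (.node (.leaf 0xdf9) (.leaf 0x3620)) (.node (.leaf 0x6918) (.leaf 0x5f58))) (.node (.node (.leaf 0x1b6e) (.leaf 0x4ba9)) (.node (.leaf 0x445d) (.leaf 0x7429)))) (.node (.node (.node (.leaf 0x3ade) (.leaf 0x5a34)) (.node (.leaf 0x39ac) (.leaf 0x6c0e))) (.node (.node (.leaf 0x3770) (.leaf 0x561f)) (.node (.leaf 0x32c1) (.leaf 0x0))))))) (.node (.node (.node (.node (.node (.node (.leaf 0x138) (.leaf 0x2961)) (.node (.leaf 0xf38) (.leaf 0x5757))) (.node (.node (.leaf 0x4e5e) (.leaf 0x491f)) (.node (.leaf 0x1c5e) (.leaf 0x6c7c))))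 (.node (.node (.node (.leaf 0x466d) (.leaf 0x3823)) (.node (.leaf 0x14e3) (.leaf 0x62ea))) (.node (.node (.leaf 0xaa0) (.leaf 0x4cb8)) (.node (.leaf 0x308b) (.leaf 0x7524))))) (.node (.node (.node (.node (.leaf 0x3bd) (.leaf 0x31f8)) (.node (.leaf 0x11d7) (.leaf 0x5dc1))) (.node (.node (.leaf 0x1308) (.leaf 0x5e67)) (.node (.leaf 0x2050) (.leaf 0x72ac)))) (.node (.node (.node (.leaf 0x3146) (.leaf 0x3d2a)) (.node (.leaf 0x17f0) (.leaf 0x67bb))) (.node (.node (.leaf 0xe3e) (.leaf 0x5159)) (.node (.leaf 0x2761) (.leaf 0x0)))))) (.node (.node (.node (.node (.node (.leaf 0x221) (.leaf 0x6155)) (.node (.leaf 0x242c) (.leaf 0x59a0))) (.node (.node (.leaf 0x1a4a) (.leaf 0x4639)) (.node (.leaf 0x3fb4) (.leaf 0x7077)))) (.node (.node (.node (.leaf 0x700) (.leaf 0x3b1b)) (.node (.leaf 0x16b2) (.leaf 0x6464))) (.node (.node (.leaf 0x4a8a) (.leaf 0x4f59)) (.node (.leaf 0x3bb6) (.leaf 0x0))))) (.node (.node (.node (.node (.leaf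 0x404) (.leaf 0x3629)) (.node (.leaf 0x26f7) (.leaf 0x6035))) (.node (.node (.leaf 0x2c28) (.leaf 0x49fd)) (.node (.leaf 0x480c) (.leaf 0x74ab)))) (.node (.node (.node (.leaf 0x2837) (.leaf 0x40fd)) (.node (.leaf 0x195a) (.leaf 0x6c12))) (.node (.node (.leaf 0xec9) (.leaf 0x5515)) (.node (.leaf 0x6960) (.leaf 0x0))))))))

/-- Closure. -/
def clo223 : FTree := (.node (.node (.node (.node (.node (.node (.node (.leaf 0x11f) (.leaf 0x2c59)) (.node (.leaf 0x5fa2) (.leaf 0x5671))) (.node (.node (.leaf 0x692) (.leaf 0x4468)) (.node (.leaf 0x1b6b) (.leaf 0x6dd5)))) (.node (.node (.node (.leaf 0x13e0) (.leaf 0x38c7)) (.node (.leaf 0x150f) (.leaf 0x6516))) (.node (.node (.leaf 0xad5) (.leaf 0x4d31)) (.node (.leaf 0x309c) (.leaf 0x762c))))) (.node (.node (.node (.node (.leaf 0x44f) (.leaf 0x3520)) (.node (.leaf 0x11ed) (.leaf 0x5c30))) (.node (.node (.leaf 0x2e44) (.leaf 0x4a7b)) (.node (.leaf 0x2036) (.leaf 0x722d)))) (.node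 (.node (.node (.leaf 0xb17) (.leaf 0x3e3c)) (.node (.leaf 0x1826) (.leaf 0x690b))) (.node (.node (.leaf 0xd57) (.leaf 0x5190)) (.node (.leaf 0x6bfa) (.leaf 0x0)))))) (.node (.node (.node (.node (.node (.leaf 0x2ff) (.leaf 0x5c47)) (.node (.leaf 0x1ff6) (.leaf 0x5a3c))) (.node (.node (.leaf 0x3525) (.leaf 0x69b6)) (.node (.leaf 0x3c87) (.leaf 0x7101)))) (.node (.node (.node (.leaf 0x48c) (.leaf 0x3ac1)) (.node (.leaf 0x1ade) (.leaf 0x6560))) (.node (.node (.leaf 0x4a98) (.leaf 0x50a1)) (.node (.leaf 0x2436) (.leaf 0x0))))) (.node (.node (.node (.node (.leaf 0x29fd) (.leaf 0x4692)) (.node (.leaf 0x13a3) (.leaf 0x5f0b))) (.node (.node (.leaf 0x9a3) (.leaf 0x4a36)) (.node (.leaf 0x2251) (.leaf 0x73a7)))) (.node (.node (.node (.leaf 0x3ae2) (.leaf 0x427a)) (.node (.leaf 0x3472) (.leaf 0x6c1d))) (.node (.node (.leaf 0x5aea) (.leaf 0x558e)) (.node (.leaf 0x2718) (.leaf 0x0))))))) (.node (.node (.node (.node (.node (.node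 (.leaf 0x0) (.leaf 0x0)) (.node (.leaf 0x0) (.leaf 0x0))) (.node (.node (.leaf 0x0) (.leaf 0x0)) (.node (.leaf 0x0) (.leaf 0x0)))) (.node (.node (.node (.leaf 0x0) (.leaf 0x0)) (.node (.leaf 0x0) (.leaf 0x0))) (.node (.node (.leaf 0x0) (.leaf 0x0)) (.node (.leaf 0x0) (.leaf 0x0))))) (.node (.node (.node (.node (.leaf 0x0) (.leaf 0x0)) (.node (.leaf 0x0) (.leaf 0x0))) (.node (.node (.leaf 0x0) (.leaf 0x0)) (.node (.leaf 0x0) (.leaf 0x0)))) (.node (.node (.node (.leaf 0x0) (.leaf 0x0)) (.node (.leaf 0x0) (.leaf 0x0))) (.node (.node (.leaf 0x0) (.leaf 0x0)) (.node (.leaf 0x0) (.leaf 0x0)))))) (.node (.node (.node (.node (.node (.leaf 0x0) (.leaf 0x0)) (.node (.leaf 0x0) (.leaf 0x0))) (.node (.node (.leaf 0x0) (.leaf 0x0)) (.node (.leaf 0x0) (.leaf 0x0)))) (.node (.node (.node (.leaf 0x0) (.leaf 0x0)) (.node (.leaf 0x0) (.leaf 0x0))) (.node (.node (.leaf 0x0) (.leaf 0x0)) (.node (.leaf 0x0) (.leaf 0x0))))) (.node (.node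 (.node (.node (.leaf 0x0) (.leaf 0x0)) (.node (.leaf 0x0) (.leaf 0x0))) (.node (.node (.leaf 0x0) (.leaf 0x0)) (.node (.leaf 0x0) (.leaf 0x0)))) (.node (.node (.node (.leaf 0x0) (.leaf 0x0)) (.node (.leaf 0x0) (.leaf 0x0))) (.node (.node (.leaf 0x0) (.leaf 0x0)) (.node (.leaf 0x0) (.leaf 0x0))))))))

/-- Closure. -/
def clo224 : FTree := (.node (.node (.node (.node (.node (.node (.node (.leaf 0xf) (.leaf 0x2b24)) (.node (.leaf 0x316c) (.leaf 0x5824))) (.node (.node (.leaf 0x705) (.leaf 0x4416)) (.node (.leaf 0x2215) (.leaf 0x6db3)))) (.node (.node (.node (.leaf 0x3ce6) (.leaf 0x379d)) (.node (.leaf 0x1493) (.leaf 0x6379))) (.node (.node (.leaf 0x5819) (.leaf 0x4d0c)) (.node (.leaf 0x5879) (.leaf 0x7578))))) (.node (.node (.node (.node (.leaf 0x433) (.leaf 0x352f)) (.node (.leaf 0x3307) (.leaf 0x5c4f))) (.node (.node (.leaf 0x81c) (.leaf 0x47ce)) (.node (.leaf 0x558b) (.leaf 0x719b)))) (.node (.node (.node (.leaf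 0x4e4c) (.leaf 0x3f66)) (.node (.leaf 0x1864) (.leaf 0x67ea))) (.node (.node (.leaf 0x6daa) (.leaf 0x5628)) (.node (.leaf 0x276d) (.leaf 0x0)))))) (.node (.node (.node (.node (.node (.leaf 0x2ca) (.leaf 0x2e4f)) (.node (.leaf 0x1aa5) (.leaf 0x5a37))) (.node (.node (.leaf 0x1833) (.leaf 0x459a)) (.node (.leaf 0x1ebb) (.leaf 0x7060)))) (.node (.node (.node (.leaf 0x1185) (.leaf 0x3aa0)) (.node (.leaf 0x16b8) (.leaf 0x6517))) (.node (.node (.leaf 0xbd8) (.leaf 0x4f61)) (.node (.leaf 0x235c) (.leaf 0x0))))) (.node (.node (.node (.node (.leaf 0x313) (.leaf 0x3aac)) (.node (.leaf 0x2795) (.leaf 0x60cc))) (.node (.node (.leaf 0x20ae) (.leaf 0x4c09)) (.node (.leaf 0x25c3) (.leaf 0x7490)))) (.node (.node (.node (.leaf 0x622) (.leaf 0x4191)) (.node (.leaf 0x2021) (.leaf 0x6ab9))) (.node (.node (.leaf 0xe8f) (.leaf 0x543a)) (.node (.leaf 0x3982) (.leaf 0x0))))))) (.node (.node (.node (.node (.node (.node (.leaf 0x103) (.leaf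 0x2b5f)) (.node (.leaf 0x315c) (.leaf 0x57fe))) (.node (.node (.leaf 0x950) (.leaf 0x4357)) (.node (.leaf 0x5655) (.leaf 0x6c88)))) (.node (.node (.node (.leaf 0x2e0a) (.leaf 0x385e)) (.node (.leaf 0x3fde) (.leaf 0x633e))) (.node (.node (.leaf 0x33bf) (.leaf 0x4d84)) (.node (.leaf 0x230d) (.leaf 0x763a))))) (.node (.node (.node (.node (.leaf 0x8e6) (.leaf 0x47ac)) (.node (.leaf 0x397d) (.leaf 0x5d86))) (.node (.node (.leaf 0x1512) (.leaf 0x4953)) (.node (.leaf 0x1fed) (.leaf 0x722e)))) (.node (.node (.node (.leaf 0x2ad8) (.leaf 0x4c60)) (.node (.leaf 0x187b) (.leaf 0x6986))) (.node (.node (.leaf 0x1d45) (.leaf 0x51e6)) (.node (.leaf 0x2552) (.leaf 0x0)))))) (.node (.node (.node (.node (.node (.leaf 0x2bc) (.leaf 0x2dd2)) (.node (.leaf 0x1030) (.leaf 0x5941))) (.node (.node (.leaf 0x1295) (.leaf 0x457f)) (.node (.leaf 0x1e9a) (.leaf 0x6fab)))) (.node (.node (.node (.leaf 0x9ec) (.leaf 0x3b7d)) (.node (.leaf 0x16e2)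 (.leaf 0x650a))) (.node (.node (.leaf 0x643a) (.leaf 0x4f8e)) (.node (.leaf 0x23a9) (.leaf 0x0))))) (.node (.node (.node (.node (.leaf 0x5bbd) (.leaf 0x6806)) (.node (.leaf 0x1736) (.leaf 0x5fe9))) (.node (.node (.leaf 0x175a) (.leaf 0x4bc3)) (.node (.leaf 0x2191) (.leaf 0x7453)))) (.node (.node (.node (.leaf 0x10f1) (.leaf 0x40f4)) (.node (.leaf 0x5a9f) (.leaf 0x6be6))) (.node (.node (.leaf 0x5d58) (.leaf 0x5343)) (.node (.leaf 0x2809) (.leaf 0x0))))))))

/-- Closure. -/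
def clo225 : FTree := (.node (.node (.node (.node (.node (.node (.node (.leaf 0x86) (.leaf 0x2b19)) (.node (.leaf 0x12bf) (.leaf 0x5752))) (.node (.node (.leaf 0x6d7a) (.leaf 0x42c7)) (.node (.leaf 0x1c0c) (.leaf 0x6dfe)))) (.node (.node (.node (.leaf 0x2e05) (.leaf 0x38e9)) (.node (.leaf 0x1504) (.leaf 0x62d7))) (.node (.node (.leaf 0x3ede) (.leaf 0x4d43)) (.node (.leaf 0x5387) (.leaf 0x7642))))) (.node (.node (.node (.node (.leaf 0x2a60) (.leaf 0x3027)) (.node (.leaf 0x1268) (.leaf 0x5c85))) (.node (.node (.leaf 0x3012) (.leaf 0x48b5)) (.node (.leaf 0x1f86) (.leaf 0x712b)))) (.node (.node (.node (.leaf 0x5ea) (.leaf 0x3db8)) (.node (.leaf 0x1793) (.leaf 0x6930))) (.node (.node (.leaf 0x23d6) (.leaf 0x5309)) (.node (.leaf 0x255f) (.leaf 0x0)))))) (.node (.node (.node (.node (.node (.leaf 0x268) (.leaf 0x2e4b)) (.node (.leaf 0x18bc) (.leaf 0x5a3f))) (.node (.node (.leaf 0x2ba0) (.leaf 0x44fe)) (.node (.leaf 0x1d01)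 (.leaf 0x6f1f)))) (.node (.node (.node (.leaf 0x26ab) (.leaf 0x3be9)) (.node (.leaf 0x34ae) (.leaf 0x65fc))) (.node (.node (.leaf 0xc54) (.leaf 0x4fbd)) (.node (.leaf 0x2491) (.leaf 0x0))))) (.node (.node (.node (.node (.leaf 0x808) (.leaf 0x37d7)) (.node (.leaf 0x13a6) (.leaf 0x5ef7))) (.node (.node (.leaf 0xddd) (.leaf 0x6cc7)) (.node (.leaf 0x21f7) (.leaf 0x74bd)))) (.node (.node (.node (.leaf 0x1cd0) (.leaf 0x404d)) (.node (.leaf 0x414e) (.leaf 0x6a65))) (.node (.node (.leaf 0x32d7) (.leaf 0x5506)) (.node (.leaf 0x2854) (.leaf 0x0))))))) (.node (.node (.node (.node (.node (.node (.leaf 0x1de) (.leaf 0x2f5c)) (.node (.leaf 0x50eb) (.leaf 0x5792))) (.node (.node (.leaf 0x95f) (.leaf 0x4404)) (.node (.leaf 0x3407) (.leaf 0x6ee2)))) (.node (.node (.node (.leaf 0x82d) (.leaf 0x39b8)) (.node (.leaf 0x14f6) (.leaf 0x626f))) (.node (.node (.leaf 0x40eb) (.leaf 0x4d22)) (.node (.leaf 0x53d6) (.leaf 0x7533))))) (.node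 (.node (.node (.node (.leaf 0xa87) (.leaf 0x6973)) (.node (.leaf 0x11cb) (.leaf 0x5b84))) (.node (.node (.leaf 0x883) (.leaf 0x47e9)) (.node (.leaf 0x4c01) (.leaf 0x7289)))) (.node (.node (.node (.leaf 0x1022) (.leaf 0x58be)) (.node (.leaf 0x179f) (.leaf 0x698c))) (.node (.node (.leaf 0x5608) (.leaf 0x51cf)) (.node (.leaf 0x253c) (.leaf 0x0)))))) (.node (.node (.node (.node (.node (.leaf 0x784) (.leaf 0x2d0c)) (.node (.leaf 0x154f) (.leaf 0x5a84))) (.node (.node (.leaf 0x3446) (.leaf 0x4544)) (.node (.leaf 0x1e29) (.leaf 0x7115)))) (.node (.node (.node (.leaf 0x30ad) (.leaf 0x3c97)) (.node (.leaf 0x1d67) (.leaf 0x648f))) (.node (.node (.leaf 0x307b) (.leaf 0x5060)) (.node (.leaf 0x3e29) (.leaf 0x0))))) (.node (.node (.node (.node (.leaf 0x40b) (.leaf 0x35e8)) (.node (.leaf 0x2e26) (.leaf 0x6053))) (.node (.node (.leaf 0x990) (.leaf 0x4ad3)) (.node (.leaf 0x211b) (.leaf 0x73cc)))) (.node (.node (.node (.leaf 0x2ccc)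 (.leaf 0x4287)) (.node (.leaf 0x1f14) (.leaf 0x6af2))) (.node (.node (.leaf 0x2bee) (.leaf 0x6ef9)) (.node (.leaf 0x285e) (.leaf 0x0))))))))

/-- Closure. -/
def clo226 : FTree := (.node (.node (.node (.node (.node (.node (.node (.leaf 0x52) (.leaf 0x6ed6)) (.node (.leaf 0xf89) (.leaf 0x69d1))) (.node (.node (.leaf 0x9d5) (.leaf 0x43c0)) (.node (.leaf 0x1b4c) (.leaf 0x6e67)))) (.node (.node (.node (.leaf 0x528) (.leaf 0x3c7c)) (.node (.leaf 0x18b3) (.leaf 0x62e6))) (.node (.node (.leaf 0x40fb) (.leaf 0x4cdc)) (.node (.leaf 0x54d6) (.leaf 0x7594))))) (.node (.node (.node (.node (.leaf 0x2d3d) (.leaf 0x3b41)) (.node (.leaf 0x14e5) (.leaf 0x5e0b))) (.node (.node (.leaf 0xb69) (.leaf 0x4931)) (.node (.leaf 0x1f65) (.leaf 0x729f)))) (.node (.node (.node (.leaf 0x1e02) (.leaf 0x4734)) (.node (.leaf 0x6c35) (.leaf 0x6957))) (.node (.node (.leaf 0x1015) (.leaf 0x51bc)) (.node (.leaf 0x4e37) (.leaf 0x0)))))) (.node (.node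 (.node (.node (.node (.leaf 0x502) (.leaf 0x6828)) (.node (.leaf 0x1041) (.leaf 0x5940))) (.node (.node (.leaf 0xdca) (.leaf 0x455e)) (.node (.leaf 0x1e7d) (.leaf 0x6ff6)))) (.node (.node (.node (.leaf 0xe91) (.leaf 0x3cbe)) (.node (.leaf 0x4eed) (.leaf 0x67f4))) (.node (.node (.leaf 0x6449) (.leaf 0x4e80)) (.node (.leaf 0x24d7) (.leaf 0x0))))) (.node (.node (.node (.node (.leaf 0x4ed2) (.leaf 0x371c)) (.node (.leaf 0x2ef6) (.leaf 0x5f33))) (.node (.node (.leaf 0x40e2) (.leaf 0x6c48)) (.node (.leaf 0x212c) (.leaf 0x734e)))) (.node (.node (.node (.leaf 0x37e2) (.leaf 0x40ab)) (.node (.leaf 0x3c22) (.leaf 0x6b1f))) (.node (.node (.leaf 0x27fc) (.leaf 0x5429)) (.node (.leaf 0x270b) (.leaf 0x0))))))) (.node (.node (.node (.node (.node (.node (.leaf 0x16a) (.leaf 0x62a2)) (.node (.leaf 0x57c8) (.leaf 0x586a))) (.node (.node (.leaf 0xb2c) (.leaf 0x449b)) (.node (.leaf 0x1a62) (.leaf 0x6e93)))) (.node (.node (.node (.leaf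 0x13ee) (.leaf 0x39a5)) (.node (.leaf 0x1a92) (.leaf 0x61a8))) (.node (.node (.leaf 0xa7c) (.leaf 0x4df6)) (.node (.leaf 0x41d5) (.leaf 0x763d))))) (.node (.node (.node (.node (.leaf 0xa8d) (.leaf 0x34f2)) (.node (.leaf 0x1aac) (.leaf 0x5b07))) (.node (.node (.leaf 0xa09) (.leaf 0x49a3)) (.node (.leaf 0x220f) (.leaf 0x725c)))) (.node (.node (.node (.leaf 0xcbd) (.leaf 0x3f30)) (.node (.leaf 0x2934) (.leaf 0x694d))) (.node (.node (.leaf 0xd29) (.leaf 0x52c7)) (.node (.leaf 0x3556) (.leaf 0x0)))))) (.node (.node (.node (.node (.node (.leaf 0x4e5) (.leaf 0x2f06)) (.node (.leaf 0x1c4a) (.leaf 0x59f4))) (.node (.node (.leaf 0xa23) (.leaf 0x450a)) (.node (.leaf 0x1d46) (.leaf 0x703c)))) (.node (.node (.node (.leaf 0x1d9c) (.leaf 0x3c7b)) (.node (.leaf 0x165e) (.leaf 0x6504))) (.node (.node (.leaf 0xc92) (.leaf 0x4f9d)) (.node (.leaf 0x247a) (.leaf 0x0))))) (.node (.node (.node (.node (.leaf 0x113f) (.leaf 0x36ff)) (.node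 (.leaf 0x136c) (.leaf 0x5f23))) (.node (.node (.leaf 0x9e9) (.leaf 0x4acd)) (.node (.leaf 0x553a) (.leaf 0x745a)))) (.node (.node (.node (.leaf 0x3f50) (.leaf 0x4226)) (.node (.leaf 0x1970) (.leaf 0x6a95))) (.node (.node (.leaf 0x1817) (.leaf 0x55b2)) (.node (.leaf 0x5d05) (.leaf 0x0))))))))

/-- Closure. -/
def clo227 : FTree := (.node (.node (.node (.node (.node (.node (.node (.leaf 0xf4) (.leaf 0x2ada)) (.node (.leaf 0x1a04) (.leaf 0x69d9))) (.node (.node (.leaf 0x972) (.leaf 0x6595)) (.node (.leaf 0x2806) (.leaf 0x6d15)))) (.node (.node (.node (.leaf 0x834) (.leaf 0x3807)) (.node (.leaf 0x18b2) (.leaf 0x61a5))) (.node (.node (.leaf 0xb21) (.leaf 0x4e1f)) (.node (.leaf 0x22f5) (.leaf 0x75e6))))) (.node (.node (.node (.node (.leaf 0x3e5) (.leaf 0x315a)) (.node (.leaf 0x1259) (.leaf 0x5da2))) (.node (.node (.leaf 0xb67) (.leaf 0x49b5)) (.node (.leaf 0x1f8f) (.leaf 0x7298)))) (.node (.node (.node (.leaf 0x2802)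 (.leaf 0x4731)) (.node (.leaf 0x410f) (.leaf 0x6949))) (.node (.node (.leaf 0xd7b) (.leaf 0x5624)) (.node (.leaf 0x262c) (.leaf 0x0)))))) (.node (.node (.node (.node (.node (.leaf 0x4fb) (.leaf 0x69aa)) (.node (.leaf 0x12b0) (.leaf 0x59a9))) (.node (.node (.leaf 0x25a5) (.leaf 0x470d)) (.node (.leaf 0x2ebb) (.leaf 0x7088)))) (.node (.node (.node (.leaf 0x6e9) (.leaf 0x3c44)) (.node (.leaf 0x16b0) (.leaf 0x650d))) (.node (.node (.leaf 0x6442) (.leaf 0x56b4)) (.node (.leaf 0x2461) (.leaf 0x0))))) (.node (.node (.node (.node (.leaf 0x30e8) (.leaf 0x3728)) (.node (.leaf 0x1366) (.leaf 0x60df))) (.node (.node (.leaf 0x104a) (.leaf 0x4b99)) (.node (.leaf 0x217d) (.leaf 0x74c9)))) (.node (.node (.node (.leaf 0x37b7) (.leaf 0x5281)) (.node (.leaf 0x191e) (.leaf 0x6a90))) (.node (.node (.leaf 0x68bb) (.leaf 0x55f6)) (.node (.leaf 0x4508) (.leaf 0x0))))))) (.node (.node (.node (.node (.node (.node (.leaf 0x18d) (.leaf 0x2b04))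 (.node (.leaf 0xf92) (.leaf 0x56c4))) (.node (.node (.leaf 0x32e3) (.leaf 0x5e6f)) (.node (.leaf 0x1be9) (.leaf 0x6c98)))) (.node (.node (.node (.leaf 0x13d8) (.leaf 0x62cc)) (.node (.leaf 0x151c) (.leaf 0x6378))) (.node (.node (.leaf 0x2717) (.leaf 0x4dd2)) (.node (.leaf 0x2318) (.leaf 0x7588))))) (.node (.node (.node (.node (.leaf 0x434) (.leaf 0x343a)) (.node (.leaf 0x1b3e) (.leaf 0x5b6d))) (.node (.node (.leaf 0x6e56) (.leaf 0x4893)) (.node (.leaf 0x4471) (.leaf 0x712a)))) (.node (.node (.node (.leaf 0x4a0) (.leaf 0x3eda)) (.node (.leaf 0x17c4) (.leaf 0x686f))) (.node (.node (.leaf 0xd1b) (.leaf 0x5250)) (.node (.leaf 0x260d) (.leaf 0x0)))))) (.node (.node (.node (.node (.node (.leaf 0x506) (.leaf 0x2e3d)) (.node (.leaf 0x1294) (.leaf 0x59fa))) (.node (.node (.leaf 0xaac) (.leaf 0x46fc)) (.node (.leaf 0x38dd) (.leaf 0x70fd)))) (.node (.node (.node (.leaf 0x904) (.leaf 0x3b9d)) (.node (.leaf 0x4eee) (.leaf 0x65bb)))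 (.node (.node (.leaf 0xc93) (.leaf 0x55ce)) (.node (.leaf 0x5c26) (.leaf 0x0))))) (.node (.node (.node (.node (.leaf 0x3008) (.leaf 0x36d6)) (.node (.leaf 0x1385) (.leaf 0x608b))) (.node (.node (.leaf 0x2f2a) (.leaf 0x4ae8)) (.node (.leaf 0x3414) (.leaf 0x74ae)))) (.node (.node (.node (.leaf 0x2eb4) (.leaf 0x4079)) (.node (.leaf 0x39b3) (.leaf 0x6bd7))) (.node (.node (.leaf 0x68b9) (.leaf 0x5418)) (.node (.leaf 0x3893) (.leaf 0x0))))))))

/-- Closure. -/
def clo228 : FTree := (.node (.node (.node (.node (.node (.node (.node (.leaf 0x23) (.leaf 0x2f46)) (.node (.leaf 0x19ee) (.leaf 0x56ab))) (.node (.node (.leaf 0xe33) (.leaf 0x43dc)) (.node (.leaf 0x410a) (.leaf 0x6d56)))) (.node (.node (.node (.leaf 0x83b) (.leaf 0x38cb)) (.node (.leaf 0x4be7) (.leaf 0x61c8))) (.node (.node (.leaf 0x2a8d) (.leaf 0x4d83)) (.node (.leaf 0x22d2) (.leaf 0x7574))))) (.node (.node (.node (.node (.leaf 0x2688) (.leaf 0x39c5)) (.node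 (.leaf 0x128f) (.leaf 0x5bb8))) (.node (.node (.leaf 0xea2) (.leaf 0x4790)) (.node (.leaf 0x2011) (.leaf 0x72fa)))) (.node (.node (.node (.leaf 0xb40) (.leaf 0x3d06)) (.node (.leaf 0x2a36) (.leaf 0x66e5))) (.node (.node (.leaf 0xe3b) (.leaf 0x51b9)) (.node (.leaf 0x3558) (.leaf 0x0)))))) (.node (.node (.node (.node (.node (.leaf 0x514) (.leaf 0x6ba0)) (.node (.leaf 0x1dcf) (.leaf 0x5987))) (.node (.node (.leaf 0x92d) (.leaf 0x6e39)) (.node (.leaf 0x1e7f) (.leaf 0x703d)))) (.node (.node (.node (.leaf 0x327d) (.leaf 0x3b3a)) (.node (.leaf 0x1d78) (.leaf 0x661a))) (.node (.node (.leaf 0x6436) (.leaf 0x6207)) (.node (.leaf 0x242d) (.leaf 0x0))))) (.node (.node (.node (.node (.leaf 0x2707) (.leaf 0x3612)) (.node (.leaf 0x2e23) (.leaf 0x603b))) (.node (.node (.leaf 0x2e79) (.leaf 0x4a74)) (.node (.leaf 0x34cf) (.leaf 0x74c1)))) (.node (.node (.node (.leaf 0x3f36) (.leaf 0x4044)) (.node (.leaf 0x1f10) (.leaf 0x6bf1)))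 (.node (.node (.leaf 0xeca) (.leaf 0x6365)) (.node (.leaf 0x5bda) (.leaf 0x0))))))) (.node (.node (.node (.node (.node (.node (.leaf 0x121) (.leaf 0x2e86)) (.node (.leaf 0x12b8) (.leaf 0x5873))) (.node (.node (.leaf 0x4f18) (.leaf 0x44a0)) (.node (.leaf 0x1b5d) (.leaf 0x6d98)))) (.node (.node (.node (.leaf 0x4687) (.leaf 0x388a)) (.node (.leaf 0x1537) (.leaf 0x61cf))) (.node (.node (.leaf 0xb0b) (.leaf 0x4ccc)) (.node (.leaf 0x2265) (.leaf 0x7552))))) (.node (.node (.node (.node (.leaf 0x2fc2) (.leaf 0x35b2)) (.node (.leaf 0x19bb) (.leaf 0x5d40))) (.node (.node (.leaf 0x2e46) (.leaf 0x4992)) (.node (.leaf 0x1feb) (.leaf 0x7282)))) (.node (.node (.node (.leaf 0x25f3) (.leaf 0x3ce7)) (.node (.leaf 0x2a23) (.leaf 0x6727))) (.node (.node (.leaf 0xdc4) (.leaf 0x5142)) (.node (.leaf 0x4c58) (.leaf 0x0)))))) (.node (.node (.node (.node (.node (.leaf 0x264) (.leaf 0x5c12)) (.node (.leaf 0x12a0) (.leaf 0x595d))) (.node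 (.node (.leaf 0x1bd4) (.leaf 0x4b70)) (.node (.leaf 0x1efa) (.leaf 0x70b3)))) (.node (.node (.node (.leaf 0x37bd) (.leaf 0x3bda)) (.node (.leaf 0x16a4) (.leaf 0x6472))) (.node (.node (.leaf 0x4a93) (.leaf 0x4e92)) (.node (.leaf 0x246b) (.leaf 0x0))))) (.node (.node (.node (.node (.leaf 0x356d) (.leaf 0x3ab2)) (.node (.leaf 0x26c0) (.leaf 0x5efa))) (.node (.node (.leaf 0x18c0) (.leaf 0x4a58)) (.node (.leaf 0x2116) (.leaf 0x7335)))) (.node (.node (.node (.leaf 0x2738) (.leaf 0x493c)) (.node (.leaf 0x1e8a) (.leaf 0x6bef))) (.node (.node (.leaf 0x4634) (.leaf 0x54f9)) (.node (.leaf 0x27b7) (.leaf 0x0))))))))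

/-- Closure. -/
def clo229 : FTree := (.node (.node (.node (.node (.node (.node (.node (.leaf 0x9a) (.leaf 0x2ad1)) (.node (.leaf 0xfa3) (.leaf 0x5e9d))) (.node (.node (.leaf 0x68da) (.leaf 0x491b)) (.node (.leaf 0x34e6) (.leaf 0x6c6c)))) (.node (.node (.node (.leaf 0x3d13) (.leaf 0x379e)) (.node (.leaf 0x1506) (.leaf 0x61c6))) (.node (.node (.leaf 0x110a) (.leaf 0x4ca2)) (.node (.leaf 0x673f) (.leaf 0x7538))))) (.node (.node (.node (.node (.leaf 0xa8b) (.leaf 0x3410)) (.node (.leaf 0x1605) (.leaf 0x5db4))) (.node (.node (.leaf 0x44d3) (.leaf 0x47a1)) (.node (.leaf 0x1fe1) (.leaf 0x7271)))) (.node (.node (.node (.leaf 0x32dc) (.leaf 0x3e30)) (.node (.leaf 0x1863) (.leaf 0x68d7))) (.node (.node (.leaf 0xe3d) (.leaf 0x5304)) (.node (.leaf 0x2624) (.leaf 0x0)))))) (.node (.node (.node (.node (.node (.leaf 0x4ea) (.leaf 0x2e52)) (.node (.leaf 0x3fcd) (.leaf 0x59ef))) (.node (.node (.leaf 0x17f5) (.leaf 0x45d6)) (.node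 (.leaf 0x1e65) (.leaf 0x70b2)))) (.node (.node (.node (.leaf 0x451f) (.leaf 0x3baa)) (.node (.leaf 0x21ee) (.leaf 0x6502))) (.node (.node (.leaf 0xca0) (.leaf 0x5c69)) (.node (.leaf 0x3bb7) (.leaf 0x0))))) (.node (.node (.node (.node (.leaf 0x3007) (.leaf 0x36b7)) (.node (.leaf 0x3e1c) (.leaf 0x6020))) (.node (.node (.leaf 0x1a23) (.leaf 0x4b13)) (.node (.leaf 0x2130) (.leaf 0x74a5)))) (.node (.node (.node (.leaf 0x67d3) (.leaf 0x43e9)) (.node (.leaf 0x2c3b) (.leaf 0x6be9))) (.node (.node (.leaf 0x1dca) (.leaf 0x5581)) (.node (.leaf 0x2736) (.leaf 0x0))))))) (.node (.node (.node (.node (.node (.node (.leaf 0x1c6) (.leaf 0x5398)) (.node (.leaf 0x5d8a) (.leaf 0x5865))) (.node (.node (.leaf 0x215e) (.leaf 0x431d)) (.node (.leaf 0x1da2) (.leaf 0x6d12)))) (.node (.node (.node (.leaf 0x3cd9) (.leaf 0x387b)) (.node (.leaf 0x145f) (.leaf 0x62e4))) (.node (.node (.leaf 0xb80) (.leaf 0x4ce3)) (.node (.leaf 0x53cf) (.leaf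 0x7571))))) (.node (.node (.node (.node (.leaf 0x2257) (.leaf 0x328f)) (.node (.leaf 0x2515) (.leaf 0x5d69))) (.node (.node (.leaf 0x5e73) (.leaf 0x481b)) (.node (.leaf 0x1f6a) (.leaf 0x728c)))) (.node (.node (.node (.leaf 0xd4c) (.leaf 0x3fad)) (.node (.leaf 0x17c3) (.leaf 0x6701))) (.node (.node (.leaf 0xff5) (.leaf 0x528a)) (.node (.leaf 0x25eb) (.leaf 0x0)))))) (.node (.node (.node (.node (.node (.leaf 0x230) (.leaf 0x2e85)) (.node (.leaf 0x2f19) (.leaf 0x58c5))) (.node (.node (.leaf 0x27c1) (.leaf 0x46c0)) (.node (.leaf 0x1d26) (.leaf 0x6f7a)))) (.node (.node (.node (.leaf 0x3618) (.leaf 0x3b7b)) (.node (.leaf 0x33e9) (.leaf 0x6577))) (.node (.node (.leaf 0x3045) (.leaf 0x4f5e)) (.node (.leaf 0x244e) (.leaf 0x0))))) (.node (.node (.node (.node (.leaf 0x1765) (.leaf 0x35ed)) (.node (.leaf 0x2b07) (.leaf 0x5f22))) (.node (.node (.leaf 0x1577) (.leaf 0x4bbd)) (.node (.leaf 0x5d4b) (.leaf 0x74d3)))) (.node (.node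 (.node (.leaf 0x5a6) (.leaf 0x401e)) (.node (.leaf 0x1995) (.leaf 0x6b16))) (.node (.node (.leaf 0xecd) (.leaf 0x55ff)) (.node (.leaf 0x286c) (.leaf 0x0))))))))

/-- Closure. -/
def clo230 : FTree := (.node (.node (.node (.node (.node (.node (.node (.leaf 0x82) (.leaf 0x36d9)) (.node (.leaf 0x1c2a) (.leaf 0x57dd))) (.node (.node (.leaf 0x3e00) (.leaf 0x4417)) (.node (.leaf 0x1bff) (.leaf 0x6e21)))) (.node (.node (.node (.leaf 0x3ce5) (.leaf 0x3813)) (.node (.leaf 0x1a90) (.leaf 0x6307))) (.node (.node (.leaf 0xa77) (.leaf 0x4d49)) (.node (.leaf 0x22e6) (.leaf 0x759c))))) (.node (.node (.node (.node (.leaf 0x2fb5) (.leaf 0x342b)) (.node (.leaf 0x1189) (.leaf 0x6109))) (.node (.node (.leaf 0x2e48) (.leaf 0x483b)) (.node (.leaf 0x1fb6) (.leaf 0x7218)))) (.node (.node (.node (.leaf 0x172f) (.leaf 0x6789)) (.node (.leaf 0x2933) (.leaf 0x68ff))) (.node (.node (.leaf 0x5d55) (.leaf 0x5631)) (.node (.leaf 0x4263) (.leaf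 0x0)))))) (.node (.node (.node (.node (.node (.leaf 0x2d0) (.leaf 0x367e)) (.node (.leaf 0x2fa9) (.leaf 0x5a30))) (.node (.node (.leaf 0x736) (.leaf 0x474e)) (.node (.leaf 0x2b18) (.leaf 0x6f55)))) (.node (.node (.node (.leaf 0x2ac4) (.leaf 0x3b48)) (.node (.leaf 0x1609) (.leaf 0x65ec))) (.node (.node (.leaf 0x4a9a) (.leaf 0x4ea3)) (.node (.leaf 0x5118) (.leaf 0x0))))) (.node (.node (.node (.node (.leaf 0x2996) (.leaf 0x41e2)) (.node (.leaf 0x3e5a) (.leaf 0x5fde))) (.node (.node (.leaf 0x9cc) (.leaf 0x4ab8)) (.node (.leaf 0x3416) (.leaf 0x7349)))) (.node (.node (.node (.leaf 0x368f) (.leaf 0x4099)) (.node (.leaf 0x6ca4) (.leaf 0x6a4e))) (.node (.node (.leaf 0x17b3) (.leaf 0x54db)) (.node (.leaf 0x273b) (.leaf 0x0))))))) (.node (.node (.node (.node (.node (.node (.leaf 0x181) (.leaf 0x2c56)) (.node (.leaf 0x2a88) (.leaf 0x583b))) (.node (.node (.leaf 0xdb4) (.leaf 0x4868)) (.node (.leaf 0x5e5c) (.leaf 0x6e1b))))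 (.node (.node (.node (.leaf 0x3d0e) (.leaf 0x3b8c)) (.node (.leaf 0x1563) (.leaf 0x61c2))) (.node (.node (.leaf 0x1059) (.leaf 0x4cca)) (.node (.leaf 0x6753) (.leaf 0x752b))))) (.node (.node (.node (.node (.leaf 0x330) (.leaf 0x3a81)) (.node (.leaf 0x1174) (.leaf 0x5b93))) (.node (.node (.leaf 0x2dc1) (.leaf 0x4889)) (.node (.leaf 0x5dd7) (.leaf 0x72e2)))) (.node (.node (.node (.leaf 0x47f) (.leaf 0x3d04)) (.node (.leaf 0x2d1c) (.leaf 0x6710))) (.node (.node (.leaf 0x342c) (.leaf 0x5170)) (.node (.leaf 0x5eb6) (.leaf 0x0)))))) (.node (.node (.node (.node (.node (.leaf 0x35a) (.leaf 0x5c46)) (.node (.leaf 0xfd5) (.leaf 0x5a09))) (.node (.node (.leaf 0x1aca) (.leaf 0x46ca)) (.node (.leaf 0x37f6) (.leaf 0x701b)))) (.node (.node (.node (.leaf 0x4b0) (.leaf 0x3cb3)) (.node (.leaf 0x16c1) (.leaf 0x646f))) (.node (.node (.leaf 0x357c) (.leaf 0x55d0)) (.node (.leaf 0x242f) (.leaf 0x0))))) (.node (.node (.node (.node (.leaf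 0x29fa) (.leaf 0x3803)) (.node (.leaf 0x1350) (.leaf 0x5ee4))) (.node (.node (.leaf 0x1b09) (.leaf 0x4a27)) (.node (.leaf 0x2126) (.leaf 0x7491)))) (.node (.node (.node (.leaf 0x140e) (.leaf 0x40cb)) (.node (.leaf 0x18ee) (.leaf 0x6bb5))) (.node (.node (.leaf 0x27ea) (.leaf 0x6367)) (.node (.leaf 0x283c) (.leaf 0x0))))))))

/-- Closure. -/
def clo231 : FTree := (.node (.node (.node (.node (.node (.node (.node (.leaf 0x13d) (.leaf 0x5da5)) (.node (.leaf 0x57c5) (.leaf 0x5699))) (.node (.node (.leaf 0x5b94) (.leaf 0x43b2)) (.node (.leaf 0x22af) (.leaf 0x6de3)))) (.node (.node (.node (.leaf 0x4667) (.leaf 0x45f8)) (.node (.leaf 0x32a5) (.leaf 0x61c5))) (.node (.node (.leaf 0x3850) (.leaf 0x4d75)) (.node (.leaf 0x673a) (.leaf 0x76ab))))) (.node (.node (.node (.node (.leaf 0x3e6) (.leaf 0x311e)) (.node (.leaf 0x12d0) (.leaf 0x6b26))) (.node (.node (.leaf 0x2914) (.leaf 0x4792)) (.node (.leaf 0x1f71) (.leaf 0x7152))))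 (.node (.node (.node (.leaf 0x492) (.leaf 0x3d39)) (.node (.leaf 0x30b4) (.leaf 0x6900))) (.node (.node (.leaf 0x1fc5) (.leaf 0x5225)) (.node (.leaf 0x5457) (.leaf 0x0)))))) (.node (.node (.node (.node (.node (.leaf 0x50b) (.leaf 0x5b23)) (.node (.leaf 0x246e) (.leaf 0x59b3))) (.node (.node (.leaf 0x5ee6) (.leaf 0x462d)) (.node (.leaf 0x1ea4) (.leaf 0x7062)))) (.node (.node (.node (.leaf 0x30aa) (.leaf 0x3c63)) (.node (.leaf 0x15c8) (.leaf 0x6640))) (.node (.node (.leaf 0x358d) (.leaf 0x5d0d)) (.node (.leaf 0x23b5) (.leaf 0x0))))) (.node (.node (.node (.node (.leaf 0xdf5) (.leaf 0x364a)) (.node (.leaf 0x691f) (.leaf 0x5f19))) (.node (.node (.leaf 0x671f) (.leaf 0x4b21)) (.node (.leaf 0x2182) (.leaf 0x74ca)))) (.node (.node (.node (.leaf 0x68e4) (.leaf 0x419b)) (.node (.leaf 0x1963) (.leaf 0x6ba2))) (.node (.node (.leaf 0xed6) (.leaf 0x5355)) (.node (.leaf 0x27db) (.leaf 0x0))))))) (.node (.node (.node (.node (.node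 (.node (.leaf 0x1e0) (.leaf 0x2bcb)) (.node (.leaf 0xf99) (.leaf 0x575f))) (.node (.node (.leaf 0x973) (.leaf 0x442d)) (.node (.leaf 0x39c0) (.leaf 0x6e72)))) (.node (.node (.node (.leaf 0x3d1c) (.leaf 0x38e2)) (.node (.leaf 0x1549) (.leaf 0x62a8))) (.node (.node (.leaf 0x44e2) (.leaf 0x4c34)) (.node (.leaf 0x2af7) (.leaf 0x7563))))) (.node (.node (.node (.node (.leaf 0x3e3) (.leaf 0x3244)) (.node (.leaf 0x11b1) (.leaf 0x5da1))) (.node (.node (.leaf 0x12d4) (.leaf 0x495d)) (.node (.leaf 0x375b) (.leaf 0x72f9)))) (.node (.node (.node (.leaf 0x6f0) (.leaf 0x3e44)) (.node (.leaf 0x17a3) (.leaf 0x699a))) (.node (.node (.leaf 0x1b95) (.leaf 0x5236)) (.node (.leaf 0x2642) (.leaf 0x0)))))) (.node (.node (.node (.node (.node (.leaf 0x4bf) (.leaf 0x2d7f)) (.node (.leaf 0x107e) (.leaf 0x5a69))) (.node (.node (.leaf 0x108f) (.leaf 0x452d)) (.node (.leaf 0x1e56) (.leaf 0x6f7e)))) (.node (.node (.node (.leaf 0x599) (.leaf 0x3c62))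 (.node (.leaf 0x158e) (.leaf 0x65cd))) (.node (.node (.leaf 0xcb5) (.leaf 0x4eff)) (.node (.leaf 0x3e2f) (.leaf 0x0))))) (.node (.node (.node (.node (.leaf 0x6147) (.leaf 0x35f7)) (.node (.leaf 0x143d) (.leaf 0x6096))) (.node (.node (.leaf 0x958) (.leaf 0x4b11)) (.node (.leaf 0x2f3a) (.leaf 0x73b4)))) (.node (.node (.node (.leaf 0x2321) (.leaf 0x40c1)) (.node (.leaf 0x1f0d) (.leaf 0x6ba7))) (.node (.node (.leaf 0x5cc5) (.leaf 0x6ef8)) (.node (.leaf 0x3873) (.leaf 0x0))))))))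

/-- Closure. -/
def clo232 : FTree := (.node (.node (.node (.node (.node (.node (.node (.leaf 0x26) (.leaf 0x5da6)) (.node (.leaf 0x57cc) (.leaf 0x576d))) (.node (.node (.leaf 0x185c) (.leaf 0x4390)) (.node (.leaf 0x1b3f) (.leaf 0x6dfd)))) (.node (.node (.node (.leaf 0x13e1) (.leaf 0x3c76)) (.node (.leaf 0x1552) (.leaf 0x6201))) (.node (.node (.leaf 0x237b) (.leaf 0x4dd3)) (.node (.leaf 0x22f1) (.leaf 0x7704))))) (.node (.node (.node (.node (.leaf 0x39ce) (.leaf 0x3345)) (.node (.leaf 0x2bc8) (.leaf 0x6326))) (.node (.node (.leaf 0x44d8) (.leaf 0x48a8)) (.node (.leaf 0x1f78) (.leaf 0x715b)))) (.node (.node (.node (.leaf 0x48a) (.leaf 0x3e27)) (.node (.leaf 0x1862) (.leaf 0x6964))) (.node (.node (.leaf 0xd1a) (.leaf 0x526b)) (.node (.leaf 0x5107) (.leaf 0x0)))))) (.node (.node (.node (.node (.node (.leaf 0x4c8) (.leaf 0x417b)) (.node (.leaf 0x4e06) (.leaf 0x5a3a))) (.node (.node (.leaf 0x8a4) (.leaf 0x45a5)) (.node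 (.leaf 0x1ebe) (.leaf 0x707b)))) (.node (.node (.node (.leaf 0x47c) (.leaf 0x3a9f)) (.node (.leaf 0x3c2b) (.leaf 0x65b0))) (.node (.node (.leaf 0xc9e) (.leaf 0x4e9f)) (.node (.leaf 0x2364) (.leaf 0x0))))) (.node (.node (.node (.node (.leaf 0x3005) (.leaf 0x3634)) (.node (.leaf 0x5bef) (.leaf 0x5f7e))) (.node (.node (.leaf 0x2562) (.leaf 0x4b6a)) (.node (.leaf 0x2123) (.leaf 0x7353)))) (.node (.node (.node (.leaf 0xb27) (.leaf 0x45dc)) (.node (.leaf 0x19f9) (.leaf 0x6ab7))) (.node (.node (.leaf 0xe2f) (.leaf 0x5463)) (.node (.leaf 0x5bd3) (.leaf 0x0))))))) (.node (.node (.node (.node (.node (.node (.leaf 0x13f) (.leaf 0x2c38)) (.node (.leaf 0xf40) (.leaf 0x5666))) (.node (.node (.leaf 0x3034) (.leaf 0x435a)) (.node (.leaf 0x2877) (.leaf 0x6e28)))) (.node (.node (.node (.leaf 0x7f4) (.leaf 0x3e7c)) (.node (.leaf 0x1521) (.leaf 0x6189))) (.node (.node (.leaf 0x2b73) (.leaf 0x4d2c)) (.node (.leaf 0x6e42) (.leaf 0x75f4)))))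 (.node (.node (.node (.node (.leaf 0x2d1e) (.leaf 0x3533)) (.node (.leaf 0x12a2) (.leaf 0x5ca8))) (.node (.node (.leaf 0x4701) (.leaf 0x4932)) (.node (.leaf 0x1faf) (.leaf 0x72de)))) (.node (.node (.node (.leaf 0x46e) (.leaf 0x3f4c)) (.node (.leaf 0x295e) (.leaf 0x68b4))) (.node (.node (.leaf 0x121f) (.leaf 0x51ae)) (.node (.leaf 0x25b5) (.leaf 0x0)))))) (.node (.node (.node (.node (.node (.leaf 0x22b) (.leaf 0x2d93)) (.node (.leaf 0x548b) (.leaf 0x59be))) (.node (.node (.leaf 0x3380) (.leaf 0x44c0)) (.node (.leaf 0x2b17) (.leaf 0x6f9c)))) (.node (.node (.node (.leaf 0x61a) (.leaf 0x3a4d)) (.node (.leaf 0x1692) (.leaf 0x652a))) (.node (.node (.leaf 0x6182) (.leaf 0x50bc)) (.node (.leaf 0x6e60) (.leaf 0x0))))) (.node (.node (.node (.node (.leaf 0x49e1) (.leaf 0x35e5)) (.node (.leaf 0x140c) (.leaf 0x60ed))) (.node (.node (.leaf 0x18d9) (.leaf 0x49e4)) (.node (.leaf 0x21eb) (.leaf 0x736d)))) (.node (.node (.node (.leaf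 0x3b74) (.leaf 0x4075)) (.node (.leaf 0x1bfc) (.leaf 0x6a92))) (.node (.node (.leaf 0x5b68) (.leaf 0x542f)) (.node (.leaf 0x28af) (.leaf 0x0))))))))

/-- Closure. -/
def clo233 : FTree := (.node (.node (.node (.node (.node (.node (.node (.leaf 0xcd) (.leaf 0x29e4)) (.node (.leaf 0xf66) (.leaf 0x5759))) (.node (.node (.leaf 0x32e4) (.leaf 0x43cd)) (.node (.leaf 0x1b82) (.leaf 0x6ce3)))) (.node (.node (.node (.leaf 0x3d28) (.leaf 0x64c9)) (.node (.leaf 0x3feb) (.leaf 0x6299))) (.node (.node (.leaf 0x364c) (.leaf 0x4e04)) (.node (.leaf 0x3095) (.leaf 0x7659))))) (.node (.node (.node (.node (.leaf 0x8de) (.leaf 0x3564)) (.node (.leaf 0x2180) (.leaf 0x5b6e))) (.node (.node (.leaf 0x174e) (.leaf 0x47fd)) (.node (.leaf 0x2c5f) (.leaf 0x72d3)))) (.node (.node (.node (.leaf 0x54a2) (.leaf 0x3ea1)) (.node (.leaf 0x181e) (.leaf 0x68c3))) (.node (.node (.leaf 0x4aa3) (.leaf 0x518e)) (.node (.leaf 0x5f93) (.leaf 0x0)))))) (.node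 (.node (.node (.node (.node (.leaf 0x302) (.leaf 0x2d73)) (.node (.leaf 0x17ef) (.leaf 0x5986))) (.node (.node (.leaf 0x8fc) (.leaf 0x6792)) (.node (.leaf 0x374f) (.leaf 0x6fbd)))) (.node (.node (.node (.leaf 0xa57) (.leaf 0x3bf9)) (.node (.leaf 0x1670) (.leaf 0x6586))) (.node (.node (.leaf 0x4aa1) (.leaf 0x5e4e)) (.node (.leaf 0x2466) (.leaf 0x0))))) (.node (.node (.node (.node (.leaf 0x6148) (.leaf 0x35e2)) (.node (.leaf 0x6887) (.leaf 0x6083))) (.node (.node (.leaf 0x4a3c) (.leaf 0x4a18)) (.node (.leaf 0x222f) (.leaf 0x74f0)))) (.node (.node (.node (.leaf 0x10ff) (.leaf 0x4177)) (.node (.leaf 0x1994) (.leaf 0x6b78))) (.node (.node (.leaf 0x5ce6) (.leaf 0x54fb)) (.node (.leaf 0x281f) (.leaf 0x0))))))) (.node (.node (.node (.node (.node (.node (.leaf 0x125) (.leaf 0x2948)) (.node (.leaf 0xefc) (.leaf 0x57b2))) (.node (.node (.leaf 0x6aa) (.leaf 0x42d6)) (.node (.leaf 0x1b61) (.leaf 0x6e6e)))) (.node (.node (.node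 (.leaf 0x373) (.leaf 0x3812)) (.node (.leaf 0x3451) (.leaf 0x6219))) (.node (.node (.leaf 0xb7a) (.leaf 0x4d09)) (.node (.leaf 0x2270) (.leaf 0x751f))))) (.node (.node (.node (.node (.leaf 0x57c) (.leaf 0x30c0)) (.node (.leaf 0x1b68) (.leaf 0x5e27))) (.node (.node (.leaf 0x81b) (.leaf 0x47a0)) (.node (.leaf 0x1f5b) (.leaf 0x724c)))) (.node (.node (.node (.leaf 0x30b5) (.leaf 0x3cc4)) (.node (.leaf 0x1751) (.leaf 0x66cb))) (.node (.node (.leaf 0x5d1a) (.leaf 0x5147)) (.node (.leaf 0x39b7) (.leaf 0x0)))))) (.node (.node (.node (.node (.node (.leaf 0x205) (.leaf 0x2e6e)) (.node (.leaf 0x1ee6) (.leaf 0x58ea))) (.node (.node (.leaf 0x4f60) (.leaf 0x69b8)) (.node (.leaf 0x1e7e) (.leaf 0x703a)))) (.node (.node (.node (.leaf 0x2a1b) (.leaf 0x39fe)) (.node (.leaf 0x21ed) (.leaf 0x647f))) (.node (.node (.leaf 0xbd2) (.leaf 0x4e33)) (.node (.leaf 0x243b) (.leaf 0x0))))) (.node (.node (.node (.node (.leaf 0x42c4) (.leaf 0x36b6))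 (.node (.leaf 0x3e48) (.leaf 0x6025))) (.node (.node (.leaf 0x3949) (.leaf 0x49d1)) (.node (.leaf 0x4f65) (.leaf 0x742a)))) (.node (.node (.node (.leaf 0x567) (.leaf 0x41ff)) (.node (.leaf 0x19c6) (.leaf 0x6b28))) (.node (.node (.leaf 0x38b4) (.leaf 0x5590)) (.node (.leaf 0x2ec3) (.leaf 0x0))))))))

/-- Closure. -/
def clo234 : FTree := (.node (.node (.node (.node (.node (.node (.node (.leaf 0x79) (.leaf 0x2b33)) (.node (.leaf 0x1c26) (.leaf 0x57a4))) (.node (.node (.leaf 0x6a3) (.leaf 0x43e1)) (.node (.leaf 0x2146) (.leaf 0x6cf8)))) (.node (.node (.node (.leaf 0x3cdd) (.leaf 0x37aa)) (.node (.leaf 0x15f9) (.leaf 0x6679))) (.node (.node (.leaf 0xce2) (.leaf 0x4c96)) (.node (.leaf 0x22d4) (.leaf 0x76cf))))) (.node (.node (.node (.node (.leaf 0x2fb9) (.leaf 0x31c6)) (.node (.leaf 0x1208) (.leaf 0x5cbc))) (.node (.node (.leaf 0x2e47) (.leaf 0x4808)) (.node (.leaf 0x1fdd) (.leaf 0x71d0)))) (.node (.node (.node (.leaf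 0x24ff) (.leaf 0x3e70)) (.node (.leaf 0x55fb) (.leaf 0x68f8))) (.node (.node (.leaf 0x34fe) (.leaf 0x562e)) (.node (.leaf 0x276c) (.leaf 0x0)))))) (.node (.node (.node (.node (.node (.leaf 0x2de) (.leaf 0x53e8)) (.node (.leaf 0x2431) (.leaf 0x5a2b))) (.node (.node (.leaf 0x32eb) (.leaf 0x45f3)) (.node (.leaf 0x275e) (.leaf 0x70d1)))) (.node (.node (.node (.leaf 0x26e4) (.leaf 0x3b01)) (.node (.leaf 0x2233) (.leaf 0x64df))) (.node (.node (.leaf 0x4a97) (.leaf 0x5104)) (.node (.leaf 0x2424) (.leaf 0x0))))) (.node (.node (.node (.node (.leaf 0x2a00) (.leaf 0x36b2)) (.node (.leaf 0x3e56) (.leaf 0x6110))) (.node (.node (.leaf 0x4196) (.leaf 0x4ba1)) (.node (.leaf 0x4d7a) (.leaf 0x7504)))) (.node (.node (.node (.leaf 0x3690) (.leaf 0x4288)) (.node (.leaf 0x18e6) (.leaf 0x6b63))) (.node (.node (.leaf 0xe8b) (.leaf 0x559d)) (.node (.leaf 0x2742) (.leaf 0x0))))))) (.node (.node (.node (.node (.node (.node (.leaf 0x145)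 (.leaf 0x2a28)) (.node (.leaf 0x12c2) (.leaf 0x56fe))) (.node (.node (.leaf 0x1b4d) (.leaf 0x4387)) (.node (.leaf 0x1af0) (.leaf 0x6dd4)))) (.node (.node (.node (.leaf 0x4688) (.leaf 0x37ef)) (.node (.leaf 0x3459) (.leaf 0x62f2))) (.node (.node (.leaf 0x1b36) (.leaf 0x4ce6)) (.node (.leaf 0x538b) (.leaf 0x7714))))) (.node (.node (.node (.node (.leaf 0x873) (.leaf 0x3782)) (.node (.leaf 0x3c61) (.leaf 0x5dbf))) (.node (.node (.leaf 0x1846) (.leaf 0x48f0)) (.node (.leaf 0x206b) (.leaf 0x7219)))) (.node (.node (.node (.leaf 0x39fc) (.leaf 0x3e84)) (.node (.leaf 0x3384) (.leaf 0x677d))) (.node (.node (.leaf 0xff2) (.leaf 0x563e)) (.node (.leaf 0x252f) (.leaf 0x0)))))) (.node (.node (.node (.node (.node (.leaf 0x276) (.leaf 0x2d76)) (.node (.leaf 0xfc7) (.leaf 0x58d7))) (.node (.node (.leaf 0x3a8b) (.leaf 0x4744)) (.node (.leaf 0x4763) (.leaf 0x6f4c)))) (.node (.node (.node (.leaf 0x36ca) (.leaf 0x3c80)) (.node (.leaf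 0x1582) (.leaf 0x63f9))) (.node (.node (.leaf 0xbdd) (.leaf 0x4f26)) (.node (.leaf 0x5116) (.leaf 0x0))))) (.node (.node (.node (.node (.leaf 0x33d) (.leaf 0x3628)) (.node (.leaf 0x135b) (.leaf 0x5f83))) (.node (.node (.leaf 0x5bd8) (.leaf 0x4a55)) (.node (.leaf 0x412f) (.leaf 0x7507)))) (.node (.node (.node (.leaf 0x4fa8) (.leaf 0x416c)) (.node (.leaf 0x1905) (.leaf 0x6c1f))) (.node (.node (.leaf 0xdd4) (.leaf 0x54de)) (.node (.leaf 0x292f) (.leaf 0x0))))))))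

/-- Closure. -/
def clo235 : FTree := (.node (.node (.node (.node (.node (.node (.node (.leaf 0xdf) (.leaf 0x2bac)) (.node (.leaf 0x3186) (.leaf 0x574e))) (.node (.node (.leaf 0x38ec) (.leaf 0x43ba)) (.node (.leaf 0x1aa4) (.leaf 0x6c92)))) (.node (.node (.node (.leaf 0x1c7f) (.leaf 0x379f)) (.node (.leaf 0x18b9) (.leaf 0x6302))) (.node (.node (.leaf 0xb42) (.leaf 0x4cd8)) (.node (.leaf 0x54d3) (.leaf 0x75df))))) (.node (.node (.node (.node (.leaf 0x2fcf) (.leaf 0x317b)) (.node (.leaf 0x180f) (.leaf 0x6862))) (.node (.node (.leaf 0x86d) (.leaf 0x47ab)) (.node (.leaf 0x5585) (.leaf 0x7159)))) (.node (.node (.node (.leaf 0x323c) (.leaf 0x3f1e)) (.node (.leaf 0x2408) (.leaf 0x68c2))) (.node (.node (.leaf 0xd86) (.leaf 0x513e)) (.node (.leaf 0x2683) (.leaf 0x0)))))) (.node (.node (.node (.node (.node (.leaf 0xbc0) (.leaf 0x37f1)) (.node (.leaf 0x2240) (.leaf 0x5a26))) (.node (.node (.leaf 0x219a) (.leaf 0x45c2)) (.node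 (.leaf 0x20e0) (.leaf 0x7048)))) (.node (.node (.node (.leaf 0x69b) (.leaf 0x3a95)) (.node (.leaf 0x16af) (.leaf 0x65fe))) (.node (.node (.leaf 0xc45) (.leaf 0x50e1)) (.node (.leaf 0x23dd) (.leaf 0x0))))) (.node (.node (.node (.node (.leaf 0xc2e) (.leaf 0x36a6)) (.node (.leaf 0x66ae) (.leaf 0x60e4))) (.node (.node (.leaf 0x9d2) (.leaf 0x4a52)) (.node (.leaf 0x495f) (.leaf 0x749d)))) (.node (.node (.node (.leaf 0x58a) (.leaf 0x5366)) (.node (.leaf 0x19de) (.leaf 0x6a76))) (.node (.node (.leaf 0x6815) (.leaf 0x549b)) (.node (.leaf 0x45c6) (.leaf 0x0))))))) (.node (.node (.node (.node (.node (.node (.leaf 0x1bb) (.leaf 0x326a)) (.node (.leaf 0x5d92) (.leaf 0x5e39))) (.node (.node (.leaf 0x2882) (.leaf 0x4362)) (.node (.leaf 0x1c56) (.leaf 0x6e02)))) (.node (.node (.node (.leaf 0x821) (.leaf 0x37ec)) (.node (.leaf 0x1603) (.leaf 0x63c1))) (.node (.node (.leaf 0x5cc1) (.leaf 0x4d9d)) (.node (.leaf 0x54ca) (.leaf 0x761b)))))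 (.node (.node (.node (.node (.leaf 0x3b4) (.leaf 0x34e4)) (.node (.leaf 0x277c) (.leaf 0x5b20))) (.node (.node (.leaf 0x7d8) (.leaf 0x4806)) (.node (.leaf 0x209c) (.leaf 0x71ea)))) (.node (.node (.node (.leaf 0x4ad) (.leaf 0x3dd4)) (.node (.leaf 0x1878) (.leaf 0x6985))) (.node (.node (.leaf 0xd49) (.leaf 0x5237)) (.node (.leaf 0x2573) (.leaf 0x0)))))) (.node (.node (.node (.node (.node (.leaf 0x225) (.leaf 0x2e9f)) (.node (.leaf 0x187a) (.leaf 0x599b))) (.node (.node (.leaf 0x1aa8) (.leaf 0x661e)) (.node (.leaf 0x275d) (.leaf 0x70c6)))) (.node (.node (.node (.leaf 0x4f14) (.leaf 0x3a32)) (.node (.leaf 0x1adb) (.leaf 0x65c6))) (.node (.node (.leaf 0xc14) (.leaf 0x4fde)) (.node (.leaf 0x2367) (.leaf 0x0))))) (.node (.node (.node (.node (.leaf 0x559) (.leaf 0x3801)) (.node (.leaf 0x1404) (.leaf 0x5fc3))) (.node (.node (.leaf 0x9df) (.leaf 0x4a84)) (.node (.leaf 0x34d2) (.leaf 0x7377)))) (.node (.node (.node (.leaf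 0x3d69) (.leaf 0x408b)) (.node (.leaf 0x19dc) (.leaf 0x6b5a))) (.node (.node (.leaf 0x433e) (.leaf 0x5402)) (.node (.leaf 0x2909) (.leaf 0x0))))))))

/-- Closure. -/
def clo236 : FTree := (.node (.node (.node (.node (.node (.node (.node (.leaf 0x54) (.leaf 0x2a90)) (.node (.leaf 0x5128) (.leaf 0x56d5))) (.node (.node (.leaf 0x8f9) (.leaf 0x4453)) (.node (.leaf 0x3530) (.leaf 0x6dc0)))) (.node (.node (.node (.leaf 0x2de8) (.leaf 0x3936)) (.node (.leaf 0x4512) (.leaf 0x6313))) (.node (.node (.leaf 0x1e53) (.leaf 0x4d65)) (.node (.leaf 0x6741) (.leaf 0x7555))))) (.node (.node (.node (.node (.leaf 0x8e5) (.leaf 0x333b)) (.node (.leaf 0x11e6) (.leaf 0x5b95))) (.node (.node (.leaf 0x324c) (.leaf 0x4848)) (.node (.leaf 0x5dd0) (.leaf 0x71e6)))) (.node (.node (.node (.leaf 0x32ed) (.leaf 0x3f65)) (.node (.leaf 0x5f92) (.leaf 0x6765))) (.node (.node (.leaf 0x1e5b) (.leaf 0x525d)) (.node (.leaf 0x254a) (.leaf 0x0)))))) (.node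 (.node (.node (.node (.node (.leaf 0xee7) (.leaf 0x584b)) (.node (.leaf 0x1b1c) (.leaf 0x5a7f))) (.node (.node (.leaf 0x55df) (.leaf 0x6620)) (.node (.leaf 0x1e97) (.leaf 0x6fa5)))) (.node (.node (.node (.leaf 0x29d7) (.leaf 0x3acd)) (.node (.leaf 0x1681) (.leaf 0x647c))) (.node (.node (.leaf 0x305d) (.leaf 0x50b6)) (.node (.leaf 0x24ce) (.leaf 0x0))))) (.node (.node (.node (.node (.leaf 0xa9c) (.leaf 0x3698)) (.node (.leaf 0x139a) (.leaf 0x60ac))) (.node (.node (.leaf 0x9e0) (.leaf 0x5eac)) (.node (.leaf 0x213e) (.leaf 0x736e)))) (.node (.node (.node (.leaf 0x9ba) (.leaf 0x4289)) (.node (.leaf 0x1920) (.leaf 0x6c11))) (.node (.node (.leaf 0x119c) (.leaf 0x54ff)) (.node (.leaf 0x28c0) (.leaf 0x0))))))) (.node (.node (.node (.node (.node (.node (.leaf 0x109) (.leaf 0x2b77)) (.node (.leaf 0xf24) (.leaf 0x56d9))) (.node (.node (.leaf 0xdef) (.leaf 0x4325)) (.node (.leaf 0x1b47) (.leaf 0x6ea1)))) (.node (.node (.node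 (.leaf 0x7df) (.leaf 0x4c4a)) (.node (.leaf 0x32a7) (.leaf 0x63b9))) (.node (.node (.leaf 0x3d8e) (.leaf 0x4e0f)) (.node (.leaf 0x2267) (.leaf 0x755b))))) (.node (.node (.node (.node (.leaf 0x2a63) (.leaf 0x310f)) (.node (.leaf 0x291e) (.leaf 0x5b38))) (.node (.node (.leaf 0x3a0d) (.leaf 0x4827)) (.node (.leaf 0x34a0) (.leaf 0x714e)))) (.node (.node (.node (.leaf 0xb39) (.leaf 0x6786)) (.node (.leaf 0x1744) (.leaf 0x6976))) (.node (.node (.leaf 0xce0) (.leaf 0x74ea)) (.node (.leaf 0x4e39) (.leaf 0x0)))))) (.node (.node (.node (.node (.node (.leaf 0x280) (.leaf 0x2d77)) (.node (.leaf 0x1032) (.leaf 0x5948))) (.node (.node (.leaf 0x55de) (.leaf 0x463f)) (.node (.leaf 0x1ea5) (.leaf 0x6f99)))) (.node (.node (.node (.leaf 0x3242) (.leaf 0x3c50)) (.node (.leaf 0x3c9a) (.leaf 0x6670))) (.node (.node (.leaf 0xc2b) (.leaf 0x4fc8)) (.node (.leaf 0x23a4) (.leaf 0x0))))) (.node (.node (.node (.node (.leaf 0x630) (.leaf 0x367f))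 (.node (.leaf 0x66a5) (.leaf 0x5f7b))) (.node (.node (.leaf 0x9b6) (.leaf 0x4bc1)) (.node (.leaf 0x21f3) (.leaf 0x7384)))) (.node (.node (.node (.leaf 0x27bb) (.leaf 0x4277)) (.node (.leaf 0x1984) (.leaf 0x6ac6))) (.node (.node (.leaf 0x575a) (.leaf 0x54da)) (.node (.leaf 0x3236) (.leaf 0x0))))))))

/-- Closure. -/
def clo237 : FTree := (.node (.node (.node (.node (.node (.node (.node (.leaf 0xa6) (.leaf 0x2ba2)) (.node (.leaf 0xf7e) (.leaf 0x578b))) (.node (.node (.leaf 0x5f3e) (.leaf 0x435d)) (.node (.leaf 0x6dfb) (.leaf 0x6dd0)))) (.node (.node (.node (.leaf 0x1714) (.leaf 0x38db)) (.node (.leaf 0x14fc) (.leaf 0x62f5))) (.node (.node (.leaf 0x692d) (.leaf 0x4da6)) (.node (.leaf 0x22f6) (.leaf 0x762a))))) (.node (.node (.node (.node (.leaf 0x450) (.leaf 0x3369)) (.node (.leaf 0x12ce) (.leaf 0x5b2f))) (.node (.node (.leaf 0x3a07) (.leaf 0x49a0)) (.node (.leaf 0x1ff0) (.leaf 0x72d6)))) (.node (.node (.node (.leaf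 0x498) (.leaf 0x3e3d)) (.node (.leaf 0x3180) (.leaf 0x6760))) (.node (.node (.leaf 0x1b10) (.leaf 0x51e7)) (.node (.leaf 0x2676) (.leaf 0x0)))))) (.node (.node (.node (.node (.node (.leaf 0x307) (.leaf 0x3683)) (.node (.leaf 0xffb) (.leaf 0x5a21))) (.node (.node (.leaf 0x151f) (.leaf 0x69b0)) (.node (.leaf 0x5c22) (.leaf 0x70ce)))) (.node (.node (.node (.leaf 0x49e) (.leaf 0x3ac0)) (.node (.leaf 0x1fa2) (.leaf 0x6419))) (.node (.node (.leaf 0xc35) (.leaf 0x5099)) (.node (.leaf 0x6e62) (.leaf 0x0))))) (.node (.node (.node (.node (.leaf 0x3cd) (.leaf 0x36d2)) (.node (.leaf 0x1310) (.leaf 0x6125))) (.node (.node (.leaf 0xa14) (.leaf 0x68cb)) (.node (.leaf 0x2175) (.leaf 0x7458)))) (.node (.node (.node (.leaf 0x1d60) (.leaf 0x40b5)) (.node (.leaf 0x1899) (.leaf 0x6c20))) (.node (.node (.leaf 0x5be8) (.leaf 0x540b)) (.node (.leaf 0x2741) (.leaf 0x0))))))) (.node (.node (.node (.node (.node (.node (.leaf 0x1b7) (.leaf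 0x5b83)) (.node (.leaf 0x31eb) (.leaf 0x584e))) (.node (.node (.leaf 0x11e0) (.leaf 0x485c)) (.node (.leaf 0x5397) (.leaf 0x6e03)))) (.node (.node (.node (.leaf 0x2deb) (.leaf 0x4c4f)) (.node (.leaf 0x1564) (.leaf 0x627e))) (.node (.node (.leaf 0xab1) (.leaf 0x4d8e)) (.node (.leaf 0x41d2) (.leaf 0x76de))))) (.node (.node (.node (.node (.leaf 0x504a) (.leaf 0x31a1)) (.node (.leaf 0x2c69) (.leaf 0x5d22))) (.node (.node (.leaf 0xefe) (.leaf 0x4a7c)) (.node (.leaf 0x2094) (.leaf 0x7229)))) (.node (.node (.node (.leaf 0xb33) (.leaf 0x3eaf)) (.node (.leaf 0x1d9a) (.leaf 0x6981))) (.node (.node (.leaf 0x1b96) (.leaf 0x531c)) (.node (.leaf 0x30df) (.leaf 0x0)))))) (.node (.node (.node (.node (.node (.leaf 0x78a) (.leaf 0x2d4a)) (.node (.leaf 0x3358) (.leaf 0x59ea))) (.node (.node (.leaf 0xa30) (.leaf 0x4502)) (.node (.leaf 0x1d4f) (.leaf 0x6f5d)))) (.node (.node (.node (.leaf 0x2372) (.leaf 0x3b65)) (.node (.leaf 0x1fa6)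 (.leaf 0x6544))) (.node (.node (.leaf 0xc2a) (.leaf 0x4fa3)) (.node (.leaf 0x2ba3) (.leaf 0x0))))) (.node (.node (.node (.node (.leaf 0x80a) (.leaf 0x3640)) (.node (.leaf 0x2e2e) (.leaf 0x5ef5))) (.node (.node (.leaf 0xfb7) (.leaf 0x4bfd)) (.node (.leaf 0x2177) (.leaf 0x7466)))) (.node (.node (.node (.leaf 0x1cf5) (.leaf 0x40f2)) (.node (.leaf 0x18ff) (.leaf 0x6a37))) (.node (.node (.leaf 0x55f0) (.leaf 0x55b3)) (.node (.leaf 0x2709) (.leaf 0x0))))))))

/-- Closure. -/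
def clo238 : FTree := (.node (.node (.node (.node (.node (.node (.node (.leaf 0xad) (.leaf 0x2acb)) (.node (.leaf 0xfb2) (.leaf 0x5df6))) (.node (.node (.leaf 0xe6d) (.leaf 0x446e)) (.node (.leaf 0x66ff) (.leaf 0x6f0a)))) (.node (.node (.node (.leaf 0x4674) (.leaf 0x37cc)) (.node (.leaf 0x3fe2) (.leaf 0x625f))) (.node (.node (.leaf 0x33a9) (.leaf 0x4e11)) (.node (.leaf 0x6e3a) (.leaf 0x757f))))) (.node (.node (.node (.node (.leaf 0x2d49) (.leaf 0x3286)) (.node (.leaf 0x1ec5) (.leaf 0x5e46))) (.node (.node (.leaf 0x1168) (.leaf 0x479d)) (.node (.leaf 0x2053) (.leaf 0x7274)))) (.node (.node (.node (.leaf 0x466) (.leaf 0x3ed5)) (.node (.leaf 0x1772) (.leaf 0x68ed))) (.node (.node (.leaf 0xceb) (.leaf 0x5217)) (.node (.leaf 0x2661) (.leaf 0x0)))))) (.node (.node (.node (.node (.node (.leaf 0x4de) (.leaf 0x6890)) (.node (.leaf 0x10a7) (.leaf 0x593a))) (.node (.node (.leaf 0x1b97) (.leaf 0x4556)) (.node (.leaf 0x289a)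 (.leaf 0x7010)))) (.node (.node (.node (.leaf 0x6e1d) (.leaf 0x3b79)) (.node (.leaf 0x4142) (.leaf 0x6543))) (.node (.node (.leaf 0x616e) (.leaf 0x5062)) (.node (.leaf 0x4027) (.leaf 0x0))))) (.node (.node (.node (.node (.leaf 0x1b43) (.leaf 0x3621)) (.node (.leaf 0x2efa) (.leaf 0x5f61))) (.node (.node (.leaf 0x914) (.leaf 0x4b1e)) (.node (.leaf 0x21a6) (.leaf 0x7324)))) (.node (.node (.node (.leaf 0x2ee8) (.leaf 0x4103)) (.node (.leaf 0x3c89) (.leaf 0x6c07))) (.node (.node (.leaf 0x2bef) (.leaf 0x6028)) (.node (.leaf 0x2897) (.leaf 0x0))))))) (.node (.node (.node (.node (.node (.node (.leaf 0x164) (.leaf 0x2fa7)) (.node (.leaf 0x31e9) (.leaf 0x5876))) (.node (.node (.leaf 0x917) (.leaf 0x5caf)) (.node (.leaf 0x2653) (.leaf 0x6c66)))) (.node (.node (.node (.leaf 0x2ded) (.leaf 0x3b90)) (.node (.leaf 0x1496) (.leaf 0x621b))) (.node (.node (.leaf 0x56c9) (.leaf 0x4e08)) (.node (.leaf 0x2ce6) (.leaf 0x7635))))) (.node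 (.node (.node (.node (.leaf 0x3de) (.leaf 0x31dc)) (.node (.leaf 0x35a3) (.leaf 0x5d15))) (.node (.node (.leaf 0x292e) (.leaf 0x52e0)) (.node (.leaf 0x1f8a) (.leaf 0x725b)))) (.node (.node (.node (.leaf 0x1e2e) (.leaf 0x3e77)) (.node (.leaf 0x205a) (.leaf 0x6935))) (.node (.node (.leaf 0x3c5a) (.leaf 0x5242)) (.node (.leaf 0x2659) (.leaf 0x0)))))) (.node (.node (.node (.node (.node (.leaf 0x78b) (.leaf 0x2daa)) (.node (.leaf 0x110d) (.leaf 0x5988))) (.node (.node (.leaf 0x760) (.leaf 0x46d2)) (.node (.leaf 0x1ef1) (.leaf 0x6f7c)))) (.node (.node (.node (.leaf 0xfcb) (.leaf 0x3bdb)) (.node (.leaf 0x15c9) (.leaf 0x6581))) (.node (.node (.leaf 0xbfa) (.leaf 0x5041)) (.node (.leaf 0x27d4) (.leaf 0x0))))) (.node (.node (.node (.node (.leaf 0xa94) (.leaf 0x3ecc)) (.node (.leaf 0x134f) (.leaf 0x5fba))) (.node (.node (.leaf 0x8f0) (.leaf 0x4df8)) (.node (.leaf 0x3db3) (.leaf 0x73ff)))) (.node (.node (.node (.leaf 0x3211)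 (.leaf 0x41a6)) (.node (.leaf 0x346f) (.leaf 0x6b18))) (.node (.node (.leaf 0xdc1) (.leaf 0x55f7)) (.node (.leaf 0x2880) (.leaf 0x0))))))))

/-- Closure. -/
def clo239 : FTree := (.node (.node (.node (.node (.node (.node (.node (.leaf 0x144) (.leaf 0x2ad2)) (.node (.leaf 0xf0a) (.leaf 0x5812))) (.node (.node (.leaf 0xad2) (.leaf 0x42ea)) (.node (.leaf 0x1b8a) (.leaf 0x6cdd)))) (.node (.node (.node (.leaf 0x379) (.leaf 0x3777)) (.node (.leaf 0x15ea) (.leaf 0x6151))) (.node (.node (.leaf 0xb30) (.leaf 0x4cba)) (.node (.leaf 0x2cec) (.leaf 0x76a2))))) (.node (.node (.node (.node (.leaf 0x376) (.leaf 0x3038)) (.node (.leaf 0x290f) (.leaf 0x5e3c))) (.node (.node (.leaf 0x815) (.leaf 0x47f0)) (.node (.leaf 0x1f2e) (.leaf 0x724a)))) (.node (.node (.node (.leaf 0x8cf) (.leaf 0x3e14)) (.node (.leaf 0x1755) (.leaf 0x68ba))) (.node (.node (.leaf 0xcf7) (.leaf 0x5187)) (.node (.leaf 0x24f9) (.leaf 0x0)))))) (.node (.node (.node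 (.node (.node (.leaf 0x20f) (.leaf 0x4fcd)) (.node (.leaf 0x4392) (.leaf 0x58ae))) (.node (.node (.leaf 0x8cc) (.leaf 0x4716)) (.node (.leaf 0x3021) (.leaf 0x70eb)))) (.node (.node (.node (.leaf 0x29f0) (.leaf 0x3a02)) (.node (.leaf 0x1593) (.leaf 0x63e5))) (.node (.node (.leaf 0xbd7) (.leaf 0x50a9)) (.node (.leaf 0x573c) (.leaf 0x0))))) (.node (.node (.node (.node (.leaf 0x42c5) (.leaf 0x3730)) (.node (.leaf 0x1305) (.leaf 0x5f11))) (.node (.node (.leaf 0x4b5b) (.leaf 0x4a30)) (.node (.leaf 0x223b) (.leaf 0x74ed)))) (.node (.node (.node (.leaf 0x57b) (.leaf 0x54c0)) (.node (.leaf 0x1936) (.leaf 0x6a15))) (.node (.node (.leaf 0x5e1c) (.leaf 0x5552)) (.node (.leaf 0x4ef2) (.leaf 0x0))))))) (.node (.node (.node (.node (.node (.node (.leaf 0x0) (.leaf 0x0)) (.node (.leaf 0x0) (.leaf 0x0))) (.node (.node (.leaf 0x0) (.leaf 0x0)) (.node (.leaf 0x0) (.leaf 0x0)))) (.node (.node (.node (.leaf 0x0) (.leaf 0x0)) (.node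 (.leaf 0x0) (.leaf 0x0))) (.node (.node (.leaf 0x0) (.leaf 0x0)) (.node (.leaf 0x0) (.leaf 0x0))))) (.node (.node (.node (.node (.leaf 0x0) (.leaf 0x0)) (.node (.leaf 0x0) (.leaf 0x0))) (.node (.node (.leaf 0x0) (.leaf 0x0)) (.node (.leaf 0x0) (.leaf 0x0)))) (.node (.node (.node (.leaf 0x0) (.leaf 0x0)) (.node (.leaf 0x0) (.leaf 0x0))) (.node (.node (.leaf 0x0) (.leaf 0x0)) (.node (.leaf 0x0) (.leaf 0x0)))))) (.node (.node (.node (.node (.node (.leaf 0x0) (.leaf 0x0)) (.node (.leaf 0x0) (.leaf 0x0))) (.node (.node (.leaf 0x0) (.leaf 0x0)) (.node (.leaf 0x0) (.leaf 0x0)))) (.node (.node (.node (.leaf 0x0) (.leaf 0x0)) (.node (.leaf 0x0) (.leaf 0x0))) (.node (.node (.leaf 0x0) (.leaf 0x0)) (.node (.leaf 0x0) (.leaf 0x0))))) (.node (.node (.node (.node (.leaf 0x0) (.leaf 0x0)) (.node (.leaf 0x0) (.leaf 0x0))) (.node (.node (.leaf 0x0) (.leaf 0x0)) (.node (.leaf 0x0) (.leaf 0x0)))) (.node (.node (.node (.leaf 0x0)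 (.leaf 0x0)) (.node (.leaf 0x0) (.leaf 0x0))) (.node (.node (.leaf 0x0) (.leaf 0x0)) (.node (.leaf 0x0) (.leaf 0x0))))))))

/-- Closure. -/
def clo240 : FTree := (.node (.node (.node (.node (.node (.node (.node (.leaf 0x12) (.leaf 0x2c36)) (.node (.leaf 0xef3) (.leaf 0x56b1))) (.node (.node (.leaf 0x1ccc) (.leaf 0x431a)) (.node (.leaf 0x428b) (.leaf 0x6e71)))) (.node (.node (.node (.leaf 0x371) (.leaf 0x3928)) (.node (.leaf 0x3fd9) (.leaf 0x6184))) (.node (.node (.leaf 0xa37) (.leaf 0x4c17)) (.node (.leaf 0x225e) (.leaf 0x76cd))))) (.node (.node (.node (.node (.leaf 0x28b) (.leaf 0x3010)) (.node (.leaf 0x1298) (.leaf 0x5c5b))) (.node (.node (.leaf 0x7ee) (.leaf 0x48d6)) (.node (.leaf 0x2c61) (.leaf 0x72e5)))) (.node (.node (.node (.leaf 0x68d) (.leaf 0x3f8f)) (.node (.leaf 0x173a) (.leaf 0x6697))) (.node (.node (.leaf 0x10e4) (.leaf 0x5188)) (.node (.leaf 0x255e) (.leaf 0x0)))))) (.node (.node (.node (.node (.node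 (.leaf 0x204) (.leaf 0x2d83)) (.node (.leaf 0xfee) (.leaf 0x58eb))) (.node (.node (.leaf 0x409a) (.leaf 0x44bc)) (.node (.leaf 0x1cdd) (.leaf 0x6f1e)))) (.node (.node (.node (.leaf 0x3b9) (.leaf 0x3a24)) (.node (.leaf 0x15c3) (.leaf 0x6519))) (.node (.node (.leaf 0xbcc) (.leaf 0x4ec5)) (.node (.leaf 0x243e) (.leaf 0x0))))) (.node (.node (.node (.node (.leaf 0x32e) (.leaf 0x35fa)) (.node (.leaf 0x13a4) (.leaf 0x5fcb))) (.node (.node (.leaf 0xb5d) (.leaf 0x4a54)) (.node (.leaf 0x4f63) (.leaf 0x7333)))) (.node (.node (.node (.leaf 0x80c) (.leaf 0x40af)) (.node (.leaf 0x18be) (.leaf 0x6a2f))) (.node (.node (.leaf 0xdce) (.leaf 0x547c)) (.node (.leaf 0x26d9) (.leaf 0x0))))))) (.node (.node (.node (.node (.node (.node (.leaf 0x10d) (.leaf 0x3269)) (.node (.leaf 0x31ef) (.leaf 0x57f9))) (.node (.node (.leaf 0x695a) (.leaf 0x4458)) (.node (.leaf 0x1a9b) (.leaf 0x6ef3)))) (.node (.node (.node (.leaf 0x7f1) (.leaf 0x37ce))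 (.node (.leaf 0x155e) (.leaf 0x6213))) (.node (.node (.leaf 0x245b) (.leaf 0x4e2a)) (.node (.leaf 0x662c) (.leaf 0x7702))))) (.node (.node (.node (.node (.leaf 0x440) (.leaf 0x320c)) (.node (.leaf 0x277b) (.leaf 0x6946))) (.node (.node (.leaf 0x20ca) (.leaf 0x4783)) (.node (.leaf 0x2033) (.leaf 0x7238)))) (.node (.node (.node (.leaf 0x4ac) (.leaf 0x3e96)) (.node (.leaf 0x2d7d) (.leaf 0x6901))) (.node (.node (.leaf 0xd6f) (.leaf 0x52c8)) (.node (.leaf 0x2532) (.leaf 0x0)))))) (.node (.node (.node (.node (.node (.leaf 0x7a1) (.leaf 0x6707)) (.node (.leaf 0x1065) (.leaf 0x590b))) (.node (.node (.leaf 0x19db) (.leaf 0x45a6)) (.node (.leaf 0x2621) (.leaf 0x70d3)))) (.node (.node (.node (.leaf 0x3ed) (.leaf 0x3bd6)) (.node (.leaf 0x3e6b) (.leaf 0x6429))) (.node (.node (.leaf 0xc78) (.leaf 0x5103)) (.node (.leaf 0x23c3) (.leaf 0x0))))) (.node (.node (.node (.node (.leaf 0x3a2) (.leaf 0x3656)) (.node (.leaf 0x13fe) (.leaf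 0x6236))) (.node (.node (.leaf 0x33b3) (.leaf 0x4ac1)) (.node (.leaf 0x2159) (.leaf 0x7497)))) (.node (.node (.node (.leaf 0x5cd) (.leaf 0x4160)) (.node (.leaf 0x19b7) (.leaf 0x6ad6))) (.node (.node (.leaf 0x1bcf) (.leaf 0x63ea)) (.node (.leaf 0x2804) (.leaf 0x0))))))))

/-- Closure. -/
def clo241 : FTree := (.node (.node (.node (.node (.node (.node (.node (.leaf 0x8e) (.leaf 0x2aff)) (.node (.leaf 0x31e5) (.leaf 0x569f))) (.node (.node (.leaf 0x2bc1) (.leaf 0x43b3)) (.node (.leaf 0x2b6c) (.leaf 0x6df7)))) (.node (.node (.node (.leaf 0x2df0) (.leaf 0x4646)) (.node (.leaf 0x32a8) (.leaf 0x6ee9))) (.node (.node (.leaf 0x3ea2) (.leaf 0x4c7e)) (.node (.leaf 0x2ceb) (.leaf 0x75ad))))) (.node (.node (.node (.node (.leaf 0x3db) (.leaf 0x5779)) (.node (.leaf 0x1269) (.leaf 0x624c))) (.node (.node (.leaf 0x292a) (.leaf 0x4963)) (.node (.leaf 0x1f3f) (.leaf 0x72a8)))) (.node (.node (.node (.leaf 0x2414) (.leaf 0x3cf4)) (.node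 (.leaf 0x1ac0) (.leaf 0x6847))) (.node (.node (.leaf 0xd71) (.leaf 0x5256)) (.node (.leaf 0x42a5) (.leaf 0x0)))))) (.node (.node (.node (.node (.node (.leaf 0x791) (.leaf 0x2f2b)) (.node (.leaf 0x2b5d) (.leaf 0x5979))) (.node (.node (.leaf 0x703) (.leaf 0x456d)) (.node (.leaf 0x6073) (.leaf 0x7052)))) (.node (.node (.node (.leaf 0x251e) (.leaf 0x3b3e)) (.node (.leaf 0x3c2e) (.leaf 0x6643))) (.node (.node (.leaf 0xc00) (.leaf 0x5108)) (.node (.leaf 0x6e5f) (.leaf 0x0))))) (.node (.node (.node (.node (.leaf 0x645) (.leaf 0x3606)) (.node (.leaf 0x1423) (.leaf 0x5f81))) (.node (.node (.leaf 0x9fc) (.leaf 0x4b28)) (.node (.leaf 0x21f9) (.leaf 0x7518)))) (.node (.node (.node (.leaf 0x3212) (.leaf 0x4203)) (.node (.leaf 0x5e06) (.leaf 0x6b22))) (.node (.node (.leaf 0x63d4) (.leaf 0x540d)) (.node (.leaf 0x2889) (.leaf 0x0))))))) (.node (.node (.node (.node (.node (.node (.leaf 0x1a9) (.leaf 0x2999)) (.node (.leaf 0xf49)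 (.leaf 0x5848))) (.node (.node (.leaf 0x1ab1) (.leaf 0x4393)) (.node (.leaf 0x3442) (.leaf 0x6e33)))) (.node (.node (.node (.leaf 0x3cf6) (.leaf 0x3e98)) (.node (.leaf 0x1ae7) (.leaf 0x6222))) (.node (.node (.leaf 0x33e0) (.leaf 0x5eca)) (.node (.leaf 0x76f3) (.leaf 0x75d4))))) (.node (.node (.node (.node (.leaf 0x2d27) (.leaf 0x32b0)) (.node (.leaf 0x127a) (.leaf 0x5e6e))) (.node (.node (.leaf 0x12a7) (.leaf 0x5056)) (.node (.leaf 0x33fc) (.leaf 0x7257)))) (.node (.node (.node (.leaf 0x459) (.leaf 0x3f04)) (.node (.leaf 0x5b35) (.leaf 0x6713))) (.node (.node (.leaf 0xd41) (.leaf 0x516e)) (.node (.leaf 0x353c) (.leaf 0x0)))))) (.node (.node (.node (.node (.node (.leaf 0x234) (.leaf 0x32c6)) (.node (.leaf 0x103f) (.leaf 0x5a81))) (.node (.node (.leaf 0x923) (.leaf 0x4533)) (.node (.leaf 0x1d1d) (.leaf 0x700a)))) (.node (.node (.node (.leaf 0x534b) (.leaf 0x3ad4)) (.node (.leaf 0x16bc) (.leaf 0x657f))) (.node (.node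 (.leaf 0x29bc) (.leaf 0x679c)) (.node (.leaf 0x24d4) (.leaf 0x0))))) (.node (.node (.node (.node (.leaf 0x1769) (.leaf 0x4b3e)) (.node (.leaf 0x3e4d) (.leaf 0x611d))) (.node (.node (.leaf 0x53a3) (.leaf 0x4bd1)) (.node (.leaf 0x25c4) (.leaf 0x73f0)))) (.node (.node (.node (.leaf 0x1172) (.leaf 0x401a)) (.node (.leaf 0x2c48) (.leaf 0x6b3b))) (.node (.node (.leaf 0x5e25) (.leaf 0x6029)) (.node (.leaf 0x27fa) (.leaf 0x0))))))))

/-- Closure. -/
def clo242 : FTree := (.node (.node (.node (.node (.node (.node (.node (.leaf 0x47) (.leaf 0x5b2c)) (.node (.leaf 0x1a0c) (.leaf 0x572f))) (.node (.node (.leaf 0x751) (.leaf 0x432c)) (.node (.leaf 0x5e3f) (.leaf 0x6eef)))) (.node (.node (.node (.leaf 0x84d) (.leaf 0x397a)) (.node (.leaf 0x1528) (.leaf 0x6217))) (.node (.node (.leaf 0x2842) (.leaf 0x4de3)) (.node (.leaf 0x22ae) (.leaf 0x75cd))))) (.node (.node (.node (.node (.leaf 0x2697) (.leaf 0x30ef)) (.node (.leaf 0x125d)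 (.leaf 0x5e5e))) (.node (.node (.leaf 0x8b2) (.leaf 0x483d)) (.node (.leaf 0x2016) (.leaf 0x72c3)))) (.node (.node (.node (.leaf 0xa60) (.leaf 0x3ebd)) (.node (.leaf 0x2a24) (.leaf 0x683f))) (.node (.node (.leaf 0xd58) (.leaf 0x5201)) (.node (.leaf 0x5c38) (.leaf 0x0)))))) (.node (.node (.node (.node (.node (.leaf 0x4ca) (.leaf 0x49d2)) (.node (.leaf 0x1df4) (.leaf 0x5a67))) (.node (.node (.leaf 0x2b80) (.leaf 0x44f8)) (.node (.leaf 0x1dc4) (.leaf 0x6f44)))) (.node (.node (.node (.leaf 0x5af6) (.leaf 0x3b29)) (.node (.leaf 0x1687) (.leaf 0x6547))) (.node (.node (.leaf 0x6178) (.leaf 0x4f56)) (.node (.leaf 0x238b) (.leaf 0x0))))) (.node (.node (.node (.node (.leaf 0x264f) (.leaf 0x35d7)) (.node (.leaf 0x1327) (.leaf 0x5ef6))) (.node (.node (.leaf 0x907) (.leaf 0x4b96)) (.node (.leaf 0x21c8) (.leaf 0x7323)))) (.node (.node (.node (.leaf 0x3f4f) (.leaf 0x404b)) (.node (.leaf 0x18bf) (.leaf 0x6a27))) (.node (.node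 (.leaf 0x55ae) (.leaf 0x542a)) (.node (.leaf 0x28f2) (.leaf 0x0))))))) (.node (.node (.node (.node (.node (.node (.leaf 0x159) (.leaf 0x2b3c)) (.node (.leaf 0xf26) (.leaf 0x567a))) (.node (.node (.leaf 0x118e) (.leaf 0x44b2)) (.node (.leaf 0x328d) (.leaf 0x6e64)))) (.node (.node (.node (.leaf 0x527) (.leaf 0x383a)) (.node (.leaf 0x14b3) (.leaf 0x630b))) (.node (.node (.leaf 0x1442) (.leaf 0x4dc2)) (.node (.leaf 0x2cf8) (.leaf 0x7559))))) (.node (.node (.node (.node (.leaf 0x2fba) (.leaf 0x3238)) (.node (.leaf 0x1224) (.leaf 0x6e82))) (.node (.node (.leaf 0x1849) (.leaf 0x4c3a)) (.node (.leaf 0x4473) (.leaf 0x721b)))) (.node (.node (.node (.leaf 0x6e7) (.leaf 0x3d87)) (.node (.leaf 0x17b8) (.leaf 0x69bf))) (.node (.node (.leaf 0xd2c) (.leaf 0x51fa)) (.node (.leaf 0x2529) (.leaf 0x0)))))) (.node (.node (.node (.node (.node (.leaf 0x281) (.leaf 0x44be)) (.node (.leaf 0x1111) (.leaf 0x5954))) (.node (.node (.leaf 0x1a42)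 (.leaf 0x461d)) (.node (.leaf 0x5c19) (.leaf 0x6f8d)))) (.node (.node (.node (.leaf 0xa56) (.leaf 0x3aa4)) (.node (.leaf 0x164c) (.leaf 0x660f))) (.node (.node (.leaf 0xbd5) (.leaf 0x5026)) (.node (.leaf 0x2445) (.leaf 0x0))))) (.node (.node (.node (.node (.leaf 0x3571) (.leaf 0x373a)) (.node (.leaf 0x26bf) (.leaf 0x60bf))) (.node (.node (.leaf 0x9f1) (.leaf 0x4ba3)) (.node (.leaf 0x2507) (.leaf 0x750a)))) (.node (.node (.node (.leaf 0x27ba) (.leaf 0x40d8)) (.node (.leaf 0x3467) (.leaf 0x6a57))) (.node (.node (.leaf 0xe83) (.leaf 0x540f)) (.node (.leaf 0x332d) (.leaf 0x0))))))))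

/-- Closure. -/
def clo243 : FTree := (.node (.node (.node (.node (.node (.node (.node (.leaf 0xd8) (.leaf 0x5651)) (.node (.leaf 0xf98) (.leaf 0x56ad))) (.node (.node (.leaf 0x11df) (.leaf 0x447a)) (.node (.leaf 0x1b13) (.leaf 0x6e0b)))) (.node (.node (.node (.leaf 0x53a) (.leaf 0x378d)) (.node (.leaf 0x2bfb) (.leaf 0x61b3))) (.node (.node (.leaf 0x430f) (.leaf 0x4c27)) (.node (.leaf 0x23c7) (.leaf 0x754e))))) (.node (.node (.node (.node (.leaf 0x1d47) (.leaf 0x34bf)) (.node (.leaf 0x128b) (.leaf 0x5d21))) (.node (.node (.leaf 0x2c97) (.leaf 0x6eec)) (.node (.leaf 0x6c8e) (.leaf 0x7193)))) (.node (.node (.node (.leaf 0x61e) (.leaf 0x3ec4)) (.node (.leaf 0x1841) (.leaf 0x698f))) (.node (.node (.leaf 0xda4) (.leaf 0x523a)) (.node (.leaf 0x3375) (.leaf 0x0)))))) (.node (.node (.node (.node (.node (.leaf 0x50e) (.leaf 0x2d12)) (.node (.leaf 0x4bf0) (.leaf 0x59ce))) (.node (.node (.leaf 0x48d9) (.leaf 0x4803)) (.node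 (.leaf 0x1dba) (.leaf 0x6f5f)))) (.node (.node (.node (.leaf 0x4088) (.leaf 0x3be1)) (.node (.leaf 0x16ca) (.leaf 0x64c6))) (.node (.node (.leaf 0xc0f) (.leaf 0x4ffb)) (.node (.leaf 0x32d1) (.leaf 0x0))))) (.node (.node (.node (.node (.leaf 0x356c) (.leaf 0x35be)) (.node (.leaf 0x1356) (.leaf 0x5f03))) (.node (.node (.leaf 0x550c) (.leaf 0x4a80)) (.node (.leaf 0x4813) (.leaf 0x7338)))) (.node (.node (.node (.leaf 0x5e9) (.leaf 0x41ee)) (.node (.leaf 0x1a40) (.leaf 0x6bc4))) (.node (.node (.leaf 0x1796) (.leaf 0x547b)) (.node (.leaf 0x2bb7) (.leaf 0x0))))))) (.node (.node (.node (.node (.node (.node (.leaf 0x1f9) (.leaf 0x2a59)) (.node (.leaf 0x3161) (.leaf 0x569b))) (.node (.node (.leaf 0x5491) (.leaf 0x44b3)) (.node (.leaf 0x1ab2) (.leaf 0x6efd)))) (.node (.node (.node (.leaf 0x537) (.leaf 0x38cd)) (.node (.leaf 0x154a) (.leaf 0x6383))) (.node (.node (.leaf 0x125b) (.leaf 0x4ca7)) (.node (.leaf 0x309a) (.leaf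 0x755a))))) (.node (.node (.node (.node (.leaf 0x2a6c) (.leaf 0x3513)) (.node (.leaf 0x11d3) (.leaf 0x5ad8))) (.node (.node (.leaf 0x10cb) (.leaf 0x48b4)) (.node (.leaf 0x20ac) (.leaf 0x717a)))) (.node (.node (.node (.leaf 0x2bb0) (.leaf 0x3f5a)) (.node (.leaf 0x21c0) (.leaf 0x67d8))) (.node (.node (.leaf 0x1b92) (.leaf 0x52d2)) (.node (.leaf 0x2631) (.leaf 0x0)))))) (.node (.node (.node (.node (.node (.leaf 0x2f1) (.leaf 0x5d63)) (.node (.leaf 0x2250) (.leaf 0x5a76))) (.node (.node (.leaf 0x723) (.leaf 0x4547)) (.node (.leaf 0x1dee) (.leaf 0x70e7)))) (.node (.node (.node (.leaf 0x3a72) (.leaf 0x3b4c)) (.node (.leaf 0x15d4) (.leaf 0x656d))) (.node (.node (.leaf 0x3072) (.leaf 0x5076)) (.node (.leaf 0x58d6) (.leaf 0x0))))) (.node (.node (.node (.node (.leaf 0x5c95) (.leaf 0x3664)) (.node (.leaf 0x2e32) (.leaf 0x609a))) (.node (.node (.leaf 0xa5e) (.leaf 0x4aab)) (.node (.leaf 0x2c31) (.leaf 0x73c3)))) (.node (.node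 (.node (.leaf 0x10f8) (.leaf 0x47d0)) (.node (.leaf 0x19b1) (.leaf 0x6bc5))) (.node (.node (.leaf 0xe9a) (.leaf 0x5360)) (.node (.leaf 0x2814) (.leaf 0x0))))))))

/-- Closure. -/
def clo244 : FTree := (.node (.node (.node (.node (.node (.node (.node (.leaf 0x3d) (.leaf 0x29d0)) (.node (.leaf 0x16f8) (.leaf 0x5765))) (.node (.node (.leaf 0x93b) (.leaf 0x434c)) (.node (.leaf 0x1efe) (.leaf 0x6d75)))) (.node (.node (.node (.leaf 0x4652) (.leaf 0x37f4)) (.node (.leaf 0x1a97) (.leaf 0x62bf))) (.node (.node (.leaf 0xe8e) (.leaf 0x4db1)) (.node (.leaf 0x22e7) (.leaf 0x7613))))) (.node (.node (.node (.node (.leaf 0x2fd5) (.leaf 0x3173)) (.node (.leaf 0x3c6b) (.leaf 0x5e29))) (.node (.node (.leaf 0x2342) (.leaf 0x49a5)) (.node (.leaf 0x49bc) (.leaf 0x7254)))) (.node (.node (.node (.leaf 0x3a29) (.leaf 0x3da3)) (.node (.leaf 0x2a34) (.leaf 0x695d))) (.node (.node (.leaf 0x4096) (.leaf 0x519f)) (.node (.leaf 0x39b4) (.leaf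 0x0)))))) (.node (.node (.node (.node (.node (.leaf 0xbbc) (.leaf 0x2d5a)) (.node (.leaf 0xffd) (.leaf 0x589e))) (.node (.node (.leaf 0x6ef) (.leaf 0x46b5)) (.node (.leaf 0x1d03) (.leaf 0x7065)))) (.node (.node (.node (.leaf 0x27c0) (.leaf 0x3a97)) (.node (.leaf 0x16a8) (.leaf 0x6415))) (.node (.node (.leaf 0xc8b) (.leaf 0x543f)) (.node (.leaf 0x2475) (.leaf 0x0))))) (.node (.node (.node (.node (.leaf 0x2fc4) (.leaf 0x36e0)) (.node (.leaf 0x3e18) (.leaf 0x611e))) (.node (.node (.leaf 0x2bde) (.leaf 0x6ccb)) (.node (.leaf 0x40c4) (.leaf 0x7442)))) (.node (.node (.node (.leaf 0x44bb) (.leaf 0x428c)) (.node (.leaf 0x2c3f) (.leaf 0x6a88))) (.node (.node (.leaf 0x656c) (.leaf 0x53ab)) (.node (.leaf 0x2755) (.leaf 0x0))))))) (.node (.node (.node (.node (.node (.node (.leaf 0x102) (.leaf 0x2ab2)) (.node (.leaf 0x1c29) (.leaf 0x57de))) (.node (.node (.leaf 0x6c0) (.leaf 0x4341)) (.node (.leaf 0x1aa0) (.leaf 0x6d1d))))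 (.node (.node (.node (.leaf 0x1c87) (.leaf 0x37b4)) (.node (.leaf 0x149b) (.leaf 0x62fc))) (.node (.node (.leaf 0xaa5) (.leaf 0x4d11)) (.node (.leaf 0x619e) (.leaf 0x7609))))) (.node (.node (.node (.node (.leaf 0x339) (.leaf 0x5c16)) (.node (.leaf 0x5bfe) (.leaf 0x5d83))) (.node (.node (.leaf 0x29e8) (.leaf 0x4985)) (.node (.leaf 0x1f25) (.leaf 0x721f)))) (.node (.node (.node (.leaf 0x666) (.leaf 0x46db)) (.node (.leaf 0x1b9d) (.leaf 0x6874))) (.node (.node (.leaf 0x1956) (.leaf 0x529d)) (.node (.leaf 0x5cd0) (.leaf 0x0)))))) (.node (.node (.node (.node (.node (.leaf 0x2e4) (.leaf 0x2f8d)) (.node (.leaf 0x2f0d) (.leaf 0x5a45))) (.node (.node (.leaf 0x707) (.leaf 0x4642)) (.node (.leaf 0x1cf0) (.leaf 0x6fee)))) (.node (.node (.node (.leaf 0x6459) (.leaf 0x3bce)) (.node (.leaf 0x50cf) (.leaf 0x6487))) (.node (.node (.leaf 0x358e) (.leaf 0x50d9)) (.node (.leaf 0x247f) (.leaf 0x0))))) (.node (.node (.node (.node (.leaf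 0x5bf) (.leaf 0x370b)) (.node (.leaf 0x1375) (.leaf 0x5fa7))) (.node (.node (.leaf 0x1be6) (.leaf 0x4b24)) (.node (.leaf 0x21fa) (.leaf 0x74a0)))) (.node (.node (.node (.leaf 0x38f2) (.leaf 0x414d)) (.node (.leaf 0x18f9) (.leaf 0x6a6c))) (.node (.node (.leaf 0x57ef) (.leaf 0x55c1)) (.node (.leaf 0x28d2) (.leaf 0x0))))))))

/-- Closure. -/
def clo245 : FTree := (.node (.node (.node (.node (.node (.node (.node (.leaf 0xd4) (.leaf 0x2a55)) (.node (.leaf 0x5fac) (.leaf 0x5748))) (.node (.node (.leaf 0x633a) (.leaf 0x4324)) (.node (.leaf 0x1c04) (.leaf 0x6cfe)))) (.node (.node (.node (.leaf 0x2df2) (.leaf 0x3911)) (.node (.leaf 0x39be) (.leaf 0x639a))) (.node (.node (.leaf 0x3b70) (.leaf 0x4d66)) (.node (.leaf 0x22e0) (.leaf 0x75ee))))) (.node (.node (.node (.node (.leaf 0x2946) (.leaf 0x33e4)) (.node (.leaf 0x4d1f) (.leaf 0x5c00))) (.node (.node (.leaf 0x4d8f) (.leaf 0x4846)) (.node (.leaf 0x1f3d) (.leaf 0x71eb))))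 (.node (.node (.node (.leaf 0x4a1) (.leaf 0x3f92)) (.node (.leaf 0x1b9c) (.leaf 0x6785))) (.node (.node (.leaf 0xd02) (.leaf 0x525e)) (.node (.leaf 0x25bb) (.leaf 0x0)))))) (.node (.node (.node (.node (.node (.leaf 0x2f8) (.leaf 0x2f91)) (.node (.leaf 0x1eda) (.leaf 0x5a5b))) (.node (.node (.leaf 0x36af) (.leaf 0x462e)) (.node (.leaf 0x1dfc) (.leaf 0x701f)))) (.node (.node (.node (.leaf 0x3808) (.leaf 0x3c1a)) (.node (.leaf 0x71fb) (.leaf 0x645c))) (.node (.node (.leaf 0x3598) (.leaf 0x509b)) (.node (.leaf 0x23b8) (.leaf 0x0))))) (.node (.node (.node (.node (.leaf 0x5d33) (.leaf 0x362e)) (.node (.leaf 0x2e29) (.leaf 0x5f75))) (.node (.node (.leaf 0x2b92) (.leaf 0x4bc6)) (.node (.leaf 0x219f) (.leaf 0x74a8)))) (.node (.node (.node (.leaf 0x8d9) (.leaf 0x408c)) (.node (.leaf 0x39ad) (.leaf 0x6c09))) (.node (.node (.leaf 0x5b3e) (.leaf 0x54ea)) (.node (.leaf 0x2885) (.leaf 0x0))))))) (.node (.node (.node (.node (.node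 (.node (.leaf 0x168) (.leaf 0x2c06)) (.node (.leaf 0xf8d) (.leaf 0x577a))) (.node (.node (.leaf 0xaf9) (.leaf 0x659a)) (.node (.leaf 0x282d) (.leaf 0x6e88)))) (.node (.node (.node (.leaf 0x84b) (.leaf 0x66c0)) (.node (.leaf 0x697a) (.leaf 0x62aa))) (.node (.node (.leaf 0x2998) (.leaf 0x4c2b)) (.node (.leaf 0x22ce) (.leaf 0x768e))))) (.node (.node (.node (.node (.leaf 0x268b) (.leaf 0x34ba)) (.node (.leaf 0x5b5f) (.leaf 0x5b6a))) (.node (.node (.leaf 0x1cc3) (.leaf 0x4911)) (.node (.leaf 0x2089) (.leaf 0x7227)))) (.node (.node (.node (.leaf 0x1a79) (.leaf 0x3f01)) (.node (.leaf 0x1749) (.leaf 0x6829))) (.node (.node (.leaf 0x336d) (.leaf 0x562a)) (.node (.leaf 0x263b) (.leaf 0x0)))))) (.node (.node (.node (.node (.node (.leaf 0x4f7) (.leaf 0x5d74)) (.node (.leaf 0x1058) (.leaf 0x5a79))) (.node (.node (.leaf 0x25e2) (.leaf 0x5e17)) (.node (.leaf 0x1e55) (.leaf 0x6f49)))) (.node (.node (.node (.leaf 0x6823) (.leaf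 0x3b3b)) (.node (.leaf 0x1976) (.leaf 0x6664))) (.node (.node (.leaf 0x617d) (.leaf 0x4e7a)) (.node (.leaf 0x32cb) (.leaf 0x0))))) (.node (.node (.node (.node (.leaf 0x3f8) (.leaf 0x3729)) (.node (.leaf 0x30ca) (.leaf 0x5f3d))) (.node (.node (.leaf 0x97a) (.leaf 0x4b37)) (.node (.leaf 0x2c2c) (.leaf 0x737d)))) (.node (.node (.node (.leaf 0x67d2) (.leaf 0x428e)) (.node (.leaf 0x1989) (.leaf 0x6beb))) (.node (.node (.leaf 0xde4) (.leaf 0x5479)) (.node (.leaf 0x2b52) (.leaf 0x0))))))))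

/-- Closure. -/
def clo246 : FTree := (.node (.node (.node (.node (.node (.node (.node (.leaf 0x59) (.leaf 0x3209)) (.node (.leaf 0x31de) (.leaf 0x56f6))) (.node (.node (.leaf 0x916) (.leaf 0x6530)) (.node (.leaf 0x1afe) (.leaf 0x6eae)))) (.node (.node (.node (.leaf 0x54d) (.leaf 0x397b)) (.node (.leaf 0x1556) (.leaf 0x62ee))) (.node (.node (.leaf 0xaa9) (.leaf 0x4cbd)) (.node (.leaf 0x587d) (.leaf 0x7623))))) (.node (.node (.node (.node (.leaf 0x3e1) (.leaf 0x5bc5)) (.node (.leaf 0x1145) (.leaf 0x5d16))) (.node (.node (.leaf 0x12ab) (.leaf 0x485a)) (.node (.leaf 0x208e) (.leaf 0x72ad)))) (.node (.node (.node (.leaf 0x120e) (.leaf 0x3e24)) (.node (.leaf 0x17f1) (.leaf 0x6843))) (.node (.node (.leaf 0x1890) (.leaf 0x523d)) (.node (.leaf 0x5e85) (.leaf 0x0)))))) (.node (.node (.node (.node (.node (.leaf 0x774) (.leaf 0x2d90)) (.node (.leaf 0x2bc9) (.leaf 0x5aa3))) (.node (.node (.leaf 0x118b) (.leaf 0x450f)) (.node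 (.leaf 0x2446) (.leaf 0x6fdb)))) (.node (.node (.node (.leaf 0x4a2) (.leaf 0x3b3f)) (.node (.leaf 0x15ec) (.leaf 0x64f7))) (.node (.node (.leaf 0x29ba) (.leaf 0x4ff8)) (.node (.leaf 0x23f8) (.leaf 0x0))))) (.node (.node (.node (.node (.leaf 0x5d67) (.leaf 0x362b)) (.node (.leaf 0x2e33) (.leaf 0x5eee))) (.node (.node (.leaf 0x8f4) (.leaf 0x4b31)) (.node (.leaf 0x211f) (.leaf 0x73cf)))) (.node (.node (.node (.leaf 0x23ef) (.leaf 0x4042)) (.node (.leaf 0x5e02) (.leaf 0x6b1c))) (.node (.node (.leaf 0xdec) (.leaf 0x539f)) (.node (.leaf 0x32f7) (.leaf 0x0))))))) (.node (.node (.node (.node (.node (.node (.leaf 0x18a) (.leaf 0x2c01)) (.node (.leaf 0x19e9) (.leaf 0x583a))) (.node (.node (.leaf 0x884) (.leaf 0x43a9)) (.node (.leaf 0x1abb) (.leaf 0x6df5)))) (.node (.node (.node (.leaf 0x3d27) (.leaf 0x3964)) (.node (.leaf 0x1507) (.leaf 0x62b1))) (.node (.node (.leaf 0x5ac0) (.leaf 0x4dc7)) (.node (.leaf 0x5383) (.leaf 0x75d5)))))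 (.node (.node (.node (.node (.leaf 0x3cb) (.leaf 0x32f2)) (.node (.leaf 0x32fb) (.leaf 0x5c63))) (.node (.node (.leaf 0x3c0a) (.leaf 0x484d)) (.node (.leaf 0x422a) (.leaf 0x7128)))) (.node (.node (.node (.leaf 0x3290) (.leaf 0x3ed4)) (.node (.leaf 0x1812) (.leaf 0x69ec))) (.node (.node (.leaf 0x3392) (.leaf 0x52f2)) (.node (.leaf 0x44af) (.leaf 0x0)))))) (.node (.node (.node (.node (.node (.leaf 0x4bc) (.leaf 0x2fab)) (.node (.leaf 0x3f60) (.leaf 0x5a72))) (.node (.node (.leaf 0x11be) (.leaf 0x473a)) (.node (.leaf 0x3a2f) (.leaf 0x7019)))) (.node (.node (.node (.leaf 0x6731) (.leaf 0x3c6f)) (.node (.leaf 0x15bb) (.leaf 0x667f))) (.node (.node (.leaf 0xcad) (.leaf 0x4eb1)) (.node (.leaf 0x5420) (.leaf 0x0))))) (.node (.node (.node (.node (.leaf 0x310c) (.leaf 0x53c7)) (.node (.leaf 0x2f02) (.leaf 0x5f1b))) (.node (.node (.leaf 0x5dbd) (.leaf 0x4b09)) (.node (.leaf 0x222d) (.leaf 0x7502)))) (.node (.node (.node (.leaf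 0x37bc) (.leaf 0x4064)) (.node (.leaf 0x2c3a) (.leaf 0x6b8b))) (.node (.node (.leaf 0x3277) (.leaf 0x55dd)) (.node (.leaf 0x2873) (.leaf 0x0))))))))

/-- Closure. -/
def clo247 : FTree := (.node (.node (.node (.node (.node (.node (.node (.leaf 0x12e) (.leaf 0x2a32)) (.node (.leaf 0x3190) (.leaf 0x5712))) (.node (.node (.leaf 0xa3e) (.leaf 0x4375)) (.node (.leaf 0x4128) (.leaf 0x6d9c)))) (.node (.node (.node (.leaf 0x465c) (.leaf 0x5955)) (.node (.leaf 0x329b) (.leaf 0x61e1))) (.node (.node (.leaf 0xa3c) (.leaf 0x4c41)) (.node (.leaf 0x2280) (.leaf 0x7701))))) (.node (.node (.node (.node (.leaf 0x49c2) (.leaf 0x3357)) (.node (.leaf 0x3623) (.leaf 0x5ae9))) (.node (.node (.leaf 0x1d05) (.leaf 0x4861)) (.node (.leaf 0x5587) (.leaf 0x7164)))) (.node (.node (.node (.leaf 0x1ce6) (.leaf 0x3f5d)) (.node (.leaf 0x177c) (.leaf 0x66df))) (.node (.node (.leaf 0x120b) (.leaf 0x51a0)) (.node (.leaf 0x3555) (.leaf 0x0))))))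 (.node (.node (.node (.node (.node (.leaf 0xbb1) (.leaf 0x2d9a)) (.node (.leaf 0x55d8) (.leaf 0x5a89))) (.node (.node (.leaf 0x3ff0) (.leaf 0x4689)) (.node (.leaf 0x237e) (.leaf 0x6f1d)))) (.node (.node (.node (.leaf 0x3bb) (.leaf 0x3a53)) (.node (.leaf 0x15ac) (.leaf 0x6513))) (.node (.node (.leaf 0xc95) (.leaf 0x4ead)) (.node (.leaf 0x23e0) (.leaf 0x0))))) (.node (.node (.node (.node (.leaf 0x226a) (.leaf 0x3739)) (.node (.leaf 0x66ac) (.leaf 0x5f1e))) (.node (.node (.leaf 0x9d8) (.leaf 0x5332)) (.node (.leaf 0x20b8) (.leaf 0x735a)))) (.node (.node (.node (.leaf 0x6dce) (.leaf 0x40fa)) (.node (.leaf 0x1912) (.leaf 0x6a40))) (.node (.node (.leaf 0x63e7) (.leaf 0x538e)) (.node (.leaf 0x5bce) (.leaf 0x0))))))) (.node (.node (.node (.node (.node (.node (.leaf 0x0) (.leaf 0x0)) (.node (.leaf 0x0) (.leaf 0x0))) (.node (.node (.leaf 0x0) (.leaf 0x0)) (.node (.leaf 0x0) (.leaf 0x0)))) (.node (.node (.node (.leaf 0x0)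 (.leaf 0x0)) (.node (.leaf 0x0) (.leaf 0x0))) (.node (.node (.leaf 0x0) (.leaf 0x0)) (.node (.leaf 0x0) (.leaf 0x0))))) (.node (.node (.node (.node (.leaf 0x0) (.leaf 0x0)) (.node (.leaf 0x0) (.leaf 0x0))) (.node (.node (.leaf 0x0) (.leaf 0x0)) (.node (.leaf 0x0) (.leaf 0x0)))) (.node (.node (.node (.leaf 0x0) (.leaf 0x0)) (.node (.leaf 0x0) (.leaf 0x0))) (.node (.node (.leaf 0x0) (.leaf 0x0)) (.node (.leaf 0x0) (.leaf 0x0)))))) (.node (.node (.node (.node (.node (.leaf 0x0) (.leaf 0x0)) (.node (.leaf 0x0) (.leaf 0x0))) (.node (.node (.leaf 0x0) (.leaf 0x0)) (.node (.leaf 0x0) (.leaf 0x0)))) (.node (.node (.node (.leaf 0x0) (.leaf 0x0)) (.node (.leaf 0x0) (.leaf 0x0))) (.node (.node (.leaf 0x0) (.leaf 0x0)) (.node (.leaf 0x0) (.leaf 0x0))))) (.node (.node (.node (.node (.leaf 0x0) (.leaf 0x0)) (.node (.leaf 0x0) (.leaf 0x0))) (.node (.node (.leaf 0x0) (.leaf 0x0)) (.node (.leaf 0x0) (.leaf 0x0)))) (.node (.node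 (.node (.leaf 0x0) (.leaf 0x0)) (.node (.leaf 0x0) (.leaf 0x0))) (.node (.node (.leaf 0x0) (.leaf 0x0)) (.node (.leaf 0x0) (.leaf 0x0))))))))

/-- Closure. -/
def clo248 : FTree := (.node (.node (.node (.node (.node (.node (.node (.leaf 0x24) (.leaf 0x2abc)) (.node (.leaf 0x5d94) (.leaf 0x5688))) (.node (.node (.leaf 0x1bba) (.leaf 0x5125)) (.node (.leaf 0x1a53) (.leaf 0x6d8f)))) (.node (.node (.node (.leaf 0x3ce9) (.leaf 0x38bc)) (.node (.leaf 0x3fe9) (.leaf 0x62a1))) (.node (.node (.leaf 0x31d6) (.leaf 0x4ce0)) (.node (.leaf 0x22b0) (.leaf 0x7591))))) (.node (.node (.node (.node (.leaf 0x415) (.leaf 0x30d9)) (.node (.leaf 0x5071) (.leaf 0x5e08))) (.node (.node (.leaf 0x3dea) (.leaf 0x4880)) (.node (.leaf 0x20ad) (.leaf 0x72fe)))) (.node (.node (.node (.leaf 0x2403) (.leaf 0x41b7)) (.node (.leaf 0x186e) (.leaf 0x6777))) (.node (.node (.leaf 0x4874) (.leaf 0x52cd)) (.node (.leaf 0x5eb2) (.leaf 0x0)))))) (.node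 (.node (.node (.node (.node (.leaf 0x223) (.leaf 0x2f4c)) (.node (.leaf 0x1b83) (.leaf 0x5a70))) (.node (.node (.leaf 0x1049) (.leaf 0x45e7)) (.node (.leaf 0x32df) (.leaf 0x6fc6)))) (.node (.node (.node (.leaf 0x46f) (.leaf 0x3c70)) (.node (.leaf 0x1641) (.leaf 0x64fe))) (.node (.node (.leaf 0x29ad) (.leaf 0x4f3a)) (.node (.leaf 0x3744) (.leaf 0x0))))) (.node (.node (.node (.node (.leaf 0x32b) (.leaf 0x4233)) (.node (.leaf 0x1431) (.leaf 0x607e))) (.node (.node (.leaf 0x500a) (.leaf 0x4b2c)) (.node (.leaf 0x2f38) (.leaf 0x73f8)))) (.node (.node (.node (.leaf 0x17a5) (.leaf 0x40dc)) (.node (.leaf 0x5569) (.leaf 0x6bea))) (.node (.node (.leaf 0x6c53) (.leaf 0x535b)) (.node (.leaf 0x3afe) (.leaf 0x0))))))) (.node (.node (.node (.node (.node (.node (.leaf 0x16c) (.leaf 0x29f9)) (.node (.leaf 0x19e7) (.leaf 0x570a))) (.node (.node (.leaf 0x5d0a) (.leaf 0x64ab)) (.node (.leaf 0x1a5f) (.leaf 0x6e4d)))) (.node (.node (.node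 (.leaf 0x84a) (.leaf 0x3922)) (.node (.leaf 0x14ed) (.leaf 0x61ab))) (.node (.node (.leaf 0x2c03) (.leaf 0x4cd0)) (.node (.leaf 0x2396) (.leaf 0x7634))))) (.node (.node (.node (.node (.leaf 0x3d77) (.leaf 0x507e)) (.node (.leaf 0x28be) (.leaf 0x5c61))) (.node (.node (.leaf 0x39a0) (.leaf 0x48fd)) (.node (.leaf 0x2069) (.leaf 0x7252)))) (.node (.node (.node (.leaf 0x181d) (.leaf 0x3f6e)) (.node (.leaf 0x17b1) (.leaf 0x66c4))) (.node (.node (.leaf 0x2519) (.leaf 0x531d)) (.node (.leaf 0x4ddf) (.leaf 0x0)))))) (.node (.node (.node (.node (.node (.leaf 0x4df) (.leaf 0x2eb3)) (.node (.leaf 0x1062) (.leaf 0x5975))) (.node (.node (.leaf 0x1262) (.leaf 0x4b6f)) (.node (.leaf 0x1d7e) (.leaf 0x7044)))) (.node (.node (.node (.leaf 0x686) (.leaf 0x3af4)) (.node (.leaf 0x15e1) (.leaf 0x640f))) (.node (.node (.leaf 0x3596) (.leaf 0x4f2a)) (.node (.leaf 0x24b6) (.leaf 0x0))))) (.node (.node (.node (.node (.leaf 0x1d15) (.leaf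 0x365d)) (.node (.leaf 0x5001) (.leaf 0x601c))) (.node (.node (.leaf 0x97d) (.leaf 0x4a76)) (.node (.leaf 0x20ee) (.leaf 0x737e)))) (.node (.node (.node (.leaf 0x2859) (.leaf 0x448d)) (.node (.leaf 0x1985) (.leaf 0x6c26))) (.node (.node (.leaf 0x273e) (.leaf 0x5468)) (.node (.leaf 0x28df) (.leaf 0x0))))))))

/-- Closure. -/
def clo249 : FTree := (.node (.node (.node (.node (.node (.node (.node (.leaf 0xd1) (.leaf 0x3119)) (.node (.leaf 0x31f3) (.leaf 0x56e8))) (.node (.node (.leaf 0x19b4) (.leaf 0x431c)) (.node (.leaf 0x24a8) (.leaf 0x6c64)))) (.node (.node (.node (.leaf 0x54b) (.leaf 0x5b16)) (.node (.leaf 0x1467) (.leaf 0x6292))) (.node (.node (.leaf 0xb8c) (.leaf 0x4d5d)) (.node (.leaf 0x54cc) (.leaf 0x7715))))) (.node (.node (.node (.node (.leaf 0x2331) (.leaf 0x4129)) (.node (.leaf 0x2635) (.leaf 0x6955))) (.node (.node (.leaf 0x9ef) (.leaf 0x490a)) (.node (.leaf 0x4251) (.leaf 0x72d1)))) (.node (.node (.node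 (.leaf 0xcf1) (.leaf 0x3eb4)) (.node (.leaf 0x2354) (.leaf 0x66da))) (.node (.node (.leaf 0x4871) (.leaf 0x51c8)) (.node (.leaf 0x311c) (.leaf 0x0)))))) (.node (.node (.node (.node (.node (.leaf 0x7c5) (.leaf 0x2dba)) (.node (.leaf 0x2f4f) (.leaf 0x59a8))) (.node (.node (.leaf 0x38be) (.leaf 0x45be)) (.node (.leaf 0x392d) (.leaf 0x6fc1)))) (.node (.node (.node (.leaf 0x5f8) (.leaf 0x3b67)) (.node (.leaf 0x16e3) (.leaf 0x684c))) (.node (.node (.leaf 0x3058) (.leaf 0x4efe)) (.node (.leaf 0x23fa) (.leaf 0x0))))) (.node (.node (.node (.node (.leaf 0x5b0b) (.leaf 0x35ea)) (.node (.leaf 0x142f) (.leaf 0x5fe5))) (.node (.node (.leaf 0x421f) (.leaf 0x4b59)) (.node (.leaf 0x21c3) (.leaf 0x73e8)))) (.node (.node (.node (.leaf 0x4f9c) (.leaf 0x566b)) (.node (.leaf 0x1f0e) (.leaf 0x6a4b))) (.node (.node (.leaf 0x53df) (.leaf 0x55bc)) (.node (.leaf 0x3eb0) (.leaf 0x0))))))) (.node (.node (.node (.node (.node (.node (.leaf 0x1b6)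 (.leaf 0x6316)) (.node (.leaf 0x1c33) (.leaf 0x579d))) (.node (.node (.leaf 0x165b) (.leaf 0x43f8)) (.node (.leaf 0x1bd9) (.leaf 0x6e14)))) (.node (.node (.node (.leaf 0x1c8c) (.leaf 0x3933)) (.node (.leaf 0x1e0f) (.leaf 0x621e))) (.node (.node (.leaf 0xd3d) (.leaf 0x4c92)) (.node (.leaf 0x228e) (.leaf 0x75ce))))) (.node (.node (.node (.node (.leaf 0x60e) (.leaf 0x3206)) (.node (.leaf 0x3fd2) (.leaf 0x5d17))) (.node (.node (.leaf 0x1161) (.leaf 0x4e66)) (.node (.leaf 0x2084) (.leaf 0x7310)))) (.node (.node (.node (.leaf 0x95a) (.leaf 0x3e1a)) (.node (.leaf 0x186a) (.leaf 0x693d))) (.node (.node (.leaf 0xd27) (.leaf 0x5251)) (.node (.leaf 0x2687) (.leaf 0x0)))))) (.node (.node (.node (.node (.node (.leaf 0x2c5) (.leaf 0x2e84)) (.node (.leaf 0x1010) (.leaf 0x5937))) (.node (.node (.leaf 0x6e2) (.leaf 0x457a)) (.node (.leaf 0x1eea) (.leaf 0x705b)))) (.node (.node (.node (.leaf 0xa18) (.leaf 0x3aed)) (.node (.leaf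 0x4ef0) (.leaf 0x6683))) (.node (.node (.leaf 0x6166) (.leaf 0x4ffa)) (.node (.leaf 0x24a6) (.leaf 0x0))))) (.node (.node (.node (.node (.leaf 0x45b) (.leaf 0x35dc)) (.node (.leaf 0x1315) (.leaf 0x5f3c))) (.node (.node (.leaf 0x1b88) (.leaf 0x4b23)) (.node (.leaf 0x218b) (.leaf 0x743d)))) (.node (.node (.node (.leaf 0xa65) (.leaf 0x404c)) (.node (.leaf 0x191a) (.leaf 0x6b3c))) (.node (.node (.leaf 0xfec) (.leaf 0x5442)) (.node (.leaf 0x275c) (.leaf 0x0))))))))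

/-- Closure. -/
def clo250 : FTree := (.node (.node (.node (.node (.node (.node (.node (.leaf 0x96) (.leaf 0x2bda)) (.node (.leaf 0x19e4) (.leaf 0x5754))) (.node (.node (.leaf 0x682e) (.leaf 0x4926)) (.node (.leaf 0x1bc7) (.leaf 0x6c81)))) (.node (.node (.node (.leaf 0x848) (.leaf 0x38b2)) (.node (.leaf 0x150c) (.leaf 0x6387))) (.node (.node (.leaf 0x380f) (.leaf 0x4da1)) (.node (.leaf 0x6637) (.leaf 0x769e))))) (.node (.node (.node (.node (.leaf 0x3d7b) (.leaf 0x3437)) (.node (.leaf 0x12ea) (.leaf 0x5d4f))) (.node (.node (.leaf 0x39a1) (.leaf 0x48df)) (.node (.leaf 0x202c) (.leaf 0x7142)))) (.node (.node (.node (.leaf 0x6c32) (.leaf 0x3f99)) (.node (.leaf 0x17f2) (.leaf 0x6863))) (.node (.node (.leaf 0x2836) (.leaf 0x5300)) (.node (.leaf 0x6d62) (.leaf 0x0)))))) (.node (.node (.node (.node (.node (.leaf 0x4f4) (.leaf 0x3222)) (.node (.leaf 0x567b) (.leaf 0x5969))) (.node (.node (.leaf 0x71b) (.leaf 0x4571)) (.node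 (.leaf 0x1d82) (.leaf 0x70ab)))) (.node (.node (.node (.leaf 0xa6b) (.leaf 0x3c25)) (.node (.leaf 0x3c2a) (.leaf 0x65e1))) (.node (.node (.leaf 0x359b) (.leaf 0x5080)) (.node (.leaf 0x2f9f) (.leaf 0x0))))) (.node (.node (.node (.node (.leaf 0x4fa9) (.leaf 0x4237)) (.node (.leaf 0x13fd) (.leaf 0x6135))) (.node (.node (.leaf 0x103d) (.leaf 0x49fe)) (.node (.leaf 0x24a0) (.leaf 0x749b)))) (.node (.node (.node (.leaf 0x2857) (.leaf 0x4218)) (.node (.leaf 0x6ca3) (.leaf 0x6a72))) (.node (.node (.leaf 0xe11) (.leaf 0x5371)) (.node (.leaf 0x5b63) (.leaf 0x0))))))) (.node (.node (.node (.node (.node (.node (.leaf 0x1a5) (.leaf 0x2c0e)) (.node (.leaf 0x2a81) (.leaf 0x69d3))) (.node (.node (.leaf 0x5542) (.leaf 0x441e)) (.node (.leaf 0x1e41) (.leaf 0x6cb2)))) (.node (.node (.node (.leaf 0x3d18) (.leaf 0x38fe)) (.node (.leaf 0x145b) (.leaf 0x6368))) (.node (.node (.leaf 0x237d) (.leaf 0x4d16)) (.node (.leaf 0x6331) (.leaf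 0x7548))))) (.node (.node (.node (.node (.leaf 0x12f7) (.leaf 0x3ed1)) (.node (.leaf 0x124e) (.leaf 0x6257))) (.node (.node (.leaf 0x2c99) (.leaf 0x4780)) (.node (.leaf 0x28f6) (.leaf 0x7124)))) (.node (.node (.node (.leaf 0x4a3) (.leaf 0x3fb0)) (.node (.leaf 0x1852) (.leaf 0x67ab))) (.node (.node (.leaf 0x33b0) (.leaf 0x5305)) (.node (.leaf 0x42a3) (.leaf 0x0)))))) (.node (.node (.node (.node (.node (.leaf 0x35b) (.leaf 0x2d04)) (.node (.leaf 0x109b) (.leaf 0x58cb))) (.node (.node (.leaf 0x739) (.leaf 0x4530)) (.node (.leaf 0x1e0b) (.leaf 0x6f7f)))) (.node (.node (.node (.leaf 0x3d0) (.leaf 0x3cb1)) (.node (.leaf 0x1587) (.leaf 0x648c))) (.node (.node (.leaf 0xc07) (.leaf 0x5040)) (.node (.leaf 0x2346) (.leaf 0x0))))) (.node (.node (.node (.node (.leaf 0x29fc) (.leaf 0x35c2)) (.node (.leaf 0x6882) (.leaf 0x6067))) (.node (.node (.leaf 0x5d5e) (.leaf 0x4a40)) (.node (.leaf 0x2105) (.leaf 0x7343)))) (.node (.node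 (.node (.leaf 0x5b4) (.leaf 0x41a4)) (.node (.leaf 0x1966) (.leaf 0x6aae))) (.node (.node (.leaf 0x2723) (.leaf 0x5380)) (.node (.leaf 0x371d) (.leaf 0x0))))))))

/-- Closure. -/
def clo251 : FTree := (.node (.node (.node (.node (.node (.node (.node (.leaf 0xe8) (.leaf 0x2c4d)) (.node (.leaf 0x12c4) (.leaf 0x5676))) (.node (.node (.leaf 0x6fd) (.leaf 0x43f0)) (.node (.leaf 0x6cae) (.leaf 0x6e53)))) (.node (.node (.node (.leaf 0x2dfb) (.leaf 0x38ae)) (.node (.leaf 0x14d7) (.leaf 0x62cd))) (.node (.node (.leaf 0xabd) (.leaf 0x4cf2)) (.node (.leaf 0x6749) (.leaf 0x75cf))))) (.node (.node (.node (.node (.leaf 0x7e7) (.leaf 0x3567)) (.node (.leaf 0x41ab) (.leaf 0x5c1e))) (.node (.node (.leaf 0xa03) (.leaf 0x4833)) (.node (.leaf 0x2024) (.leaf 0x7200)))) (.node (.node (.node (.leaf 0x1227) (.leaf 0x3f45)) (.node (.leaf 0x17db) (.leaf 0x68a5))) (.node (.node (.leaf 0xd19) (.leaf 0x525c)) (.node (.leaf 0x2648) (.leaf 0x0))))))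 (.node (.node (.node (.node (.node (.leaf 0x27a) (.leaf 0x2ed8)) (.node (.leaf 0x572c) (.leaf 0x58e0))) (.node (.node (.leaf 0x1243) (.leaf 0x46e8)) (.node (.leaf 0x1d81) (.leaf 0x6f28)))) (.node (.node (.node (.leaf 0x2da1) (.leaf 0x3b37)) (.node (.leaf 0x1685) (.leaf 0x6653))) (.node (.node (.leaf 0xc6d) (.leaf 0x50b5)) (.node (.leaf 0x249a) (.leaf 0x0))))) (.node (.node (.node (.node (.leaf 0x5bc) (.leaf 0x4b3d)) (.node (.leaf 0x134a) (.leaf 0x609b))) (.node (.node (.leaf 0x15a0) (.leaf 0x4bf4)) (.node (.leaf 0x425d) (.leaf 0x74e4)))) (.node (.node (.node (.leaf 0x585) (.leaf 0x40e7)) (.node (.leaf 0x1a39) (.leaf 0x6be8))) (.node (.node (.leaf 0x4bc5) (.leaf 0x541d)) (.node (.leaf 0x5b50) (.leaf 0x0))))))) (.node (.node (.node (.node (.node (.node (.leaf 0x1f6) (.leaf 0x2b31)) (.node (.leaf 0x5d9b) (.leaf 0x60d7))) (.node (.node (.leaf 0x63d) (.leaf 0x4350)) (.node (.leaf 0x1c03) (.leaf 0x6c79)))) (.node (.node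 (.node (.leaf 0x37c) (.leaf 0x37d3)) (.node (.leaf 0x1e1f) (.leaf 0x638c))) (.node (.node (.leaf 0xb56) (.leaf 0x4d45)) (.node (.leaf 0x2cff) (.leaf 0x76c5))))) (.node (.node (.node (.node (.leaf 0x570) (.leaf 0x30dc)) (.node (.leaf 0x3b82) (.leaf 0x5cfc))) (.node (.node (.leaf 0x1cc5) (.leaf 0x505d)) (.node (.leaf 0x2032) (.leaf 0x72ec)))) (.node (.node (.node (.leaf 0x467) (.leaf 0x3eab)) (.node (.leaf 0x1803) (.leaf 0x694a))) (.node (.node (.leaf 0x5d19) (.leaf 0x51b7)) (.node (.leaf 0x250c) (.leaf 0x0)))))) (.node (.node (.node (.node (.node (.leaf 0x241) (.leaf 0x2faf)) (.node (.leaf 0x1dae) (.leaf 0x58fb))) (.node (.node (.leaf 0x92c) (.leaf 0x4588)) (.node (.leaf 0x1e63) (.leaf 0x70d8)))) (.node (.node (.node (.leaf 0xa38) (.leaf 0x3b75)) (.node (.leaf 0x1645) (.leaf 0x6663))) (.node (.node (.leaf 0x6180) (.leaf 0x5111)) (.node (.leaf 0x24cc) (.leaf 0x0))))) (.node (.node (.node (.node (.leaf 0x1cb7) (.leaf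 0x360d)) (.node (.leaf 0x1307) (.leaf 0x6036))) (.node (.node (.leaf 0x8c9) (.leaf 0x4bc7)) (.node (.leaf 0x2156) (.leaf 0x74a9)))) (.node (.node (.node (.leaf 0x2a06) (.leaf 0x427f)) (.node (.leaf 0x1e3a) (.leaf 0x6c13))) (.node (.node (.leaf 0xeb3) (.leaf 0x5454)) (.node (.leaf 0x2863) (.leaf 0x0))))))))

/-- Closure. -/
def clo252 : FTree := (.node (.node (.node (.node (.node (.node (.node (.leaf 0x4b) (.leaf 0x2ca6)) (.node (.leaf 0xfaf) (.leaf 0x57ed))) (.node (.node (.leaf 0x8f6) (.leaf 0x4484)) (.node (.leaf 0x6394) (.leaf 0x6c5d)))) (.node (.node (.node (.leaf 0x467e) (.leaf 0x3988)) (.node (.leaf 0x1473) (.leaf 0x61b7))) (.node (.node (.leaf 0x37c4) (.leaf 0x4d55)) (.node (.leaf 0x53d8) (.leaf 0x760d))))) (.node (.node (.node (.node (.leaf 0x2d43) (.leaf 0x3292)) (.node (.leaf 0x17ad) (.leaf 0x621c))) (.node (.node (.leaf 0x1163) (.leaf 0x48d2)) (.node (.leaf 0x28fa) (.leaf 0x71ff)))) (.node (.node (.node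 (.leaf 0x73c) (.leaf 0x3f63)) (.node (.leaf 0x17c9) (.leaf 0x6866))) (.node (.node (.leaf 0xd59) (.leaf 0x525a)) (.node (.leaf 0x257e) (.leaf 0x0)))))) (.node (.node (.node (.node (.node (.leaf 0x4f3) (.leaf 0x2f6b)) (.node (.leaf 0x4413) (.leaf 0x590f))) (.node (.node (.leaf 0x1fb5) (.leaf 0x46c2)) (.node (.leaf 0x1ee0) (.leaf 0x6f3f)))) (.node (.node (.node (.leaf 0x6421) (.leaf 0x3fc1)) (.node (.leaf 0x33e8) (.leaf 0x6680))) (.node (.node (.leaf 0x6164) (.leaf 0x4ec8)) (.node (.leaf 0x2376) (.leaf 0x0))))) (.node (.node (.node (.node (.leaf 0xdf3) (.leaf 0x36a8)) (.node (.leaf 0x6919) (.leaf 0x608a))) (.node (.node (.leaf 0x3fc6) (.leaf 0x4b47)) (.node (.leaf 0x2227) (.leaf 0x73b9)))) (.node (.node (.node (.leaf 0x2ee6) (.leaf 0x4297)) (.node (.leaf 0x199c) (.leaf 0x6ace))) (.node (.node (.leaf 0x5dca) (.leaf 0x55d3)) (.node (.leaf 0x26ee) (.leaf 0x0))))))) (.node (.node (.node (.node (.node (.node (.leaf 0x10c)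 (.leaf 0x3882)) (.node (.leaf 0x1c32) (.leaf 0x57fb))) (.node (.node (.leaf 0x1f18) (.leaf 0x444e)) (.node (.leaf 0x1b50) (.leaf 0x6f09)))) (.node (.node (.node (.leaf 0x3d0b) (.leaf 0x392c)) (.node (.leaf 0x1558) (.leaf 0x628d))) (.node (.node (.leaf 0xad9) (.leaf 0x5ecc)) (.node (.leaf 0x5382) (.leaf 0x758b))))) (.node (.node (.node (.node (.leaf 0x44b) (.leaf 0x3787)) (.node (.leaf 0x1241) (.leaf 0x5c7e))) (.node (.node (.leaf 0x7090) (.leaf 0x4849)) (.node (.leaf 0x2c62) (.leaf 0x72b6)))) (.node (.node (.node (.leaf 0x994) (.leaf 0x3ea5)) (.node (.leaf 0x6950) (.leaf 0x6875))) (.node (.node (.leaf 0xce9) (.leaf 0x524b)) (.node (.leaf 0x5ddd) (.leaf 0x0)))))) (.node (.node (.node (.node (.node (.leaf 0x2b6) (.leaf 0x2e73)) (.node (.leaf 0x5391) (.leaf 0x5a4d))) (.node (.node (.leaf 0x9aa) (.leaf 0x4553)) (.node (.leaf 0x1ee2) (.leaf 0x6fb2)))) (.node (.node (.node (.leaf 0x6796) (.leaf 0x3a4f)) (.node (.leaf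 0x15d8) (.leaf 0x6514))) (.node (.node (.leaf 0xbe7) (.leaf 0x4fdb)) (.node (.leaf 0x24ab) (.leaf 0x0))))) (.node (.node (.node (.node (.leaf 0x542e) (.leaf 0x3602)) (.node (.leaf 0x131b) (.leaf 0x5f55))) (.node (.node (.leaf 0x1861) (.leaf 0x4b9f)) (.node (.leaf 0x21fc) (.leaf 0x7461)))) (.node (.node (.node (.leaf 0x10fa) (.leaf 0x4152)) (.node (.leaf 0x189a) (.leaf 0x6b90))) (.node (.node (.leaf 0x5dea) (.leaf 0x53fe)) (.node (.leaf 0x2902) (.leaf 0x0))))))))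

/-- Closure. -/
def clo253 : FTree := (.node (.node (.node (.node (.node (.node (.node (.leaf 0xf0) (.leaf 0x2f5b)) (.node (.leaf 0xfa1) (.leaf 0x5df8))) (.node (.node (.leaf 0x952) (.leaf 0x43fa)) (.node (.leaf 0x5cb4) (.leaf 0x6e77)))) (.node (.node (.node (.leaf 0x13e4) (.leaf 0x391e)) (.node (.leaf 0x18ac) (.leaf 0x61e8))) (.node (.node (.leaf 0xe8d) (.leaf 0x4dfc)) (.node (.leaf 0x230c) (.leaf 0x76d0))))) (.node (.node (.node (.node (.leaf 0xa90) (.leaf 0x56f0)) (.node (.leaf 0x1d55) (.leaf 0x5ce1))) (.node (.node (.leaf 0x420c) (.leaf 0x49bf)) (.node (.leaf 0x1fe8) (.leaf 0x71aa)))) (.node (.node (.node (.leaf 0x98e) (.leaf 0x46ff)) (.node (.leaf 0x1836) (.leaf 0x69cb))) (.node (.node (.leaf 0x1e5c) (.leaf 0x524a)) (.node (.leaf 0x3130) (.leaf 0x0)))))) (.node (.node (.node (.node (.node (.leaf 0x4cf) (.leaf 0x5cee)) (.node (.leaf 0x3c51) (.leaf 0x59fd))) (.node (.node (.leaf 0x48ed) (.leaf 0x4709)) (.node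 (.leaf 0x1de3) (.leaf 0x7111)))) (.node (.node (.node (.leaf 0x6de) (.leaf 0x3c7d)) (.node (.leaf 0x1694) (.leaf 0x6550))) (.node (.node (.leaf 0xc60) (.leaf 0x5063)) (.node (.leaf 0x23e9) (.leaf 0x0))))) (.node (.node (.node (.node (.leaf 0x2fe8) (.leaf 0x36be)) (.node (.leaf 0x1346) (.leaf 0x5f29))) (.node (.node (.leaf 0x17fd) (.leaf 0x4b6d)) (.node (.leaf 0x223c) (.leaf 0x7450)))) (.node (.node (.node (.leaf 0x1d0a) (.leaf 0x41f0)) (.node (.leaf 0x2c23) (.leaf 0x6a9c))) (.node (.node (.leaf 0x55a3) (.leaf 0x54a8)) (.node (.leaf 0x2926) (.leaf 0x0))))))) (.node (.node (.node (.node (.node (.node (.leaf 0x1e9) (.leaf 0x2b6b)) (.node (.leaf 0xf12) (.leaf 0x56c5))) (.node (.node (.leaf 0x3d4e) (.leaf 0x4306)) (.node (.leaf 0x1fe3) (.leaf 0x6e8f)))) (.node (.node (.node (.leaf 0x375) (.leaf 0x39c4)) (.node (.leaf 0x1e16) (.leaf 0x61dc))) (.node (.node (.leaf 0x4f32) (.leaf 0x4d42)) (.node (.leaf 0x3088) (.leaf 0x7645)))))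 (.node (.node (.node (.node (.leaf 0x31b) (.leaf 0x2ff1)) (.node (.leaf 0x3534) (.leaf 0x5afb))) (.node (.node (.leaf 0x7d5) (.leaf 0x47c8)) (.node (.leaf 0x201e) (.leaf 0x7163)))) (.node (.node (.node (.leaf 0x67b) (.leaf 0x3db6)) (.node (.leaf 0x174b) (.leaf 0x66b8))) (.node (.node (.leaf 0xff3) (.leaf 0x513a)) (.node (.leaf 0x25a0) (.leaf 0x0)))))) (.node (.node (.node (.node (.node (.leaf 0x200) (.leaf 0x2eb7)) (.node (.leaf 0x1000) (.leaf 0x58da))) (.node (.node (.leaf 0x2454) (.leaf 0x4501)) (.node (.leaf 0x1cef) (.leaf 0x7071)))) (.node (.node (.node (.leaf 0x42b5) (.leaf 0x3a1c)) (.node (.leaf 0x15ca) (.leaf 0x64e7))) (.node (.node (.leaf 0xbce) (.leaf 0x4f12)) (.node (.leaf 0x5c2d) (.leaf 0x0))))) (.node (.node (.node (.node (.leaf 0x306) (.leaf 0x37ff)) (.node (.leaf 0x1328) (.leaf 0x5fb1))) (.node (.node (.leaf 0x962) (.leaf 0x4a77)) (.node (.leaf 0x2165) (.leaf 0x739f)))) (.node (.node (.node (.leaf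 0x568) (.leaf 0x4077)) (.node (.leaf 0x18d6) (.leaf 0x6a64))) (.node (.node (.leaf 0xe5a) (.leaf 0x5469)) (.node (.leaf 0x3a0e) (.leaf 0x0))))))))

/-- Closure. -/
def clo254 : FTree := (.node (.node (.node (.node (.node (.node (.node (.leaf 0x81) (.leaf 0x35ab)) (.node (.leaf 0x565f) (.leaf 0x580e))) (.node (.node (.leaf 0xfd8) (.leaf 0x43fc)) (.node (.leaf 0x1c4d) (.leaf 0x6c51)))) (.node (.node (.node (.leaf 0x13f2) (.leaf 0x38f6)) (.node (.leaf 0x1517) (.leaf 0x62ad))) (.node (.node (.leaf 0x4ebb) (.leaf 0x4ddc)) (.node (.leaf 0x232d) (.leaf 0x7680))))) (.node (.node (.node (.node (.leaf 0x3c3) (.leaf 0x3312)) (.node (.leaf 0x4418) (.leaf 0x5cc7))) (.node (.node (.leaf 0xe97) (.leaf 0x4891)) (.node (.leaf 0x1f8c) (.leaf 0x714f)))) (.node (.node (.node (.leaf 0x4078) (.leaf 0x3dd3)) (.node (.leaf 0x3320) (.leaf 0x67e3))) (.node (.node (.leaf 0x11fc) (.leaf 0x5279)) (.node (.leaf 0x255c) (.leaf 0x0)))))) (.node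 (.node (.node (.node (.node (.leaf 0x4bb) (.leaf 0x34ea)) (.node (.leaf 0x108c) (.leaf 0x5a82))) (.node (.node (.leaf 0x5c20) (.leaf 0x45c5)) (.node (.leaf 0x1e4b) (.leaf 0x70f8)))) (.node (.node (.node (.leaf 0x5b59) (.leaf 0x3a75)) (.node (.leaf 0x19ae) (.leaf 0x6474))) (.node (.node (.leaf 0xc6a) (.leaf 0x50a3)) (.node (.leaf 0x573e) (.leaf 0x0))))) (.node (.node (.node (.node (.leaf 0x3113) (.leaf 0x3676)) (.node (.leaf 0x1391) (.leaf 0x5f38))) (.node (.node (.leaf 0x1af5) (.leaf 0x4b64)) (.node (.leaf 0x2f32) (.leaf 0x743b)))) (.node (.node (.node (.leaf 0x68e7) (.leaf 0x4254)) (.node (.leaf 0x1900) (.leaf 0x6bdb))) (.node (.node (.leaf 0x1bb4) (.leaf 0x55ea)) (.node (.leaf 0x280f) (.leaf 0x0))))))) (.node (.node (.node (.node (.node (.node (.leaf 0x19e) (.leaf 0x2aa7)) (.node (.leaf 0x1a03) (.leaf 0x666f))) (.node (.node (.leaf 0x62dd) (.leaf 0x444b)) (.node (.leaf 0x1b01) (.leaf 0x6d4b)))) (.node (.node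 (.node (.leaf 0x84e) (.leaf 0x5b13)) (.node (.leaf 0x152f) (.leaf 0x6295))) (.node (.node (.leaf 0x5b17) (.leaf 0x4ded)) (.node (.leaf 0x23c6) (.leaf 0x76ae))))) (.node (.node (.node (.node (.leaf 0x3d73) (.leaf 0x3174)) (.node (.leaf 0x5b60) (.leaf 0x5dfc))) (.node (.node (.leaf 0x1eaf) (.leaf 0x4897)) (.node (.leaf 0x2199) (.leaf 0x72fb)))) (.node (.node (.node (.leaf 0x1a78) (.leaf 0x41c6)) (.node (.leaf 0x177d) (.leaf 0x6870))) (.node (.node (.leaf 0x1d42) (.leaf 0x51f3)) (.node (.leaf 0x2906) (.leaf 0x0)))))) (.node (.node (.node (.node (.node (.leaf 0x4e0) (.leaf 0x2ddc)) (.node (.leaf 0x1e2c) (.leaf 0x5977))) (.node (.node (.leaf 0x74b) (.leaf 0x46b6)) (.node (.leaf 0x1dc7) (.leaf 0x6f57)))) (.node (.node (.node (.leaf 0x3266) (.leaf 0x3bd5)) (.node (.leaf 0x163d) (.leaf 0x64e1))) (.node (.node (.leaf 0xc05) (.leaf 0x6559)) (.node (.leaf 0x6660) (.leaf 0x0))))) (.node (.node (.node (.node (.leaf 0x2fcb)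 (.leaf 0x3848)) (.node (.leaf 0x5bf8) (.leaf 0x6078))) (.node (.node (.leaf 0x1040) (.leaf 0x4b38)) (.node (.leaf 0x2118) (.leaf 0x740b)))) (.node (.node (.node (.leaf 0x274d) (.leaf 0x583d)) (.node (.leaf 0x190b) (.leaf 0x6bdc))) (.node (.node (.leaf 0x2a93) (.leaf 0x545f)) (.node (.leaf 0x2b1b) (.leaf 0x0))))))))

/-- Closure. -/
def clo255 : FTree := (.node (.node (.node (.node (.node (.node (.node (.leaf 0x123) (.leaf 0x3b51)) (.node (.leaf 0xf6d) (.leaf 0x57ce))) (.node (.node (.leaf 0x3e0d) (.leaf 0x449f)) (.node (.leaf 0x1ad3) (.leaf 0x6db7)))) (.node (.node (.node (.leaf 0x3d29) (.leaf 0x3810)) (.node (.leaf 0x1505) (.leaf 0x63d7))) (.node (.node (.leaf 0x5d1f) (.leaf 0x4d1e)) (.node (.leaf 0x22f8) (.leaf 0x76a1))))) (.node (.node (.node (.node (.leaf 0x3cc8) (.leaf 0x3474)) (.node (.leaf 0x4d2b) (.leaf 0x5c24))) (.node (.node (.leaf 0x70b7) (.leaf 0x4c46)) (.node (.leaf 0x51cc) (.leaf 0x71e8)))) (.node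 (.node (.node (.leaf 0x99b) (.leaf 0x3f90)) (.node (.leaf 0x6348) (.leaf 0x6969))) (.node (.node (.leaf 0x3428) (.leaf 0x562d)) (.node (.leaf 0x4262) (.leaf 0x0)))))) (.node (.node (.node (.node (.node (.leaf 0x2d2) (.leaf 0x3b1a)) (.node (.leaf 0x2939) (.leaf 0x58f9))) (.node (.node (.leaf 0x1933) (.leaf 0x4605)) (.node (.leaf 0x4153) (.leaf 0x6ffd)))) (.node (.node (.node (.leaf 0x1336) (.leaf 0x3c17)) (.node (.leaf 0x15af) (.leaf 0x6690))) (.node (.node (.leaf 0xbe8) (.leaf 0x4eaa)) (.node (.leaf 0x23cd) (.leaf 0x0))))) (.node (.node (.node (.node (.leaf 0x5431) (.leaf 0x4ffd)) (.node (.leaf 0x2b0c) (.leaf 0x5f69))) (.node (.node (.leaf 0xa1b) (.leaf 0x4a00)) (.node (.leaf 0x25c7) (.leaf 0x7332)))) (.node (.node (.node (.leaf 0x5411) (.leaf 0x664a)) (.node (.leaf 0x1a21) (.leaf 0x6ae0))) (.node (.node (.leaf 0x623a) (.leaf 0x545c)) (.node (.leaf 0x32ab) (.leaf 0x0))))))) (.node (.node (.node (.node (.node (.node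 (.leaf 0x0) (.leaf 0x0)) (.node (.leaf 0x0) (.leaf 0x0))) (.node (.node (.leaf 0x0) (.leaf 0x0)) (.node (.leaf 0x0) (.leaf 0x0)))) (.node (.node (.node (.leaf 0x0) (.leaf 0x0)) (.node (.leaf 0x0) (.leaf 0x0))) (.node (.node (.leaf 0x0) (.leaf 0x0)) (.node (.leaf 0x0) (.leaf 0x0))))) (.node (.node (.node (.node (.leaf 0x0) (.leaf 0x0)) (.node (.leaf 0x0) (.leaf 0x0))) (.node (.node (.leaf 0x0) (.leaf 0x0)) (.node (.leaf 0x0) (.leaf 0x0)))) (.node (.node (.node (.leaf 0x0) (.leaf 0x0)) (.node (.leaf 0x0) (.leaf 0x0))) (.node (.node (.leaf 0x0) (.leaf 0x0)) (.node (.leaf 0x0) (.leaf 0x0)))))) (.node (.node (.node (.node (.node (.leaf 0x0) (.leaf 0x0)) (.node (.leaf 0x0) (.leaf 0x0))) (.node (.node (.leaf 0x0) (.leaf 0x0)) (.node (.leaf 0x0) (.leaf 0x0)))) (.node (.node (.node (.leaf 0x0) (.leaf 0x0)) (.node (.leaf 0x0) (.leaf 0x0))) (.node (.node (.leaf 0x0) (.leaf 0x0)) (.node (.leaf 0x0) (.leaf 0x0))))) (.node (.node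 (.node (.node (.leaf 0x0) (.leaf 0x0)) (.node (.leaf 0x0) (.leaf 0x0))) (.node (.node (.leaf 0x0) (.leaf 0x0)) (.node (.leaf 0x0) (.leaf 0x0)))) (.node (.node (.node (.leaf 0x0) (.leaf 0x0)) (.node (.leaf 0x0) (.leaf 0x0))) (.node (.node (.leaf 0x0) (.leaf 0x0)) (.node (.leaf 0x0) (.leaf 0x0))))))))

/-- The closure. -/
def clo : FTree := (.node (.node (.node (.node (.node (.node (.node (.node clo0 clo1) (.node clo2 clo3)) (.node (.node clo4 clo5) (.node clo6 clo7))) (.node (.node (.node clo8 clo9) (.node clo10 clo11)) (.node (.node clo12 clo13) (.node clo14 clo15)))) (.node (.node (.node (.node clo16 clo17) (.node clo18 clo19)) (.node (.node clo20 clo21) (.node clo22 clo23))) (.node (.node (.node clo24 clo25) (.node clo26 clo27)) (.node (.node clo28 clo29) (.node clo30 clo31))))) (.node (.node (.node (.node (.node clo32 clo33) (.node clo34 clo35)) (.node (.node clo36 clo37) (.node clo38 clo39))) (.node (.node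 (.node clo40 clo41) (.node clo42 clo43)) (.node (.node clo44 clo45) (.node clo46 clo47)))) (.node (.node (.node (.node clo48 clo49) (.node clo50 clo51)) (.node (.node clo52 clo53) (.node clo54 clo55))) (.node (.node (.node clo56 clo57) (.node clo58 clo59)) (.node (.node clo60 clo61) (.node clo62 clo63)))))) (.node (.node (.node (.node (.node (.node clo64 clo65) (.node clo66 clo67)) (.node (.node clo68 clo69) (.node clo70 clo71))) (.node (.node (.node clo72 clo73) (.node clo74 clo75)) (.node (.node clo76 clo77) (.node clo78 clo79)))) (.node (.node (.node (.node clo80 clo81) (.node clo82 clo83)) (.node (.node clo84 clo85) (.node clo86 clo87))) (.node (.node (.node clo88 clo89) (.node clo90 clo91)) (.node (.node clo92 clo93) (.node clo94 clo95))))) (.node (.node (.node (.node (.node clo96 clo97) (.node clo98 clo99)) (.node (.node clo100 clo101) (.node clo102 clo103))) (.node (.node (.node clo104 clo105) (.node clo106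 clo107)) (.node (.node clo108 clo109) (.node clo110 clo111)))) (.node (.node (.node (.node clo112 clo113) (.node clo114 clo115)) (.node (.node clo116 clo117) (.node clo118 clo119))) (.node (.node (.node clo120 clo121) (.node clo122 clo123)) (.node (.node clo124 clo125) (.node clo126 clo127))))))) (.node (.node (.node (.node (.node (.node (.node clo128 clo129) (.node clo130 clo131)) (.node (.node clo132 clo133) (.node clo134 clo135))) (.node (.node (.node clo136 clo137) (.node clo138 clo139)) (.node (.node clo140 clo141) (.node clo142 clo143)))) (.node (.node (.node (.node clo144 clo145) (.node clo146 clo147)) (.node (.node clo148 clo149) (.node clo150 clo151))) (.node (.node (.node clo152 clo153) (.node clo154 clo155)) (.node (.node clo156 clo157) (.node clo158 clo159))))) (.node (.node (.node (.node (.node clo160 clo161) (.node clo162 clo163)) (.node (.node clo164 clo165) (.node clo166 clo167))) (.node (.node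 (.node clo168 clo169) (.node clo170 clo171)) (.node (.node clo172 clo173) (.node clo174 clo175)))) (.node (.node (.node (.node clo176 clo177) (.node clo178 clo179)) (.node (.node clo180 clo181) (.node clo182 clo183))) (.node (.node (.node clo184 clo185) (.node clo186 clo187)) (.node (.node clo188 clo189) (.node clo190 clo191)))))) (.node (.node (.node (.node (.node (.node clo192 clo193) (.node clo194 clo195)) (.node (.node clo196 clo197) (.node clo198 clo199))) (.node (.node (.node clo200 clo201) (.node clo202 clo203)) (.node (.node clo204 clo205) (.node clo206 clo207)))) (.node (.node (.node (.node clo208 clo209) (.node clo210 clo211)) (.node (.node clo212 clo213) (.node clo214 clo215))) (.node (.node (.node clo216 clo217) (.node clo218 clo219)) (.node (.node clo220 clo221) (.node clo222 clo223))))) (.node (.node (.node (.node (.node clo224 clo225) (.node clo226 clo227)) (.node (.node clo228 clo229) (.node clo230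 clo231))) (.node (.node (.node clo232 clo233) (.node clo234 clo235)) (.node (.node clo236 clo237) (.node clo238 clo239)))) (.node (.node (.node (.node clo240 clo241) (.node clo242 clo243)) (.node (.node clo244 clo245) (.node clo246 clo247))) (.node (.node (.node clo248 clo249) (.node clo250 clo251)) (.node (.node clo252 clo253) (.node clo254 clo255))))))))

/-- Elements fixing a class. -/
def el0 : List (ℕ × ℕ × ℕ) := [(0x1a0c058281208038180a04018080200, 0, 0)]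

/-- Elements fixing a class. -/
def el1 : List (ℕ × ℕ × ℕ) := [(0x1a0c058281208038180a04018080200, 0, 0), (0x180d058280601038000a02048101006, 0, 11), (0x1a0c058280601038000a02048101006, 0, 16), (0x1a0c058280608028100e06048000202, 0, 30), (0x1a0c038280401058180a03020241000, 0, 66), (0x1a0c058140606038201404048080001, 0, 140), (0x1a0c0501c0003058040a02030101208, 0, 144), (0x180d058281208038180a04018080200, 1, 16), (0x180d058281201028080e00018181004, 1, 30), (0x180d038280808058000a090100c0206, 1, 66), (0x180d058141200038041402018100c08, 1, 140), (0x180d0501c0c09058200a04000080601, 1, 144), (0x1a0c058281201028080e00018181004, 2, 30), (0x1a0c038280808058000a090100c0206, 2, 66), (0x1a0c058141200038041402018100c08, 2, 140), (0x1a0c0501c0c09058200a04000080601, 2, 144), (0x1a0c028280001058100e090300c1002, 3, 66), (0x1a0c0581c1204028201406018000401, 3, 140), (0x1a0c050140409058040e00020180608, 3, 144), (0x1a0c0382808010280c1606010001009,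 4, 30), (0x1a0c038140806058041403010240008, 4, 140), (0x1a0c0502c0004038200a090300c0401, 4, 144), (0x1a0c058141206050100e08018040002, 5, 30), (0x1a0c0381404000582014090200c0c01, 5, 66), (0x1a0c0281c0209058001402040100606, 5, 144), (0x1a0c0501c0c03028081601000201204, 6, 30), (0x1a0c0581c0809050040a06010000608, 6, 66), (0x1a0c050140c010580c0e02000101009, 6, 140), (0x1a0c0382c1006050240a04008080003, 6, 144), (0x180d058280608028100e06048000202, 7, 30), (0x180d038280401058180a03020241000, 7, 66), (0x180d058140606038201404048080001, 7, 140), (0x180d0501c0003058040a02030101208, 7, 144), (0x180d028280c08058080e03000240204, 8, 66), (0x180d0581c0602028041400048180808, 8, 140), (0x180d050140803058200e06010001201, 8, 144), (0x180d038280408028241600020180203, 9, 30), (0x180d0381404000582014090200c0c01, 9, 140), (0x180d0502c0c02038040a03000240808, 9, 144), (0x180d058140600050080e01048200c04, 10, 30), (0x180d038140806058041403010240008,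 10, 66), (0x180d0281c1003058181404008081200, 10, 144), (0x180d0501c0009028101608030040602, 11, 30), (0x180d0581c0403050200a00020181201, 11, 66), (0x180d050140008058240e04030080203, 11, 140), (0x180d0382c02000500c0a02040100c09, 11, 144), (0x1a0c028280c08058080e03000240204, 12, 66), (0x1a0c0581c0602028041400048180808, 12, 140), (0x1a0c050140803058200e06010001201, 12, 144), (0x1a0c038280408028241600020180203, 13, 30), (0x1a0c0502c0c02038040a03000240808, 13, 144), (0x1a0c058140600050080e01048200c04, 14, 30), (0x1a0c0281c1003058181404008081200, 14, 144), (0x1a0c0501c0009028101608030040602, 15, 30), (0x1a0c0581c0403050200a00020181201, 15, 66), (0x1a0c050140008058240e04030080203, 15, 140), (0x1a0c0382c02000500c0a02040100c09, 15, 144), (0x1a0c028280c01038241604000081003, 16, 30), (0x1a0c0281c0c040580414090000c0408, 16, 140), (0x1a0c0502c0406028200e03020240001, 16, 144), (0x1a0c0581c0604050180a08048040400, 17, 30), (0x1a0c0281c0002058201403030240801,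 17, 66), (0x1a0c038140203058081400040181204, 17, 144), (0x1a0c050140809038001601010200606, 18, 30), (0x1a0c058140c03050040e04000081208, 18, 66), (0x1a0c0501c0801058240a00010181003, 18, 140), (0x1a0c0282c10040500c0e06008000409, 18, 144), (0x1a0c0282800080380c1602030100209, 19, 66), (0x1a0c0382c0403028041406020001208, 19, 140), (0x1a0c050141202038201600018180801, 19, 144), (0x1a0c0381404060500c1601020200009, 20, 30), (0x1a0c0282c10020380014090080c0806, 20, 144), (0x1a0c0502c0c04028240e08000040403, 21, 30), (0x1a0c0382c0602050200a06048000801, 21, 66), (0x1a0c050140c080381016090000c0202, 21, 140), (0x1a0c0581c0206050080a03040240004, 21, 144), (0x1a0c050140200058100e03040240c02, 22, 66), (0x1a0c028280403058000e01020201206, 22, 144), (0x1a0c038140800050241608010040c03, 23, 30), (0x1a0c0282c0204038181403040240400, 23, 144), (0x1a0c0281c1009050081600008180604, 24, 30), (0x1a0c0581c0803028001408010041206, 24, 66), (0x1a0c028281000058240e02008100c03,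 24, 140), (0x1a0c0382c0c080280c1404000080209, 24, 144), (0x1a0c0502c00020280c0e01030200809, 25, 140), (0x1a0c0581c0409028181401020200600, 26, 30), (0x1a0c058140401050240e06020001003, 26, 140), (0x1a0c0382810020580c0a00008180809, 26, 144), (0x1a0c050140001038081603030241004, 27, 30), (0x1a0c0581408080500c0e00010180209, 27, 66), (0x1a0c0282c1200050200e04018080c01, 27, 144), (0x1a0c0382c02060281014090400c0002, 28, 30), (0x1a0c0502c0400038240a01020200c03, 28, 66), (0x1a0c038140209050181604040080600, 28, 140), (0x180d028280001058100e090300c1002, 29, 66), (0x180d0581c1204028201406018000401, 29, 140), (0x180d050140409058040e00020180608, 29, 144), (0x180d0382808010280c1606010001009, 30, 30), (0x180d0502c0004038200a090300c0401, 30, 144), (0x180d058141206050100e08018040002, 31, 30), (0x180d0281c0209058001402040100606, 31, 144), (0x180d0501c0c03028081601000201204, 32, 30), (0x180d0581c0809050040a06010000608, 32, 66), (0x180d050140c010580c0e02000101009,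 32, 140), (0x180d0382c1006050240a04008080003, 32, 144), (0x180d0282800080380c1602030100209, 33, 30), (0x180d0281c0002058201403030240801, 33, 140), (0x180d0502c0800028040e090100c0c08, 33, 144), (0x180d0581c1202050000a01018200806, 34, 30), (0x180d0281c0c040580414090000c0408, 34, 66), (0x180d038141009058101406008000602, 34, 144), (0x180d050140403038181608020041200, 35, 30), (0x180d058140009050200e02030100601, 35, 66), (0x180d0501c04080580c0a06020000209, 35, 140), (0x180d0282c0202050240e00040180803, 35, 144), (0x180d028280c01038241604000081003, 36, 66), (0x180d0382c0809028201400010180601, 36, 140), (0x180d050140604038041606048000408, 36, 144), (0x180d038140800050241608010040c03, 37, 30), (0x180d0282c0204038181403040240400, 37, 144), (0x180d0502c00020280c0e01030200809, 38, 30), (0x180d0382c1204050040a00018180408, 38, 66), (0x180d050140001038081603030241004, 38, 140), (0x180d0581c1000050100a090080c0c02, 38, 144), (0x180d050141006058080e090080c0004,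 39, 66), (0x180d028280809058180e08010040600, 39, 144), (0x180d0381404060500c1601020200009, 40, 30), (0x180d0282c10020380014090080c0806, 40, 144), (0x180d0281c0203050101606040001202, 41, 30), (0x180d0581c0409028181401020200600, 41, 66), (0x180d0282802060580c0e04040080009, 41, 140), (0x180d0382c0001028241402030101003, 41, 144), (0x180d0502c0c04028240e08000040403, 42, 140), (0x180d0581c0803028001408010041206, 43, 30), (0x180d0581408080500c0e00010180209, 43, 140), (0x180d038280204058240a06040000403, 43, 144), (0x180d050140c080381016090000c0202, 44, 30), (0x180d058140401050240e06020001003, 44, 66), (0x180d0282c0606050040e02048100008, 44, 144), (0x180d0382c1000028081403008240c04, 45, 30), (0x180d0502c08060380c0a08010040009, 45, 66), (0x180d038141003050001602008101206, 45, 140), (0x1a0c0502c0800028040e090100c0c08, 46, 144), (0x1a0c0581c1202050000a01018200806, 47, 30), (0x1a0c038141009058101406008000602, 47, 144), (0x1a0c050140403038181608020041200,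 48, 30), (0x1a0c058140009050200e02030100601, 48, 66), (0x1a0c0501c04080580c0a06020000209, 48, 140), (0x1a0c0282c0202050240e00040180803, 48, 144), (0x1a0c0382c0809028201400010180601, 49, 140), (0x1a0c050140604038041606048000408, 49, 144), (0x1a0c0382c1204050040a00018180408, 50, 66), (0x1a0c0581c1000050100a090080c0c02, 50, 144), (0x1a0c050141006058080e090080c0004, 51, 66), (0x1a0c028280809058180e08010040600, 51, 144), (0x1a0c0281c0203050101606040001202, 52, 30), (0x1a0c0282802060580c0e04040080009, 52, 140), (0x1a0c0382c0001028241402030101003, 52, 144), (0x1a0c038280204058240a06040000403, 54, 144), (0x1a0c0282c0606050040e02048100008, 55, 144), (0x1a0c0382c1000028081403008240c04, 56, 30), (0x1a0c0502c08060380c0a08010040009, 56, 66), (0x1a0c038141003050001602008101206, 56, 140), (0x1a0c0282c0009038041404030080608, 57, 140), (0x1a0c0501c0600028201602048100c01, 57, 144), (0x1a0c0281c0004050241601030200403, 58, 30), (0x1a0c0501c0808028181603010240200,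 59, 140), (0x1a0c058140204050000e090400c0406, 59, 144), (0x1a0c0501c0202058180a090400c0800, 60, 66), (0x1a0c038280009058080a01030200604, 60, 144), (0x1a0c0281c0c020500c1608000040809, 61, 30), (0x1a0c058140c09038081408000040604, 62, 66), (0x1a0c0282c0808038241406010000203, 62, 144), (0x1a0c058140003038101401030201202, 64, 30), (0x1a0c0581c00010500c0a04030081009, 64, 140), (0x1a0c0501c04010280016090200c1006, 65, 30), (0x1a0c0581c0c08050240a02000100203, 65, 66), (0x1a0c0282c0c03038201402000101201, 67, 140), (0x1a0c0501c1206028041604018080008, 67, 144), (0x1a0c0382c0803050180a01010201200, 68, 30), (0x1a0c058141004038241400008180403, 68, 144), (0x1a0c050140602058000e08048040806, 69, 30), (0x1a0c038140c04050201603000240401, 69, 66), (0x1a0c0502c0608038080a00048180204, 69, 140), (0x1a0c0501410000380c1604008080c09, 70, 66), (0x1a0c028281204038001608018040406, 70, 144), (0x1a0c0382c0604028001401048200406, 71, 66), (0x1a0c0282802000380816090400c0c04,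 71, 140), (0x1a0c0581c0c01028101403000241002, 71, 144), (0x1a0c0382c1202028181408018040800, 73, 30), (0x1a0c038141208050081606018000204, 73, 140), (0x1a0c058280209038100a00040180602, 73, 144), (0x1a0c038140601050101600048181002, 74, 66), (0x1a0c0281c0400050041603020240c08, 74, 144), (0x1a0c0581c10060280c1402008100009, 75, 30), (0x1a0c0501c1200058080a08018040c04, 75, 66), (0x1a0c058141002050180e03008240800, 75, 140), (0x1a0c0501c1004058000a03008240406, 76, 140), (0x1a0c0282c0408050180e090200c0200, 76, 144), (0x1a0c028280803038041600010181208, 77, 30), (0x1a0c058281009028000e04008080606, 77, 66), (0x1a0c0281c08000580c1401010200c09, 77, 140), (0x1a0c050140206038241602040100003, 78, 66), (0x1a0c0382c0409050000a08020040606, 78, 140), (0x1a0c028280602038181601048200800, 78, 144), (0x1a0c028281006038101603008240002, 79, 140), (0x1a0c0581c00080280814090300c0204, 79, 144), (0x1a0c0582804000280c0e08020040c09, 81, 140), (0x1a0c038140c02058241401000200803,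 81, 144), (0x1a0c058280806028240e01010200003, 82, 66), (0x1a0c0502c0601028180e04048081000, 82, 144), (0x1a0c0382c0008050100a03030240202, 83, 30), (0x1a0c0282c04010380c1400020181009, 83, 66), (0x1a0c038280003028201604030081201, 83, 140), (0x1a0c0381400040580c1408030040409, 85, 144), (0x1a0c0581408010381814090100c1000, 86, 30), (0x1a0c028280604058200e00048180401, 86, 144), (0x1a0c038280202028001603040240806, 87, 30), (0x1a0c058280c040380c0a01000200409, 87, 66), (0x1a0c0502c1201038100a06018001002, 87, 144), (0x1a0c0281c08060502016090100c0001, 88, 144), (0x1a0c058140408038001403020240206, 89, 30), (0x1a0c028281202058040e06018000808, 89, 144), (0x1a0c0282c0600038101408048040c02, 90, 30), (0x1a0c0281c0608050001604048080206, 90, 140), (0x1a0c058280203028180e02040101200, 90, 144), (0x1a0c0382810040281816090080c0400, 91, 140), (0x180d0502c0406028200e03020240001, 94, 144), (0x180d0581c0604050180a08048040400, 95, 30), (0x180d038140203058081400040181204,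 95, 144), (0x180d050140809038001601010200606, 96, 30), (0x180d058140c03050040e04000081208, 96, 66), (0x180d0501c0801058240a00010181003, 96, 140), (0x180d0282c10040500c0e06008000409, 96, 144), (0x180d0382c0403028041406020001208, 97, 140), (0x180d050141202038201600018180801, 97, 144), (0x180d0382c0602050200a06048000801, 98, 66), (0x180d0581c0206050080a03040240004, 98, 144), (0x180d050140200058100e03040240c02, 99, 66), (0x180d028280403058000e01020201206, 99, 144), (0x180d0281c1009050081600008180604, 100, 30), (0x180d028281000058240e02008100c03, 100, 140), (0x180d0382c0c080280c1404000080209, 100, 144), (0x180d0382810020580c0a00008180809, 102, 144), (0x180d0282c1200050200e04018080c01, 103, 144), (0x180d0382c02060281014090400c0002, 104, 30), (0x180d0502c0400038240a01020200c03, 104, 66), (0x180d038140209050181604040080600, 104, 140), (0x180d0282c0c03038201402000101201, 105, 140), (0x180d0501c1206028041604018080008, 105,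 144), (0x180d0281c0c020500c1608000040809, 106, 30), (0x180d0501c04010280016090200c1006, 107, 140), (0x180d058141002050180e03008240800, 107, 144), (0x180d0501c1004058000a03008240406, 108, 66), (0x180d038280c03058100a08000041202, 108, 144), (0x180d0281c0004050241601030200403, 109, 30), (0x180d058140003038101401030201202, 110, 66), (0x180d0282c04010380c1400020181009, 110, 144), (0x180d058140c09038081408000040604, 112, 30), (0x180d0581c0c08050240a02000100203, 112, 140), (0x180d0501c0808028181603010240200, 113, 30), (0x180d0581c00010500c0a04030081009, 113, 66), (0x180d0282c0009038041404030080608, 115, 140), (0x180d0501c0600028201602048100c01, 115, 144), (0x180d0382c0409050000a08020040606, 116, 30), (0x180d0581402020380c1406040000809, 116, 144), (0x180d050141204058180e01018200400, 117, 30), (0x180d0381400020500416090300c0808, 117, 66), (0x180d0502c1201038100a06018001002, 117, 140), (0x180d050140206038241602040100003,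 118, 66), (0x180d028280602038181601048200800, 118, 144), (0x180d0382c1202028181408018040800, 119, 66), (0x180d028281006038101603008240002, 119, 140), (0x180d0581c00080280814090300c0204, 119, 144), (0x180d0382c0604028001401048200406, 121, 30), (0x180d038140601050101600048181002, 121, 140), (0x180d058281003038080a06008001204, 121, 144), (0x180d038141208050081606018000204, 122, 66), (0x180d0281c08060502016090100c0001, 122, 144), (0x180d0581c0200028241404040080c03, 123, 30), (0x180d0501c0606058100a01048200002, 123, 66), (0x180d058140204050000e090400c0406, 123, 140), (0x180d0501c0202058180a090400c0800, 124, 140), (0x180d0282c0801050000e03010241006, 124, 144), (0x180d028280409038201606020000601, 125, 30), (0x180d058280203028180e02040101200, 125, 66), (0x180d0281c0406058241408020040003, 125, 140), (0x180d0501410000380c1604008080c09, 126, 66), (0x180d0382c0803050180a01010201200, 126, 140), (0x180d028281204038001608018040406,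 126, 144), (0x180d0282802000380816090400c0c04, 127, 140), (0x180d0581c0c01028101403000241002, 127, 144), (0x180d058280806028240e01010200003, 129, 140), (0x180d0381400040580c1408030040409, 129, 144), (0x180d0582804000280c0e08020040c09, 130, 66), (0x180d0502c1208028000e02018100206, 130, 144), (0x180d0382c0c01050080a090000c1004, 131, 30), (0x180d0282c0808038241406010000203, 131, 66), (0x180d038280c09028041602000100608, 131, 140), (0x180d038140c02058241401000200803, 133, 144), (0x180d058140408038001403020240206, 134, 30), (0x180d028281202058040e06018000808, 134, 144), (0x180d0382810040281816090080c0400, 135, 30), (0x180d058280002038240a08030040803, 135, 66), (0x180d0502c0608038080a00048180204, 135, 144), (0x180d0281c0400050041603020240c08, 136, 144), (0x180d0581408010381814090100c1000, 137, 30), (0x180d028280604058200e00048180401, 137, 144), (0x180d0282c1206038081401018200004, 138, 30), (0x180d0281c1201050181602018101000,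 138, 140), (0x180d058281009028000e04008080606, 138, 144), (0x180d038280202028001603040240806, 139, 140), (0x1a0c038280c03058100a08000041202, 143, 144), (0x1a0c0581402020380c1406040000809, 149, 144), (0x1a0c050141204058180e01018200400, 150, 30), (0x1a0c0381400020500416090300c0808, 150, 66), (0x1a0c058281003038080a06008001204, 151, 144), (0x1a0c0581c0200028241404040080c03, 152, 30), (0x1a0c0501c0606058100a01048200002, 152, 66), (0x1a0c0282c0801050000e03010241006, 153, 144), (0x1a0c028280409038201606020000601, 154, 30), (0x1a0c0281c0406058241408020040003, 154, 140), (0x1a0c0502c1208028000e02018100206, 156, 144), (0x1a0c0382c0c01050080a090000c1004, 157, 30), (0x1a0c038280c09028041602000100608, 157, 140), (0x1a0c058280002038240a08030040803, 158, 66), (0x1a0c0282c1206038081401018200004, 159, 30), (0x1a0c0281c1201050181602018101000, 159, 140), (0x1a0c0282c0c09050100e01000200602, 163, 30), (0x1a0c0501c1002028241606008000803,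 165, 66), (0x1a0c038280606028081608048040004, 165, 144), (0x1a0c0501c02040280c1600040180409, 170, 66), (0x1a0c0282c0003050080e08030041204, 170, 140), (0x1a0c038281200028101601018200c02, 170, 144), (0x1a0c038281206058200a02018100001, 174, 144), (0x1a0c038280600058040a04048080c08, 176, 144), (0x1a0c0502c1009038180a02008100600, 179, 66), (0x1a0c0281c0601058081406048001004, 180, 144), (0x1a0c0502c0203038000a04040081206, 184, 140), (0x1a0c0281c1208058101400018180202, 188, 66), (0x1a0c058280004028040e03030240408, 188, 140), (0x1a0c038140608058181402048100200, 190, 30), (0x1a0c038141201058001404018081006, 192, 30), (0x1a0c058280c02028200e090000c0801, 206, 140), (0x1a0c058280800038200a03010240c01, 207, 30), (0x1a0c058280406038040a090200c0008, 209, 30), (0x1a0c0502c0209028080e06040000604, 216, 144), (0x1a0c0502c1003028100e00008181202, 222, 144), (0x180d038280009058080a01030200604, 228, 144), (0x180d058141004038241400008180403,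 234, 144), (0x180d050140602058000e08048040806, 235, 30), (0x180d038140c04050201603000240401, 235, 66), (0x180d058280209038100a00040180602, 236, 144), (0x180d0581c10060280c1402008100009, 237, 30), (0x180d0501c1200058080a08018040c04, 237, 66), (0x180d0282c0408050180e090200c0200, 238, 144), (0x180d028280803038041600010181208, 239, 30), (0x180d0281c08000580c1401010200c09, 239, 140), (0x180d0502c0601028180e04048081000, 241, 144), (0x180d0382c0008050100a03030240202, 242, 30), (0x180d038280003028201604030081201, 242, 140), (0x180d058280c040380c0a01000200409, 243, 66), (0x180d0282c0600038101408048040c02, 244, 30), (0x180d0281c0608050001604048080206, 244, 140), (0x180d0282c0003050080e08030041204, 248, 30), (0x180d0501c02040280c1600040180409, 250, 66), (0x180d038281200028101601018200c02, 250, 144), (0x180d0501c1002028241606008000803, 255, 66), (0x180d0282c0c09050100e01000200602, 255, 140), (0x180d038280606028081608048040004,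 255, 144), (0x180d038280600058040a04048080c08, 259, 144), (0x180d038281206058200a02018100001, 261, 144), (0x180d0502c0203038000a04040081206, 264, 66), (0x180d0281c1208058101400018180202, 265, 144), (0x180d0502c1009038180a02008100600, 269, 140), (0x180d0281c0601058081406048001004, 273, 66), (0x180d058280c02028200e090000c0801, 273, 140), (0x180d038141201058001404018081006, 275, 30), (0x180d038140608058181402048100200, 277, 30), (0x180d058280004028040e03030240408, 291, 140), (0x180d058280406038040a090200c0008, 292, 30), (0x180d058280800038200a03010240c01, 294, 30), (0x180d0502c1003028100e00008181202, 301, 144), (0x180d0502c0209028080e06040000604, 307, 144)]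

/-- Elements fixing a class. -/
def el2 : List (ℕ × ℕ × ℕ) := [(0x1a0c058281208038180a04018080200, 0, 0), (0x180d058280601038000a02048101006, 0, 553), (0x1a0c0281c0608050001604048080206, 0, 573), (0x180d0581c0604050180a08048040400, 0, 593), (0x1a0c0280012080301c160101808080a, 0, 648), (0x180d0281c1201050181602018101000, 1, 573), (0x1a0c0581c1202050000a01018200806, 1, 593), (0x180d0281806010001c160804810040a, 1, 648), (0x180d028281204038001608018040406, 2, 593), (0x1a0c058180608000280a01048080807, 2, 648), (0x180d028000604030281602048041007, 3, 648), (0x1a0c028280602038181601048200800, 5, 593), (0x180d058001201030280a08018100407, 5, 648), (0x1a0c028181202000281604018200207, 6, 648), (0x180d0581812040001c0a0201804100a, 8, 648), (0x1a0c0580006020301c0a0404820020a, 11, 648)]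

/-- Elements fixing a class. -/
def el3 : List (ℕ × ℕ × ℕ) := [(0x1a0c058281208038180a04018080200, 0, 0), (0x180d038140608058181402048100200, 0, 674), (0x1a0c0581408010381814090100c1000, 0, 675), (0x1a0c038040805058181009018081400, 0, 776), (0x180d038280401058180a03020241000, 1, 675), (0x180d05804040a038181003048100a00, 1, 776), (0x1a0c03820120a0581802040100c0a00, 2, 776), (0x180d058200605038180202020241400, 3, 674)]

/-- Elements fixing a class. -/
def el4 : List (ℕ × ℕ × ℕ) := [(0x1a0c058281208038180a04018080200, 0, 0), (0x180d058280601038000a02048101006, 0, 846), (0x1a0c058281201028080e00018181004, 0, 847), (0x180d0581c0c08050240a02000100203, 0, 870), (0x1a0c058040007040180a02018101409, 0, 888), (0x180d058280608028100e06048000202, 1, 847), (0x1a0c0581c00010500c0a04030081009, 1, 870), (0x180d058200c07008000a04048081403, 1, 888), (0x180d058140401050240e06020001003, 2, 870), (0x1a0c058200805008080e06018001409,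 2, 888), (0x180d0581c0c01028101403000241002, 3, 847), (0x180d05804060a040240a04000080e06, 3, 888), (0x1a0c05804000a028101009018180e02, 4, 847), (0x1a0c0581408080500c0e00010180209, 5, 870), (0x180d058040405040100e00048181403, 5, 888), (0x1a0c0581c00080280814090300c0204, 6, 847), (0x1a0c05820120a0080c0a02030100e00, 6, 888), (0x180d058200c0a028080203048000e04, 7, 847), (0x180d058140408038001403020240206, 8, 847), (0x180d05820060a008240e00020180a02, 8, 888), (0x1a0c05820080a038000209018080a06, 9, 847), (0x1a0c0581408010381814090100c1000, 10, 870), (0x180d0582004050081014090000c0e06, 10, 888), (0x180d058040607028081006000241404, 11, 847), (0x180d05814080a008001006010240e03, 12, 870), (0x1a0c0581c0405050101006018240200, 12, 888), (0x1a0c05804120a0400c0e06010000a04, 13, 888), (0x180d05804040a038181003048100a00, 14, 847), (0x1a0c058040805040081403030240e00, 15, 888), (0x1a0c0582012070281002000300c1402, 16, 847), (0x1a0c05814040a0401802000200c0e09,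 17, 870), (0x180d0581c08050500802000480c1006, 17, 888), (0x180d058040c070400014090200c0a02, 18, 888), (0x180d058200605038180202020241400, 19, 847), (0x180d0581c000a040100202030240a03, 20, 870), (0x1a0c058140c07050000202018241004, 20, 888), (0x1a0c058200007008181403010240a04, 21, 888), (0x180d0582004070500c0206000100a09, 22, 847), (0x1a0c0581404070080c1009020181400, 23, 870), (0x180d058280805038081009000180203, 23, 888), (0x180d058140807040240203010001406, 24, 847), (0x180d0581c0601050001009010180a04, 24, 888), (0x1a0c0581c0401040241400018100a06, 25, 847), (0x1a0c0580412050380010040100c1406, 26, 847), (0x1a0c0581c0c0a0080810040000c0a09, 27, 870), (0x180d0581400070501810040480c0202, 27, 888), (0x1a0c058040807050241000030080a03, 28, 847), (0x1a0c058280405038100203030001009, 29, 888), (0x1a0c0581c1208050180203020000a02, 30, 888), (0x180d0581c08080080c1406048080a00, 31, 847), (0x180d058040c050500c1002020000e09, 32,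 847), (0x1a0c0581c0c050400c0209000081404, 33, 870), (0x180d058280007028180209020081003, 33, 888), (0x180d0581c0005008241003030101402, 34, 847), (0x180d058140608050100209030080e00, 34, 888), (0x1a0c058140c08008241404018000e02, 35, 847), (0x1a0c058200005050240204010180e03, 36, 847), (0x1a0c058280607040080204048180a00, 37, 870), (0x180d05814120a0380c0204000181002, 37, 888), (0x1a0c0582800010380c1006020240a02, 38, 888), (0x180d058280801040180e03000080a09, 39, 847), (0x180d058280c080382402000100c0a04, 40, 888), (0x180d0581c0605040181404010000209, 41, 847), (0x180d058201201038081404030000a03, 42, 870), (0x1a0c058280c07028001003010100209, 43, 888), (0x1a0c058141201050081003000100e06, 44, 888), (0x180d0581400010400c1402048180e04, 45, 847), (0x180d058281207008101002018000a06, 46, 870), (0x1a0c05814060a038241002030000204, 46, 888), (0x1a0c058280408008000e09030100a03, 47, 847), (0x1a0c0581c1205008001402020181003, 48, 847),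 (0x1a0c058040608038101402000180a09, 49, 870), (0x1a0c058280605008181000048080e04, 50, 870), (0x180d0581c120a0280c1000020080206, 50, 888), (0x1a0c0582808080280c0202000240e06, 51, 888), (0x180d058280008008080a03020180e09, 52, 847), (0x180d0582804010282410040300c0e00, 53, 888), (0x180d058140607008081400030101009, 54, 847), (0x180d058041208028181400010100e03, 55, 870), (0x180d058281205040000206018100e02, 56, 870), (0x1a0c0581c060a028240206010101000, 56, 888), (0x1a0c058140008038080206048101403, 57, 888), (0x180d058141208008180e020000c1404, 58, 847), (0x1a0c058280005040240e020200c0206, 59, 847), (0x1a0c058200c01050100e020480c0a00, 60, 870), (0x180d058280c050080c0e04010241000, 61, 847), (0x1a0c058200c050380c1400048100202, 62, 870), (0x180d058201205050000e03030080204, 63, 847), (0x1a0c058280c01040100a09010000e03, 64, 847), (0x1a0c058141207040101406000080203, 65, 847), (0x1a0c058200601028001406020080e09, 66, 870), (0x180d058140c01038101000018081409,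 67, 888), (0x1a0c058140601040000e04030241402, 68, 847), (0x180d058040008050080e04018240a06, 69, 870), (0x180d058040005038241406018081004, 70, 870), (0x1a0c058040605050180e09000101002, 71, 847), (0x1a0c0581c0801028181002048001403, 72, 888), (0x180d0581c1201040080a060200c1400, 73, 847), (0x1a0c058280807008240a060000c1002, 74, 847), (0x1a0c058040408050000a060480c0e04, 75, 870), (0x180d0582804070400c0a00030240204, 76, 847), (0x1a0c0580404070280c1404048001006, 77, 870), (0x180d058041207050100a03010181000, 78, 847), (0x180d0581c0408028000204018181409, 79, 888), (0x1a0c0581c0608008100a00010241406, 80, 847), (0x1a0c05814000a008100e03048081006, 81, 847), (0x1a0c058040c08028240e03020081400, 82, 870), (0x180d0582000010280c0e09010101406, 85, 888), (0x180d05804080a028000e020300c1009, 87, 888), (0x180d058200801050180a00018240e02, 88, 870), (0x180d058200807028241402018180200, 89, 870), (0x1a0c058200607050080a09020000206, 90,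 847), (0x180d058140c0a040080e09018100200, 91, 847), (0x1a0c05820040a028180e04000240203, 95, 888), (0x1a0c0581c080a040000a03048180202, 96, 847), (0x1a0c058200401038240a03000181404, 97, 870), (0x180d0580408080380c0a09030001402, 100, 888), (0x180d05820000a038100a060100c0209, 102, 888), (0x180d0581c040a008180a09018001004, 103, 847), (0x1a0c058040c0a038080a00020241003, 106, 847)]

/-- Elements fixing a class. -/
def el5 : List (ℕ × ℕ × ℕ) := [(0x1a0c058281208038180a04018080200, 0, 0), (0x1a0c038000408058140c0401824020a, 0, 952)]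

/-- Elements fixing a class. -/
def el6 : List (ℕ × ℕ × ℕ) := [(0x1a0c058281208038180a04018080200, 0, 0), (0x1a0c058080a07040001204018280206, 0, 1111)]

/-- Elements fixing a class. -/
def el7 : List (ℕ × ℕ × ℕ) := [(0x1a0c058281208038180a04018080200, 0, 0), (0x180d058280601038000a02048101006, 0, 1214), (0x1a0c038141009058101406008000602, 0, 1278), (0x180d038140203058081400040181204, 1, 1278)]

/-- Elements fixing a class. -/
def el8 : List (ℕ × ℕ × ℕ) := [(0x1a0c058281208038180a04018080200, 0, 0), (0x1a0c048281602038000604028200206, 0, 1589)]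

/-- Elements fixing a class. -/
def el9 : List (ℕ × ℕ × ℕ) := [(0x1a0c058281208038180a04018080200, 0, 0), (0x1a0c0502c1206038200404000140203, 0, 1745)]

/-- Elements fixing a class. -/
def el10 : List (ℕ × ℕ × ℕ) := [(0x1a0c058281208038180a04018080200, 0, 0), (0x180d058280601038000a02048101006, 0, 1900), (0x1a0c038280808058000a090100c0206, 0, 1901), (0x1a0c0002808010301c0a0901808100b, 0, 2004), (0x180d038280401058180a03020241000, 1, 1901), (0x180d0302804080001c0a0304810020b, 1, 2004), (0x1a0c0302812010002c0a040100c1007, 2, 2004), (0x180d0002806080302c0a02020240207, 3, 1900)]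

/-- Elements fixing a class. -/
def el11 : List (ℕ × ℕ × ℕ) := [(0x1a0c058281208038180a04018080200, 0, 0)]

/-- Elements fixing a class. -/
def el12 : List (ℕ × ℕ × ℕ) := [(0x1a0c058281208038180a04018080200, 0, 0), (0x1a0c0380c1202058100a06050200200, 0, 2624)]

/-- Elements fixing a class. -/
def el13 : List (ℕ × ℕ × ℕ) := [(0x1a0c058281208038180a04018080200, 0, 0), (0x180d058280601038000a02048101006, 0, 2983), (0x1a0c038280808058000a090100c0206, 0, 2987), (0x180d0501c0801058240a00010181003, 0, 3006), (0x1a0c0302812010002c0a040100c1007, 0, 3021), (0x180d038280401058180a03020241000, 1, 2987), (0x1a0c0501c04080580c0a06020000209, 1, 3006), (0x180d0002806080302c0a02020240207, 1, 3021), (0x180d0502c1201038100a06018001002, 2, 3006), (0x1a0c0002808010301c0a0901808100b, 2, 3021), (0x180d0581c00010500c0a04030081009, 3, 2987), (0x1a0c0382c0008050100a03030240202, 3, 3006), (0x180d0481c0808018280a0003008020b, 3, 3021), (0x180d0302804080001c0a0304810020b,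 4, 2983), (0x180d050000808030240a070182c0202, 4, 3006), (0x1a0c0502c0608038080a00048180204, 5, 3006), (0x1a0c0581c0c08050240a02000100203, 6, 2987), (0x180d0382c0c01050080a090000c1004, 6, 3006), (0x1a0c0181c0401048280a0600010100b, 6, 3021), (0x1a0c0501804010000c0a070482c1004, 7, 3006), (0x180d0202c1208010280a060000c0207, 8, 3021), (0x180d050181208000100a0b0101c0203, 9, 3006), (0x180d0181c00080482c0a0401018020a, 10, 3021), (0x1a0c0202c00010101c0a0304818100a, 11, 3021), (0x1a0c0481c0c010182c0a0202000100a, 12, 2983), (0x1a0c0380c0001048100a0b010281006, 12, 3006), (0x1a0c050000601030080a0b0201c1009, 13, 3006), (0x180d030000e08050080a040580c0209, 14, 2987), (0x1a0c000180e01050100a02058241003, 14, 3006), (0x180d048000801010280a070580c1006, 14, 3021), (0x1a0c0102c0601020280a00030241007, 15, 3021), (0x180d0102c0c080201c0a0901800020a, 17, 3021), (0x180d038240c08018080a0b020280200, 18, 3006), (0x1a0c018180408020280a07058240200,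 19, 3021), (0x1a0c058080c01020240a07018281000, 20, 3006), (0x180d0001816080500c0a09038080204, 21, 2987), (0x1a0c030001601050240a03038101002, 21, 3006), (0x180d020181201018280a0b038081000, 21, 3021), (0x1a0c038240801018000a0a0302c1002, 22, 3006), (0x180d058080608020000a0a0301c0209, 23, 3006), (0x180d0380c0408048180a0a0002c0204, 24, 3006), (0x1a0c0480c1601038180a00050081004, 25, 2987), (0x180d018241608038000a06050100202, 25, 3006), (0x1a0c0200c00080301c0a0b050080209, 25, 3021), (0x1a0c010000608048280a0b038100206, 26, 3021), (0x180d010000e01048180a040182c100a, 27, 3021), (0x1a0c020180e08018000a020482c020a, 28, 3021), (0x1a0c048001608010180a030201c020a, 29, 2983), (0x1a0c000080e08048100a0601828020b, 29, 3006), (0x180d0581000080100c0a07048280206, 30, 3006), (0x1a0c058101201010180a0a0001c1003, 31, 3006), (0x180d010240c010001c0a0b050101003, 32, 3021), (0x180d018181601020000a090101c100a, 33, 2983), (0x180d030100e01018080a0004828100b,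 33, 3006), (0x1a0c020080e01058000a060500c1009, 34, 2987), (0x180d010100e08058180a00050240203, 34, 3006), (0x1a0c048080c080002c0a070500c0204, 34, 3021), (0x1a0c0300c1608020240a00010280207, 37, 3006), (0x1a0c018241401038080a04058181000, 38, 2987), (0x180d0480c1408038100a02058000206, 38, 3006), (0x1a0c0002408080101c0a0a058180203, 38, 3021), (0x180d020081408058240a03038180200, 39, 2987), (0x1a0c0101014010580c0a09038001006, 39, 3006), (0x180d0000806010482c0a0a038181004, 39, 3021), (0x180d0300c04010201c0a0a058001009, 40, 3021), (0x180d0002416010100c0a06020281007, 42, 3021), (0x180d0200c1401030240a020002c1007, 43, 2983), (0x180d0181000010302c0a07050241002, 49, 3021), (0x1a0c0301012080182c0a0a038000202, 50, 3021), (0x1a0c0102414080000c0a040302c0207, 51, 2983), (0x180d048081401000100a030301c100b, 56, 2983), (0x1a0c018101408030080a090001c020b, 62, 3021)]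

/-- Elements fixing a class. -/
def el14 : List (ℕ × ℕ × ℕ) := [(0x1a0c058281208038180a04018080200, 0, 0), (0x1a0c0202016060082804090280c0007, 0, 3280), (0x1a0c02020120a00018060b028080207, 0, 3326), (0x1a0c04818080a00020060b010140e01, 1, 3280), (0x1a0c048181608038280a040100c0001, 1, 3326), (0x1a0c058280806008200409018140e00, 2, 3280)]

/-- Elements fixing a class. -/
def el15 : List (ℕ × ℕ × ℕ) := [(0x1a0c058281208038180a04018080200, 0, 0), (0x1a0c0502c1208000140c04008080607, 0, 3501)]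

/-- Elements fixing a class. -/
def el16 : List (ℕ × ℕ × ℕ) := [(0x1a0c058281208038180a04018080200, 0, 0), (0x180d058280601038000a02048101006, 0, 3812), (0x180d028280403058000e01020201206, 0, 3817), (0x180d050140206038241602040100003, 0, 3818), (0x1a0c028280809058180e08010040600, 1, 3817), (0x1a0c0501410000380c1604008080c09, 1, 3818), (0x1a0c0382810040281816090080c0400, 2, 3817), (0x1a0c0501c1200058080a08018040c04, 2, 3818), (0x1a0c0581408080500c0e00010180209, 3, 3817), (0x1a0c0282c0009038041404030080608, 3, 3818), (0x180d038280202028001603040240806, 4, 3817), (0x180d0501c0606058100a01048200002, 4, 3818), (0x180d058140401050240e06020001003, 5, 3817), (0x180d0282c0c03038201402000101201, 5, 3818), (0x180d0502c0406028200e03020240001, 6, 3818), (0x180d0281c0203050101606040001202, 7, 3817), (0x180d038140c02058241401000200803, 7, 3818), (0x1a0c0502c0800028040e090100c0c08, 10, 3818), (0x1a0c0281c1009050081600008180604,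 11, 3817), (0x1a0c0381400040580c1408030040409, 11, 3818), (0x1a0c0382c1204050040a00018180408, 14, 3817), (0x1a0c0581c00080280814090300c0204, 14, 3818), (0x180d0382c0602050200a06048000801, 17, 3817), (0x180d0581c0c01028101403000241002, 17, 3818)]

/-- Elements fixing a class. -/
def el17 : List (ℕ × ℕ × ℕ) := [(0x1a0c058281208038180a04018080200, 0, 0), (0x1a0c018280405038181004058240001, 0, 4036)]

/-- Elements fixing a class. -/
def el18 : List (ℕ × ℕ × ℕ) := [(0x1a0c058281208038180a04018080200, 0, 0), (0x1a0c058080a07040001204018280206, 0, 4393)]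

/-- Elements fixing a class. -/
def el19 : List (ℕ × ℕ × ℕ) := [(0x1a0c058281208038180a04018080200, 0, 0), (0x1a0c05820120a0080c0a02030100e00, 0, 4868), (0x1a0c0580c0a06038201202050100200, 0, 4877), (0x180d058081405008240606020200e00, 0, 4929), (0x1a0c058180a03008281204040080e00, 1, 4877), (0x180d058101005038240c03010280200, 1, 4929), (0x180d058100609008141408010180e00, 2, 4929), (0x180d058141402038100608048180200, 3, 4868), (0x1a0c058200403038280809030140200, 3, 4929), (0x180d058080c0903814100a0200c0200, 4, 4929), (0x180d058141004008080c0a0480c0e00, 5, 4868), (0x1a0c058280806008200409018140e00, 5, 4929), (0x180d058240604038081406028200200, 6, 4868), (0x1a0c05818080a0380c0405040240200, 6, 4929), (0x1a0c0580c0408008180805050240e00, 8, 4868), (0x180d058240c02008101003028280e00, 9, 4868)]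

/-- Elements fixing a class. -/
def el20 : List (ℕ × ℕ × ℕ) := [(0x1a0c058281208038180a04018080200, 0, 0), (0x1a0c0082806080301c0805048081600, 0, 5196), (0x180d0082806050581812040401c0400, 0, 5201), (0x180d0582812040081c0605040180400, 1, 5201), (0x180d0102810050302c08090181c0200, 2, 5196), (0x1a0c0102810090081806040282c0e00, 2, 5201), (0x180d010281004038040a03048181600, 3, 5196), (0x1a0c0102810030581c1205020040c00, 3, 5201), (0x1a0c0082806040102c1009028180e00, 4, 5201), (0x1a0c038280a090300408030402c0400, 5, 5196), (0x180d038280a03010181004048041600, 5, 5201), (0x1a0c0582812050100410030201c0c00, 6, 5201), (0x1a0c0302808030382c0a09040040400, 7, 5196), (0x180d0302808090101c10050182c0200, 7, 5201), (0x1a0c038280a04058081208018180200, 8, 5196), (0x180d038280a080082c0609020080c00, 8, 5201), (0x180d058281203030080808028040e00, 10, 5196), (0x1a0c0302808050080806080481c1600, 11, 5196), (0x180d030280808058041203028080e00,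 11, 5201), (0x180d008280609038080a080202c0c00, 13, 5196)]

/-- Elements fixing a class. -/
def el21 : List (ℕ × ℕ × ℕ) := [(0x1a0c058281208038180a04018080200, 0, 0), (0x1a0c0202810090380c0a0b030080001, 0, 5500), (0x1a0c04008080b038180a09018280001, 0, 5512), (0x1a0c0300806080082c0a04048280e00, 0, 5549), (0x1a0c0480816040380c0a08030280200, 1, 5512), (0x1a0c018080c09000100a0b040280e01, 1, 5549), (0x1a0c03028060b000200a09020080e01, 2, 5549), (0x1a0c020081003008240a06058280007, 3, 5500), (0x1a0c0402808060082c0a03048080007, 3, 5512), (0x1a0c018280c04008240a08058080e00, 4, 5549), (0x1a0c058081206000200a03020280207, 5, 5500), (0x1a0c048281603000100a06040080207, 5, 5512)]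

/-- Elements fixing a class. -/
def el22 : List (ℕ × ℕ × ℕ) := [(0x1a0c058281208038180a04018080200, 0, 0), (0x1a0c008281207040000a03020081606, 0, 5945), (0x180d0402812010580c0a06000080e04, 0, 5950), (0x180d03828120b008100a00030081003, 1, 5950)]

/-- Elements fixing a class. -/
def el23 : List (ℕ × ℕ × ℕ) := [(0x1a0c058281208038180a04018080200, 0, 0), (0x1a0c0400c000b028040e02050100c09, 0, 6295), (0x180d020241402038180a0b000200203, 0, 6340), (0x180d000081009008140c03020280e0b, 0, 6370), (0x180d010000604028040e080482c0c0a, 1, 6340), (0x180d0481016000301c020a0100c0a08, 1, 6370), (0x1a0c01820040a008140c00058240e04, 2, 6370), (0x1a0c0502c08030301c0209040000a02, 4, 6370)]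

/-- Elements fixing a class. -/
def el24 : List (ℕ × ℕ × ℕ) := [(0x1a0c058281208038180a04018080200, 0, 0), (0x1a0c058241408020080007018180205, 0, 6744)]

/-- Elements fixing a class. -/
def el25 : List (ℕ × ℕ × ℕ) := [(0x1a0c058281208038180a04018080200, 0, 0), (0x1a0c04024140b038180004008080605, 0, 7306)]

/-- Elements fixing a class. -/
def el26 : List (ℕ × ℕ × ℕ) := [(0x1a0c058281208038180a04018080200, 0, 0), (0x1a0c00020120a020180a0701804040b, 0, 7965), (0x1a0c000200a0a0380c120403008020b, 0, 7976), (0x180d030241005038001404058080203, 0, 8016), (0x1a0c058280a080200c1207030040400, 1, 7976), (0x180d0302414050202c1007000040403, 1, 8016), (0x180d0181414090382c1004000080206, 2, 8016), (0x180d018141009020001407058040406, 3, 7965)]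

/-- Elements fixing a class. -/
def el27 : List (ℕ × ℕ × ℕ) := [(0x1a0c058281208038180a04018080200, 0, 0), (0x1a0c0502c0c07040240a040100c0200, 0, 8399), (0x1a0c038200c0a058240a00018080204, 0, 8417), (0x1a0c0581c1208050180203020000a02, 0, 8450), (0x1a0c0401c120b050180a000100c0204, 1, 8417), (0x1a0c050200c07058240202020000a03, 1, 8450), (0x1a0c0382c0c0a040240203000100a02, 2, 8450), (0x1a0c04028120b038180202000100a03, 4, 8450)]

/-- Elements fixing a class. -/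
def el28 : List (ℕ × ℕ × ℕ) := [(0x1a0c058281208038180a04018080200, 0, 0), (0x1a0c058281009028000e04008080606, 0, 8794), (0x1a0c0502c1208028000e02018100206, 0, 8795), (0x1a0c0101006010301c000a0482c1005, 0, 8804), (0x180d0582806010001c0c04040081205, 0, 8822), (0x180d0502c0c00008240602028100e08, 0, 8911), (0x1a0c0502c1009038180a02008100600, 1, 8795), (0x1a0c010100203000140c0a0402c1207, 1, 8804), (0x180d058280203030140004048081007, 1, 8822), (0x180d0502c0006018200202038100a09, 1, 8911), (0x1a0c020080601000140c0b048281007, 2, 8804), (0x180d0502c0601030140002040101207, 2, 8822), (0x180d058280006008240604038080a08, 2, 8911), (0x180d010101208028180e0a0082c0600, 3, 8822), (0x180d020080e050400c120b000280c01, 3, 8911), (0x180d010101009038000a0a0182c0206, 4, 8804), (0x1a0c0502c0e050480c1002030100001, 4, 8911), (0x180d058280c00018200204028080e09, 5, 8795), (0x180d020080a0704804100b030280003, 5, 8804), (0x1a0c0502c0a07040041202000100c03,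 5, 8822), (0x1a0c0200802030301c000b040281205, 6, 8804), (0x180d0502c02030001c0c02048101005, 6, 8822), (0x180d020081208038000a0b008280606, 10, 8822), (0x180d010100a070400c120a0302c0001, 10, 8911), (0x180d020081009028180e0b018280200, 11, 8804), (0x1a0c058280a070480c1004000080c01, 11, 8911), (0x180d010100e0504804100a0002c0c03, 12, 8804), (0x1a0c058280e05040041204030080003, 12, 8822), (0x1a0c020080c0001824020b038280a08, 13, 8911), (0x1a0c02008000600820060b028280e09, 14, 8822), (0x1a0c01010000601824020a0282c0e08, 22, 8911), (0x1a0c010100c0000820060a0382c0a09, 23, 8822)]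

/-- Elements fixing a class. -/
def el29 : List (ℕ × ℕ × ℕ) := [(0x1a0c058281208038180a04018080200, 0, 0), (0x1a0c01020120a038140c040182c0001, 0, 9015), (0x1a0c05820060a020140c07048080200, 0, 9017), (0x1a0c0300408000182c0409038141408, 0, 9113), (0x1a0c010280608020180a070482c0001, 1, 9017), (0x1a0c02800080101808160903818100a, 1, 9113), (0x1a0c028040e000482c040302018100a, 2, 9113), (0x1a0c030000e01048081603020141408, 3, 9017)]

/-- Elements fixing a class. -/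
def el30 : List (ℕ × ℕ × ℕ) := [(0x1a0c058281208038180a04018080200, 0, 0), (0x1a0c04024140b0301c0a02018100200, 0, 9468), (0x1a0c040281203030140e02058000204, 0, 9509), (0x1a0c058241403038140c04040000202, 1, 9509), (0x1a0c018241408028180e00058080204, 2, 9468), (0x1a0c01828120b0281c0c00040100202, 2, 9509)]

/-- Elements fixing a class. -/
def el31 : List (ℕ × ℕ × ℕ) := [(0x1a0c058281208038180a04018080200, 0, 0), (0x1a0c038280202058180004018201205, 0, 9928)]

/-- Elements fixing a class. -/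
def el32 : List (ℕ × ℕ × ℕ) := [(0x1a0c058281208038180a04018080200, 0, 0), (0x1a0c020001207040080a0b01818020a, 0, 10572)]

/-- Elements fixing a class. -/
def el33 : List (ℕ × ℕ × ℕ) := [(0x1a0c058281208038180a04018080200, 0, 0), (0x1a0c000200a0405818020a018081207, 0, 11520), (0x1a0c03810020a000181208018080a0b, 1, 11520)]

/-- Elements fixing a class. -/
def el34 : List (ℕ × ℕ × ℕ) := [(0x1a0c058281208038180a04018080200, 0, 0)]

/-- Elements fixing a class. -/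
def el35 : List (ℕ × ℕ × ℕ) := [(0x1a0c058281208038180a04018080200, 0, 0), (0x1a0c0102414040381802080182c0a00, 0, 13697), (0x1a0c0582414080301c0204000080a03, 0, 13752), (0x180d0482c0405038180801018281000, 0, 13786), (0x1a0c0102812040301c0a080002c0203, 1, 13752), (0x180d050081601038181005018240800, 1, 13786), (0x180d0502c04010301c0805000241003, 2, 13786), (0x180d0480816050301c1001000280803, 3, 13752)]

/-- Elements fixing a class. -/
def el36 : List (ℕ × ℕ × ℕ) := [(0x1a0c058281208038180a04018080200, 0, 0), (0x180d0482c0002040180e0401814020a, 0, 14219), (0x1a0c0002414050101810040181c020b, 1, 14219), (0x180d050001607028180404018200209, 2, 14219)]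

/-- Elements fixing a class. -/
def el37 : List (ℕ × ℕ × ℕ) := [(0x1a0c058281208038180a04018080200, 0, 0), (0x1a0c0581c0604050180a08048040400, 0, 14803), (0x1a0c000280204038180a080100c120b, 0, 14834), (0x1a0c0001c0408050180a0400824060b, 1, 14834)]

/-- Elements fixing a class. -/
def el38 : List (ℕ × ℕ × ℕ) := [(0x1a0c058281208038180a04018080200, 0, 0), (0x1a0c0300812050382c1000018280204, 0, 15565), (0x1a0c0582810090301c0a010100c0800, 0, 15597), (0x1a0c030080a090581c10010500c0004, 1, 15597), (0x1a0c0380c10050302c1200010280801, 2, 15565), (0x1a0c0380c0a08058181204050080001, 3, 15565)]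

/-- Elements fixing a class. -/
def el39 : List (ℕ × ℕ × ℕ) := [(0x1a0c058281208038180a04018080200, 0, 0), (0x180d028280e08048081604018180001, 0, 16369), (0x1a0c0300c02040002c0408050141207, 0, 16433), (0x180d0100c0004008140c080502c0e09, 1, 16433)]

/-- Elements fixing a class. -/
def el40 : List (ℕ × ℕ × ℕ) := [(0x1a0c058281208038180a04018080200, 0, 0), (0x1a0c058280608028100e06048000202, 0, 17074), (0x1a0c000280608038140c0404804040b, 0, 17079), (0x1a0c0102812080281c080601804000b, 1, 17079), (0x1a0c000281208030100e050182c0401, 2, 17074), (0x1a0c010280608020180a070482c0001, 3, 17074), (0x1a0c0082806080301c0805048081600, 4, 17079), (0x1a0c008281208020140c07018001602, 5, 17079)]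

/-- Elements fixing a class. -/
def el41 : List (ℕ × ℕ × ℕ) := [(0x1a0c058281208038180a04018080200, 0, 0), (0x1a0c038281208058180600028040404, 0, 17610), (0x1a0c038281009058180805000080203, 0, 17645), (0x180d048281607040180a04000040403, 0, 17708), (0x1a0c058281009038180003020040405, 1, 17645), (0x180d048280e0b040180600020080205, 1, 17708), (0x180d040280e0b048180805018040400, 2, 17708), (0x180d040281607048180003028080204, 3, 17610)]

/-- Elements fixing a class. -/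
def el42 : List (ℕ × ℕ × ℕ) := [(0x1a0c058281208038180a04018080200, 0, 0), (0x180d0502c12080381800010100c0805, 0, 18288), (0x1a0c008281203038080004040181605, 0, 18299), (0x180d0202c12020380c0a01040181400, 1, 18299), (0x180d050041203038080a0b030200800, 2, 18288), (0x1a0c0581012020380c000a030200205, 3, 18288), (0x180d02004120603820000b018081405, 4, 18299), (0x1a0c008101206038200a0a0100c1600, 5, 18299)]

/-- Elements fixing a class. -/
def el43 : List (ℕ × ℕ × ℕ) := [(0x1a0c058281208038180a04018080200, 0, 0), (0x1a0c058140408038001403020240206, 0, 18889), (0x1a0c058180401038280004018241005, 0, 18914), (0x1a0c058101201010180a0a0001c1003, 0, 18931), (0x1a0c058001201038140c0302008100a, 1, 18914), (0x1a0c0580c04010480014050301c1004, 1, 18931), (0x1a0c0581004080482800060281c0203, 2, 18931), (0x1a0c058140e010100c0800050241006, 3, 18889), (0x1a0c058180e0801010060a000240205, 3, 18914), (0x1a0c0580c1208010140c000501c0204,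 4, 18931), (0x1a0c058280e01048100606028081000, 5, 18889), (0x1a0c058000e080480c080503008020a, 5, 18914)]

/-- Elements fixing a class. -/
def el44 : List (ℕ × ℕ × ℕ) := [(0x1a0c058281208038180a04018080200, 0, 0), (0x1a0c0580c0002038180204050200a09, 0, 19486), (0x1a0c058200002008280e040300c1205, 0, 19492), (0x180d0580c1208008280004010180a07, 0, 19596), (0x1a0c0580812080280c0e04030280001, 1, 19492), (0x180d0582800020280c1204040180207, 1, 19596), (0x1a0c058180a03008281204040080e00, 2, 19486), (0x1a0c058080a03048200204050180007, 2, 19492), (0x180d058180002048200a04018280e01, 2, 19596), (0x180d058080e06008280a04018200009, 3, 19486), (0x180d058200e060280c0204050081200, 3, 19492), (0x1a0c05818020a0280c0004010200e09, 4, 19486), (0x1a0c05820020a000080a04018181207, 4, 19492), (0x180d0581812080000802040500c0e05, 4, 19596), (0x180d058200a03038180004010281201, 6, 19596), (0x1a0c058280e060482000040100c0205, 7, 19486), (0x1a0c0580c0e06000081204040280a01,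 7, 19492), (0x180d058280a03000080e04030200209, 7, 19596), (0x180d0580c020a048200e04030080a00, 8, 19486), (0x180d05808020a0381812040400c0005, 8, 19492)]

/-- Elements fixing a class. -/
def el45 : List (ℕ × ℕ × ℕ) := [(0x1a0c058281208038180a04018080200, 0, 0), (0x1a0c038280c08058240404008140600, 0, 20078), (0x1a0c018001208008180404058140e0a, 0, 20108), (0x1a0c008000c08018240a0403808160a, 1, 20108)]

/-- Elements fixing a class. -/
def el46 : List (ℕ × ℕ × ℕ) := [(0x1a0c058281208038180a04018080200, 0, 0), (0x1a0c0502c1201038100a06018001002, 0, 20784), (0x1a0c058280608028100e06048000202, 0, 20785), (0x1a0c058280601038000a02048101006, 0, 20786), (0x1a0c058280a01018181204038001002, 0, 20789), (0x180d040040e0a018181204028081600, 0, 20809), (0x180d008200c0a0102400030201c1605, 0, 20985), (0x1a0c0502c0601028180e04048081000, 1, 20785), (0x1a0c0502c0608038080a00048180204, 1, 20786), (0x1a0c0502c0a08018101206038080200, 1,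 20789), (0x180d008200e0b018101206028001402, 1, 20809), (0x180d04004080b0002404030301c1405, 1, 20985), (0x1a0c058281201028080e00018181004, 2, 20786), (0x1a0c058280e01048100606028081000, 2, 20789), (0x180d040040a0a048100606038001602, 2, 20809), (0x180d00820080a0000c0409030141607, 2, 20985), (0x1a0c058280a08048000602038180204, 3, 20789), (0x180d008200e0a048000602028101606, 3, 20809), (0x180d04004000a0200c0c090101c1605, 3, 20985), (0x1a0c058280e08018081200028100206, 4, 20786), (0x180d00820060a038180a04048001602, 4, 20809), (0x180d040040c0a0001404070200c1609, 4, 20985), (0x180d040040a0b018001202038101406, 5, 20786), (0x180d04004120b028180e04018001402, 5, 20789), (0x1a0c058280c010101c00050200c1009, 5, 20985), (0x180d040040c0b0100c0009020141407, 6, 20784), (0x180d00820080b0101400070300c1409, 6, 20786), (0x180d00820000b020240c03010141407, 6, 20789), (0x1a0c0502c0408020240c030001c0205, 6, 20809), (0x1a0c0502c1208028000e02018100206,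 7, 20786), (0x1a0c0502c0e08048180604028000202, 7, 20789), (0x180d008200a0b048180604038081400, 7, 20809), (0x1a0c0502c0a01048080600038101006, 8, 20789), (0x180d040040e0b048080600028181404, 8, 20809), (0x180d00820040b0300c08090001c1405, 8, 20985), (0x1a0c0502c0e01018001202028181004, 9, 20786), (0x180d04004060b038100a06048081400, 9, 20809), (0x180d008200a0a018081200038181604, 10, 20786), (0x180d00820120a028100e06018081600, 10, 20789), (0x1a0c0502c08080001c04050300c0209, 10, 20985), (0x180d04004040a030240803000141607, 11, 20789), (0x1a0c0582800010302408030101c1005, 11, 20809), (0x180d04004080a0101c0005030241603, 13, 20985), (0x1a0c058280801000140407030241003, 14, 20985), (0x180d008200c0b0001c0405020241403, 15, 20786), (0x1a0c0502c00080300c0809010140207, 15, 20809), (0x180d04004120a038000a02018181604, 16, 20809), (0x180d00820000a030140807010241603, 16, 20985), (0x180d00820060b028000e02048181404, 17, 20789), (0x1a0c0582800080201c0c05010240203,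 17, 20985), (0x180d04004040b020140c07000241403, 18, 20786), (0x1a0c0502c08010100c00090301c1005, 18, 20809), (0x180d04004060a028080e00048101606, 19, 20809), (0x180d00820040a0201c0c050000c1609, 19, 20985), (0x180d00820120b038080a00018101406, 20, 20786), (0x1a0c058280c080000c04090201c0205, 20, 20985), (0x1a0c0502c0001020140c070100c1009, 21, 20809), (0x1a0c0502c0c01000240403020141007, 23, 20985), (0x1a0c0502c0c08010140007020240203, 24, 20784), (0x1a0c058280808010240003030140207, 24, 20786), (0x1a0c0582804010200c0c09000141007, 25, 20809), (0x1a0c0582804080301408070000c0209, 26, 20809), (0x1a0c0502c04010301c0805000241003, 33, 20985), (0x180d04004000b0301c08050100c1409, 35, 20985)]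

/-- Elements fixing a class. -/
def el47 : List (ℕ × ℕ × ℕ) := [(0x1a0c058281208038180a04018080200, 0, 0), (0x1a0c0502c0204018080008038181205, 0, 21312), (0x180d02800080101808160903818100a, 0, 21329), (0x180d00014100903818140101808080b, 1, 21329)]

/-- Elements fixing a class. -/
def el48 : List (ℕ × ℕ × ℕ) := [(0x1a0c058281208038180a04018080200, 0, 0), (0x1a0c038241402058000805008200606, 0, 22115), (0x180d0481c1608050180601028080800, 0, 22125), (0x180d008140806018201409038001602, 0, 22159), (0x180d0502c0e02048000203020200a06, 1, 22125), (0x180d018100a0000808120a058180e08, 1, 22159), (0x1a0c0200c0206028200e0b050001202, 2, 22159), (0x1a0c028040600020081607048181408, 4, 22159)]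

/-- Elements fixing a class. -/
def el49 : List (ℕ × ℕ × ℕ) := [(0x1a0c058281208038180a04018080200, 0, 0), (0x1a0c0581c0c08050240a02000100203, 0, 22675), (0x1a0c028280c01038241604000081003, 0, 22676), (0x1a0c0281c0608050001604048080206, 0, 22677), (0x1a0c008280c05038241002018101600, 0, 22685), (0x180d00810120b010181007018280a00, 0, 22693), (0x180d0001c0a060502c0604040081201, 0, 22784), (0x1a0c0281c1201050181602018101000, 1, 22676), (0x1a0c0282800080380c1602030100209, 1, 22677), (0x1a0c0081c1205050181004000081603, 1, 22685), (0x180d008080c0b02024100a0001c0a03, 1, 22693), (0x180d018280a090382c0002040100c01, 1, 22784), (0x1a0c0581c00010500c0a04030081009, 2, 22677), (0x1a0c04028120b038180202000100a03, 2, 22685), (0x180d040100c05010240207000281603, 2, 22693), (0x180d0181c1609050140004008080c08, 2, 22784), (0x1a0c0081c000b0500c1002048100a06, 3, 22685), (0x180d00810060501000100a0481c1606, 3, 22693), (0x180d030281600038141204040080601,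 3, 22784), (0x1a0c0401c0605050000202030101609, 4, 22677), (0x180d058080c01020240a07018281000, 4, 22693), (0x180d0001c1009050040602028100c0b, 4, 22784), (0x180d04008060b020000207048280a06, 5, 22677), (0x180d028100c0801024160a0181c0200, 5, 22685), (0x1a0c000081006020040607058281205, 5, 22784), (0x180d000281606038140602008101208, 6, 22675), (0x180d01828100603804000402808120b, 6, 22677), (0x180d0481c1603050140c02040100001, 6, 22685), (0x1a0c048100a000102c0c0a0401c0601, 6, 22693), (0x1a0c00828060b038001004030080a09, 6, 22784), (0x1a0c058280601038000a02048101006, 7, 22677), (0x1a0c0401c0c0b050240204018080a00, 7, 22685), (0x180d04008120502018020a0181c1600, 7, 22693), (0x180d0080800050200c1007030281609, 8, 22693), (0x1a0c0402800050380c0204048081606, 9, 22677), (0x180d058101201010180a0a0001c1003, 9, 22693), (0x180d04010000b0100c020a0301c0a09, 10, 22677), (0x180d028081208020181607000280203, 10, 22685), (0x1a0c01810100901004000a0581c0c05,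 10, 22784), (0x1a0c030080a030202c1207040280001, 11, 22693), (0x180d048280a030382c0c04008080008, 12, 22784), (0x180d0181c0206050200002058101205, 13, 22784), (0x1a0c018080209020200007028280c0b, 14, 22784), (0x180d000280209038200604058080c05, 15, 22677), (0x180d0301c0a000502c1202008100608, 15, 22685), (0x1a0c03010160301014120a0081c0008, 15, 22693), (0x180d0280800010200c160a0481c1006, 16, 22693), (0x180d030281003038041202058100005, 16, 22784), (0x180d0581000080100c0a07048280206, 17, 22685), (0x1a0c03008100002004120a0281c060b, 17, 22784), (0x180d0481c1000050040c04058080605, 18, 22677), (0x1a0c018101606010140007040281201, 18, 22693), (0x180d058080608020000a0a0301c0209, 19, 22693), (0x180d048280200038200c0202810060b, 19, 22784), (0x180d028100601010001607030281009, 20, 22677), (0x1a0c000100a090102c0607008280c08, 20, 22784), (0x180d0301c020305020120402808000b, 21, 22685), (0x1a0c030100200010201207058280605, 22, 22784),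 (0x1a0c00008160902014060a0401c0c01, 23, 22784), (0x1a0c00010020601020060a0281c120b, 24, 22675), (0x1a0c048080203020200c0a0581c0005, 24, 22685), (0x1a0c048081600020140c07008280608, 25, 22693), (0x1a0c048101003010040c0702828000b, 26, 22693), (0x1a0c018080a060202c000a0081c1208, 35, 22784)]

/-- Elements fixing a class. -/
def el50 : List (ℕ × ℕ × ℕ) := [(0x1a0c058281208038180a04018080200, 0, 0), (0x1a0c048281602038000604028200206, 0, 23248)]

/-- Elements fixing a class. -/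
def el51 : List (ℕ × ℕ × ℕ) := [(0x1a0c058281208038180a04018080200, 0, 0), (0x1a0c048101602008180a0a018200e00, 0, 24289), (0x1a0c020241408008140c0b018080e00, 0, 24306), (0x1a0c0480816040380c0a08030280200, 0, 24321), (0x1a0c0502c0802038140c09018200200, 1, 24306), (0x1a0c05820120a0080c0a02030100e00, 1, 24321), (0x1a0c05008080b0080c0c08028240e00, 2, 24321), (0x1a0c0402c0404008140609030280e00, 3, 24306), (0x1a0c0202014090380c0c020282c0200, 4, 24321), (0x1a0c01024100a03814060b030100200, 5, 24306), (0x1a0c04010040b03818060a028240200, 6, 24306), (0x1a0c0102810090081806040282c0e00, 7, 24321)]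

/-- Elements fixing a class. -/
def el52 : List (ℕ × ℕ × ℕ) := [(0x1a0c058281208038180a04018080200, 0, 0), (0x1a0c04014120b008181403020080e00, 0, 24963), (0x180d058280c03010240a040401c0001, 0, 24993), (0x180d040140c04010241403058040007, 1, 24993), (0x180d018140c0b0002414080201c0401, 2, 24963), (0x180d020280c08000240a0b018040407, 3, 24963), (0x1a0c018141204038181408058000202, 4, 24993), (0x1a0c020281203008180a0b040000e02, 5, 24993)]

/-- Elements fixing a class. -/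
def el53 : List (ℕ × ℕ × ℕ) := [(0x1a0c058281208038180a04018080200, 0, 0), (0x1a0c0200c00080301c0a0b050080209, 0, 25590), (0x1a0c0302414050202c1007000040403, 0, 25606), (0x1a0c0380014080202c0a06048080203, 0, 25699), (0x1a0c03800060505810100604804040a, 1, 25606), (0x1a0c030240608058100a0700008020a, 1, 25699), (0x1a0c0200c120503818100b050040400, 2, 25699), (0x1a0c0582800050301c1004018040409, 3, 25606)]

/-- Elements fixing a class. -/
def el54 : List (ℕ × ℕ × ℕ) := [(0x1a0c058281208038180a04018080200, 0, 0), (0x180d038001205040181604018280401, 0, 26306), (0x1a0c04004120b028180e04018001402, 1, 26306), (0x180d02808120705818100401804000a, 2, 26306)]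

/-- Elements fixing a class. -/
def el55 : List (ℕ × ℕ × ℕ) := [(0x1a0c058281208038180a04018080200, 0, 0), (0x1a0c0581c0604050180a08048040400, 0, 27153), (0x1a0c058280805038081009000180203, 0, 27158), (0x1a0c01020080a018180a090382c0200, 0, 27199), (0x1a0c0581c1005050040803000180409, 1, 27158), (0x1a0c008101007048180a030502c0400, 1, 27199), (0x1a0c0581c0009050081005020040c03, 2, 27153), (0x1a0c03014120a0000810040382c0203, 2, 27199), (0x1a0c0100c0e09040180a0a020041600, 3, 27153), (0x1a0c0102012050182c1404000180207, 3, 27158), (0x1a0c058280003038040805040080c09, 4, 27153), (0x1a0c0301406070000408080502c0409, 4, 27199), (0x1a0c008241403020180a07040081600, 5, 27153), (0x1a0c0081006050482c0e0800018040a, 5, 27158), (0x1a0c0581c0a08050041200018080c04, 6, 27158), (0x1a0c008240a070200810000502c0c03, 6, 27199), (0x1a0c030000e0402808100a048041603, 7, 27153), (0x1a0c0301408080002c1409018080207, 7, 27158), (0x1a0c0100c1405040041207000181604,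 8, 27158), (0x1a0c0100c00040402c1405048040c07, 9, 27153), (0x1a0c058280a04038080600048040c08, 10, 27158), (0x1a0c0100c0a0a0400408000382c0c09, 10, 27199), (0x1a0c030001408028040807018081609, 11, 27153), (0x1a0c0301410040002c0e0304804040a, 11, 27158), (0x1a0c008240e0502008060a000181608, 12, 27158), (0x1a0c0082400080202c0e05018080c0a, 13, 27153), (0x1a0c058280600038041208028180404, 14, 27153), (0x1a0c0102000070180412050502c0c04, 14, 27199), (0x1a0c008101400048081007028181603, 15, 27153), (0x1a0c0300006090282c1408020040407, 17, 27153), (0x1a0c030140e0300004120a040081604, 18, 27199), (0x1a0c008100a030482c1400040080c07, 19, 27199), (0x1a0c0581c1200050080604028180208, 20, 27153), (0x1a0c00810000a0480806050382c0c08, 20, 27199), (0x1a0c010200e0001804080a028181609, 21, 27153), (0x1a0c0300012030282c0e0404008020a, 23, 27153), (0x1a0c030141409000080607020041608, 24, 27199), (0x1a0c010200a090182c0e00020040c0a, 25, 27199), (0x1a0c058281009038180003020040405,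 26, 27158), (0x1a0c03000100a0280412030382c0404, 26, 27199), (0x1a0c008100e0804818000a018081605, 28, 27158), (0x1a0c0082410000202c1403028180407, 29, 27199), (0x1a0c0581c0803050180009040080205, 32, 27158), (0x1a0c0300008070280806090502c0208, 32, 27199), (0x1a0c010201404018180007048041605, 34, 27158), (0x1a0c0100c08000402c0e0902818020a, 35, 27199), (0x1a0c00824060a0201800080382c0405, 38, 27199), (0x1a0c0100c12070401800040502c0205, 42, 27199)]

/-- Elements fixing a class. -/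
def el56 : List (ℕ × ℕ × ℕ) := [(0x1a0c058281208038180a04018080200, 0, 0), (0x1a0c030100a010382c120a018081000, 0, 27710), (0x180d0580c1009020180a07050000202, 0, 27737), (0x180d0300c02050502c1207020001002, 1, 27737), (0x180d0301c0a010202c1003050001202, 2, 27710), (0x180d0581c1208050180203020000a02, 3, 27710), (0x1a0c0302802050182c1004038081200, 4, 27737), (0x1a0c05810100901818020a038080a00, 5, 27737)]

/-- Elements fixing a class. -/
def el57 : List (ℕ × ℕ × ℕ) := [(0x1a0c058281208038180a04018080200, 0, 0), (0x1a0c008241408038000404018141606, 0, 28433), (0x1a0c008000c08018240a0403808160a, 0, 28439), (0x1a0c058080a07040001204018280206, 0, 28443), (0x1a0c0580006020301c0a0404820020a, 0, 28477), (0x180d0581c0409000280a040400c0206, 0, 28547), (0x1a0c058180008018280404038140209, 1, 28439), (0x1a0c008140407040181404018241600, 1, 28443), (0x1a0c0081806050001c0404050201609, 1, 28477), (0x180d0081c0a0a0302404040400c1600,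 1, 28547), (0x1a0c008080a03040280c04038001609, 2, 28443), (0x1a0c008280e020480c0a04030201600, 2, 28477), (0x180d0080c0406050000a040401c1609, 2, 28547), (0x1a0c008180007018141204040281602, 3, 28439), (0x1a0c05818060a0002012040281c0202, 3, 28477), (0x180d0582014050300812040380c0200, 3, 28547), (0x1a0c0080c0002030281004048141607, 4, 28433), (0x1a0c058200a06010280604048000207, 4, 28443), (0x180d058181003050000a04010240207, 4, 28547), (0x180d008080e0900018060404014160a, 5, 28433), (0x180d008181409040080a040000c1607, 5, 28439), (0x180d0580c0a000481804040401c020a, 5, 28443), (0x1a0c05814040304024000403818020a, 6, 28443), (0x1a0c058240e050500c0404000200206, 6, 28477), (0x1a0c058000c07018081404040240205, 7, 28439), (0x1a0c0080006090302014040101c1605, 7, 28477), (0x180d0082012020001414040380c1606, 7, 28547), (0x1a0c0580c0c05000241004050080207, 8, 28433), (0x1a0c008200400028240604050181607, 8, 28443), (0x180d008001003048180404028281607,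 8, 28547), (0x180d058140e0a030000604040080209, 9, 28433), (0x180d05800120a0401404040300c0207, 9, 28439), (0x1a0c058241403038140c04040000202, 10, 28439), (0x1a0c008240e00050200c040280c1602, 10, 28477), (0x180d008200005048080c040181c160a, 10, 28547), (0x1a0c0581c1402048001004030140203, 11, 28433), (0x1a0c008200a09010000e04030281603, 11, 28443), (0x180d008241007000280a04010181603, 11, 28547), (0x180d058080606050240e04040140200, 12, 28433), (0x180d058240006040080a040501c0203, 12, 28439), (0x1a0c008281203038080004040181605, 13, 28443), (0x1a0c00808100a0280c12040001c1606, 13, 28477), (0x180d0080c1400010181204038201605, 13, 28547), (0x1a0c0080c0c0a000080e04028241608, 14, 28433), (0x1a0c0581c1200050080604028180208, 14, 28443), (0x180d058000e03010181204050140208, 14, 28547), (0x180d008281005030000604038241602, 15, 28433), (0x180d0080004050382812040300c1608, 15, 28439), (0x180d0580c1206028001404038200202, 15, 28443), (0x1a0c0081410060101c00040480c160a,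 16, 28443), (0x1a0c0081c1205050181004000081603, 16, 28477), (0x180d008180a000380c100401024160a, 16, 28547), (0x1a0c0081c1406048140604010001608, 17, 28439), (0x180d05808000503820060403024020a, 17, 28547), (0x180d008200c030501c1204010141600, 18, 28433), (0x180d0081c0003010200a04050241606, 18, 28439), (0x180d058240a0a0181c1004010180200, 18, 28443), (0x180d058280c090401c0604000140202, 19, 28439), (0x180d008140600048280e04040081606, 19, 28443), (0x1a0c008000a07050080604048201606, 19, 28547), (0x180d0080c0a080481c1404000181602, 20, 28443), (0x1a0c00820060a038180a04048001602, 20, 28547), (0x180d008280c000401404040481c1603, 21, 28439), (0x180d058281007030240404028000203, 21, 28477), (0x1a0c058280e060482000040100c0205, 22, 28477), (0x180d058200c020501400040181c0209, 22, 28547), (0x1a0c05820040a028180e04000240203, 23, 28443), (0x1a0c0581410090100c14040301c0200, 24, 28477), (0x1a0c0580c0009030140e04010280208, 25, 28433),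 (0x180d008180e03028001404048081608, 25, 28547), (0x180d058241002000180604038280205, 26, 28433), (0x180d058180a020382414040000c0208, 26, 28439), (0x1a0c0580810000281c0c040500c0209, 27, 28443), (0x180d0580004060380c1004028280209, 27, 28547), (0x180d008140c02038200604000281609, 28, 28547), (0x180d0582000030481c1404028080206, 29, 28433), (0x180d0581c0c03028200404048280200, 29, 28439), (0x180d0082804090181c1004028001606, 29, 28443), (0x180d00824000a0401c0604030081605, 30, 28439), (0x1a0c058180407048140604050200200, 30, 28547), (0x180d0580c04080501c1204030000205, 31, 28443), (0x1a0c058200609038000404050180205, 31, 28547), (0x180d0581c000a010240c04018200205, 32, 28547), (0x180d008280607010240c04000141608, 33, 28547), (0x180d058001005048280e04018180202, 34, 28433), (0x180d058280405018000c040481c0208, 34, 28439), (0x180d0081c0c09028280004018201602, 34, 28443), (0x180d008081405018200e04048181600, 36, 28547), (0x180d0582012070000c0c0401014020a,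 37, 28433), (0x180d0580c1407010200a04000180209, 37, 28439), (0x180d0080012060400c0e04050141602, 38, 28439), (0x1a0c058280a03000080e04030200209, 38, 28547), (0x180d0581c0a080300c0004050240202, 39, 28443), (0x1a0c058200e00018240a04030280202, 39, 28547), (0x180d008140e08030081204050001603, 41, 28547), (0x180d058280600010141004038240206, 42, 28433), (0x180d058140c00038281204010200203, 42, 28439), (0x180d058141202018200e04050000206, 45, 28443), (0x180d008240606028081004038281600, 46, 28443), (0x1a0c0081812080102806040281c1600, 46, 28547), (0x180d0080c120702820040403000160a, 47, 28443), (0x1a0c0081c060204000120402818160a, 47, 28547), (0x180d008080006038241404028201603, 48, 28439), (0x180d058080e08000141404048180203, 48, 28477), (0x180d008080608050140004030241607, 49, 28547), (0x180d058240607028280004030080208, 53, 28443), (0x180d00814120a018000c04010201607, 54, 28443), (0x1a0c008280a06000201204018081607, 54, 28547),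 (0x180d008240a020181800040501c1608, 55, 28443), (0x1a0c0080812000301c0a04018281608, 55, 28547), (0x180d008000e0a010141004018181609, 56, 28439), (0x180d058140608048080c04000280207, 57, 28443), (0x180d0581814000400c0e04048080205, 58, 28439), (0x180d008181002050240e04018001605, 58, 28477), (0x1a0c008240403030140e0400020160a, 58, 28547), (0x1a0c0581400070501810040480c0202, 59, 28433), (0x1a0c008240c050100c1404040001607, 60, 28547), (0x1a0c0580c100a038080004048140206, 61, 28433), (0x1a0c058080c0a0480c0a04038000208, 61, 28439), (0x180d0081c04080000c0c04048281605, 62, 28443), (0x1a0c008200e06018280404000241605, 62, 28547), (0x180d0082014070300c0004028081609, 63, 28433), (0x1a0c0580014080282406040101c0206, 70, 28547), (0x1a0c0581c0605040181404010000209, 71, 28547), (0x180d058081409018180004028200207, 75, 28443), (0x1a0c058240400030201404018140207, 75, 28547), (0x1a0c0581414060001c0404018240208, 76, 28547), (0x180d058180e0902808100401800020a,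 77, 28439), (0x1a0c008080c070480010040500c1605, 79, 28433), (0x1a0c0582800020280c1204040180207, 80, 28547), (0x1a0c0080c1009038140c04050081600, 81, 28433), (0x1a0c0081400090500c0404038181608, 81, 28439), (0x1a0c058240c08010000e040280c020a, 84, 28547), (0x1a0c0580c0e02040280c04028240200, 85, 28547), (0x1a0c058000a09050200c04038080203, 88, 28547), (0x1a0c0081414030002410040301c1602, 91, 28433), (0x1a0c0581812050101c0004040280203, 92, 28547), (0x1a0c0081c1000018081404030141609, 93, 28433), (0x1a0c0580812030302810040001c0205, 95, 28547), (0x1a0c0581c100601814120400008020a, 96, 28547), (0x1a0c0080c0e05040240004010281606, 108, 28547), (0x1a0c008280008028180e040100c1609, 113, 28547), (0x1a0c0080014020281c0c04040241603, 116, 28443), (0x1a0c00818040a048200004038141603, 117, 28439)]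

/-- Elements fixing a class. -/
def el58 : List (ℕ × ℕ × ℕ) := [(0x1a0c058281208038180a04018080200, 0, 0), (0x1a0c038280808058000a090100c0206, 0, 28955), (0x1a0c0500c0400048200e0b008140c04, 0, 28959), (0x1a0c00008100b0200c0c050081c1409, 0, 29036), (0x1a0c050080606020201607008140009, 1, 28959), (0x1a0c0300c10070480800050082c1404, 1, 29036), (0x1a0c0480c1600050100e02028040c08, 2, 28955), (0x1a0c018040a0401000120a0301c100b, 2, 28959), (0x1a0c02014000a058041007030240602, 2, 29036), (0x1a0c020080a0b000240c08038041403, 3, 28955), (0x1a0c010040e090402c0800050180605, 3, 28959), (0x1a0c0481c1600028040606050100408, 3, 29036), (0x1a0c020080e06050241603028040008, 4, 28955), (0x1a0c010040a0901818080a0002c1007, 4, 28959), (0x1a0c048140c0a03804100b000100403, 4, 29036), (0x1a0c0480c0a07030100008058041402, 5, 28955), (0x1a0c0180416040401c1206050000405, 5, 28959), (0x1a0c0202c0e06028040400050240608, 5, 29036), (0x1a0c0181402080580014090301c0802,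 6, 28959), (0x1a0c04004000901014080703028060b, 6, 29036), (0x1a0c0100414040182c1205038181000, 7, 28955), (0x1a0c008180e0b02810040304024000a, 7, 28959), (0x1a0c0581c0803050180009040080205, 7, 29036), (0x1a0c058140e0a020081000048180601, 8, 28955), (0x1a0c028181202000281604018200207, 8, 28959), (0x1a0c0102414040381802080182c0a00, 8, 29036), (0x1a0c0101c02030282c0004050181208, 9, 28959), (0x1a0c008280c05038241002018101600, 10, 28959), (0x1a0c0281c0c0004820060b020280401, 11, 28955), (0x1a0c040100009030280203010140e0b, 11, 29036), (0x1a0c0101402080381814040002c1203, 12, 28959), (0x1a0c040040c0401814120b000280407, 12, 29036), (0x1a0c0180414090101c0805058001006, 13, 28955), (0x1a0c008001607028240602040100c0a, 13, 28959), (0x1a0c0382c1202050000c040400c0205, 13, 29036), (0x1a0c03814160a0480c1006020000401, 14, 28955), (0x1a0c028000803030280e0901020020b, 14, 28959), (0x1a0c0181014090580002080101c0a06, 14, 29036), (0x1a0c0182c02020281c0c09050000808,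 15, 28959), (0x1a0c008280005058101003010240e06, 16, 28959), (0x1a0c0282c0006020200407048280601, 17, 28955), (0x1a0c040240c04000280202018141607, 17, 29036), (0x1a0c058141208018081401038180800, 18, 28955), (0x1a0c028180e02008201603020280009, 18, 28959), (0x1a0c0101c100304818000a0202c0a01, 18, 29036), (0x1a0c00818140b000240408018100a07, 19, 28959), (0x1a0c0081c0c00050100602040241605, 20, 28959), (0x1a0c0001808020281c16090400c020a, 20, 29036), (0x1a0c02818060b008280407048200004, 21, 28955), (0x1a0c03020120a0382c0a01000080803, 21, 28959), (0x1a0c050241601018200802000140c07, 21, 29036), (0x1a0c0501c1203058140004010200206, 22, 28955), (0x1a0c0382004050200c140b008000c09, 22, 28959), (0x1a0c02808060b048200c00008280e04, 22, 29036), (0x1a0c028240c0103828080b018200400, 23, 28959), (0x1a0c03824100401000020a0580c0a06, 25, 28955), (0x1a0c0002c08020400c0c010281c120a, 25, 29036), (0x1a0c0281c080301020000103028120b, 26, 28955),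 (0x1a0c038280c080080c0a02048001604, 26, 28959), (0x1a0c040180602020281600048140e01, 26, 29036), (0x1a0c0382804050080010060200c1609, 27, 28955), (0x1a0c0500c0800030140e01058201202, 27, 28959), (0x1a0c000100a010100c12080581c1406, 27, 29036), (0x1a0c0381014010300012050100c100b, 28, 28959), (0x1a0c0301006090402c0200028080e0a, 29, 28955), (0x1a0c0381408080100c1401058001206, 30, 28955), (0x1a0c028001603008200e02048280c04, 30, 28959), (0x1a0c0182c1002020000c0a0481c0a01, 30, 29036), (0x1a0c008001407030100608010240a0b, 31, 28959), (0x1a0c0082c0006050240403040100e05, 32, 28959), (0x1a0c0300012030282c0e0404008020a, 32, 29036), (0x1a0c02800040700828060b020200c09, 33, 28955), (0x1a0c00020080a0581c0a010300c1202, 33, 28959), (0x1a0c050100e0101020120303014000b, 33, 29036), (0x1a0c0502c0802038140c09018200200, 34, 28955), (0x1a0c058200605048081407008180004, 34, 28959), (0x1a0c0280c0407020200006008281609, 34, 29036), (0x1a0c028100001058281207010200606,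 35, 28959), (0x1a0c05810100901818020a038080a00, 37, 28955), (0x1a0c0301c12030400800010282c080a, 37, 29036), (0x1a0c0282c1202018200c01000280807, 38, 28955), (0x1a0c058280008008080a03020180e09, 38, 28959), (0x1a0c040000403048280e06020141601, 38, 29036), (0x1a0c058280605008181000048080e04, 39, 28955), (0x1a0c050081206000141601038200803, 39, 28959), (0x1a0c030240a010180808080382c1400, 39, 29036), (0x1a0c058241401000180805018081007, 40, 28959), (0x1a0c0002404040401c02060280c160a, 41, 28955), (0x1a0c00018100b0081c040a0200c0a09, 42, 29036), (0x1a0c008180602028241607050100008, 43, 28955), (0x1a0c0301014090380802050002c1003, 43, 28959), (0x1a0c04828040501810100b000040c07, 43, 29036), (0x1a0c0481c1403010040008058100a06, 44, 28955), (0x1a0c0381016010400c1202028000c0a, 44, 28959), (0x1a0c0082c0602050100c00028240e08, 44, 29036), (0x1a0c0300c08070502c0001028081208, 45, 28959), (0x1a0c0501c0400008140606048201604, 46, 28955),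 (0x1a0c0382012050300014010580c0802, 46, 28959), (0x1a0c028240001010200803058280e06, 46, 29036), (0x1a0c03020060a020080a000082c0e09, 47, 28959), (0x1a0c0302410040182c0205000081407, 48, 28959), (0x1a0c020201605038241402000040c03, 48, 29036), (0x1a0c03820020a0300c0a0901000080b, 49, 28955), (0x1a0c0180814060080016050201c1009, 49, 29036), (0x1a0c0182404010501c080b028000c08, 50, 28955), (0x1a0c048000a0705804060a030101002, 50, 28959), (0x1a0c03814020a0100010040300c120b, 50, 29036), (0x1a0c0380810060480c160a008000a04, 51, 28959), (0x1a0c04808000b028100c03050040e08, 53, 28955), (0x1a0c020281605000041006038240403, 53, 29036), (0x1a0c0382416010280008060400c040a, 54, 28955), (0x1a0c0480c1000030040e0501010140b, 54, 28959), (0x1a0c0002002050580c14040101c1206, 54, 29036), (0x1a0c0482c060604010040702804000a, 55, 28959), (0x1a0c0402c0202000280c04038141203, 56, 28955), (0x1a0c03818140b0200c0405048001001, 57, 28959), (0x1a0c008280408038100a06000241603,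 58, 28955), (0x1a0c050240004030200207058140602, 58, 28959), (0x1a0c020001007010240605058041406, 58, 29036), (0x1a0c020180002040041603028240e0a, 59, 28955), (0x1a0c00814040800024140b038100c03, 59, 29036), (0x1a0c050100609010140207058200006, 60, 28959), (0x1a0c0300c0200050080e040402c1205, 61, 28955), (0x1a0c01020000a0082c0a07048180604, 61, 29036), (0x1a0c0101010010001812050382c1403, 62, 28955), (0x1a0c0301c02000402c0609050080805, 62, 29036), (0x1a0c030100a010382c120a018081000, 63, 28955), (0x1a0c02008060b050040c07040240005, 63, 28959), (0x1a0c0580c020702808000904018080a, 63, 29036), (0x1a0c02014040a018241006038041600, 64, 28959), (0x1a0c0300010070082c060a048080a04, 65, 29036), (0x1a0c008000403028100e0b050240c08, 66, 28955), (0x1a0c0002414040580c02050301c1002, 66, 28959), (0x1a0c02028060501024100703004000b, 66, 29036), (0x1a0c0202c1402018040c08038240a00, 67, 28955), (0x1a0c058240e0104008080302818000a, 67, 28959),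 (0x1a0c0081c0403050240006028101608, 67, 29036), (0x1a0c00008120b0501c0c010280c0808, 68, 28959), (0x1a0c0502c0606008140400020200e09, 69, 28955), (0x1a0c058200805000181401038081203, 69, 28959), (0x1a0c028100c01018201202038281600, 69, 29036), (0x1a0c00020040a0480c0a060081c1604, 70, 28959), (0x1a0c0001010090101c02050300c140b, 71, 28959), (0x1a0c048200e05058101403030040002, 71, 29036), (0x1a0c05820020a000080a04018181207, 72, 28955), (0x1a0c0100c1400008180e050482c1004, 72, 29036), (0x1a0c0101006010502c1207028180008, 73, 28955), (0x1a0c020180a0b03804040a000241003, 73, 28959), (0x1a0c05814020a018181009000080807, 73, 29036), (0x1a0c0580c1000020080e0a008180a09, 74, 28959), (0x1a0c0200c0c07028240002050041608, 76, 28955), (0x1a0c048280e05030041000058100602, 76, 29036), (0x1a0c058100e0102818120004008060a, 77, 28955), (0x1a0c020081006000041605018241407, 77, 28959), (0x1a0c0302002050380814090182c0800, 77, 29036), (0x1a0c0201c040004024060b028040c0a,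 78, 28959), (0x1a0c0401c0203030280009058140802, 79, 28955), (0x1a0c058001407048080605020181001, 80, 28959), (0x1a0c008280608058240a00030100e02, 81, 28955), (0x1a0c050100c0900020020b038140403, 81, 28959), (0x1a0c04818100b018100405038041400, 81, 29036), (0x1a0c048000c03040040e0202810160a, 82, 28955), (0x1a0c008140608030101407058240002, 82, 29036), (0x1a0c05024040401814020b038200c00, 83, 28959), (0x1a0c0000802060500c16090401c0805, 84, 28955), (0x1a0c018200c0a0081c0a0b020000409, 84, 29036), (0x1a0c0182410010300008050581c1402, 85, 28955), (0x1a0c0002c02060401c04040500c1205, 85, 29036), (0x1a0c000240a010581c080a0100c1006, 86, 28955), (0x1a0c0480c040705004000b040100c05, 86, 28959), (0x1a0c03808020b0280c0c0404000120a, 86, 29036), (0x1a0c04814060a010101000058040e06, 87, 28959), (0x1a0c030280808018080a010002c1207, 89, 28959), (0x1a0c04010040103828120b000140c03, 89, 29036), (0x1a0c038100a090300c020a058001002, 90, 28955),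 (0x1a0c020001603050240e06040040405, 90, 28959), (0x1a0c0182c12060280004010401c080a, 90, 29036), (0x1a0c0182816050481c1002008000c04, 91, 28955), (0x1a0c05000020701014060903020080b, 91, 28959), (0x1a0c038040a090580008080300c1402, 91, 29036), (0x1a0c0382c08060500c0409028000208, 92, 28959), (0x1a0c0502c0002008200c03048140e04, 94, 28955), (0x1a0c040240401000140806038281603, 94, 29036), (0x1a0c0500c020703020000401014120b, 95, 28955), (0x1a0c0181404080201c1406048001601, 95, 28959), (0x1a0c040080e06008141600048280604, 95, 29036), (0x1a0c02020000a030240a03058040e02, 96, 29036), (0x1a0c0402c0602048140c07020280001, 97, 28959), (0x1a0c0100c0a070082c000a020181009, 97, 29036), (0x1a0c0102406010281808000502c0e08, 98, 28955), (0x1a0c0482c1406000040405038101003, 98, 28959), (0x1a0c0302802050182c1004038081200, 98, 29036), (0x1a0c040041609018280806038140400, 99, 28959), (0x1a0c018240a040301c020801000140b, 100, 28955), (0x1a0c048000407040100606050041605,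 100, 28959), (0x1a0c0380808060280016010500c1208, 100, 29036), (0x1a0c040000203058140e04030281202, 101, 28959), (0x1a0c04008000b008280c07020140609, 102, 28959), (0x1a0c008080a0601824160a038101000, 103, 28955), (0x1a0c010100e090501802030402c0005, 103, 28959), (0x1a0c0481c0c0302810000b04004040a, 103, 29036), (0x1a0c048140008010041403030100e0b, 104, 28959), (0x1a0c01014080a0382c1001018181200, 106, 28955), (0x1a0c0580c1407020180008048080a01, 106, 29036), (0x1a0c048081406038101608000040a03, 107, 28955), (0x1a0c0100400040401812070282c060a, 107, 28959), (0x1a0c020000c0705004060b028240408, 107, 29036), (0x1a0c0102802080002c0a09038180803, 108, 28959), (0x1a0c000280c050200c100b0481c0401, 109, 28955), (0x1a0c04820060a058040a07010100006, 110, 28959), (0x1a0c0300c0a000482c0e08020081401, 111, 28955), (0x1a0c01808080b040000c090501c0205, 111, 28959), (0x1a0c058100009028080207050180608, 111, 29036), (0x1a0c0301c0a0002008060a0482c1001,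 112, 29036), (0x1a0c0402c0e06048280403008140004, 113, 28955), (0x1a0c050040c09038140802000201603, 113, 29036), (0x1a0c0581c0a03008080008048181404, 114, 28959), (0x1a0c0302400010502c0807040080605, 115, 28959), (0x1a0c050001203010200e01058140806, 116, 28959), (0x1a0c030240e040500802000282c0608, 117, 28955), (0x1a0c0482c0a02000100c0a018041007, 117, 28959), (0x1a0c010000a070201806080082c1409, 118, 28955), (0x1a0c030040e040282c1203050080008, 118, 29036), (0x1a0c03014120a0000810040382c0203, 119, 28959), (0x1a0c0001416080080c14020201c0c09, 120, 28955), (0x1a0c0181010010581c120a030000a02, 120, 29036), (0x1a0c0202c100601824040a000040a07, 121, 28959), (0x1a0c0182016050080014060481c0404, 122, 28959), (0x1a0c008200e0a010100a0003024060b, 123, 28955), (0x1a0c020181402038241605018041000, 123, 29036), (0x1a0c0201c1603040040002050240c05, 124, 28959), (0x1a0c0401c120003014060101028080b, 125, 28955), (0x1a0c028080006048281603020200e01,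 125, 29036), (0x1a0c0200c0400028040e0604024160a, 126, 28959), (0x1a0c050080e0b020140c03048200001, 127, 28955), (0x1a0c0102012050182c1404000180207, 127, 28959), (0x1a0c028241604038200206000280403, 127, 29036), (0x1a0c0280c1207058280001030200802, 128, 28955), (0x1a0c050180e0b048200400020140601, 128, 29036), (0x1a0c018140c0a0200010020081c1609, 129, 28955), (0x1a0c0281c0200010280604058201206, 129, 28959), (0x1a0c0000414040301c12080580c0a02, 129, 29036), (0x1a0c0002812080100c0a010301c080b, 131, 28959), (0x1a0c040240601058280807030140002, 131, 29036), (0x1a0c058240a0400008020a038181003, 132, 28955), (0x1a0c048180e02050101600040040605, 132, 28959), (0x1a0c0101c08000281806010402c120a, 132, 29036), (0x1a0c010280e050202c1003008180009, 133, 28955), (0x1a0c05018020b018140404000201207, 133, 28959), (0x1a0c058040a04038181208000081403, 133, 29036), (0x1a0c0581c1200050080604028180208, 134, 28959), (0x1a0c0501c0c03008200002020141609,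 136, 28955), (0x1a0c040100601030141200058280e02, 136, 29036), (0x1a0c05008020b000200c09018140807, 137, 28955), (0x1a0c0101406080482c1400020180e01, 137, 28959), (0x1a0c0400c1600008140e06020280409, 137, 29036), (0x1a0c048200c0a000100a02038041603, 138, 29036), (0x1a0c0401c040302014000b048280c01, 139, 28959), (0x1a0c018080a0b0081c0c0a048001004, 139, 29036), (0x1a0c0181004010280012060501c1608, 140, 28955), (0x1a0c0201c1400030040605058241002, 140, 28959), (0x1a0c0002802050101c10090580c0806, 140, 29036), (0x1a0c040040e04010281200058140606, 141, 28959), (0x1a0c010100a090002c0208018181407, 142, 28955), (0x1a0c02018060b040240400050040e05, 142, 28959), (0x1a0c0580c1200028180e01050080808, 142, 29036), (0x1a0c040180202038141609000280803, 143, 28959), (0x1a0c0400c0c0700828000b048140404, 144, 28959), (0x1a0c0080c0a00010100e0a058241006, 145, 28955), (0x1a0c0182416040500002020401c0c05, 145, 28959), (0x1a0c0202c0002028240c0704004060a,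 145, 29036), (0x1a0c020140c08018041402000241607, 146, 28959), (0x1a0c01814120a0581c1001010000806, 148, 28955), (0x1a0c03808140b048000c080200c0a01, 148, 29036), (0x1a0c0200c1400058240e08030040a02, 149, 28955), (0x1a0c018040c0904000080b0281c040a, 149, 28959), (0x1a0c04818000b050040407028100608, 149, 29036), (0x1a0c0182802080301c0a04058001202, 150, 28959), (0x1a0c0302800050480810070202c0601, 151, 28955), (0x1a0c02020040a038040a0b018240c00, 152, 28959), (0x1a0c000080a060201c16080480c1401, 153, 28955), (0x1a0c0100c12070401800040502c0205, 153, 28959), (0x1a0c038240c040280c020b050000408, 153, 29036), (0x1a0c0002c0a060480c040a0201c1001, 154, 29036), (0x1a0c0401c1600020280602008140c09, 155, 28955), (0x1a0c050040004058141203030200e02, 155, 29036), (0x1a0c0382c0a020080c0c08020001409, 156, 28959), (0x1a0c000100c010501c120b0400c0405, 157, 28959), (0x1a0c050180802018201601038141200, 158, 28959), (0x1a0c0001016090500c02060281c0408,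 159, 28955), (0x1a0c0201c0a0303024000a01004100b, 159, 28959), (0x1a0c018180a0b0480004080081c1404, 160, 28955), (0x1a0c0000416090281c08020500c0c08, 160, 29036), (0x1a0c00014080a0300c10090581c0202, 161, 28959), (0x1a0c030140e080080814030482c0004, 162, 28955), (0x1a0c0102410010382c080a000180a03, 162, 29036), (0x1a0c0481c100001010060a030040a0b, 163, 28959), (0x1a0c010200e050081814000202c0609, 164, 28959), (0x1a0c00820160a018240a06000100407, 165, 28955), (0x1a0c048001403058100e05010041006, 165, 29036), (0x1a0c0482c0e02040040c03050100005, 166, 28959), (0x1a0c0402c0806000140401018281207, 167, 28955), (0x1a0c0280c0c00020280e02048201601, 167, 29036), (0x1a0c048080606028041600040100e0a, 168, 28959), (0x1a0c0500c1607048140002020200c01, 169, 28955), (0x1a0c0182008050101c140903000020b, 169, 28959), (0x1a0c028100e09058200200030280602, 169, 29036), (0x1a0c02808080b038280c01000201203, 170, 28955), (0x1a0c050001607020200606048140401,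 170, 29036), (0x1a0c01014000a0481810030082c0e04, 171, 28955), (0x1a0c0282c0206018280409038200800, 171, 28959), (0x1a0c0300414090002c0808038080a03, 171, 29036), (0x1a0c0382c10060080004050480c1404, 172, 29036), (0x1a0c020000a03010040e0803024140b, 173, 28959), (0x1a0c0100012070502c0601040180805, 174, 29036), (0x1a0c050000c03020140e0b008200409, 175, 28955), (0x1a0c02804060403020120701028000b, 175, 29036), (0x1a0c058200e0a048180a03020080001, 176, 28959), (0x1a0c058041009038080805018181400, 179, 28955), (0x1a0c0502c1206038200404000140203, 180, 28955), (0x1a0c058140008020181407008080609, 180, 28959), (0x1a0c040000c07048140602008281604, 180, 29036), (0x1a0c000240c010400c08020501c1605, 182, 28955), (0x1a0c008001003030240e0a058100a02, 184, 29036), (0x1a0c008080006040101607050240605, 185, 28955), (0x1a0c020280c08000240a0b018040407, 185, 29036), (0x1a0c058101401018081208000180a07, 187, 28959), (0x1a0c0080c140701024000503010100b,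 188, 28955), (0x1a0c018100c090281c020204000160a, 188, 28959), (0x1a0c048281608018040a02038100c00, 189, 28959), (0x1a0c0182808050300010010101c120b, 191, 28955), (0x1a0c0081c0a00058240608010101406, 192, 28959), (0x1a0c0001412080301c14040100c020b, 192, 29036), (0x1a0c058000803040080e01050181205, 193, 29036), (0x1a0c028040e09030280803058200002, 194, 29036), (0x1a0c028080206038201604018281200, 195, 28955), (0x1a0c010280608020180a070482c0001, 195, 28959), (0x1a0c0001814020080c16080481c0a04, 196, 28959), (0x1a0c008080e0b040240c0002810060a, 197, 28955), (0x1a0c048141608038101406018040400, 197, 29036), (0x1a0c0281c1603048280006008200404, 200, 28955), (0x1a0c050040609058200800010140e06, 200, 29036), (0x1a0c02818080b000200409038280203, 201, 28959), (0x1a0c0200c100705804000a010240a06, 203, 28955), (0x1a0c010000203050180e090282c0808, 204, 28959), (0x1a0c00814160a000101002018240c07, 205, 28959), (0x1a0c040240e04058140203010280006,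 206, 29036), (0x1a0c0181810020481c1605020001401, 207, 29036), (0x1a0c050240e0103014080001020060b, 208, 28959), (0x1a0c040080806018281609000140207, 209, 28959), (0x1a0c04008120b018140c04038280200, 211, 28955), (0x1a0c04018120b038280401018140800, 212, 29036), (0x1a0c0380404090500c0806040001605, 215, 28955), (0x1a0c01820120a010000a040581c0206, 215, 29036), (0x1a0c0081c1003058100005030241402, 216, 28955), (0x1a0c048200405000041406018101607, 217, 28959), (0x1a0c03014060a0082c1007020080009, 218, 29036), (0x1a0c0002c14020481c0c050080c1004, 220, 28955), (0x1a0c0182c14060201c0408008000a09, 223, 29036), (0x1a0c05800020704018060402808120a, 226, 28959), (0x1a0c038040c040500012020280c1608, 226, 29036), (0x1a0c008200c0501810140b038240400, 227, 28955), (0x1a0c038180a0202000160a0080c1009, 229, 28955), (0x1a0c0000404040280c120b0401c0c0a, 229, 29036), (0x1a0c0382812050580c1004030000202, 230, 28959), (0x1a0c028240604010280200030200e0b,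 230, 29036), (0x1a0c0302000050202c1403048080e01, 240, 29036), (0x1a0c03004100400008120a0182c0a07, 241, 28955), (0x1a0c0100c08000402c0e0902818020a, 241, 29036), (0x1a0c0581c1000008180605020081409, 242, 29036), (0x1a0c048180a02018041608000101407, 243, 28959), (0x1a0c01818080b0501c0401040001205, 244, 29036), (0x1a0c050180002048141607008200604, 245, 28955), (0x1a0c02804040900020080b018280c07, 245, 29036), (0x1a0c03820160a020000a020480c0c01, 246, 28959), (0x1a0c0380410040580c1205010001406, 249, 28955), (0x1a0c0501c0800058200609030140202, 250, 28955), (0x1a0c038140c0804800140b0080c0404, 250, 28959), (0x1a0c04018000b020140403008280e09, 250, 29036), (0x1a0c0301000010400812030502c0e05, 252, 28955), (0x1a0c00818100200010160a038240a03, 254, 29036), (0x1a0c0080c0c00040240e0b050100405, 255, 28955), (0x1a0c048280008030100a0701004060b, 255, 29036), (0x1a0c0382414010100c0808030000a0b, 257, 28959), (0x1a0c00808140b018100c05000241007,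 258, 28955), (0x1a0c0102400040282c0203040180e0a, 258, 28959), (0x1a0c020280e08010040a03058240006, 259, 28959), (0x1a0c0102812050001810010182c0807, 261, 28955), (0x1a0c0082c0a06038100408018241400, 262, 28959), (0x1a0c0301408080002c1409018080207, 262, 29036), (0x1a0c0381812020400c1601050000805, 263, 29036), (0x1a0c028041604000281202038200c03, 264, 29036), (0x1a0c0280c0200058200e09010280806, 265, 28955), (0x1a0c018280408048000a0b0201c0c01, 265, 28959), (0x1a0c030001403008080e080202c0a09, 266, 28959), (0x1a0c0080c160704010000602824040a, 267, 28955), (0x1a0c020140e08058241400010040606, 267, 29036), (0x1a0c0282c0e02020280c00008200609, 270, 28955), (0x1a0c050040404038201206018141600, 270, 29036), (0x1a0c028001207030200604058280202, 271, 28959), (0x1a0c04808100b038040c0a018100a00, 273, 28955), (0x1a0c0181802020500016040281c1208, 274, 28959), (0x1a0c008140e0a03024100301010000b, 275, 28959), (0x1a0c040101609038140202018280c00,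 276, 29036), (0x1a0c0100010030202c0e05048181401, 277, 29036), (0x1a0c050101601000141206018200407, 278, 28959), (0x1a0c0400c1200010280e0403014020b, 279, 28959), (0x1a0c0400c0807010140009058280206, 281, 28955), (0x1a0c040000807058280601010141206, 282, 29036), (0x1a0c058040604050081200040180e05, 285, 28955), (0x1a0c01020080a018180a090382c0200, 285, 29036), (0x1a0c0082c1002038240c05000101403, 286, 28955), (0x1a0c020200605030041400010240e0b, 287, 28959), (0x1a0c00014040a0081c100b0480c0c04, 288, 29036), (0x1a0c0301c14030202c0005008081009, 290, 28955), (0x1a0c0101c14000482c0608008180a04, 293, 29036), (0x1a0c03818020b0400004090280c080a, 296, 28959), (0x1a0c058040009050180803028080e08, 296, 29036), (0x1a0c008200005010241407058100606, 297, 28955), (0x1a0c058000a03048180e0a008081004, 299, 28955), (0x1a0c0300406090280808070402c000a, 299, 29036), (0x1a0c058280805038081009000180203, 300, 28959), (0x1a0c028100409018280206000201607,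 300, 29036), (0x1a0c000200c050481c14020200c1601, 310, 29036), (0x1a0c0000410090300c080a0101c0a0b, 311, 28955), (0x1a0c0180812060401c160402800020a, 311, 29036), (0x1a0c058240604040180207050080005, 312, 28959), (0x1a0c00018120b0280c04040501c0208, 313, 28959), (0x1a0c0002816080201c0a060080c0409, 325, 28955), (0x1a0c03810040904000020b0500c0c05, 369, 28959), (0x1a0c0300008070280806090502c0208, 370, 28959), (0x1a0c030280e080482c0a00008080604, 382, 28955)]

/-- Elements fixing a class. -/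
def el59 : List (ℕ × ℕ × ℕ) := [(0x1a0c058281208038180a04018080200, 0, 0), (0x180d058281208038180a04018080200, 0, 29464), (0x1a0c0281c0400050041603020240c08, 0, 29465), (0x1a0c0502c0a08018101206038080200, 0, 29469), (0x1a0c03020060a0002c0202048100a07, 0, 29480), (0x180d0281c0400050041603020240c08, 1, 29465), (0x180d0502c0a08018101206038080200, 1, 29469), (0x180d03020060a0002c0202048100a07, 1, 29480), (0x1a0c0381416000200c0401050240c08, 2, 29469), (0x1a0c008000807040140c090100c160a, 2, 29480), (0x1a0c0480c0400058041407030140808, 3, 29465), (0x1a0c020200e0b000280202028181203, 3, 29480), (0x1a0c04018020a04808060b000100a07, 4, 29469), (0x180d0381416000200c0401050240c08, 5, 29469), (0x180d008000807040140c090100c160a, 5, 29480), (0x180d0480c0400058041407030140808, 6, 29465), (0x180d020200e0b000280202028181203, 6, 29480), (0x180d04018020a04808060b000100a07, 7, 29469), (0x1a0c010101208028180e0a0082c0600, 8, 29465), (0x1a0c0180014050401c0c09058040404,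 8, 29480), (0x1a0c000040c070102408050400c160a, 9, 29469), (0x1a0c0182414000301c0401058140808, 10, 29469), (0x1a0c008000c030402408050101c140b, 10, 29480), (0x1a0c04010020b028080e0a000181203, 11, 29469), (0x1a0c01824080703014100005804040a, 12, 29465), (0x1a0c010280006038200a040082c0609, 12, 29480), (0x180d010101208028180e0a0082c0600, 13, 29465), (0x180d0180014050401c0c09058040404, 13, 29480), (0x180d000040c070102408050400c160a, 14, 29469), (0x180d0182414000301c0401058140808, 15, 29469), (0x180d008000c030402408050101c140b, 15, 29480), (0x180d04010020b028080e0a000181203, 16, 29469), (0x180d01824080703014100005804040a, 17, 29465), (0x180d010280006038200a040082c0609, 17, 29480), (0x1a0c020080e080082812060282c0600, 18, 29469), (0x1a0c03020020400008060b048280e05, 18, 29480), (0x1a0c0000c0c05058241407040040404, 19, 29469), (0x1a0c02008060a0082c0008028181207, 20, 29465), (0x1a0c0481c1001050001603030140802, 20, 29480), (0x1a0c010180a0804810060b008280e00,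 21, 29465), (0x1a0c0380016090400c0805050040406, 21, 29480), (0x1a0c000040803010140c090401c140b, 22, 29469), (0x1a0c038140c0302024100005004040b, 23, 29465), (0x1a0c0102c0004018201206008280e05, 23, 29480), (0x1a0c0480c100705800080503004040a, 24, 29469), (0x1a0c0281c16090500c0401020001006, 24, 29480), (0x1a0c050080a060081000080382c0609, 25, 29469), (0x180d020080e080082812060282c0600, 26, 29469), (0x180d03020020400008060b048280e05, 26, 29480), (0x180d0000c0c05058241407040040404, 27, 29469), (0x180d02008060a0082c0008028181207, 28, 29465), (0x180d0481c1001050001603030140802, 28, 29480), (0x180d010180a0804810060b008280e00, 29, 29465), (0x180d0380016090400c0805050040406, 29, 29480), (0x180d000040803010140c090401c140b, 30, 29469), (0x180d038140c0302024100005004040b, 31, 29465), (0x180d0102c0004018201206008280e05, 31, 29480), (0x180d0480c100705800080503004040a, 32, 29469), (0x180d0281c16090500c0401020001006, 32, 29480),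 (0x180d050080a060081000080382c0609, 33, 29469), (0x1a0c0480416000100c08050301c1408, 34, 29465), (0x1a0c050200a0200010060b038181201, 34, 29480), (0x1a0c0401806040482c0202000280e05, 35, 29469), (0x1a0c0502c0204018080008038181205, 36, 29465), (0x1a0c0481410030200004010301c140b, 36, 29480), (0x1a0c01010000a02820060b008181207, 37, 29469), (0x1a0c058280a02038101206018200001, 37, 29480), (0x1a0c0382416010300c1000050140802, 38, 29469), (0x1a0c0300806080082c0a04048280e00, 39, 29469), (0x1a0c020200206000080e0a0282c0609, 39, 29480), (0x1a0c0001c0809050141603040040406, 40, 29469), (0x1a0c030080e0b008280008048100a03, 41, 29465), (0x1a0c0280c1001058001407020240c02, 41, 29480), (0x1a0c0281c1003050000c0902004040b, 42, 29469), (0x1a0c0480c14050581c0401030001004, 42, 29480), (0x1a0c058081204008180008018280e05, 43, 29469), (0x1a0c0202c020a018081206028200007, 44, 29465), (0x1a0c0001c0c0305024040104014080b, 44, 29480), (0x1a0c038140409020041603050001006,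 45, 29469), (0x1a0c0000416090100c1407040140806, 46, 29465), (0x1a0c020180e0204828060b028200001, 46, 29480), (0x180d0480416000100c08050301c1408, 47, 29465), (0x180d050200a0200010060b038181201, 47, 29480), (0x180d0401806040482c0202000280e05, 48, 29469), (0x180d0502c0204018080008038181205, 49, 29465), (0x180d0481410030200004010301c140b, 49, 29480), (0x180d01010000a02820060b008181207, 50, 29469), (0x180d058280a02038101206018200001, 50, 29480), (0x180d0382416010300c1000050140802, 51, 29469), (0x180d0300806080082c0a04048280e00, 52, 29469), (0x180d020200206000080e0a0282c0609, 52, 29480), (0x180d0001c0809050141603040040406, 53, 29469), (0x180d030080e0b008280008048100a03, 54, 29465), (0x180d0280c1001058001407020240c02, 54, 29480), (0x180d0281c1003050000c0902004040b, 55, 29469), (0x180d0480c14050581c0401030001004, 55, 29480), (0x180d058081204008180008018280e05, 56, 29469), (0x180d0202c020a018081206028200007, 57, 29465),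 (0x180d0001c0c0305024040104014080b, 57, 29480), (0x180d038140409020041603050001006, 58, 29469), (0x180d0000416090100c1407040140806, 59, 29465), (0x180d020180e0204828060b028200001, 59, 29480), (0x1a0c0082408000301416030101c1408, 60, 29469), (0x1a0c018000c01040241407058140802, 60, 29480), (0x1a0c0402806020382c0a04000181201, 61, 29469), (0x1a0c0082414050301c10000100c1604, 62, 29465), (0x1a0c058100006028200e0a018080209, 62, 29480), (0x1a0c058280004038200202018181205, 63, 29469), (0x1a0c010100e0b028281206008200003, 63, 29480), (0x1a0c0282404030300410000201c140b, 64, 29469), (0x1a0c018140c0702024040105800100a, 65, 29465), (0x1a0c0402802040380812060002c0605, 65, 29480), (0x1a0c0502c1202018180a04038200001, 66, 29469), (0x1a0c040180a02048100e0a0002c0601, 67, 29465), (0x1a0c0180414090101c0805058001006, 67, 29480), (0x1a0c0280414000101c0c090200c1608, 68, 29465), (0x1a0c058201202000180e0a018100a01, 68, 29480), (0x1a0c040100e060282802020002c0609,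 69, 29469), (0x1a0c058280206038080008018100a09, 70, 29465), (0x1a0c0282410070300004010200c160a, 70, 29480), (0x1a0c01018000b048200e0a008100a03, 71, 29469), (0x1a0c0181414010201c1000058240c02, 72, 29469), (0x1a0c03028020b038080a04048200003, 73, 29465), (0x1a0c0000c0807058140401040240c0a, 73, 29480), (0x1a0c018240405030041407058001004, 74, 29469), (0x1a0c0000414050101c1603040240c04, 75, 29465), (0x1a0c0301006020282c0e0a048200001, 75, 29480), (0x1a0c05810120a028180202018200007, 76, 29469), (0x1a0c010280a0b038100008008181203, 76, 29480), (0x1a0c038000403040040c0905014080b, 77, 29469), (0x1a0c0080014090401c1603010140806, 79, 29469), (0x1a0c0182410010300008050581c1402, 79, 29480), (0x180d0082408000301416030101c1408, 81, 29469), (0x180d018000c01040241407058140802, 81, 29480), (0x180d0402806020382c0a04000181201, 82, 29469), (0x180d0082414050301c10000100c1604, 83, 29465), (0x180d058100006028200e0a018080209, 83, 29480),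 (0x180d058280004038200202018181205, 84, 29469), (0x180d010100e0b028281206008200003, 84, 29480), (0x180d0282404030300410000201c140b, 85, 29469), (0x180d018140c0702024040105800100a, 86, 29465), (0x180d0402802040380812060002c0605, 86, 29480), (0x180d0502c1202018180a04038200001, 87, 29469), (0x180d040180a02048100e0a0002c0601, 88, 29465), (0x180d0180414090101c0805058001006, 88, 29480), (0x180d0280414000101c0c090200c1608, 89, 29465), (0x180d058201202000180e0a018100a01, 89, 29480), (0x180d040100e060282802020002c0609, 90, 29469), (0x180d058280206038080008018100a09, 91, 29465), (0x180d0282410070300004010200c160a, 91, 29480), (0x180d01018000b048200e0a008100a03, 92, 29469), (0x180d0181414010201c1000058240c02, 93, 29469), (0x180d03028020b038080a04048200003, 94, 29465), (0x180d0000c0807058140401040240c0a, 94, 29480), (0x180d018240405030041407058001004, 95, 29469), (0x180d0000414050101c1603040240c04, 96, 29465), (0x180d0301006020282c0e0a048200001,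 96, 29480), (0x180d05810120a028180202018200007, 97, 29469), (0x180d010280a0b038100008008181203, 97, 29480), (0x180d038000403040040c0905014080b, 98, 29469), (0x180d0080014090401c1603010140806, 100, 29469), (0x180d0182410010300008050581c1402, 100, 29480), (0x1a0c058180e08048280202018100a00, 102, 29465), (0x1a0c0280004090400414070200c1606, 102, 29480), (0x1a0c0000c14010581c0c09040140802, 103, 29469), (0x1a0c0281c0c010502410000200c1602, 104, 29465), (0x1a0c05808000a008201206018100a07, 104, 29480), (0x1a0c0480410050100014070300c1604, 105, 29469), (0x1a0c0202c0e06018280008028080209, 106, 29469), (0x1a0c0081c0c05050241603010001004, 107, 29465), (0x1a0c04010060a0282c1206000080207, 107, 29480), (0x1a0c02008120b008180e0a028200003, 108, 29469), (0x1a0c040180e0b048280a04000080203, 109, 29465), (0x1a0c0080c0809058141407010001006, 109, 29480), (0x1a0c0280c0407058040c0902000100a, 110, 29469), (0x1a0c0481c16050500c1000030040404,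 110, 29480), (0x1a0c0502012040001802020382c0605, 111, 29469), (0x1a0c030200e02000280a040482c0601, 113, 29469), (0x1a0c02008000600820060b028280e09, 113, 29480), (0x1a0c008140c000202414070100c1608, 115, 29469), (0x1a0c038000801040141603050240c02, 115, 29480), (0x1a0c0402c0e02018281206000100a01, 116, 29469), (0x1a0c0081416090200c10000101c1406, 117, 29465), (0x1a0c05018000404820060b038080205, 117, 29480), (0x1a0c0502c0006018200202038100a09, 118, 29469), (0x1a0c01018060a0482c0a04008200007, 118, 29480), (0x1a0c0481404070200410000300c160a, 119, 29469), (0x1a0c03824080303014040105000100b, 120, 29465), (0x1a0c0402c0206018080a04000280e09, 120, 29480), (0x1a0c04010120202818060b000280e01, 121, 29465), (0x1a0c0380416050100c0c09050001004, 121, 29480), (0x1a0c050180a0b048100202038200003, 122, 29469), (0x1a0c0102c120a018180008008100a07, 122, 29480), (0x1a0c018000407040040805058240c0a, 123, 29469), (0x1a0c0080016050400c1407010240c04,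 125, 29469), (0x1a0c038141001020000c090500c1602, 125, 29480), (0x1a0c008141007020001603010240c0a, 127, 29465), (0x1a0c0302806040382c0008048080205, 127, 29480), (0x1a0c05008000b008200a04038181203, 128, 29469), (0x1a0c030200a0b000100e0a048080203, 129, 29465), (0x1a0c0080c14000581c0805010240c08, 129, 29480), (0x1a0c058200a06000100202018280e09, 130, 29465), (0x1a0c0382404000300408050500c1608, 130, 29480), (0x1a0c0480c08010581410000301c1402, 131, 29469), (0x180d058180e08048280202018100a00, 132, 29465), (0x180d0280004090400414070200c1606, 132, 29480), (0x180d0000c14010581c0c09040140802, 133, 29469), (0x180d0281c0c010502410000200c1602, 134, 29465), (0x180d05808000a008201206018100a07, 134, 29480), (0x180d0480410050100014070300c1604, 135, 29469), (0x180d0202c0e06018280008028080209, 136, 29469), (0x180d0081c0c05050241603010001004, 137, 29465), (0x180d04010060a0282c1206000080207, 137, 29480), (0x180d02008120b008180e0a028200003,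 138, 29469), (0x180d040180e0b048280a04000080203, 139, 29465), (0x180d0080c0809058141407010001006, 139, 29480), (0x180d0280c0407058040c0902000100a, 140, 29469), (0x180d0481c16050500c1000030040404, 140, 29480), (0x180d0502012040001802020382c0605, 141, 29469), (0x180d030200e02000280a040482c0601, 143, 29469), (0x180d02008000600820060b028280e09, 143, 29480), (0x180d008140c000202414070100c1608, 145, 29469), (0x180d038000801040141603050240c02, 145, 29480), (0x180d0402c0e02018281206000100a01, 146, 29469), (0x180d0081416090200c10000101c1406, 147, 29465), (0x180d05018000404820060b038080205, 147, 29480), (0x180d0502c0006018200202038100a09, 148, 29469), (0x180d01018060a0482c0a04008200007, 148, 29480), (0x180d0481404070200410000300c160a, 149, 29469), (0x180d03824080303014040105000100b, 150, 29465), (0x180d0402c0206018080a04000280e09, 150, 29480), (0x180d04010120202818060b000280e01, 151, 29465), (0x180d0380416050100c0c09050001004,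 151, 29480), (0x180d050180a0b048100202038200003, 152, 29469), (0x180d0102c120a018180008008100a07, 152, 29480), (0x180d018000407040040805058240c0a, 153, 29469), (0x180d0080016050400c1407010240c04, 155, 29469), (0x180d038141001020000c090500c1602, 155, 29480), (0x180d008141007020001603010240c0a, 157, 29465), (0x180d0302806040382c0008048080205, 157, 29480), (0x180d05008000b008200a04038181203, 158, 29469), (0x180d030200a0b000100e0a048080203, 159, 29465), (0x180d0080c14000581c0805010240c08, 159, 29480), (0x180d058200a06000100202018280e09, 160, 29465), (0x180d0382404000300408050500c1608, 160, 29480), (0x180d0480c08010581410000301c1402, 161, 29469), (0x1a0c0302c0208018080e0a048100a00, 162, 29469), (0x1a0c0502006060002c0a04038080209, 162, 29480), (0x1a0c0001414090201c04010400c1606, 163, 29469), (0x1a0c0302c0a02018100008048280e01, 164, 29465), (0x1a0c038041003010000805050240c0b, 164, 29480), (0x1a0c04804080701014160303000100a,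 165, 29480), (0x1a0c0500806040082c1206038200005, 167, 29465), (0x1a0c000140c010202416030401c1402, 167, 29480), (0x1a0c0000c04090580408050401c1406, 168, 29465), (0x1a0c02020120a00018060b028080207, 170, 29469), (0x1a0c0302c000a018200a04048080207, 174, 29465), (0x1a0c0081c0803050141000010240c0b, 174, 29480), (0x1a0c038241005030001603050040404, 175, 29469), (0x1a0c030100e0802828060b048080200, 176, 29480), (0x1a0c0280016010400c0c090201c1402, 177, 29465), (0x1a0c05008120800818060b038100a00, 177, 29480), (0x1a0c0101006060282c0008008280e09, 178, 29469), (0x1a0c0501006080282c0202038181200, 179, 29465), (0x1a0c0480004050400416030301c1404, 179, 29480), (0x1a0c0001c16010500c0805040240c02, 180, 29469), (0x1a0c0280410090100016030201c1406, 182, 29469), (0x1a0c030080a0a00810060b048200007, 185, 29469), (0x1a0c0481c040305004080503000100b, 187, 29469), (0x1a0c0280c14090581c1000020040406, 187, 29480), (0x1a0c0202006020002c1206028280e01,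 189, 29469), (0x1a0c030080004008200e0a0482c0605, 189, 29480), (0x1a0c00824100303000140701014080b, 191, 29465), (0x1a0c0081c16000500c0c09010140808, 193, 29480), (0x1a0c018140400020040c090581c1408, 194, 29480), (0x1a0c0280416070100c1000020240c0a, 196, 29469), (0x1a0c0001c0405050040c090400c1604, 196, 29480), (0x1a0c028040c0301024140702000100b, 198, 29465), (0x1a0c0202c1208018180202028280e00, 199, 29480), (0x1a0c018040800010141407058240c08, 200, 29469), (0x1a0c0201806080482c0e0a028080200, 201, 29480), (0x1a0c0481c08000501404010300c1608, 202, 29469), (0x180d0302c0208018080e0a048100a00, 204, 29469), (0x180d0502006060002c0a04038080209, 204, 29480), (0x180d0001414090201c04010400c1606, 205, 29469), (0x180d0302c0a02018100008048280e01, 206, 29465), (0x180d038041003010000805050240c0b, 206, 29480), (0x180d04804080701014160303000100a, 207, 29480), (0x180d0500806040082c1206038200005, 209, 29465), (0x180d000140c010202416030401c1402,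 209, 29480), (0x180d0000c04090580408050401c1406, 210, 29465), (0x180d02020120a00018060b028080207, 212, 29469), (0x180d0302c000a018200a04048080207, 216, 29465), (0x180d0081c0803050141000010240c0b, 216, 29480), (0x180d038241005030001603050040404, 217, 29469), (0x180d030100e0802828060b048080200, 218, 29480), (0x180d0280016010400c0c090201c1402, 219, 29465), (0x180d05008120800818060b038100a00, 219, 29480), (0x180d0101006060282c0008008280e09, 220, 29469), (0x180d0501006080282c0202038181200, 221, 29465), (0x180d0480004050400416030301c1404, 221, 29480), (0x180d0001c16010500c0805040240c02, 222, 29469), (0x180d0280410090100016030201c1406, 224, 29469), (0x180d030080a0a00810060b048200007, 227, 29469), (0x180d0481c040305004080503000100b, 229, 29469), (0x180d0280c14090581c1000020040406, 229, 29480), (0x180d0202006020002c1206028280e01, 231, 29469), (0x180d030080004008200e0a0482c0605, 231, 29480), (0x180d00824100303000140701014080b,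 233, 29465), (0x180d0081c16000500c0c09010140808, 235, 29480), (0x180d018140400020040c090581c1408, 236, 29480), (0x180d0280416070100c1000020240c0a, 238, 29469), (0x180d0001c0405050040c090400c1604, 238, 29480), (0x180d028040c0301024140702000100b, 240, 29465), (0x180d0202c1208018180202028280e00, 241, 29480), (0x180d018040800010141407058240c08, 242, 29469), (0x180d0201806080482c0e0a028080200, 243, 29480), (0x180d0481c08000501404010300c1608, 244, 29469), (0x1a0c0380c0800058140c09050040408, 246, 29465), (0x1a0c01020120b000180a04008280e03, 246, 29480), (0x1a0c040280a0603810060b000080209, 247, 29469), (0x1a0c058180002048200a04018280e01, 249, 29469), (0x1a0c0082416070300c080501000100a, 251, 29469), (0x1a0c01028120403818060b008200005, 252, 29469), (0x1a0c058100e02028280008018181201, 252, 29480), (0x1a0c0180008090401404010581c1406, 254, 29469), (0x1a0c030280a080381002020482c0600, 255, 29480), (0x1a0c058180a0a048100008018080207,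 256, 29469), (0x1a0c04028120b038180202000100a03, 256, 29480), (0x1a0c058180204048080e0a018200005, 258, 29465), (0x1a0c0102806080382c1206008100a00, 261, 29469), (0x1a0c02028020803808060b028181200, 263, 29469), (0x1a0c058200e04000281206018080205, 263, 29480), (0x1a0c0002416050300c04010401c1404, 264, 29469), (0x1a0c0202812020381800080282c0601, 265, 29465), (0x1a0c018041007010000c0905814080a, 265, 29480), (0x1a0c058080e06008280a04018200009, 266, 29465), (0x1a0c0002408010301414070400c1602, 266, 29480), (0x1a0c02028000b038201206028080203, 268, 29465), (0x1a0c0080c0c0705824100001014080a, 268, 29480), (0x1a0c018141009020001407058040406, 269, 29469), (0x1a0c0480014010401c08050300c1602, 270, 29465), (0x1a0c058080a08008100e0a018181200, 270, 29480), (0x1a0c010180e040482800080082c0605, 271, 29469), (0x1a0c0480414030101c100003014080b, 272, 29469), (0x1a0c038040c00010241603050140808, 273, 29469), (0x1a0c0280c0c000582404010201c1408,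 274, 29469), (0x1a0c04008120a008180a040002c0607, 275, 29465), (0x1a0c0181c0801050140c09058001002, 275, 29480), (0x1a0c038000c050402404010500c1604, 276, 29469), (0x1a0c0081414030201c0c0901000100b, 277, 29469), (0x1a0c058100208028081206018280e00, 278, 29469), (0x1a0c028000c0704024160302004040a, 281, 29480), (0x180d0380c0800058140c09050040408, 282, 29465), (0x180d01020120b000180a04008280e03, 282, 29480), (0x180d040280a0603810060b000080209, 283, 29469), (0x180d058180002048200a04018280e01, 285, 29469), (0x180d0082416070300c080501000100a, 287, 29469), (0x180d01028120403818060b008200005, 288, 29469), (0x180d058100e02028280008018181201, 288, 29480), (0x180d0180008090401404010581c1406, 290, 29469), (0x180d030280a080381002020482c0600, 291, 29480), (0x180d058180a0a048100008018080207, 292, 29469), (0x180d04028120b038180202000100a03, 292, 29480), (0x180d058180204048080e0a018200005, 294, 29465), (0x180d0102806080382c1206008100a00,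 297, 29469), (0x180d02028020803808060b028181200, 299, 29469), (0x180d058200e04000281206018080205, 299, 29480), (0x180d0002416050300c04010401c1404, 300, 29469), (0x180d0202812020381800080282c0601, 301, 29465), (0x180d018041007010000c0905814080a, 301, 29480), (0x180d058080e06008280a04018200009, 302, 29465), (0x180d0002408010301414070400c1602, 302, 29480), (0x180d02028000b038201206028080203, 304, 29465), (0x180d0080c0c0705824100001014080a, 304, 29480), (0x180d018141009020001407058040406, 305, 29469), (0x180d0480014010401c08050300c1602, 306, 29465), (0x180d058080a08008100e0a018181200, 306, 29480), (0x180d010180e040482800080082c0605, 307, 29469), (0x180d0480414030101c100003014080b, 308, 29469), (0x180d038040c00010241603050140808, 309, 29469), (0x180d0280c0c000582404010201c1408, 310, 29469), (0x180d04008120a008180a040002c0607, 311, 29465), (0x180d0181c0801050140c09058001002, 311, 29480), (0x180d038000c050402404010500c1604,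 312, 29469), (0x180d0081414030201c0c0901000100b, 313, 29469), (0x180d058100208028081206018280e00, 314, 29469), (0x180d028000c0704024160302004040a, 317, 29480), (0x1a0c0181c0c00050240805058040408, 318, 29469), (0x1a0c0280014030401c0401020240c0b, 318, 29480), (0x1a0c040080a0b008101206000280e03, 319, 29469), (0x1a0c0181c0409050041000058140806, 320, 29465), (0x1a0c02018000a0482002020282c0607, 320, 29480), (0x1a0c0282414010301c1603020001002, 321, 29465), (0x1a0c0400806060082c0e0a000100a09, 321, 29480), (0x1a0c0181c1005050000401058240c04, 323, 29465), (0x1a0c03010020a0280800080482c0607, 323, 29480), (0x1a0c0202c0002018200e0a028181201, 324, 29469), (0x1a0c010200e0600028060b008100a09, 325, 29465), (0x1a0c0282416000300c1407020040408, 325, 29480), (0x1a0c050180208048080a040382c0600, 326, 29469), (0x1a0c00024040703004160304014080a, 327, 29465), (0x1a0c0202806060382c0202028200009, 327, 29480), (0x1a0c05020020b000081206038100a03,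 328, 29469), (0x1a0c0302c0e04018280202048200005, 329, 29469), (0x1a0c05820020a000080a04018181207, 330, 29480), (0x1a0c010200a0a0001012060082c0607, 331, 29480), (0x1a0c0402c1204018180e0a000080205, 332, 29469), (0x1a0c0501000020282012060382c0601, 334, 29469), (0x1a0c0102c0a06018100e0a008200009, 336, 29469), (0x1a0c0501806020482c0008038100a01, 336, 29480), (0x1a0c05010120b028180008038080203, 338, 29469), (0x1a0c0402c0a0a018100202000181207, 338, 29480), (0x1a0c05010020602808060b038200009, 340, 29465), (0x1a0c0102c0e08018280a04008181200, 342, 29469), (0x1a0c0380c0c01058240805050001002, 344, 29480), (0x1a0c04800080304014140703004040b, 346, 29480), (0x1a0c03028000203820060b048100a01, 347, 29480), (0x1a0c0102006040002c0e0a008181205, 349, 29465), (0x1a0c0481414000201c1603030040408, 349, 29480), (0x1a0c03010000b028200202048280e03, 350, 29465), (0x1a0c0380c0405058041000050240c04, 350, 29480), (0x1a0c0001416070200c0c0904004040a,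 352, 29469), (0x180d0181c0c00050240805058040408, 353, 29469), (0x180d0280014030401c0401020240c0b, 353, 29480), (0x180d040080a0b008101206000280e03, 354, 29469), (0x180d0181c0409050041000058140806, 355, 29465), (0x180d02018000a0482002020282c0607, 355, 29480), (0x180d0282414010301c1603020001002, 356, 29465), (0x180d0400806060082c0e0a000100a09, 356, 29480), (0x180d0181c1005050000401058240c04, 358, 29465), (0x180d03010020a0280800080482c0607, 358, 29480), (0x180d0202c0002018200e0a028181201, 359, 29469), (0x180d010200e0600028060b008100a09, 360, 29465), (0x180d0282416000300c1407020040408, 360, 29480), (0x180d050180208048080a040382c0600, 361, 29469), (0x180d00024040703004160304014080a, 362, 29465), (0x180d0202806060382c0202028200009, 362, 29480), (0x180d05020020b000081206038100a03, 363, 29469), (0x180d0302c0e04018280202048200005, 364, 29469), (0x180d05820020a000080a04018181207, 365, 29480), (0x180d010200a0a0001012060082c0607,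 366, 29480), (0x180d0402c1204018180e0a000080205, 367, 29469), (0x180d0501000020282012060382c0601, 369, 29469), (0x180d0102c0a06018100e0a008200009, 371, 29469), (0x180d0501806020482c0008038100a01, 371, 29480), (0x180d05010120b028180008038080203, 373, 29469), (0x180d0402c0a0a018100202000181207, 373, 29480), (0x180d05010020602808060b038200009, 375, 29465), (0x180d0102c0e08018280a04008181200, 377, 29469), (0x180d0380c0c01058240805050001002, 379, 29480), (0x180d04800080304014140703004040b, 381, 29480), (0x180d03028000203820060b048100a01, 382, 29480), (0x180d0102006040002c0e0a008181205, 384, 29465), (0x180d0481414000201c1603030040408, 384, 29480), (0x180d03010000b028200202048280e03, 385, 29465), (0x180d0380c0405058041000050240c04, 385, 29480), (0x180d0001416070200c0c0904004040a, 387, 29469), (0x1a0c0480016070400c040103014080a, 388, 29480), (0x1a0c000140403020041407040240c0b, 389, 29469), (0x1a0c0380c1009058000401050140806,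 391, 29469), (0x1a0c0481416010200c1407030001002, 393, 29469), (0x1a0c0380408090101410000500c1606, 393, 29480), (0x1a0c0081c10090500008050100c1606, 401, 29480), (0x1a0c0080c1005058000c090101c1404, 404, 29465), (0x1a0c040080e0400828060b000181205, 408, 29480), (0x1a0c02018020b048080008028280e03, 409, 29480), (0x1a0c0002414030301c080504004040b, 416, 29469), (0x180d0480016070400c040103014080a, 423, 29480), (0x180d000140403020041407040240c0b, 424, 29469), (0x180d0380c1009058000401050140806, 426, 29469), (0x180d0481416010200c1407030001002, 428, 29469), (0x180d0380408090101410000500c1606, 428, 29480), (0x180d0081c10090500008050100c1606, 436, 29480), (0x180d0080c1005058000c090101c1404, 439, 29465), (0x180d040080e0400828060b000181205, 443, 29480), (0x180d02018020b048080008028280e03, 444, 29480), (0x180d0002414030301c080504004040b, 451, 29469), (0x1a0c018040c050102410000581c1404, 461, 29480), (0x180d018040c050102410000581c1404,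 471, 29480)]

/-- Elements fixing a class. -/
def el60 : List (ℕ × ℕ × ℕ) := [(0x1a0c058281208038180a04018080200, 0, 0), (0x1a0c038141009058101406008000602, 0, 29981), (0x180d038141009058101406008000602, 0, 29982), (0x1a0c0001004010280c0e0a03024100b, 0, 29987), (0x1a0c00010100a028080206038241603, 0, 30000), (0x180d058281208038180a04018080200, 1, 29982), (0x1a0c010180003050041605020201207, 1, 29987), (0x1a0c010181205050000604058200e01, 1, 30000), (0x180d010180003050041605020201207, 2, 29987), (0x180d010181205050000604058200e01, 2, 30000), (0x1a0c0281c02020002808030402c0c09, 3, 29981), (0x180d0281c02020002808030402c0c09, 3, 29982), (0x1a0c058280204038241003028080006, 3, 30000), (0x1a0c0280414080001808020580c0e09, 4, 29981), (0x180d0280414080001808020580c0e09, 4, 29982), (0x1a0c01818120b0081c0a04010201400, 4, 29987), (0x1a0c018181404008241602028200007, 4, 30000), (0x180d0001004010280c0e0a03024100b, 5, 29987), (0x180d00010100a028080206038241603,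 5, 30000), (0x1a0c0502c0600010140c010481c0808, 6, 29981), (0x180d0502c0600010140c010481c0808, 6, 29982), (0x1a0c038140606058201201050000404, 6, 30000), (0x1a0c0500c0a09010100c00038041608, 7, 29981), (0x180d0500c0a09010100c00038041608, 7, 29982), (0x1a0c0081010070182c1406000240a02, 7, 29987), (0x1a0c008100a06018200e0005024040b, 7, 30000), (0x180d038140606058201201050000404, 8, 30000), (0x180d0081010070182c1406000240a02, 9, 29987), (0x180d008100a06018200e0005024040b, 9, 30000), (0x1a0c0480c1606020200007050040405, 10, 29987), (0x1a0c0480c04070202c0c0a000040a08, 10, 30000), (0x180d0480c1606020200007050040405, 11, 29987), (0x180d0480c04070202c0c0a000040a08, 11, 30000), (0x1a0c0382008010580c1409000180a02, 12, 29981), (0x180d0382008010580c1409000180a02, 12, 29982), (0x1a0c0300c0400040140e0a04804080b, 12, 29987), (0x1a0c0300c080a040080009038041605, 12, 30000), (0x1a0c0480806070202c0001030281005, 13, 29987), (0x1a0c0480810010200c0e06000280a0b,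 13, 30000), (0x180d0480806070202c0001030281005, 14, 29987), (0x180d0480810010200c0e06000280a0b, 14, 30000), (0x1a0c008141609018100c07050000408, 15, 29981), (0x180d008141609018100c07050000408, 15, 29982), (0x1a0c000101606028201407008240602, 15, 30000), (0x1a0c0082c080a018080c090001c0a08, 16, 29981), (0x180d0082c080a018080c090001c0a08, 16, 29982), (0x1a0c038081000058140206048280803, 16, 29987), (0x1a0c038080806058200009008280605, 16, 30000), (0x180d058280204038241003028080006, 17, 30000), (0x180d01818120b0081c0a04010201400, 18, 29987), (0x180d018181404008241602028200007, 18, 30000), (0x1a0c040040e0403024040b0280c000a, 19, 29987), (0x1a0c04004000b0301c08050100c1409, 19, 30000), (0x180d040040e0403024040b0280c000a, 20, 29987), (0x180d04004000b0301c08050100c1409, 20, 30000), (0x1a0c058240c03038040a08010101400, 21, 29981), (0x180d058240c03038040a08010101400, 21, 29982), (0x1a0c0200400020482816050400c0c07, 21, 29987),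 (0x1a0c020040c050480004080580c0e0a, 21, 30000), (0x1a0c04000020b0301c040302014120a, 22, 29987), (0x1a0c040001203030041604010141407, 22, 30000), (0x180d04000020b0301c040302014120a, 23, 29987), (0x180d040001203030041604010141407, 23, 30000), (0x1a0c018280e0800818080b028080009, 24, 29981), (0x180d018280e0800818080b028080009, 24, 29982), (0x1a0c010180e04050240a0b018200200, 24, 30000), (0x1a0c0181c0c050080008080102c1409, 25, 29981), (0x180d0181c0c050080008080102c1409, 25, 29982), (0x1a0c058001202038280604040140c01, 25, 29987), (0x1a0c058000c0403824040801814020a, 25, 30000), (0x180d0200400020482816050400c0c07, 26, 29987), (0x180d020040c050480004080580c0e0a, 26, 30000), (0x180d010180e04050240a0b018200200, 27, 30000), (0x180d058001202038280604040140c01, 28, 29987), (0x180d058000c0403824040801814020a, 28, 30000), (0x1a0c020000c0b0481c0608010141401, 29, 29981), (0x180d020000c0b0481c0608010141401, 29, 29982), (0x1a0c0281c0c030000404080202c120a,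 29, 30000), (0x1a0c020180e0204828060b028200001, 30, 29981), (0x180d020180e0204828060b028200001, 30, 29982), (0x1a0c040280205030000803058080e09, 30, 29987), (0x1a0c040280e03030040a0b020081200, 30, 30000), (0x180d0281c0c030000404080202c120a, 31, 30000), (0x180d040280205030000803058080e09, 32, 29987), (0x180d040280e03030040a0b020081200, 32, 30000), (0x1a0c010240c05050001608018100207, 33, 29987), (0x1a0c010240208050180a03058100e00, 33, 30000), (0x180d010240c05050001608018100207, 34, 29987), (0x180d010240208050180a03058100e00, 34, 30000), (0x1a0c0401c00020302806050202c1201, 35, 29981), (0x180d0401c00020302806050202c1201, 35, 29982), (0x1a0c058280003038040805040080c09, 35, 30000), (0x1a0c040001404030240602058140e01, 36, 29981), (0x180d040001404030240602058140e01, 36, 29982), (0x1a0c02824020b0001c1003010101406, 36, 29987), (0x1a0c028241403000041602040100c07, 36, 30000), (0x1a0c020000e0304804040b040140c0a, 37, 29981),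 (0x180d020000e0304804040b040140c0a, 37, 29982), (0x1a0c028040e0200028100b0200c1206, 37, 30000), (0x1a0c0201c02080481804030282c000a, 38, 29981), (0x180d0201c02080481804030282c000a, 38, 29982), (0x1a0c058181405038000802018200209, 38, 29987), (0x1a0c058180202038280a03020201200, 38, 30000), (0x180d028040e0200028100b0200c1206, 39, 30000), (0x180d058181405038000802018200209, 40, 29987), (0x180d058180202038280a03020201200, 40, 30000), (0x1a0c0401c12050300004040182c020a, 41, 30000), (0x180d0401c12050300004040182c020a, 42, 30000), (0x1a0c028280c0b0001c0808018080209, 43, 29981), (0x180d028280c0b0001c0808018080209, 43, 29982), (0x1a0c0101c1203050040a040402c0c00, 43, 29987), (0x1a0c0101c0c040502406080282c0001, 43, 30000), (0x1a0c040240e0503000060b010101401, 44, 29987), (0x1a0c04024140b0301c0a02018100200, 44, 30000), (0x180d040240e0503000060b010101401, 45, 29987), (0x180d04024140b0301c0a02018100200, 45, 30000), (0x1a0c0580400080381804050200c120a,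 46, 29981), (0x180d0580400080381804050200c120a, 46, 29982), (0x1a0c018180002008280805058200e09, 46, 30000), (0x1a0c028240c02000280608058100e01, 47, 30000), (0x180d0300c0400040140e0a04804080b, 48, 29987), (0x180d0300c080a040080009038041605, 48, 30000), (0x180d000101606028201407008240602, 49, 30000), (0x180d038081000058140206048280803, 50, 29987), (0x180d038080806058200009008280605, 50, 30000), (0x1a0c0300808070402c0209000280a03, 51, 29981), (0x180d0300808070402c0209000280a03, 51, 29982), (0x1a0c0502c08010100c00090301c1005, 51, 30000), (0x1a0c030101600040140207050240403, 52, 29981), (0x180d030101600040140207050240403, 52, 29982), (0x1a0c04814060a020080c01038001608, 52, 29987), (0x1a0c0481416010200c1407030001002, 52, 30000), (0x180d0502c08010100c00090301c1005, 53, 30000), (0x180d04814060a020080c01038001608, 54, 29987), (0x180d0481416010200c1407030001002, 54, 30000), (0x1a0c00020080a028080e0900818060b, 55, 29987),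 (0x1a0c000200609028101401038181602, 55, 30000), (0x180d00020080a028080e0900818060b, 56, 29987), (0x180d000200609028101401038181602, 56, 30000), (0x1a0c0482c040002014020a0301c1003, 57, 29981), (0x180d0482c040002014020a0301c1003, 57, 29982), (0x1a0c0381404010580c0c0a048000808, 57, 30000), (0x1a0c048080a06020200200038281603, 58, 29981), (0x180d048080a06020200200038281603, 58, 29982), (0x1a0c0502006070102c1201000180a04, 58, 29987), (0x1a0c050200a010100c0e0004818080b, 58, 30000), (0x1a0c0300816010400c0007048280805, 59, 29981), (0x180d0300816010400c0007048280805, 59, 29982), (0x1a0c0500c1600010141207030041004, 59, 30000), (0x1a0c0302c06090401000010501c0405, 60, 29981), (0x180d0302c06090401000010501c0405, 60, 29982), (0x1a0c038100a0a058080c00008240608, 60, 29987), (0x1a0c038100600058141401030241002, 60, 30000), (0x180d0500c1600010141207030041004, 61, 30000), (0x180d038100a0a058080c00008240608, 62, 29987), (0x180d038100600058141401030241002,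 62, 30000), (0x1a0c0482c100a0200800060081c0605, 63, 30000), (0x180d0482c100a0200800060081c0605, 64, 30000), (0x1a0c0501408070102c0c09008000608, 65, 29981), (0x180d0501408070102c0c09008000608, 65, 29982), (0x1a0c0002c10010280c14060481c0802, 65, 29987), (0x1a0c0002c08060282002090501c0403, 65, 30000), (0x1a0c04820160a020080207000180a03, 66, 29987), (0x1a0c048200a070202c1400008180602, 66, 30000), (0x180d04820160a020080207000180a03, 67, 29987), (0x180d048200a070202c1400008180602, 67, 30000), (0x1a0c0380c040905810000a030041005, 68, 29981), (0x180d0380c040905810000a030041005, 68, 29982), (0x1a0c008100400018140c0a038241608, 68, 30000), (0x1a0c050200800010140209038181603, 69, 30000), (0x180d0381404010580c0c0a048000808, 70, 30000), (0x180d0502006070102c1201000180a04, 71, 29987), (0x180d050200a010100c0e0004818080b, 71, 30000), (0x180d0002c10010280c14060481c0802, 72, 29987), (0x180d0002c08060282002090501c0403, 72, 30000),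 (0x180d008100400018140c0a038241608, 73, 30000), (0x180d050200800010140209038181603, 74, 30000), (0x1a0c008200a0a018081200038181604, 75, 29987), (0x1a0c008201600018141407048180802, 75, 30000), (0x180d008200a0a018081200038181604, 76, 29987), (0x180d008201600018141407048180802, 76, 30000), (0x1a0c000080606028200e0104828080b, 77, 29981), (0x180d000080606028200e0104828080b, 77, 29982), (0x1a0c050201609010100007008180605, 77, 29987), (0x1a0c0082c10000181412060501c0404, 78, 29987), (0x1a0c0082c040601820000a0481c0805, 78, 30000), (0x180d0082c10000181412060501c0404, 79, 29987), (0x180d0082c040601820000a0481c0805, 79, 30000), (0x1a0c030100a010400c1400038241602, 80, 29981), (0x180d030100a010400c1400038241602, 80, 29982), (0x1a0c0480c0a0a020080e0003004100b, 80, 30000), (0x1a0c0301406070402c1401048000802, 81, 29981), (0x180d0301406070402c1401048000802, 81, 29982), (0x1a0c0002c0409028100c0a0081c0608, 81, 29987), (0x1a0c0002c060a0280812010301c1004,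 81, 30000), (0x180d050201609010100007008180605, 82, 29987), (0x180d0480c0a0a020080e0003004100b, 83, 30000), (0x180d0002c0409028100c0a0081c0608, 84, 29987), (0x180d0002c060a0280812010301c1004, 84, 30000), (0x1a0c0502c0a060102012000081c0604, 85, 29981), (0x180d0502c0a060102012000081c0604, 85, 29982), (0x1a0c038200a09058100200050180403, 85, 30000), (0x1a0c0501410010100c1206038001604, 86, 29981), (0x180d0501410010100c1206038001604, 86, 29982), (0x1a0c0000c08070282c1409030041002, 86, 29987), (0x1a0c0000c1009028100e0605004040b, 86, 30000), (0x180d038200a09058100200050180403, 87, 30000), (0x180d0000c08070282c1409030041002, 88, 29987), (0x180d0000c1009028100e0605004040b, 88, 30000), (0x1a0c0081404070182c120a030001004, 89, 30000), (0x180d0081404070182c120a030001004, 90, 30000), (0x1a0c048140406020200e0a00800060b, 91, 29987), (0x1a0c008080a070182c0c00048280808, 92, 29987), (0x1a0c008080800018140e0903028100b, 92, 30000),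 (0x180d008080a070182c0c00048280808, 93, 29987), (0x180d008080800018140e0903028100b, 93, 30000), (0x1a0c0002016010280c1207050180404, 94, 29981), (0x180d0002016010280c1207050180404, 94, 29982), (0x1a0c0300c1609040101407000040a02, 94, 30000), (0x1a0c038080609058100c01000280a08, 95, 30000), (0x1a0c0002004070282c020a048180803, 98, 29981), (0x180d0002004070282c020a048180803, 98, 29982), (0x1a0c0302c04010400c120a0001c0a04, 98, 30000), (0x1a0c0500c10070102c0006048040805, 99, 30000), (0x180d0500c10070102c0006048040805, 100, 30000), (0x1a0c0000c040602820120a038041604, 102, 30000), (0x180d0302c04010400c120a0001c0a04, 103, 30000), (0x180d0000c040602820120a038041604, 105, 30000), (0x1a0c030080a09040100e0000828060b, 106, 29981), (0x180d030080a09040100e0000828060b, 106, 29982), (0x1a0c0501016010100c0c07000240a08, 106, 29987), (0x1a0c050100a070102c0200030241003, 106, 30000), (0x180d0501016010100c0c07000240a08, 107, 29987), (0x180d050100a070102c0200030241003,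 107, 30000), (0x1a0c0482004010200c000a038181605, 108, 29987), (0x180d0482004010200c000a038181605, 109, 29987), (0x1a0c050140609010100e0103000100b, 110, 29981), (0x180d050140609010100e0103000100b, 110, 29982), (0x1a0c0001006070282c0c01050240408, 110, 30000), (0x1a0c0500c0806010200e09000040a0b, 111, 29981), (0x180d0500c0806010200e09000040a0b, 111, 29982), (0x1a0c0082008070182c0009050180405, 111, 30000), (0x1a0c0300c0a070402c1200050040404, 112, 29981), (0x180d0300c0a070402c1200050040404, 112, 29982), (0x1a0c0082c0a090181014000301c1002, 112, 30000), (0x1a0c03014160a040081207008000604, 113, 29981), (0x180d03014160a040081207008000604, 113, 29982), (0x1a0c0000808010280c0c09038281608, 113, 29987), (0x1a0c000081609028100207030281003, 113, 30000), (0x180d0082c0a090181014000301c1002, 114, 30000), (0x180d0000808010280c0c09038281608, 115, 29987), (0x180d000081609028100207030281003, 115, 30000), (0x1a0c0481410070202c0206050000403,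 118, 29987), (0x1a0c008200409018100e0a000180a0b, 119, 30000), (0x180d058280003038040805040080c09, 120, 30000), (0x180d02824020b0001c1003010101406, 121, 29987), (0x180d028241403000041602040100c07, 121, 30000), (0x180d0101c1203050040a040402c0c00, 122, 29987), (0x180d0101c0c040502406080282c0001, 122, 30000), (0x180d018180002008280805058200e09, 123, 30000), (0x180d028240c02000280608058100e01, 124, 30000), (0x1a0c018241405008001002058100e06, 125, 29987), (0x1a0c018240e02008280a0b040100c00, 125, 30000), (0x180d018241405008001002058100e06, 126, 29987), (0x180d018240e02008280a0b040100c00, 126, 30000), (0x1a0c010000204050241603040140c07, 127, 29981), (0x180d010000204050241603040140c07, 127, 29982), (0x1a0c028240e0800018040b01810020a, 127, 29987), (0x1a0c0181c12020082810040282c0006, 128, 29987), (0x1a0c0181c00040082404050402c0c0a, 128, 30000), (0x180d0181c12020082810040282c0006, 129, 29987), (0x180d0181c00040082404050402c0c0a,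 129, 30000), (0x1a0c020181403048040a02058200e00, 130, 29981), (0x180d020181403048040a02058200e00, 130, 29982), (0x1a0c0400414050300016020200c1207, 130, 30000), (0x1a0c02028020b0481c0a03040080c00, 131, 29981), (0x180d02028020b0481c0a03040080c00, 131, 29982), (0x1a0c0101c00080501808050182c0209, 131, 29987), (0x1a0c0101c02050500010030202c1206, 131, 30000), (0x180d028240e0800018040b01810020a, 132, 29987), (0x180d0400414050300016020200c1207, 133, 30000), (0x180d0101c00080501808050182c0209, 134, 29987), (0x180d0101c02050500010030202c1206, 134, 30000), (0x1a0c0281c14040002410020182c0206, 135, 29981), (0x180d0281c14040002410020182c0206, 135, 29982), (0x1a0c058241408038180602028100001, 135, 30000), (0x1a0c028281203000041004058080e06, 136, 29981), (0x180d028281203000041004058080e06, 136, 29982), (0x1a0c010040c0b0501c0a080200c1200, 136, 29987), (0x1a0c0100412080501816040280c0007, 136, 30000), (0x180d058241408038180602028100001,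 137, 30000), (0x180d010040c0b0501c0a080200c1200, 138, 29987), (0x180d0100412080501816040280c0007, 138, 30000), (0x1a0c01828000b0081c1005020081206, 139, 30000), (0x180d01828000b0081c1005020081206, 140, 30000), (0x1a0c040280004030241605018080207, 141, 29987), (0x1a0c01800140b0081c0802040140c09, 142, 29987), (0x1a0c018000c02008281608020141207, 142, 30000), (0x180d01800140b0081c0802040140c09, 143, 29987), (0x180d018000c02008281608020141207, 143, 30000), (0x1a0c010240e0305004100b028100006, 144, 29981), (0x180d010240e0305004100b028100006, 144, 29982), (0x1a0c020040e08048180a0b0100c1400, 144, 30000), (0x1a0c058000208038180803010141409, 145, 30000), (0x1a0c01024000b0501c0605040100c01, 148, 29981), (0x180d01024000b0501c0605040100c01, 148, 29982), (0x1a0c0201c00030480410050102c1406, 148, 30000), (0x1a0c02804120b0001c04040400c0c0a, 149, 30000), (0x180d02804120b0001c04040400c0c0a, 150, 30000), (0x1a0c0100400040502410050580c0e06,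 152, 30000), (0x180d0201c00030480410050102c1406, 153, 30000), (0x180d0100400040502410050580c0e06, 155, 30000), (0x1a0c020001408048181602018140207, 156, 29981), (0x180d020001408048181602018140207, 156, 29982), (0x1a0c028180e0300004080b010201409, 156, 29987), (0x1a0c02818140b0001c0602020201201, 156, 30000), (0x180d028180e0300004080b010201409, 157, 29987), (0x180d02818140b0001c0602020201201, 157, 30000), (0x1a0c040240003030040405058100e0a, 158, 29987), (0x180d040240003030040405058100e0a, 159, 29987), (0x1a0c028280208000181603020081207, 160, 29981), (0x180d028280208000181603020081207, 160, 29982), (0x1a0c01018020b0501c0803028200009, 160, 30000), (0x1a0c028040c040002416080100c1407, 161, 29981), (0x180d028040c040002416080100c1407, 161, 29982), (0x1a0c018240c0b0081c040802810000a, 161, 30000), (0x1a0c02004140b0481c10020280c0006, 162, 29981), (0x180d02004140b0481c10020280c0006, 162, 29982), (0x1a0c0181c1408008180a020202c1200,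 162, 30000), (0x1a0c020280e0504800100b018080206, 163, 29981), (0x180d020280e0504800100b018080206, 163, 29982), (0x1a0c010000c03050040808058140e09, 163, 29987), (0x1a0c010000e0805018060b020141201, 163, 30000), (0x180d0181c1408008180a020202c1200, 164, 30000), (0x180d010000c03050040808058140e09, 165, 29987), (0x180d010000e0805018060b020141201, 165, 30000), (0x1a0c04028120b0301c0604028080001, 168, 29987), (0x1a0c018240008008181605010101407, 169, 30000), (0x180d040280004030241605018080207, 170, 29987), (0x180d020040e08048180a0b0100c1400, 171, 30000), (0x180d058000208038180803010141409, 172, 30000), (0x180d01018020b0501c0803028200009, 173, 30000), (0x180d018240c0b0081c040802810000a, 174, 30000), (0x180d04028120b0301c0604028080001, 175, 29987), (0x180d018240008008181605010101407, 176, 30000), (0x1a0c058041404038240a020400c0c00, 181, 29987), (0x1a0c058040c020382808080280c0009, 181, 30000), (0x180d058041404038240a020400c0c00,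 182, 29987), (0x180d058040c020382808080280c0009, 182, 30000), (0x1a0c01000120b0501c1004018140206, 183, 29981), (0x180d01000120b0501c1004018140206, 183, 29982), (0x1a0c0281c12080001806040102c1401, 183, 30000), (0x1a0c02018000b0481c040501820020a, 184, 30000), (0x1a0c028280e0400024060b040080c01, 185, 29987), (0x180d02018000b0481c040501820020a, 186, 30000), (0x180d028280e0400024060b040080c01, 187, 29987), (0x1a0c0201c14050480006020402c0c01, 190, 29981), (0x180d0201c14050480006020402c0c01, 190, 29982), (0x1a0c058001403038041002020141206, 190, 30000), (0x1a0c010040e0505000080b0400c0c09, 191, 30000), (0x180d010040e0505000080b0400c0c09, 192, 30000), (0x1a0c028181202000281604018200207, 193, 29981), (0x180d028181202000281604018200207, 193, 29982), (0x180d0281c12080001806040102c1401, 195, 30000), (0x180d058001403038041002020141206, 196, 30000), (0x1a0c0580412050380010040100c1406, 201, 29981), (0x180d0580412050380010040100c1406,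 201, 29982), (0x1a0c018001208008180404058140e0a, 201, 30000), (0x1a0c020180205048001603010201407, 202, 30000), (0x180d020180205048001603010201407, 203, 30000), (0x1a0c05818120303804040402820000a, 205, 30000), (0x180d018001208008180404058140e0a, 206, 30000), (0x180d05818120303804040402820000a, 208, 30000), (0x1a0c020280008048180605058080e01, 209, 29987), (0x180d020280008048180605058080e01, 210, 29987), (0x1a0c0201c0c02048280a080182c0200, 211, 29981), (0x180d0201c0c02048280a080182c0200, 211, 29982), (0x1a0c058280c05038000608020081201, 211, 30000), (0x1a0c018180e0500800040b02020120a, 212, 29981), (0x180d018180e0500800040b02020120a, 212, 29982), (0x1a0c040000e0203028080b018140209, 212, 30000), (0x1a0c058240002038281005018100206, 213, 30000), (0x180d040000e0203028080b018140209, 214, 30000), (0x180d058240002038281005018100206, 215, 30000), (0x1a0c040041202030280a040580c0e00, 219, 30000), (0x1a0c018280c04008240a08058080e00,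 220, 29987), (0x180d018280c04008240a08058080e00, 221, 29987), (0x1a0c040240202030281603028100007, 222, 29981), (0x180d040240202030281603028100007, 222, 29982), (0x1a0c028180204000240403058200e0a, 223, 29987), (0x180d028180204000240403058200e0a, 224, 29987), (0x1a0c020280c03048041608028080007, 225, 30000), (0x180d020280c03048041608028080007, 227, 30000), (0x1a0c0401c0204030240a030102c1400, 230, 30000), (0x1a0c018000e0400824100b010141406, 231, 30000), (0x180d0401c0204030240a030102c1400, 232, 30000), (0x180d018000e0400824100b010141406, 233, 30000), (0x1a0c020000202048281003058140e06, 234, 29981), (0x180d020000202048281003058140e06, 234, 29982), (0x1a0c058240205038000403040100c0a, 239, 29987), (0x180d058240205038000403040100c0a, 240, 29987), (0x1a0c018281205008001604040080c07, 244, 29981), (0x180d018281205008001604040080c07, 244, 29982), (0x180d048140406020200e0a00800060b, 254, 29987), (0x180d0300c1609040101407000040a02,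 255, 30000), (0x180d038080609058100c01000280a08, 256, 30000), (0x180d0001006070282c0c01050240408, 257, 30000), (0x180d0082008070182c0009050180405, 258, 30000), (0x180d0481410070202c0206050000403, 259, 29987), (0x180d008200409018100e0a000180a0b, 260, 30000), (0x1a0c0380c0a06058201400048040802, 265, 29987), (0x1a0c0380c0800058140c09050040408, 265, 30000), (0x180d0380c0a06058201400048040802, 266, 29987), (0x180d0380c0800058140c09050040408, 266, 30000), (0x1a0c0000810070282c1206008280604, 267, 29981), (0x180d0000810070282c1206008280604, 267, 29982), (0x1a0c0502c10090101002060001c0a03, 267, 30000), (0x1a0c0301004070402c000a008240605, 268, 30000), (0x1a0c050141606010200207048000803, 269, 29987), (0x180d0301004070402c000a008240605, 270, 30000), (0x180d050141606010200207048000803, 271, 29987), (0x1a0c0302c0a0a0400802000481c0803, 274, 29981), (0x180d0302c0a0a0400802000481c0803, 274, 29982), (0x1a0c038080a010580c1200030281004,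 274, 30000), (0x1a0c0000c160a028080c07048040808, 275, 30000), (0x180d0000c160a028080c07048040808, 276, 30000), (0x1a0c050101000010140e0600824060b, 277, 29981), (0x180d050101000010140e0600824060b, 277, 29982), (0x180d0502c10090101002060001c0a03, 279, 30000), (0x180d038080a010580c1200030281004, 280, 30000), (0x1a0c0380c100a058081206000040a04, 285, 29981), (0x180d0380c100a058081206000040a04, 285, 29982), (0x1a0c008081009018100006038281605, 285, 30000), (0x1a0c03010060a040080e01000240a0b, 286, 30000), (0x180d03010060a040080e01000240a0b, 287, 30000), (0x1a0c0381010010580c0006050240405, 289, 30000), (0x180d008081009018100006038281605, 290, 30000), (0x180d0381010010580c0006050240405, 292, 30000), (0x1a0c03014040904010020a038001603, 293, 29987), (0x180d03014040904010020a038001603, 294, 29987), (0x1a0c0302c08000401414090081c0602, 295, 29981), (0x180d0302c08000401414090081c0602, 295, 29982), (0x1a0c03814080a058080209030001003,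 295, 30000), (0x1a0c00810160a018080007030241005, 296, 29981), (0x180d00810160a018080007030241005, 296, 29982), (0x1a0c048081600020140c07008280608, 296, 30000), (0x1a0c03820040005814120a008180604, 297, 30000), (0x180d048081600020140c07008280608, 298, 30000), (0x180d03820040005814120a008180604, 299, 30000), (0x1a0c0480c1000020141406038041602, 303, 30000), (0x1a0c008140806018201409038001602, 304, 29987), (0x180d008140806018201409038001602, 305, 29987), (0x1a0c048200600020140e0105018040b, 306, 29981), (0x180d048200600020140e0105018040b, 306, 29982), (0x1a0c050100606010200001038241605, 307, 29987), (0x180d050100606010200001038241605, 308, 29987), (0x1a0c0301408010400c0e0905000040b, 309, 30000), (0x180d0301408010400c0e0905000040b, 311, 30000), (0x1a0c0482c06060202014010001c0a02, 314, 30000), (0x1a0c008081606018201207000280a04, 315, 30000), (0x180d0482c06060202014010001c0a02, 316, 30000), (0x180d008081606018201207000280a04,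 317, 30000), (0x1a0c030080600040141201038281604, 318, 29981), (0x180d030080600040141201038281604, 318, 29982), (0x1a0c03820060a058080001048180805, 323, 29987), (0x180d03820060a058080001048180805, 324, 29987), (0x1a0c00814100a018080e0604800080b, 328, 29981), (0x180d00814100a018080e0604800080b, 328, 29982), (0x180d03814080a058080209030001003, 338, 30000), (0x180d0480c1000020141406038041602, 340, 30000), (0x1a0c03810040605820020a000240a03, 346, 29981), (0x180d03810040605820020a000240a03, 346, 29982), (0x1a0c0482c0a010200c0c000501c0408, 359, 30000), (0x180d0482c0a010200c0c000501c0408, 360, 30000), (0x180d058280c05038000608020081201, 403, 30000), (0x180d040041202030280a040580c0e00, 405, 30000), (0x1a0c058180004038240605010201401, 411, 29981), (0x180d058180004038240605010201401, 411, 29982), (0x1a0c0401c14030300408020282c0009, 424, 30000), (0x180d0401c14030300408020282c0009, 425, 30000)]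

/-- Elements fixing the classes. -/
def els : List (List (ℕ × ℕ × ℕ)) := [el0,
  el1,
  el2,
  el3,
  el4,
  el5,
  el6,
  el7,
  el8,
  el9,
  el10,
  el11,
  el12,
  el13,
  el14,
  el15,
  el16,
  el17,
  el18,
  el19,
  el20,
  el21,
  el22,
  el23,
  el24,
  el25,
  el26,
  el27,
  el28,
  el29,
  el30,
  el31,
  el32,
  el33,
  el34,
  el35,
  el36,
  el37,
  el38,
  el39,
  el40,
  el41,
  el42,
  el43,
  el44,
  el45,
  el46,
  el47,
  el48,
  el49,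
  el50,
  el51,
  el52,
  el53,
  el54,
  el55,
  el56,
  el57,
  el58,
  el59,
  el60]


end CfsgLib.Co3M12.CoA
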