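/-
A configuration with a closed table.
-/
import Cfsg.Agent.Lib.Co3M12.Case.CoA.CloCheck
import Cfsg.Agent.Lib.Co3M12.Case.CoA.Check0
import Cfsg.Agent.Lib.Co3M12.Case.CoA.Check1
import Cfsg.Agent.Lib.Co3M12.Case.CoA.Check2
import Cfsg.Agent.Lib.Co3M12.Case.CoA.Check3
import Cfsg.Agent.Lib.Co3M12.Case.CoA.Check4
import Cfsg.Agent.Lib.Co3M12.Case.CoA.Check5
import Cfsg.Agent.Lib.Co3M12.Case.CoA.Check6
import Cfsg.Agent.Lib.Co3M12.Case.CoA.Check7
import Cfsg.Agent.Lib.Co3M12.Case.CoA.Check8
import Cfsg.Agent.Lib.Co3M12.Case.CoA.Check9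
import Cfsg.Agent.Lib.Co3M12.Case.CoA.Check10
import Cfsg.Agent.Lib.Co3M12.Case.CoA.Check11
import Cfsg.Agent.Lib.Co3M12.Case.CoA.Check12
import Cfsg.Agent.Lib.Co3M12.Case.CoA.Check13
import Cfsg.Agent.Lib.Co3M12.Case.CoA.Check14
import Cfsg.Agent.Lib.Co3M12.Case.CoA.Check15
import Cfsg.Agent.Lib.Co3M12.Case.CoA.Check16
import Cfsg.Agent.Lib.Co3M12.Case.CoA.Check17
import Cfsg.Agent.Lib.Co3M12.Case.CoA.Check18
import Cfsg.Agent.Lib.Co3M12.Case.CoA.Check19
import Cfsg.Agent.Lib.Co3M12.Case.CoA.Check20

set_option autoImplicit false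
set_option maxRecDepth 100000

namespace CfsgLib.Co3M12.CoA

open Eng CfsgPC

theorem checked : ∀ m < 30490, factB D fs.get m = true :=
  fun m hm => (range_step (a := 30000) (len := 490) (range_step (a := 28500) (len := 1500) (range_step (a := 27000) (len := 1500) (range_step (a := 25500) (len := 1500) (range_step (a := 24000) (len := 1500) (range_step (a := 22500) (len := 1500) (range_step (a := 21000) (len := 1500) (range_step (a := 19500) (len := 1500) (range_step (a := 18000) (len := 1500) (range_step (a := 16500) (len := 1500) (range_step (a := 15000) (len := 1500) (range_step (a := 13500) (len := 1500) (range_step (a := 12000) (len := 1500) (range_step (a := 10500) (len := 1500) (range_step (a := 9000) (len := 1500) (range_step (a := 7500) (len := 1500) (range_step (a := 6000) (len := 1500) (range_step (a := 4500) (len := 1500) (range_step (a := 3000) (len := 1500) (range_step (a := 1500) (len := 1500) (range_step (a := 0) (len := 1500) range_zero ck0) ck1) ck2) ck3) ck4) ck5) ck6) ck7) ck8) ck9) ck10) ck11) ck12) ck13)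 ck14) ck15) ck16) ck17) ck18) ck19) ck20) m hm

theorem closed : ∀ i < 61, closedB D fs.get 61 (cloOf clo) Data.reps 30490 i = true := by
  intro i hi
  rcases Nat.lt_or_ge i 8 with h | h
  · have := List.all_eq_true.mp clo0_ok (i - 0) (List.mem_range.mpr (by omega))
    rwa [show 0 + (i - 0) = i by omega] at this
  rcases Nat.lt_or_ge i 16 with h | h
  · have := List.all_eq_true.mp clo8_ok (i - 8) (List.mem_range.mpr (by omega))
    rwa [show 8 + (i - 8) = i by omega] at this
  rcases Nat.lt_or_ge i 24 with h | h
  · have := List.all_eq_true.mp clo16_ok (i - 16) (List.mem_range.mpr (by omega))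
    rwa [show 16 + (i - 16) = i by omega] at this
  rcases Nat.lt_or_ge i 32 with h | h
  · have := List.all_eq_true.mp clo24_ok (i - 24) (List.mem_range.mpr (by omega))
    rwa [show 24 + (i - 24) = i by omega] at this
  rcases Nat.lt_or_ge i 40 with h | h
  · have := List.all_eq_true.mp clo32_ok (i - 32) (List.mem_range.mpr (by omega))
    rwa [show 32 + (i - 32) = i by omega] at this
  rcases Nat.lt_or_ge i 48 with h | h
  · have := List.all_eq_true.mp clo40_ok (i - 40) (List.mem_range.mpr (by omega))
    rwa [show 40 + (i - 40) = i by omega] at this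
  rcases Nat.lt_or_ge i 56 with h | h
  · have := List.all_eq_true.mp clo48_ok (i - 48) (List.mem_range.mpr (by omega))
    rwa [show 48 + (i - 48) = i by omega] at this
  rcases Nat.lt_or_ge i 61 with h | h
  · have := List.all_eq_true.mp clo56_ok (i - 56) (List.mem_range.mpr (by omega))
    rwa [show 56 + (i - 56) = i by omega] at this
  omega

end CfsgLib.Co3M12.CoA
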